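import Mathlib
import Cfsg.Agent.TwoFusion.SectionalRank
import Mathlib.GroupTheory.Focal
import Cfsg.Agent.GH.L2AutSyl_m3
import Cfsg.Agent.GH.Q2.ModelSp4_m3
import Cfsg.Agent.ClassicalGeometry.PSL2Basic
import Cfsg.Agent.GH.L3S.ModelL33
import Cfsg.Agent.StandardComponent.AltAut
import Cfsg.Agent.S1180
import Cfsg.Agent.S0215
import Cfsg.Agent.GH.Comp
import Cfsg.Agent.Intrinsic.Cen
import Cfsg.Agent.SmallSimple.EvenOrder
import Cfsg.Agent.Lib.FrattiniPGroup
import Cfsg.Agent.SylowSp4.ExtTransfer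
import Cfsg.Agent.GH.L2Tri
import Cfsg.Agent.TwoFusion.DihedralFusion
import Cfsg.Agent.Lib.ProductSet
import Cfsg.Agent.Transfer.ThompsonTransfer
import Cfsg.Agent.GH.Q2.Sq_m3
import Cfsg.Agent.GH.PcTypes
import Cfsg.Agent.GH.Defs
import Cfsg.Agent.LieClassical.SympCenter
import Cfsg.Agent.LieClassical.SympCount
import Cfsg.Agent.Lib.MatDec
import Cfsg.Agent.TwoFusion.ClosedZ_m3
import Cfsg.Agent.Transfer.PGroupNormal
import Cfsg.Agent.SmallSimple.SylowMaxInter
import Cfsg.Prelude.Def_TwoFusion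
import Cfsg.Agent.GH.ELevelOne
import Cfsg.Agent.GH.Cov.LFour
import Cfsg.Agent.J3.Order
import Cfsg.Agent.Golay.Orbit
import Cfsg.Agent.LieClassical.HermBasic
import Cfsg.Agent.ClassicalGeometry.HermOrthonormal
import Cfsg.Prelude.Def_CaseTheorems
import Cfsg.Agent.GH.Rank
import Cfsg.Agent.GH.Cov.Transfer
import Cfsg.Agent.ClassificationK.GTwoChev
import Cfsg.Prelude.Def_Classical
import Cfsg.Agent.FastGrp
import Cfsg.Agent.Prune
set_option linter.all false

section
prune_inst 0x7fbcb8f8abb82ddfdfff7e7faed8dffc19905fffafdff943bfe021ef0fdf030009c52b8d89e010fe0ec2629410b87853f97ec67fea6bdc7ffffd5df45ffbee0fe5f7bd08519688340fbc0fff03f0778e7f3fffffffffffffffffffffffffffbeffffffffffff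

-- part: GH/TOne/Sys
section
set_option linter.all false

/-!
# GH-L2, `m_2(Q) = 2`: the abstract system behind `blueprints/GH-L2-T1.md`

`X` is a set of involutions, `K y`, `F y` are normal subgroups of `C(y)` (`y ∈ X`):
`K y` the 2-component, `F y` the elements of `C(y)` fixing `K y / O(K y)`.
The fields of `Sys` are the facts (a)-(i) of the blueprint.
-/

set_option autoImplicit false

namespace Cfsg.Agent.GH.TOne

open Subgroup
open Cfsg.Agent.TwoFusion.SectionalRank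

variable {G : Type*} [Group G]

/-- `x` is an involution. -/
structure Inv (x : G) : Prop where
  sq : x * x = 1
  ne : x ≠ 1

/-- `T` is a Sylow 2-subgroup of `C(y)`. -/
structure SylC (y : G) (T : Subgroup G) : Prop where
  two : IsPGroup 2 T
  cent : ∀ x ∈ T, x * y = y * x
  max : ∀ P : Subgroup G, IsPGroup 2 P → (∀ x ∈ P, x * y = y * x) → Nat.card P ≤ Nat.card T

/-- `D = ⟨r, s⟩` is dihedral of order `2 ^ n` (a four-group for `n = 2`). -/
structure Dih (n : ℕ) (D : Subgroup G) (r s : G) : Prop where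
  rmem : r ∈ D
  smem : s ∈ D
  ord : orderOf r = 2 ^ (n - 1)
  sq : s * s = 1
  rel : s * r * s = r⁻¹
  notMem : s ∉ zpowers r
  exh : ∀ x ∈ D, ∃ i : ℕ, x = r ^ i ∨ x = r ^ i * s

/-- `e` centralizes a four-group of `D`. -/
def FType (D : Subgroup G) (e : G) : Prop :=
  ∃ a ∈ D, ∃ b ∈ D, Inv a ∧ Inv b ∧ a ≠ b ∧ a * b = b * a ∧ e * a = a * e ∧ e * b = b * e

/-- The involution `e` acts on `D = ⟨r, s⟩` as an outer involution of a dihedral group of order `2 |D|`. -/
structure DType (n : ℕ) (D : Subgroup G) (e r s : G) : Prop where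
  dih : Dih n D r s
  er : e * r * e = r⁻¹
  es : e * s * e = s * r

/-- `x` acts on `K y` as an inner automorphism (mod core). -/
def Inner (K F : G → Subgroup G) (y x : G) : Prop := ∃ f ∈ F y, ∃ k ∈ K y, x = f * k

/-- The abstract system (blueprint GH-L2-T1, facts (a)-(i)). -/
structure Sys (X : Set G) (K F : G → Subgroup G) (n : ℕ) : Prop where
  two_le : 2 ≤ n
  inv : ∀ y ∈ X, Inv y
  conj : ∀ y ∈ X, ∀ g : G, g * y * g⁻¹ ∈ X
  conjK : ∀ y ∈ X, ∀ g : G, ∀ k ∈ K y, g * k * g⁻¹ ∈ K (g * y * g⁻¹)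
  conjF : ∀ y ∈ X, ∀ g : G, ∀ f ∈ F y, g * f * g⁻¹ ∈ F (g * y * g⁻¹)
  centK : ∀ y ∈ X, ∀ k ∈ K y, k * y = y * k
  centF : ∀ y ∈ X, ∀ f ∈ F y, f * y = y * f
  self : ∀ y ∈ X, y ∈ F y
  /-- `K y ∩ F y` has odd order -/
  disj : ∀ y ∈ X, ∀ x ∈ K y, x ∈ F y → x * x = 1 → x = 1
  closed : ∀ y ∈ X, ∀ t ∈ F y, Inv t → t ∈ X
  rich : ∀ y ∈ X, ∃ t ∈ F y, Inv t ∧ t ≠ y
  /-- sharing of `K y` and `K t` for `y ~~ t` -/
  share : ∀ y ∈ X, ∀ t ∈ X, t ∈ F y → ∀ x : G, x * y = y * x → x * t = t * x → x ∈ F y → x ∈ F t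
  shareK : ∀ y ∈ X, ∀ t ∈ X, t ∈ F y → ∀ x : G, x * y = y * x → x * t = t * x → IsPGroup 2 (zpowers x) →
    x ∈ K y → x ∈ K t
  shareI : ∀ y ∈ X, ∀ t ∈ X, t ∈ F y → ∀ x : G, x * y = y * x → x * t = t * x → Inner K F y x →
    Inner K F t x
  /-- one class of involutions in `K y` -/
  one : ∀ y ∈ X, ∀ a ∈ K y, ∀ b ∈ K y, Inv a → Inv b → ∃ k ∈ K y, k * a * k⁻¹ = b
  /-- an element of order 3 on a four-group of `K y`, centralizing a 2-subgroup `P` of `F y` -/
  rho : ∀ y ∈ X, ∀ a ∈ K y, ∀ b ∈ K y, Inv a → Inv b → a ≠ b → a * b = b * a →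
    ∀ P : Subgroup G, IsPGroup 2 P → P ≤ F y → (∀ p ∈ P, p * a = a * p ∧ p * b = b * p) →
    ∃ c : G, c * a * c⁻¹ = b ∧ c * b * c⁻¹ = a * b ∧ ∀ p ∈ P, c * p = p * c
  /-- `Z*` in `K y ⟨t⟩` -/
  zstar : ∀ y ∈ X, ∀ t : G, Inv t → t * y = y * t → t ∉ F y →
    ∃ v ∈ K y, Inv v ∧ v * t = t * v ∧ ∃ k ∈ K y, k * t * k⁻¹ = t * v
  /-- inner elements of `T` lie in `Q D` -/
  split : ∀ y ∈ X, ∀ T : Subgroup G, SylC y T → ∀ x ∈ T, Inner K F y x → ∃ q ∈ T ⊓ F y, ∃ d ∈ T ⊓ K y, x = q * d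
  dih : ∀ y ∈ X, ∀ T : Subgroup G, SylC y T → ∃ r s : G, Dih n (T ⊓ K y) r s
  /-- no involution of `T` acts as diagonal times field -/
  outer_mul : ∀ y ∈ X, ∀ T : Subgroup G, SylC y T → ∀ e ∈ T, ∀ e' ∈ T, Inv e → Inv e' → e * e' = e' * e →
    e ≠ e' → ¬ Inner K F y e → ¬ Inner K F y e' → Inner K F y (e * e')
  outer_type : ∀ y ∈ X, ∀ T : Subgroup G, SylC y T → ∀ e ∈ T, Inv e → ¬ Inner K F y e →
    (FType (T ⊓ K y) e ∧ 3 ≤ n) ∨ ∃ r s : G, DType n (T ⊓ K y) e r s
  /-- a non-inner element whose square is inner and which fixes a class of noncentral involutions of `D`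
  acts as an inner automorphism times a field automorphism centralizing `D` -/
  outer_field : 3 ≤ n → ∀ y ∈ X, ∀ T : Subgroup G, SylC y T → ∀ t ∈ T, ¬ Inner K F y t → Inner K F y (t * t) →
    (∃ a ∈ T ⊓ K y, Inv a ∧ (∃ x ∈ T ⊓ K y, x * a ≠ a * x) ∧ ∃ d ∈ T ⊓ K y, t * a * t⁻¹ = d * a * d⁻¹) →
    ∃ b ∈ T ⊓ K y, (∀ x ∈ T ⊓ K y, t * b * x = x * (t * b)) ∧ t * b * (t * b) ∈ F y

/-- Sectional 2-rank at most 4. -/
def RankFour (G : Type*) [Group G] : Prop :=
  ∀ A B : Subgroup G, ElemSection 2 A B → Nat.card A ≤ 2 ^ 4 * Nat.card B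

/-- The conclusion of Lemma S (S1173) for all closed subsets of `X`. -/
def LemS (X : Set G) (F : G → Subgroup G) : Prop :=
  ∀ Y : Set G, Y ⊆ X → Y.Nonempty → (∀ y ∈ Y, ∀ g : G, g * y * g⁻¹ ∈ Y) →
    (∀ y ∈ Y, ∀ t ∈ F y, Inv t → t ∈ Y) → ∃ y ∈ Y, ∃ t ∈ Y, y * t = t * y ∧ t ∉ F y

/-- A pair `(V, U)`: `V ≤ F y` and `U ≤ K y` are commuting four-groups, `y ∈ V`. -/
structure Pair (X : Set G) (K F : G → Subgroup G) (V U : Subgroup G) (y : G) : Prop where
  yX : y ∈ X
  yV : y ∈ V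
  VF : V ≤ F y
  UK : U ≤ K y
  cV : Nat.card V = 4
  cU : Nat.card U = 4
  eV : ∀ v ∈ V, v * v = 1
  eU : ∀ u ∈ U, u * u = 1
  comm : ∀ v ∈ V, ∀ u ∈ U, v * u = u * v

/-- All pairs are of type (T1). -/
def AllTOne (X : Set G) (K F : G → Subgroup G) : Prop :=
  ∀ (V U : Subgroup G) (y : G), Pair X K F V U y → ∀ g : G, (∀ x ∈ V ⊔ U, g * x * g⁻¹ ∈ V ⊔ U) →
    (∀ v ∈ V, g * v * g⁻¹ ∈ V) ∧ (∀ u ∈ U, g * u * g⁻¹ ∈ U)

end Cfsg.Agent.GH.TOne
end

-- part: GH/TOne/Elem
section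
prune_inst 0x404603044090002000018051270003e46da000502006b8401fde10f020ec6ff638d032760fcd01f135902aae400380008139800590210000020200200411901a0802a72c4937cbd0437000f80f887180c00000000000000000000000000041000000000000
set_option linter.all false
open scoped Cfsg.Agent.FastGrp

-- part: GH/TOne/Basic
section
/-!
# Basic facts for `Sys`
-/

set_option autoImplicit false

namespace Cfsg.Agent.GH.TOne

open Subgroup
open Cfsg.Agent.TwoFusion.SectionalRank

variable {G : Type*} [Group G]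

/-! ### involutions -/

theorem Inv.inv_eq {x : G} (h : Inv x) : x⁻¹ = x := inv_eq_of_mul_eq_one_left h.sq

theorem inv_eq_of_sq {x : G} (h : x * x = 1) : x⁻¹ = x := inv_eq_of_mul_eq_one_left h

theorem Inv.conj {x : G} (h : Inv x) (g : G) : Inv (g * x * g⁻¹) := by
  refine ⟨?_, fun e => h.ne ?_⟩
  · calc g * x * g⁻¹ * (g * x * g⁻¹) = g * (x * x) * g⁻¹ := by group
      _ = 1 := by rw [h.sq]; group
  · calc x = g⁻¹ * (g * x * g⁻¹) * g := by group
      _ = 1 := by rw [e]; group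

theorem Inv.mul {x y : G} (hx : Inv x) (hy : Inv y) (hc : x * y = y * x) (hne : x ≠ y) : Inv (x * y) := by
  refine ⟨?_, fun e => hne ?_⟩
  · calc x * y * (x * y) = x * (y * x) * y := by group
      _ = (x * x) * (y * y) := by rw [← hc]; group
      _ = 1 := by rw [hx.sq, hy.sq, one_mul]
  · calc x = x * (y * y) := by rw [hy.sq, mul_one]
      _ = (x * y) * y := by group
      _ = y := by rw [e, one_mul]

theorem isPGroup_zpowers_of_sq {x : G} (h : x * x = 1) : IsPGroup 2 (zpowers x) := by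
  rintro ⟨y, hy⟩
  refine ⟨1, ?_⟩
  obtain ⟨n, rfl⟩ := mem_zpowers_iff.1 hy
  apply Subtype.ext
  simp only [SubmonoidClass.mk_pow, OneMemClass.coe_one]
  rw [pow_one, pow_two, ← zpow_add, ← two_mul, zpow_mul, zpow_ofNat, pow_two, h, one_zpow]

theorem isPGroup_zpowers_of_mem {x : G} {T : Subgroup G} (hT : IsPGroup 2 T) (hx : x ∈ T) :
    IsPGroup 2 (zpowers x) := hT.to_le (zpowers_le.2 hx)

/-! ### `SylC` -/

section sylc

variable [Finite G]

theorem exists_sylC {y : G} {P : Subgroup G} (hP : IsPGroup 2 P) (hc : ∀ x ∈ P, x * y = y * x) :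
    ∃ T : Subgroup G, SylC y T ∧ P ≤ T := by
  have hle : P ≤ centralizer ({y} : Set G) := fun x hx => mem_centralizer_singleton_iff.2 (hc x hx)
  have hP' : IsPGroup 2 (P.subgroupOf (centralizer ({y} : Set G))) :=
    hP.comap_of_injective _ (subtype_injective _)
  obtain ⟨S, hS⟩ := hP'.exists_le_sylow
  refine ⟨(S : Subgroup (centralizer ({y} : Set G))).map (centralizer ({y} : Set G)).subtype, ⟨?_, ?_, ?_⟩, ?_⟩
  · exact S.2.map _
  · rintro _ ⟨x, -, rfl⟩
    exact mem_centralizer_singleton_iff.1 x.2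
  · intro R hR hRc
    have hRle : R ≤ centralizer ({y} : Set G) := fun x hx => mem_centralizer_singleton_iff.2 (hRc x hx)
    have hR' : IsPGroup 2 (R.subgroupOf (centralizer ({y} : Set G))) :=
      hR.comap_of_injective _ (subtype_injective _)
    obtain ⟨S', hS'⟩ := hR'.exists_le_sylow
    rw [card_map_of_injective (subtype_injective _)]
    have h1 : Nat.card (S : Subgroup (centralizer ({y} : Set G))) = Nat.card (S' : Subgroup (centralizer ({y} : Set G))) := by
      rw [S.card_eq_multiplicity, S'.card_eq_multiplicity]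
    have h2 : Nat.card R = Nat.card (R.subgroupOf (centralizer ({y} : Set G))) :=
      (Nat.card_congr (subgroupOfEquivOfLe hRle).toEquiv).symm
    change Nat.card R ≤ Nat.card (S : Subgroup (centralizer ({y} : Set G)))
    rw [h1, h2]
    exact card_le_of_le hS'
  · intro x hx
    exact ⟨⟨x, hle hx⟩, hS (mem_subgroupOf.2 hx), rfl⟩

omit [Finite G] in
theorem card_conj (g : G) (T : Subgroup G) : Nat.card (T.map (MulAut.conj g).toMonoidHom) = Nat.card T :=
  card_map_of_injective (MulAut.conj g).injective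

omit [Finite G] in
theorem mem_map_conj {g x : G} {T : Subgroup G} : x ∈ T.map (MulAut.conj g).toMonoidHom ↔ g⁻¹ * x * g ∈ T := by
  constructor
  · rintro ⟨y, hy, rfl⟩
    simpa [mul_assoc] using hy
  · intro h
    exact ⟨_, h, by simp [mul_assoc]⟩

omit [Finite G] in
theorem SylC.conj {y : G} {T : Subgroup G} (h : SylC y T) (g : G) :
    SylC (g * y * g⁻¹) (T.map (MulAut.conj g).toMonoidHom) := by
  refine ⟨h.two.map _, ?_, ?_⟩
  · intro x hx
    rw [mem_map_conj] at hx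
    have := h.cent _ hx
    calc x * (g * y * g⁻¹) = g * ((g⁻¹ * x * g) * y) * g⁻¹ := by group
      _ = g * (y * (g⁻¹ * x * g)) * g⁻¹ := by rw [this]
      _ = g * y * g⁻¹ * x := by group
  · intro P hP hPc
    rw [card_conj]
    have h1 := h.max (P.map (MulAut.conj g⁻¹).toMonoidHom) (hP.map _) (by
      intro x hx
      rw [mem_map_conj, inv_inv] at hx
      have := hPc _ hx
      calc x * y = g⁻¹ * ((g * x * g⁻¹) * (g * y * g⁻¹)) * g := by group
        _ = g⁻¹ * ((g * y * g⁻¹) * (g * x * g⁻¹)) * g := by rw [this]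
        _ = y * x := by group)
    rwa [card_conj] at h1

omit [Finite G] in
theorem SylC.card_eq {y : G} {T T' : Subgroup G} (h : SylC y T) (h' : SylC y T') : Nat.card T = Nat.card T' :=
  le_antisymm (h'.max T h.two h.cent) (h.max T' h'.two h'.cent)

theorem SylC.eq_of_le {y : G} {T P : Subgroup G} (h : SylC y T) (hP : IsPGroup 2 P)
    (hc : ∀ x ∈ P, x * y = y * x) (hle : T ≤ P) : P = T :=
  (eq_of_le_of_card_ge hle (h.max P hP hc)).symm

omit [Finite G] in
/-- a subgroup of `C(z)` which is Sylow in `C(y)` is Sylow in `C(z)` for `z` conjugate to `y` -/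
theorem SylC.of_conj {y z g : G} {T : Subgroup G} (h : SylC y T) (hz : g * y * g⁻¹ = z)
    (hc : ∀ x ∈ T, x * z = z * x) : SylC z T := by
  refine ⟨h.two, hc, fun P hP hPc => ?_⟩
  have h1 := h.conj g
  rw [hz] at h1
  have := h1.max P hP hPc
  rwa [card_conj] at this

/-- an element commuting with `y`, of 2-power order and normalizing `T`, lies in `T` -/
theorem SylC.mem_of_normalizes {y x : G} {T : Subgroup G} (h : SylC y T) (hx : IsPGroup 2 (zpowers x))
    (hc : x * y = y * x) (hn : ∀ t ∈ T, x * t * x⁻¹ ∈ T) : x ∈ T := by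
  have hxn : x ∈ normalizer (T : Set G) := by
    have h1 : T.map (MulAut.conj x).toMonoidHom ≤ T := by
      rintro _ ⟨t, ht, rfl⟩
      exact hn t ht
    have h2 : T.map (MulAut.conj x).toMonoidHom = T := eq_of_le_of_card_ge h1 (card_conj x T).ge
    rw [mem_normalizer_iff]
    intro t
    constructor
    · exact hn t
    · intro ht
      have : x * t * x⁻¹ ∈ T.map (MulAut.conj x).toMonoidHom := by rw [h2]; exact ht
      rw [mem_map_conj] at this
      simpa [mul_assoc] using this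
  have hp : IsPGroup 2 (T ⊔ zpowers x : Subgroup G) := h.two.to_sup_of_normal_left' hx (zpowers_le.2 hxn)
  have hcent : ∀ t ∈ (T ⊔ zpowers x : Subgroup G), t * y = y * t := by
    have hle : (T ⊔ zpowers x : Subgroup G) ≤ centralizer ({y} : Set G) := by
      rw [sup_le_iff, zpowers_le]
      exact ⟨fun t ht => mem_centralizer_singleton_iff.2 (h.cent t ht), mem_centralizer_singleton_iff.2 hc⟩
    exact fun t ht => mem_centralizer_singleton_iff.1 (hle ht)
  have := h.eq_of_le hp hcent le_sup_left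
  rw [← this]
  exact mem_sup_right (mem_zpowers x)

/-- two Sylow 2-subgroups of `C(y)` are conjugate in `C(y)` -/
theorem SylC.exists_conj {y : G} {T T' : Subgroup G} (h : SylC y T) (h' : SylC y T') :
    ∃ c : G, c * y = y * c ∧ T.map (MulAut.conj c).toMonoidHom = T' := by
  set C := centralizer ({y} : Set G) with hC
  have hle : ∀ {P : Subgroup G}, SylC y P → P ≤ C := fun hP x hx => mem_centralizer_singleton_iff.2 (hP.cent x hx)
  have key : ∀ {P : Subgroup G}, SylC y P → ∃ S : Sylow 2 C, (S : Subgroup C).map C.subtype = P := by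
    intro P hP
    have hP' : IsPGroup 2 (P.subgroupOf C) := hP.two.comap_of_injective _ (subtype_injective _)
    obtain ⟨S, hS⟩ := hP'.exists_le_sylow
    refine ⟨S, ?_⟩
    apply hP.eq_of_le (S.2.map _)
    · rintro _ ⟨x, -, rfl⟩
      exact mem_centralizer_singleton_iff.1 x.2
    · intro x hx
      exact ⟨⟨x, hle hP hx⟩, hS (mem_subgroupOf.2 hx), rfl⟩
  obtain ⟨S, rfl⟩ := key h
  obtain ⟨S', rfl⟩ := key h'
  obtain ⟨c, hc⟩ := MulAction.exists_smul_eq C S S'
  refine ⟨c, mem_centralizer_singleton_iff.1 c.2, ?_⟩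
  rw [← hc, Sylow.coe_subgroup_smul]
  ext x
  rw [mem_map_conj]
  constructor
  · rintro ⟨u, hu, hux⟩
    refine ⟨c * u * c⁻¹, ?_, ?_⟩
    · exact ⟨u, hu, rfl⟩
    · change (c : G) * u * (c : G)⁻¹ = x
      rw [show ((u : C) : G) = (c : G)⁻¹ * x * c from hux]
      group
  · rintro ⟨u, ⟨v, hv, hvu⟩, hux⟩
    refine ⟨v, hv, ?_⟩
    have h1 : (u : G) = (c : G) * v * (c : G)⁻¹ := by
      rw [← hvu]; rfl
    change (v : G) = (c : G)⁻¹ * x * c
    rw [← hux]
    change (v : G) = (c : G)⁻¹ * (u : G) * c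
    rw [h1]; group

end sylc

/-! ### elementary consequences of `Sys` -/

namespace Sys

variable {X : Set G} {K F : G → Subgroup G} {n : ℕ} (h : Sys X K F n)
include h

theorem memF_conj_iff {y : G} (hy : y ∈ X) (g x : G) : g * x * g⁻¹ ∈ F (g * y * g⁻¹) ↔ x ∈ F y := by
  refine ⟨fun hx => ?_, fun hx => h.conjF y hy g x hx⟩
  have := h.conjF _ (h.conj y hy g) g⁻¹ _ hx
  simpa [mul_assoc] using this

theorem inner_conj {y : G} (hy : y ∈ X) (g : G) {x : G} (hx : Inner K F y x) :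
    Inner K F (g * y * g⁻¹) (g * x * g⁻¹) := by
  obtain ⟨f, hf, k, hk, rfl⟩ := hx
  exact ⟨_, h.conjF y hy g f hf, _, h.conjK y hy g k hk, by group⟩

theorem inner_conj_iff {y : G} (hy : y ∈ X) (g x : G) :
    Inner K F (g * y * g⁻¹) (g * x * g⁻¹) ↔ Inner K F y x := by
  refine ⟨fun hx => ?_, fun hx => h.inner_conj hy g hx⟩
  have := h.inner_conj (h.conj y hy g) g⁻¹ hx
  simpa [mul_assoc] using this

omit h in
theorem conj_self {y g : G} (hg : g * y = y * g) : g * y * g⁻¹ = y := by rw [hg]; group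

theorem conjK_self {y g k : G} (hy : y ∈ X) (hg : g * y = y * g) (hk : k ∈ K y) : g * k * g⁻¹ ∈ K y := by
  have := h.conjK y hy g k hk
  rwa [conj_self hg] at this

theorem conjF_self {y g k : G} (hy : y ∈ X) (hg : g * y = y * g) (hk : k ∈ F y) : g * k * g⁻¹ ∈ F y := by
  have := h.conjF y hy g k hk
  rwa [conj_self hg] at this

omit h in
theorem inner_of_F {y x : G} (hx : x ∈ F y) : Inner K F y x := ⟨x, hx, 1, one_mem _, by rw [mul_one]⟩

omit h in
theorem inner_of_K {y x : G} (hx : x ∈ K y) : Inner K F y x := ⟨1, one_mem _, x, hx, by rw [one_mul]⟩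

theorem inner_comm {y x : G} (hy : y ∈ X) (hx : Inner K F y x) : x * y = y * x := by
  obtain ⟨f, hf, k, hk, rfl⟩ := hx
  rw [mul_assoc, h.centK y hy k hk, ← mul_assoc, h.centF y hy f hf, mul_assoc]

theorem inner_mul {y a b : G} (hy : y ∈ X) (ha : Inner K F y a) (hb : Inner K F y b) :
    Inner K F y (a * b) := by
  obtain ⟨f, hf, k, hk, rfl⟩ := ha
  obtain ⟨f', hf', k', hk', rfl⟩ := hb
  refine ⟨f * f', mul_mem hf hf', f'⁻¹ * k * f' * k', mul_mem ?_ hk', by group⟩
  have hc : f'⁻¹ * y = y * f'⁻¹ := h.centF y hy _ (inv_mem hf')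
  have := h.conjK_self hy hc hk
  rwa [inv_inv] at this

theorem inner_inv {y a : G} (hy : y ∈ X) (ha : Inner K F y a) : Inner K F y a⁻¹ := by
  obtain ⟨f, hf, k, hk, rfl⟩ := ha
  refine ⟨f⁻¹, inv_mem hf, f * k⁻¹ * f⁻¹, h.conjK_self hy (h.centF y hy _ hf) (inv_mem hk), by group⟩

/-- the group of inner elements -/
def inn {y : G} (hy : y ∈ X) : Subgroup G where
  carrier := {x | Inner K F y x}
  one_mem' := inner_of_F (one_mem _)
  mul_mem' := h.inner_mul hy
  inv_mem' := h.inner_inv hy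

theorem symm {y t : G} (hy : y ∈ X) (ht : t ∈ X) (hty : t ∈ F y) : y ∈ F t :=
  h.share y hy t ht hty y rfl (h.centF y hy t hty).symm (h.self y hy)

theorem share_iff {y t x : G} (hy : y ∈ X) (ht : t ∈ X) (hty : t ∈ F y) (h1 : x * y = y * x)
    (h2 : x * t = t * x) : x ∈ F y ↔ x ∈ F t :=
  ⟨h.share y hy t ht hty x h1 h2, h.share t ht y hy (h.symm hy ht hty) x h2 h1⟩

theorem shareI_iff {y t x : G} (hy : y ∈ X) (ht : t ∈ X) (hty : t ∈ F y) (h1 : x * y = y * x)
    (h2 : x * t = t * x) : Inner K F y x ↔ Inner K F t x :=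
  ⟨h.shareI y hy t ht hty x h1 h2, h.shareI t ht y hy (h.symm hy ht hty) x h2 h1⟩

/-- `y ~~ x ~~ t`, `y`, `t` commuting implies `y ~~ t` -/
theorem trans {y x t : G} (hy : y ∈ X) (hx : x ∈ X) (hyx : y ∈ F x) (htx : t ∈ F x)
    (hc : t * y = y * t) : t ∈ F y :=
  h.share x hx y hy hyx t (h.centF x hx t htx) hc htx

/-- 2-elements of `K y ∩ F y` are trivial -/
theorem disj_two {y x : G} (hy : y ∈ X) (hK : x ∈ K y) (hF : x ∈ F y) (hp : IsPGroup 2 (zpowers x)) : x = 1 := by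
  obtain ⟨k, hk⟩ := hp ⟨x, mem_zpowers x⟩
  have hk' : x ^ 2 ^ k = 1 := by
    have := congrArg Subtype.val hk
    simpa using this
  clear hk
  induction k with
  | zero => simpa using hk'
  | succ k ih =>
    apply ih
    refine h.disj y hy _ (pow_mem hK _) (pow_mem hF _) ?_
    rw [← pow_add, ← two_mul, ← pow_succ']
    exact hk'

theorem disjQD {y x : G} {T : Subgroup G} (hT : IsPGroup 2 T) (hy : y ∈ X) (hxT : x ∈ T) (hK : x ∈ K y)
    (hF : x ∈ F y) : x = 1 := h.disj_two hy hK hF (isPGroup_zpowers_of_mem hT hxT)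

/-- `[Q, D] = 1` -/
theorem commQD {y q d : G} {T : Subgroup G} (hT : IsPGroup 2 T) (hy : y ∈ X) (hqT : q ∈ T) (hdT : d ∈ T)
    (hq : q ∈ F y) (hd : d ∈ K y) : q * d = d * q := by
  have h1 : q * d * q⁻¹ * d⁻¹ = 1 := by
    apply h.disjQD hT hy (mul_mem (mul_mem (mul_mem hqT hdT) (inv_mem hqT)) (inv_mem hdT))
    · exact mul_mem (h.conjK_self hy (h.centF y hy q hq) hd) (inv_mem hd)
    · have := h.conjF_self hy (h.centK y hy d hd) (inv_mem hq)
      have h2 := mul_mem hq this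
      have e : q * (d * q⁻¹ * d⁻¹) = q * d * q⁻¹ * d⁻¹ := by group
      rwa [e] at h2
  calc q * d = (q * d * q⁻¹ * d⁻¹) * (d * q) := by group
    _ = d * q := by rw [h1, one_mul]

theorem disj_inv {y x : G} (hy : y ∈ X) (hK : x ∈ K y) (hF : x ∈ F y) (hx : Inv x) : False :=
  hx.ne (h.disj y hy x hK hF hx.sq)

end Sys

end Cfsg.Agent.GH.TOne
end

-- part: GH/TOne/Elem
section
/-!
# Elementary abelian subgroups, normalizer growth (Lemma N)
-/

set_option autoImplicit false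

namespace Cfsg.Agent.GH.TOne

open Subgroup
open Cfsg.Agent.TwoFusion.SectionalRank

variable {G : Type*} [Group G]

/-! ### joins of commuting subgroups -/

theorem comm_of_sq {A : Subgroup G} (hA : ∀ a ∈ A, a * a = 1) {a b : G} (ha : a ∈ A) (hb : b ∈ A) :
    a * b = b * a := by
  have h1 := hA _ (mul_mem ha hb)
  calc a * b = (a * b)⁻¹ := (inv_eq_of_sq h1).symm
    _ = b⁻¹ * a⁻¹ := by group
    _ = b * a := by rw [inv_eq_of_sq (hA a ha), inv_eq_of_sq (hA b hb)]

theorem mem_sup_comm {A B : Subgroup G} (hc : ∀ a ∈ A, ∀ b ∈ B, a * b = b * a) {x : G} :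
    x ∈ A ⊔ B ↔ ∃ a ∈ A, ∃ b ∈ B, x = a * b := by
  constructor
  · intro hx
    have hle : A ⊔ B ≤ ({ carrier := {x | ∃ a ∈ A, ∃ b ∈ B, x = a * b}
                          one_mem' := ⟨1, one_mem _, 1, one_mem _, by rw [mul_one]⟩
                          mul_mem' := by
                            rintro _ _ ⟨a, ha, b, hb, rfl⟩ ⟨a', ha', b', hb', rfl⟩
                            refine ⟨a * a', mul_mem ha ha', b * b', mul_mem hb hb', ?_⟩
                            calc a * b * (a' * b') = a * (b * a') * b' := by group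
                              _ = a * a' * (b * b') := by rw [← hc a' ha' b hb]; group
                          inv_mem' := by
                            rintro _ ⟨a, ha, b, hb, rfl⟩
                            refine ⟨a⁻¹, inv_mem ha, b⁻¹, inv_mem hb, ?_⟩
                            rw [mul_inv_rev]
                            exact (hc _ (inv_mem ha) _ (inv_mem hb)).symm } : Subgroup G) := by
      rw [sup_le_iff]
      exact ⟨fun a ha => ⟨a, ha, 1, one_mem _, by rw [mul_one]⟩, fun b hb => ⟨1, one_mem _, b, hb, by rw [one_mul]⟩⟩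
    exact hle hx
  · rintro ⟨a, ha, b, hb, rfl⟩
    exact mul_mem (mem_sup_left ha) (mem_sup_right hb)

theorem card_sup_comm {A B : Subgroup G} (hc : ∀ a ∈ A, ∀ b ∈ B, a * b = b * a)
    (hd : ∀ x ∈ A, x ∈ B → x = 1) : Nat.card (A ⊔ B : Subgroup G) = Nat.card A * Nat.card B := by
  rw [← Nat.card_prod]
  symm
  apply Nat.card_congr
  refine Equiv.ofBijective (fun p : A × B => (⟨p.1 * p.2, mul_mem (mem_sup_left p.1.2) (mem_sup_right p.2.2)⟩ :
    (A ⊔ B : Subgroup G))) ⟨?_, ?_⟩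
  · rintro ⟨⟨a, ha⟩, ⟨b, hb⟩⟩ ⟨⟨a', ha'⟩, ⟨b', hb'⟩⟩ h
    have h1 : a * b = a' * b' := congrArg Subtype.val h
    have h2 : a'⁻¹ * a = b' * b⁻¹ := by
      calc a'⁻¹ * a = a'⁻¹ * (a * b) * b⁻¹ := by group
        _ = b' * b⁻¹ := by rw [h1]; group
    have h3 : a'⁻¹ * a = 1 := hd _ (mul_mem (inv_mem ha') ha) (h2 ▸ mul_mem hb' (inv_mem hb))
    have h4 : a = a' := (inv_mul_eq_one.1 h3).symm
    subst h4
    have h5 : b = b' := mul_left_cancel h1
    subst h5
    rfl
  · rintro ⟨x, hx⟩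
    obtain ⟨a, ha, b, hb, rfl⟩ := (mem_sup_comm hc).1 hx
    exact ⟨(⟨a, ha⟩, ⟨b, hb⟩), rfl⟩

theorem elem_sup {A B : Subgroup G} (hc : ∀ a ∈ A, ∀ b ∈ B, a * b = b * a) (hA : ∀ a ∈ A, a * a = 1)
    (hB : ∀ b ∈ B, b * b = 1) : ∀ x ∈ A ⊔ B, x * x = 1 := by
  intro x hx
  obtain ⟨a, ha, b, hb, rfl⟩ := (mem_sup_comm hc).1 hx
  calc a * b * (a * b) = a * (b * a) * b := by group
    _ = (a * a) * (b * b) := by rw [← hc a ha b hb]; group
    _ = 1 := by rw [hA a ha, hB b hb, one_mul]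

/-- two disjoint subgroups of `E` -/
theorem card_mul_le [Finite G] {A B E : Subgroup G} (hA : A ≤ E) (hB : B ≤ E) (hd : ∀ x ∈ A, x ∈ B → x = 1) :
    Nat.card A * Nat.card B ≤ Nat.card E := by
  rw [← Nat.card_prod]
  refine Nat.card_le_card_of_injective (fun p : A × B => (⟨p.1 * p.2, mul_mem (hA p.1.2) (hB p.2.2)⟩ : E)) ?_
  rintro ⟨⟨a, ha⟩, ⟨b, hb⟩⟩ ⟨⟨a', ha'⟩, ⟨b', hb'⟩⟩ h
  have h1 : a * b = a' * b' := congrArg Subtype.val h
  have h2 : a'⁻¹ * a = b' * b⁻¹ := by
    calc a'⁻¹ * a = a'⁻¹ * (a * b) * b⁻¹ := by group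
      _ = b' * b⁻¹ := by rw [h1]; group
  have h3 : a'⁻¹ * a = 1 := hd _ (mul_mem (inv_mem ha') ha) (h2 ▸ mul_mem hb' (inv_mem hb))
  have h4 : a = a' := (inv_mul_eq_one.1 h3).symm
  subst h4
  have h5 : b = b' := mul_left_cancel h1
  subst h5
  rfl

theorem exists_inf [Finite G] {A B E : Subgroup G} (hA : A ≤ E) (hB : B ≤ E)
    (hlt : Nat.card E < Nat.card A * Nat.card B) : ∃ x ∈ A, x ∈ B ∧ x ≠ 1 := by
  by_contra hcon
  push Not at hcon
  exact absurd (card_mul_le hA hB hcon) (not_le.2 hlt)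

/-! ### four-groups -/

/-- `{1, a, b, ab}` -/
def four (a b : G) (ha : Inv a) (hb : Inv b) (hc : a * b = b * a) : Subgroup G where
  carrier := {x | x = 1 ∨ x = a ∨ x = b ∨ x = a * b}
  one_mem' := Or.inl rfl
  mul_mem' := by
    have h1 : a * (a * b) = b := by rw [← mul_assoc, ha.sq, one_mul]
    have h2 : b * (a * b) = a := by rw [hc, ← mul_assoc, hb.sq, one_mul]
    have h3 : a * b * a = b := by rw [hc, mul_assoc, ha.sq, mul_one]
    have h4 : a * b * b = a := by rw [mul_assoc, hb.sq, mul_one]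
    have h5 : a * b * (a * b) = 1 := by rw [← mul_assoc, h3, hb.sq]
    rintro x y (rfl | rfl | rfl | rfl) (rfl | rfl | rfl | rfl) <;>
      simp [ha.sq, hb.sq, h1, h2, h3, h4, h5, hc.symm]
  inv_mem' := by
    have h5 : (a * b)⁻¹ = a * b := by rw [mul_inv_rev, ha.inv_eq, hb.inv_eq, hc]
    rintro x (rfl | rfl | rfl | rfl)
    · left; exact inv_one
    · right; left; exact ha.inv_eq
    · right; right; left; exact hb.inv_eq
    · right; right; right; exact h5

theorem mem_four {a b : G} {ha : Inv a} {hb : Inv b} {hc : a * b = b * a} {x : G} :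
    x ∈ four a b ha hb hc ↔ x = 1 ∨ x = a ∨ x = b ∨ x = a * b := Iff.rfl

theorem left_mem_four {a b : G} {ha : Inv a} {hb : Inv b} {hc : a * b = b * a} : a ∈ four a b ha hb hc :=
  Or.inr (Or.inl rfl)

theorem right_mem_four {a b : G} {ha : Inv a} {hb : Inv b} {hc : a * b = b * a} : b ∈ four a b ha hb hc :=
  Or.inr (Or.inr (Or.inl rfl))

theorem four_le {a b : G} {ha : Inv a} {hb : Inv b} {hc : a * b = b * a} {H : Subgroup G} (h1 : a ∈ H) (h2 : b ∈ H) :
    four a b ha hb hc ≤ H := by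
  rintro x (rfl | rfl | rfl | rfl)
  · exact one_mem _
  · exact h1
  · exact h2
  · exact mul_mem h1 h2

theorem four_sq {a b : G} {ha : Inv a} {hb : Inv b} {hc : a * b = b * a} : ∀ x ∈ four a b ha hb hc, x * x = 1 := by
  rintro x (rfl | rfl | rfl | rfl)
  · exact mul_one _
  · exact ha.sq
  · exact hb.sq
  · calc a * b * (a * b) = a * (b * a) * b := by group
      _ = (a * a) * (b * b) := by rw [← hc]; group
      _ = 1 := by rw [ha.sq, hb.sq, one_mul]

theorem card_four {a b : G} {ha : Inv a} {hb : Inv b} {hc : a * b = b * a} (hne : a ≠ b) :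
    Nat.card (four a b ha hb hc) = 4 := by
  classical
  have h0 : a * b ≠ 1 := (ha.mul hb hc hne).ne
  have h1 : a * b ≠ a := fun e => hb.ne (mul_eq_left.1 e)
  have h2 : a * b ≠ b := fun e => ha.ne (mul_eq_right.1 e)
  have : (four a b ha hb hc : Set G) = ((({1, a, b, a * b} : Finset G)) : Set G) := by
    ext x
    simp only [SetLike.mem_coe, mem_four, Finset.coe_insert, Finset.coe_singleton, Set.mem_insert_iff,
      Set.mem_singleton_iff]
  change Nat.card ((four a b ha hb hc : Subgroup G) : Set G) = 4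
  rw [this, Nat.card_coe_set_eq, Set.ncard_coe_finset]
  rw [Finset.card_insert_of_notMem, Finset.card_insert_of_notMem, Finset.card_insert_of_notMem, Finset.card_singleton]
  · simp only [Finset.mem_singleton]; exact h2.symm
  · simp only [Finset.mem_insert, Finset.mem_singleton]
    push Not
    exact ⟨hne, h1.symm⟩
  · simp only [Finset.mem_insert, Finset.mem_singleton]
    push Not
    exact ⟨ha.ne.symm, hb.ne.symm, h0.symm⟩

/-- a subgroup of order four with `x² = 1` containing `a ≠ 1` contains another involution -/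
theorem exists_ne_of_card_four {V : Subgroup G} (hV : Nat.card V = 4) (a : G) :
    ∃ b ∈ V, b ≠ 1 ∧ b ≠ a := by
  classical
  by_contra hcon
  push Not at hcon
  have hsub : (V : Set G) ⊆ (({1, a} : Finset G) : Set G) := by
    intro x hx
    by_cases h1 : x = 1
    · simp [h1]
    · simp [hcon x hx h1]
  have h1 := Set.ncard_le_ncard hsub (Finset.finite_toSet _)
  rw [Set.ncard_coe_finset] at h1
  have h2 : (V : Set G).ncard = 4 := by
    rw [← Nat.card_coe_set_eq]; exact hV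
  have h3 := Finset.card_le_two (a := (1 : G)) (b := a)
  omega

theorem eq_four {V : Subgroup G} (hV : Nat.card V = 4) {a b : G} (ha : Inv a) (hb : Inv b) (hc : a * b = b * a)
    (haV : a ∈ V) (hbV : b ∈ V) (hne : a ≠ b) : four a b ha hb hc = V := by
  have : Finite V := Nat.finite_of_card_ne_zero (by rw [hV]; norm_num)
  apply eq_of_le_of_card_ge (four_le haV hbV)
  rw [hV, card_four hne]

/-! ### rank -/

theorem card_le_of_elem (hr : RankFour G) {A : Subgroup G} (hA : ∀ a ∈ A, a * a = 1) : Nat.card A ≤ 16 := by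
  have h1 := hr A ⊥ ⟨bot_le, fun a ha b hb => by
    rw [mem_bot, comm_of_sq hA ha hb]; group, fun a ha => by rw [pow_two, hA a ha]; exact one_mem _⟩
  rw [card_bot] at h1
  omega

/-- order 32: `V` (order 4), `e`, `U` (order 4) cannot be independent and commuting -/
theorem no_rank_five [Finite G] (hr : RankFour G) {V U : Subgroup G} {e : G} (hV : Nat.card V = 4)
    (hU : Nat.card U = 4) (eV : ∀ v ∈ V, v * v = 1) (eU : ∀ v ∈ U, v * v = 1) (he : Inv e)
    (hVU : ∀ v ∈ V, ∀ u ∈ U, v * u = u * v) (hVe : ∀ v ∈ V, v * e = e * v) (hUe : ∀ u ∈ U, u * e = e * u)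
    (hd : ∀ v ∈ V, v ∈ U → v = 1) (hne : ∀ v ∈ V, ∀ u ∈ U, e ≠ v * u) : False := by
  have h1 := card_sup_comm hVU hd
  rw [hV, hU] at h1
  have hE : Nat.card (zpowers e) = 2 := by
    rw [Nat.card_zpowers]
    exact orderOf_eq_prime (by rw [pow_two]; exact he.sq) he.ne
  have hmem : ∀ x ∈ zpowers e, x = 1 ∨ x = e := by
    intro x hx
    obtain ⟨m, rfl⟩ := mem_zpowers_iff.1 hx
    rcases Int.even_or_odd' m with ⟨k, rfl | rfl⟩
    · left; rw [zpow_mul, zpow_ofNat, pow_two, he.sq, one_zpow]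
    · right; rw [zpow_add, zpow_mul, zpow_ofNat, pow_two, he.sq, one_zpow, one_mul, zpow_one]
  have hcomm : ∀ a ∈ V ⊔ U, ∀ b ∈ zpowers e, a * b = b * a := by
    intro a ha b hb
    obtain ⟨v, hv, u, hu, rfl⟩ := (mem_sup_comm hVU).1 ha
    rcases hmem b hb with rfl | rfl
    · rw [mul_one, one_mul]
    · rw [mul_assoc, hUe u hu, ← mul_assoc, hVe v hv, mul_assoc]
  have h2 := card_sup_comm hcomm (by
    intro x hx hx'
    rcases hmem x hx' with h | rfl
    · exact h
    · exfalso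
      obtain ⟨v, hv, u, hu, e'⟩ := (mem_sup_comm hVU).1 hx
      exact hne v hv u hu e')
  rw [h1, hE] at h2
  have h3 := card_le_of_elem hr (elem_sup hcomm (elem_sup hVU eV eU) (by
    intro b hb
    rcases hmem b hb with rfl | rfl
    · exact mul_one _
    · exact he.sq))
  omega

/-! ### normalizer growth -/

theorem exists_mem_normalizer [Finite G] {T P : Subgroup G} (hP : IsPGroup 2 P) (hle : T ≤ P) (hne : T ≠ P) :
    ∃ y ∈ P, y ∉ T ∧ ∀ g ∈ T, y * g * y⁻¹ ∈ T := by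
  have : Fact (Nat.Prime 2) := ⟨Nat.prime_two⟩
  have hnil : Group.IsNilpotent P := hP.isNilpotent
  have hlt : T.subgroupOf P < ⊤ := by
    rw [lt_top_iff_ne_top]
    intro h
    exact hne (le_antisymm hle (Subgroup.subgroupOf_eq_top.1 h))
  have h1 := Group.normalizerCondition_of_isNilpotent (T.subgroupOf P) hlt
  obtain ⟨y, hy, hyT⟩ := Set.exists_of_ssubset h1
  refine ⟨y, y.2, fun h => hyT h, fun g hg => ?_⟩
  exact (Subgroup.mem_normalizer_iff.1 hy ⟨g, hle hg⟩).1 hg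

/-- Lemma N -/
theorem lemmaN [Finite G] {Q P : Subgroup G} (hP : IsPGroup 2 P) (hQ : Q ≤ P)
    (hn : ∀ p ∈ P, ∀ q ∈ Q, p * q * p⁻¹ ∈ Q) {e t : G} (heP : e ∈ P) (he : Inv e) (heQ : e ∉ Q)
    (huniq : ∀ a ∈ Q, a * e = e * a → a * a = 1 → a = 1 ∨ a = t)
    (hex : ∃ a ∈ Q, a * a = 1 ∧ a ≠ 1 ∧ a ≠ t) : ∃ w ∈ Q, w * e * w⁻¹ = e * t := by
  -- `H = C_Q(e) ⟨e⟩`, as the set of elements `c` or `c e`, inside `R = Q ⟨e⟩`
  let H : Subgroup G :=
    { carrier := {x | ∃ c ∈ Q, c * e = e * c ∧ (x = c ∨ x = c * e)}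
      one_mem' := ⟨1, one_mem _, by rw [one_mul, mul_one], Or.inl rfl⟩
      mul_mem' := by
        rintro x y ⟨c, hc, hce, hx⟩ ⟨c', hc', hce', hy⟩
        refine ⟨c * c', mul_mem hc hc', by rw [mul_assoc, hce', ← mul_assoc, hce, mul_assoc], ?_⟩
        rcases hx with hx | hx <;> rcases hy with hy | hy <;> rw [hx, hy]
        · left; rfl
        · right; group
        · right
          rw [mul_assoc, ← hce', mul_assoc]
        · left
          calc c * e * (c' * e) = c * (e * c') * e := by group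
            _ = c * c' * (e * e) := by rw [← hce']; group
            _ = c * c' := by rw [he.sq, mul_one]
      inv_mem' := by
        rintro x ⟨c, hc, hce, hx⟩
        have hce' : c⁻¹ * e = e * c⁻¹ := by
          rw [inv_mul_eq_iff_eq_mul, ← mul_assoc, hce]; group
        refine ⟨c⁻¹, inv_mem hc, hce', ?_⟩
        rcases hx with hx | hx <;> rw [hx]
        · left; rfl
        · right
          rw [mul_inv_rev, he.inv_eq, hce'] }
  let R : Subgroup G :=
    { carrier := {x | x ∈ Q ∨ x * e ∈ Q}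
      one_mem' := Or.inl (one_mem _)
      mul_mem' := by
        have hee : ∀ q ∈ Q, e * q * e ∈ Q := by
          intro q hq
          have := hn e heP q hq
          rwa [he.inv_eq] at this
        rintro a b (ha | ha) (hb | hb)
        · exact Or.inl (mul_mem ha hb)
        · exact Or.inr (by rw [mul_assoc]; exact mul_mem ha hb)
        · right
          have := mul_mem ha (hee b hb)
          have e' : a * e * (e * b * e) = a * b * e := by
            calc a * e * (e * b * e) = a * (e * e) * b * e := by group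
              _ = a * b * e := by rw [he.sq, mul_one]
          rwa [e'] at this
        · left
          have := mul_mem ha (hee _ hb)
          have e' : a * e * (e * (b * e) * e) = a * b := by
            calc a * e * (e * (b * e) * e) = a * (e * e) * b * (e * e) := by group
              _ = a * b := by rw [he.sq, mul_one, mul_one]
          rwa [e'] at this
      inv_mem' := by
        rintro a (ha | ha)
        · exact Or.inl (inv_mem ha)
        · right
          have h1 := hn e heP _ (inv_mem ha)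
          have e' : e * (a * e)⁻¹ * e⁻¹ = a⁻¹ * e := by
            rw [mul_inv_rev, he.inv_eq]
            calc e * (e * a⁻¹) * e = (e * e) * a⁻¹ * e := by group
              _ = a⁻¹ * e := by rw [he.sq, one_mul]
          rwa [e'] at h1 }
  have hRP : R ≤ P := by
    rintro x (hx | hx)
    · exact hQ hx
    · have := mul_mem (hQ hx) (inv_mem heP)
      rwa [mul_inv_cancel_right] at this
  have hHR : H ≤ R := by
    rintro x ⟨c, hc, hce, rfl | rfl⟩
    · exact Or.inl hc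
    · right
      rw [mul_assoc, he.sq, mul_one]; exact hc
  have hne : H ≠ R := by
    intro hEq
    obtain ⟨a, haQ, ha2, ha1, hat⟩ := hex
    have : a ∈ H := by rw [hEq]; exact Or.inl haQ
    obtain ⟨c, hc, hce, rfl | hac⟩ := this
    · rcases huniq a haQ hce ha2 with h | h
      · exact ha1 h
      · exact hat h
    · apply heQ
      have : e = c⁻¹ * a := by rw [hac]; group
      rw [this]; exact mul_mem (inv_mem hc) haQ
  obtain ⟨w, hwR, hwH, hw⟩ := exists_mem_normalizer (hP.to_le hRP) hHR hne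
  have heH : e ∈ H := ⟨1, one_mem _, by rw [one_mul, mul_one], Or.inr (by rw [one_mul])⟩
  -- may take `w ∈ Q`
  obtain ⟨w', hw'Q, hw'H, hw'⟩ : ∃ w' ∈ Q, w' ∉ H ∧ w' * e * w'⁻¹ ∈ H := by
    rcases hwR with hwQ | hwQ
    · exact ⟨w, hwQ, hwH, hw e heH⟩
    · refine ⟨w * e, hwQ, fun h => hwH ?_, ?_⟩
      · have := H.mul_mem h heH
        rwa [mul_assoc, he.sq, mul_one] at this
      · have := hw e heH
        have e' : w * e * e * (w * e)⁻¹ = w * e * w⁻¹ := by group
        rw [e']; exact this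
  have hq : w' * e * w'⁻¹ * e ∈ Q := by
    have h1 := hn e heP _ (inv_mem hw'Q)
    rw [he.inv_eq] at h1
    have := mul_mem hw'Q h1
    have e' : w' * (e * w'⁻¹ * e) = w' * e * w'⁻¹ * e := by group
    rwa [e'] at this
  have hsq : w' * e * w'⁻¹ * (w' * e * w'⁻¹) = 1 := (he.conj w').sq
  obtain ⟨c, hc, hce, h1 | h1⟩ := hw'
  · exfalso
    apply heQ
    have h2 := mul_mem (inv_mem hc) hq
    rw [h1] at h2
    simpa using h2
  · have hcc : c * c = 1 := by
      rw [h1] at hsq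
      calc c * c = c * c * (e * e) := by rw [he.sq, mul_one]
        _ = c * (c * e) * e := by group
        _ = c * (e * c) * e := by rw [hce]
        _ = c * e * (c * e) := by group
        _ = 1 := hsq
    rcases huniq c hc hce hcc with h2 | h2
    · exfalso
      rw [h2, one_mul] at h1
      apply hw'H
      exact ⟨w', hw'Q, mul_inv_eq_iff_eq_mul.1 h1, Or.inl rfl⟩
    · refine ⟨w', hw'Q, ?_⟩
      rw [h1, hce, h2]

end Cfsg.Agent.GH.TOne
end

private theorem dce_ec7f5368347c : _root_.True := by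
  try have : _root_.True := by simp only [_root_.Cfsg.Agent.GH.TOne.four.congr_simp]
  exact _root_.True.intro
end

-- part: GH/TOne/Loc
section
prune_inst 0x4147071445d2202000000051250003e06da000500002b8400fde10f020e8eff628d422760eca01e035802a28428300068139800500210000020200000411d01a0802a52049358ad0416000f80b087180c00000000000000000000000000041000000000000
set_option linter.all false
open scoped Cfsg.Agent.FastGrp

/-!
# Local facts in a Sylow 2-subgroup `T` of `C(t)`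
-/

set_option autoImplicit false

namespace Cfsg.Agent.GH.TOne

open Subgroup

variable {G : Type*} [Group G]

/-! ### dihedral groups -/

namespace Dih

variable {n : ℕ} {D : Subgroup G} {r s : G}

theorem pow_ne (d : Dih n D r s) (hn : 2 ≤ n) {i : ℕ} (hi : i % 2 = 1) : r ^ i ≠ 1 := by
  intro h1
  have h2 : orderOf r ∣ i := orderOf_dvd_of_pow_eq_one h1
  rw [d.ord] at h2
  have h3 : 2 ∣ 2 ^ (n - 1) := dvd_pow_self 2 (by omega)
  have := h3.trans h2
  omega

/-- the central involution -/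
theorem zInv (d : Dih n D r s) (hn : 2 ≤ n) : Inv (r ^ 2 ^ (n - 2)) := by
  refine ⟨?_, ?_⟩
  · rw [← pow_add, ← two_mul, ← pow_succ', show n - 2 + 1 = n - 1 by omega, ← d.ord]
    exact pow_orderOf_eq_one r
  · intro h1
    have h2 := orderOf_dvd_of_pow_eq_one h1
    rw [d.ord] at h2
    have h3 := Nat.le_of_dvd (by positivity) h2
    have h4 : 2 ^ (n - 2) < 2 ^ (n - 1) := Nat.pow_lt_pow_right (by norm_num) (by omega)
    omega

theorem sInv (d : Dih n D r s) : Inv s := ⟨d.sq, fun e => d.notMem (by rw [e]; exact one_mem _)⟩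

theorem s_pow (d : Dih n D r s) (i : ℕ) : s * r ^ i * s = (r ^ i)⁻¹ := by
  have h1 : s * r ^ i * s = (s * r * s) ^ i := by
    induction i with
    | zero => simp [d.sq]
    | succ i ih =>
      rw [pow_succ (s * r * s), ← ih, pow_succ]
      calc s * (r ^ i * r) * s = s * r ^ i * (s * s) * r * s := by rw [d.sq]; group
        _ = s * r ^ i * s * (s * r * s) := by group
  rw [h1, d.rel, inv_pow]

theorem s_mul_pow (d : Dih n D r s) (i : ℕ) : s * r ^ i = (r ^ i)⁻¹ * s := by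
  calc s * r ^ i = s * r ^ i * (s * s) := by rw [d.sq, mul_one]
    _ = (s * r ^ i * s) * s := by group
    _ = (r ^ i)⁻¹ * s := by rw [d.s_pow]

theorem z_s (d : Dih n D r s) (hn : 2 ≤ n) : r ^ 2 ^ (n - 2) * s = s * r ^ 2 ^ (n - 2) := by
  rw [d.s_mul_pow, (d.zInv hn).inv_eq]

theorem z_ne_s (d : Dih n D r s) : r ^ 2 ^ (n - 2) ≠ s := fun e =>
  d.notMem (by rw [← e]; exact npow_mem_zpowers r _)

theorem z_mem (d : Dih n D r s) : r ^ 2 ^ (n - 2) ∈ D := pow_mem d.rmem _

/-- `z` is central -/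
theorem z_comm (d : Dih n D r s) (hn : 2 ≤ n) {x : G} (hx : x ∈ D) : r ^ 2 ^ (n - 2) * x = x * r ^ 2 ^ (n - 2) := by
  obtain ⟨i, rfl | rfl⟩ := d.exh x hx
  · rw [← pow_add, ← pow_add, add_comm]
  · rw [← mul_assoc, ← pow_add, add_comm, pow_add, mul_assoc, d.z_s hn, mul_assoc]

/-- four-groups in `D` -/
theorem exists_four_z (d : Dih n D r s) (hn : 2 ≤ n) :
    ∃ a ∈ D, ∃ b ∈ D, Inv a ∧ Inv b ∧ a ≠ b ∧ a * b = b * a :=
  ⟨_, d.z_mem, s, d.smem, d.zInv hn, d.sInv, d.z_ne_s, d.z_s hn⟩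

end Dih

/-- the outer involution `e` of a dihedral group -/
theorem DType.exists {n : ℕ} {D : Subgroup G} {e r s : G} (d : DType n D e r s) (hn : 2 ≤ n) (he : Inv e) :
    ∃ z, Inv z ∧ z ∈ D ∧ (∀ x ∈ D, x * e = e * x → x = 1 ∨ x = z) ∧ z * e = e * z ∧
      ∃ w ∈ D, w * e * w⁻¹ = e * z ∧ w * z = z * w := by
  have dd := d.dih
  have her : ∀ i : ℕ, e * r ^ i * e = (r ^ i)⁻¹ := by
    intro i
    have h1 : e * r ^ i * e = (e * r * e) ^ i := by
      induction i with
      | zero => simp [he.sq]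
      | succ i ih =>
        rw [pow_succ (e * r * e), ← ih, pow_succ]
        calc e * (r ^ i * r) * e = e * r ^ i * (e * e) * r * e := by rw [he.sq]; group
          _ = e * r ^ i * e * (e * r * e) := by group
    rw [h1, d.er, inv_pow]
  have her' : ∀ i : ℕ, e * r ^ i = (r ^ i)⁻¹ * e := by
    intro i
    calc e * r ^ i = e * r ^ i * (e * e) := by rw [he.sq, mul_one]
      _ = (e * r ^ i * e) * e := by group
      _ = (r ^ i)⁻¹ * e := by rw [her]
  refine ⟨r ^ 2 ^ (n - 2), dd.zInv hn, dd.z_mem, ?_, ?_, ?_⟩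
  · intro x hx hxe
    obtain ⟨i, rfl | rfl⟩ := dd.exh x hx
    · have h1 : r ^ (2 * i) = 1 := by
        rw [her' i] at hxe
        have h2 : r ^ i = (r ^ i)⁻¹ := mul_right_cancel hxe
        rw [two_mul, pow_add]
        nth_rewrite 1 [h2]
        exact inv_mul_cancel _
      have h2 := orderOf_dvd_of_pow_eq_one h1
      rw [dd.ord, show n - 1 = n - 2 + 1 by omega, pow_succ', Nat.mul_dvd_mul_iff_left (by norm_num)] at h2
      obtain ⟨k, rfl⟩ := h2
      rcases Nat.even_or_odd' k with ⟨m, rfl | rfl⟩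
      · left
        rw [show 2 ^ (n - 2) * (2 * m) = (2 ^ (n - 2) + 2 ^ (n - 2)) * m by ring, pow_mul, pow_add,
          (dd.zInv hn).sq, one_pow]
      · right
        rw [show 2 ^ (n - 2) * (2 * m + 1) = (2 ^ (n - 2) + 2 ^ (n - 2)) * m + 2 ^ (n - 2) by ring, pow_add,
          pow_mul, pow_add, (dd.zInv hn).sq, one_pow, one_mul]
    · exfalso
      have h1 : e * (r ^ i * s) * e = r ^ i * s := by rw [← hxe, mul_assoc, he.sq, mul_one]
      have sr : s * r = r⁻¹ * s := by simpa using dd.s_mul_pow 1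
      have h2 : e * (r ^ i * s) * e = (r ^ i)⁻¹ * r⁻¹ * s := by
        calc e * (r ^ i * s) * e = (e * r ^ i * e) * (e * s * e) := by
              have : (e * r ^ i * e) * (e * s * e) = e * r ^ i * (e * e) * s * e := by group
              rw [this, he.sq, mul_one]; group
          _ = (r ^ i)⁻¹ * (r⁻¹ * s) := by rw [her, d.es, sr]
          _ = (r ^ i)⁻¹ * r⁻¹ * s := by group
      have h3 : (r ^ i)⁻¹ * r⁻¹ = r ^ i := mul_right_cancel (h2.symm.trans h1)
      have h4 : r ^ (2 * i + 1) = 1 := by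
        rw [pow_succ, two_mul, pow_add]
        nth_rewrite 1 [← h3]
        group
      exact dd.pow_ne hn (by omega) h4
  · rw [her', (dd.zInv hn).inv_eq]
  · rcases Nat.lt_or_ge 2 n with h3 | h3
    · refine ⟨r ^ 2 ^ (n - 3), pow_mem dd.rmem _, ?_, by rw [← pow_add, ← pow_add, add_comm]⟩
      have h4 : r ^ 2 ^ (n - 3) * r ^ 2 ^ (n - 3) = r ^ 2 ^ (n - 2) := by
        rw [← pow_add, ← two_mul, ← pow_succ', show n - 3 + 1 = n - 2 by omega]
      have h5 : r ^ 2 ^ (n - 3) * e = e * (r ^ 2 ^ (n - 3))⁻¹ := by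
        have := her' (2 ^ (n - 3))
        rw [eq_mul_inv_iff_mul_eq]
        rw [mul_assoc, this]
        group
      rw [h5, mul_assoc, ← mul_inv_rev, h4, (dd.zInv hn).inv_eq]
    · have hn2 : n = 2 := by omega
      subst hn2
      refine ⟨s, dd.smem, ?_, ?_⟩
      · simp only [Nat.sub_self, pow_zero, pow_one]
        have h6 : r * r = 1 := by
          have := (dd.zInv hn).sq
          simpa using this
        have h7 : s * e = e * (s * r) := by
          calc s * e = (e * e) * s * e := by rw [he.sq, one_mul]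
            _ = e * (e * s * e) := by group
            _ = e * (s * r) := by rw [d.es]
        have h8 : s * r = r * s := by
          have := dd.rel
          calc s * r = s * r * (s * s) := by rw [dd.sq, mul_one]
            _ = (s * r * s) * s := by group
            _ = r * s := by rw [this, inv_eq_of_sq h6]
        rw [h7, h8, inv_eq_of_sq dd.sq, mul_assoc, mul_assoc, dd.sq, mul_one]
      · simpa using (dd.z_s hn).symm

/-! ### `T` Sylow in `C(t)` -/

namespace Sys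

variable {X : Set G} {K F : G → Subgroup G} {n : ℕ} (h : Sys X K F n)
include h

section

variable {t : G} {T : Subgroup G}

theorem mem_T [Finite G] (ht : t ∈ X) (hT : SylC t T) : t ∈ T := by
  apply hT.mem_of_normalizes (isPGroup_zpowers_of_sq (h.inv t ht).sq) rfl
  intro x hx
  rw [← hT.cent x hx]
  simpa using hx

theorem normF (ht : t ∈ X) (hT : SylC t T) : ∀ p ∈ T, ∀ q ∈ T ⊓ F t, p * q * p⁻¹ ∈ T ⊓ F t :=
  fun p hp _ hq => mem_inf.2 ⟨T.mul_mem (T.mul_mem hp (mem_inf.1 hq).1) (T.inv_mem hp),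
    h.conjF_self ht (hT.cent p hp) (mem_inf.1 hq).2⟩

theorem normK (ht : t ∈ X) (hT : SylC t T) : ∀ p ∈ T, ∀ q ∈ T ⊓ K t, p * q * p⁻¹ ∈ T ⊓ K t :=
  fun p hp _ hq => mem_inf.2 ⟨T.mul_mem (T.mul_mem hp (mem_inf.1 hq).1) (T.inv_mem hp),
    h.conjK_self ht (hT.cent p hp) (mem_inf.1 hq).2⟩

theorem comm_FK (ht : t ∈ X) (hT : SylC t T) {q d : G} (hq : q ∈ T ⊓ F t) (hd : d ∈ T ⊓ K t) : q * d = d * q :=
  h.commQD hT.two ht hq.1 hd.1 hq.2 hd.2

theorem eq_one_FK (ht : t ∈ X) (hT : SylC t T) {q : G} (hq : q ∈ T ⊓ F t) (hd : q ∈ K t) : q = 1 :=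
  h.disjQD hT.two ht hq.1 hd hq.2

theorem dec_comm (ht : t ∈ X) (hT : SylC t T) {x q d : G} (hx : x ∈ T) (hq : q ∈ T ⊓ F t) (hd : d ∈ T ⊓ K t)
    (hc : x * (q * d) = q * d * x) : x * q = q * x ∧ x * d = d * x := by
  have h1 : q⁻¹ * (x * q * x⁻¹) = d * (x * d * x⁻¹)⁻¹ := by
    have h2 : (x * q * x⁻¹) * (x * d * x⁻¹) = q * d := by
      calc (x * q * x⁻¹) * (x * d * x⁻¹) = x * (q * d) * x⁻¹ := by group
        _ = q * d := by rw [hc]; group
    rw [eq_mul_inv_iff_mul_eq, mul_assoc, h2]; group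
  have h3 : q⁻¹ * (x * q * x⁻¹) = 1 := by
    apply h.eq_one_FK ht hT (mul_mem (inv_mem hq) (h.normF ht hT x hx q hq))
    rw [h1]
    exact (mul_mem hd (inv_mem (h.normK ht hT x hx d hd)) : _ ∈ T ⊓ K t).2
  have h4 : d * (x * d * x⁻¹)⁻¹ = 1 := by rw [← h1, h3]
  constructor
  · have := inv_mul_eq_one.1 h3
    exact (mul_inv_eq_iff_eq_mul.1 this.symm)
  · have := mul_inv_eq_one.1 h4
    exact (mul_inv_eq_iff_eq_mul.1 this.symm)

theorem dec_sq (ht : t ∈ X) (hT : SylC t T) {q d : G} (hq : q ∈ T ⊓ F t) (hd : d ∈ T ⊓ K t)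
    (hc : q * d * (q * d) = 1) : q * q = 1 ∧ d * d = 1 := by
  have h0 := h.comm_FK ht hT hq hd
  have h1 : q * q = (d * d)⁻¹ := by
    rw [eq_inv_iff_mul_eq_one]
    calc q * q * (d * d) = q * (q * d) * d := by group
      _ = q * (d * q) * d := by rw [h0]
      _ = q * d * (q * d) := by group
      _ = 1 := hc
  have h3 : q * q = 1 := by
    apply h.eq_one_FK ht hT (mul_mem hq hq)
    rw [h1]
    exact (inv_mem (mul_mem hd hd) : _ ∈ T ⊓ K t).2
  refine ⟨h3, ?_⟩
  rw [h3] at h1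
  exact (inv_eq_one.1 h1.symm)

theorem exists_four_K (ht : t ∈ X) (hT : SylC t T) :
    ∃ a ∈ T ⊓ K t, ∃ b ∈ T ⊓ K t, Inv a ∧ Inv b ∧ a ≠ b ∧ a * b = b * a := by
  obtain ⟨r, s, d⟩ := h.dih t ht T hT
  exact d.exists_four_z h.two_le

theorem exists_inv_F [Finite G] (ht : t ∈ X) (hT : SylC t T) : ∃ a ∈ T ⊓ F t, Inv a ∧ a ≠ t := by
  obtain ⟨u, huF, hu, hne⟩ := h.rich t ht
  have hc : u * t = t * u := h.centF t ht u huF
  obtain ⟨T', hT', hle⟩ := exists_sylC (y := t) (P := zpowers u) (isPGroup_zpowers_of_sq hu.sq) (by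
    intro x hx
    obtain ⟨m, rfl⟩ := mem_zpowers_iff.1 hx
    exact ((show Commute u t from hc).zpow_left m).eq)
  obtain ⟨c, hc', hcT⟩ := hT'.exists_conj hT
  refine ⟨c * u * c⁻¹, mem_inf.2 ⟨?_, h.conjF_self ht hc' huF⟩, hu.conj c, ?_⟩
  · rw [← hcT, mem_map_conj]
    have := hle (mem_zpowers u)
    simpa [mul_assoc] using this
  · intro e
    apply hne
    calc u = c⁻¹ * (c * u * c⁻¹) * c := by group
      _ = c⁻¹ * (t * c) := by rw [e]; group
      _ = t := by rw [← hc']; group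

/-- `m_2(T ∩ F t) ≤ 2` -/
theorem rank_F [Finite G] (hr : RankFour G) (ht : t ∈ X) (hT : SylC t T) {a b c : G} (ha : a ∈ T ⊓ F t)
    (hb : b ∈ T ⊓ F t) (hc : c ∈ T ⊓ F t) (ia : Inv a) (ib : Inv b) (hab : a * b = b * a) (hne : a ≠ b)
    (hc2 : c * c = 1) (hca : c * a = a * c) (hcb : c * b = b * c) : c ∈ four a b ia ib hab := by
  by_contra hcon
  obtain ⟨u, hu, v, hv, iu, iv, huv, huv'⟩ := h.exists_four_K ht hT
  have hc1 : c ≠ 1 := fun e => hcon (Or.inl e)
  have hV : four a b ia ib hab ≤ T ⊓ F t := four_le ha hb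
  have hU : four u v iu iv huv' ≤ T ⊓ K t := four_le hu hv
  refine no_rank_five hr (V := four a b ia ib hab) (U := four u v iu iv huv') (e := c) (card_four hne)
    (card_four huv) four_sq four_sq ⟨hc2, hc1⟩ (fun x hx y hy => h.comm_FK ht hT (hV hx) (hU hy)) ?_ ?_ ?_ ?_
  · rintro x (rfl | rfl | rfl | rfl)
    · rw [one_mul, mul_one]
    · exact hca.symm
    · exact hcb.symm
    · rw [mul_assoc, ← hcb, ← mul_assoc, ← hca, mul_assoc]
  · intro x hx
    exact (h.comm_FK ht hT hc (hU hx)).symm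
  · intro x hx hx'
    exact h.eq_one_FK ht hT (hV hx) (hU hx').2
  · intro x hx y hy e
    apply hcon
    have h1 : y = 1 := by
      have h2 : y = x⁻¹ * c := by rw [e]; group
      have h3 : y ∈ T ⊓ F t := by rw [h2]; exact mul_mem (inv_mem (hV hx)) hc
      exact h.eq_one_FK ht hT h3 (hU hy).2
    rw [e, h1, mul_one]
    exact hx

theorem card_F [Finite G] (hr : RankFour G) (ht : t ∈ X) (hT : SylC t T) {A : Subgroup G} (hA : A ≤ T ⊓ F t)
    (hA2 : ∀ a ∈ A, a * a = 1) : Nat.card A ≤ 4 := by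
  obtain ⟨u, hu, v, hv, iu, iv, huv, huv'⟩ := h.exists_four_K ht hT
  have hU : four u v iu iv huv' ≤ T ⊓ K t := four_le hu hv
  have hcomm : ∀ a ∈ A, ∀ b ∈ four u v iu iv huv', a * b = b * a := fun a ha b hb =>
    h.comm_FK ht hT (hA ha) (hU hb)
  have h1 := card_sup_comm hcomm (fun x hx hx' => h.eq_one_FK ht hT (hA hx) (hU hx').2)
  rw [card_four huv] at h1
  have h2 := card_le_of_elem hr (elem_sup hcomm hA2 four_sq)
  omega

theorem card_K [Finite G] (hr : RankFour G) (ht : t ∈ X) (hT : SylC t T) {A : Subgroup G} (hA : A ≤ T ⊓ K t)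
    (hA2 : ∀ a ∈ A, a * a = 1) : Nat.card A ≤ 4 := by
  obtain ⟨u, hu, iu, hut⟩ := h.exists_inv_F ht hT
  have ht' : t ∈ T ⊓ F t := ⟨h.mem_T ht hT, h.self t ht⟩
  have hc : t * u = u * t := (h.centF t ht u hu.2).symm
  have hU : four t u (h.inv t ht) iu hc ≤ T ⊓ F t := four_le ht' hu
  have hcomm : ∀ a ∈ A, ∀ b ∈ four t u (h.inv t ht) iu hc, a * b = b * a := fun a ha b hb =>
    (h.comm_FK ht hT (hU hb) (hA ha)).symm
  have h1 := card_sup_comm hcomm (fun x hx hx' => h.eq_one_FK ht hT (hU hx') (hA hx).2)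
  rw [card_four hut.symm] at h1
  have h2 := card_le_of_elem hr (elem_sup hcomm hA2 four_sq)
  omega

/-- an involution `e` of f-type commutes with at most one involution of `T ∩ F t` -/
theorem ftype_unique [Finite G] (hr : RankFour G) (ht : t ∈ X) (hT : SylC t T) {e a b : G} (ie : Inv e)
    (hin : ¬ Inner K F t e) (hf : FType (T ⊓ K t) e) (ha : a ∈ T ⊓ F t) (hb : b ∈ T ⊓ F t) (ia : Inv a) (ib : Inv b)
    (hab : a * b = b * a) (hae : a * e = e * a) (hbe : b * e = e * b) : a = b := by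
  by_contra hne
  obtain ⟨u, hu, v, hv, iu, iv, huv, huv', heu, hev⟩ := hf
  have hV : four a b ia ib hab ≤ T ⊓ F t := four_le ha hb
  have hU : four u v iu iv huv' ≤ T ⊓ K t := four_le hu hv
  refine no_rank_five hr (V := four a b ia ib hab) (U := four u v iu iv huv') (e := e) (card_four hne)
    (card_four huv) four_sq four_sq ie (fun x hx y hy => h.comm_FK ht hT (hV hx) (hU hy)) ?_ ?_ ?_ ?_
  · rintro x (rfl | rfl | rfl | rfl)
    · rw [one_mul, mul_one]
    · exact hae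
    · exact hbe
    · rw [mul_assoc, hbe, ← mul_assoc, hae, mul_assoc]
  · rintro x (rfl | rfl | rfl | rfl)
    · rw [one_mul, mul_one]
    · exact heu.symm
    · exact hev.symm
    · rw [mul_assoc, ← hev, ← mul_assoc, ← heu, mul_assoc]
  · intro x hx hx'
    exact h.eq_one_FK ht hT (hV hx) (hU hx').2
  · intro x hx y hy e'
    exact hin ⟨x, (hV hx).2, y, (hU hy).2, e'⟩

/-- projections of an elementary abelian subgroup of inner elements -/
theorem proj (ht : t ∈ X) (hT : SylC t T) {A : Subgroup G} (hA : A ≤ T) (hA2 : ∀ a ∈ A, a * a = 1)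
    (hin : ∀ a ∈ A, Inner K F t a) :
    ∃ Q D : Subgroup G, Q ≤ T ⊓ F t ∧ D ≤ T ⊓ K t ∧ (∀ q ∈ Q, q * q = 1) ∧ (∀ d ∈ D, d * d = 1) ∧
      (∀ q ∈ Q, ∃ d ∈ D, q * d ∈ A) ∧ (∀ d ∈ D, ∃ q ∈ Q, q * d ∈ A) ∧ (∀ a ∈ A, ∃ q ∈ Q, ∃ d ∈ D, a = q * d) ∧
      (∀ x ∈ T, (∀ a ∈ A, x * a = a * x) → (∀ q ∈ Q, x * q = q * x) ∧ (∀ d ∈ D, x * d = d * x)) := by
  let Q : Subgroup G :=
    { carrier := {q | q ∈ T ⊓ F t ∧ ∃ d ∈ T ⊓ K t, q * d ∈ A}
      one_mem' := ⟨one_mem _, 1, one_mem _, by rw [one_mul]; exact one_mem _⟩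
      mul_mem' := by
        rintro x y ⟨hx, d, hd, hxd⟩ ⟨hy, d', hd', hyd⟩
        refine ⟨mul_mem hx hy, d * d', mul_mem hd hd', ?_⟩
        have : x * y * (d * d') = (x * d) * (y * d') := by
          calc x * y * (d * d') = x * (y * d) * d' := by group
            _ = x * (d * y) * d' := by rw [h.comm_FK ht hT hy hd]
            _ = (x * d) * (y * d') := by group
        rw [this]; exact mul_mem hxd hyd
      inv_mem' := by
        rintro x ⟨hx, d, hd, hxd⟩
        refine ⟨inv_mem hx, d⁻¹, inv_mem hd, ?_⟩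
        have : x⁻¹ * d⁻¹ = (x * d)⁻¹ := by rw [h.comm_FK ht hT hx hd, mul_inv_rev]
        rw [this]; exact inv_mem hxd }
  let D : Subgroup G :=
    { carrier := {d | d ∈ T ⊓ K t ∧ ∃ q ∈ T ⊓ F t, q * d ∈ A}
      one_mem' := ⟨one_mem _, 1, one_mem _, by rw [one_mul]; exact one_mem _⟩
      mul_mem' := by
        rintro d d' ⟨hd, x, hx, hxd⟩ ⟨hd', y, hy, hyd⟩
        refine ⟨mul_mem hd hd', x * y, mul_mem hx hy, ?_⟩
        have : x * y * (d * d') = (x * d) * (y * d') := by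
          calc x * y * (d * d') = x * (y * d) * d' := by group
            _ = x * (d * y) * d' := by rw [h.comm_FK ht hT hy hd]
            _ = (x * d) * (y * d') := by group
        rw [this]; exact mul_mem hxd hyd
      inv_mem' := by
        rintro d ⟨hd, x, hx, hxd⟩
        refine ⟨inv_mem hd, x⁻¹, inv_mem hx, ?_⟩
        have : x⁻¹ * d⁻¹ = (x * d)⁻¹ := by rw [h.comm_FK ht hT hx hd, mul_inv_rev]
        rw [this]; exact inv_mem hxd }
  refine ⟨Q, D, fun q hq => hq.1, fun d hd => hd.1, ?_, ?_, ?_, ?_, ?_, ?_⟩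
  · rintro q ⟨hq, d, hd, hqd⟩
    exact (h.dec_sq ht hT hq hd (hA2 _ hqd)).1
  · rintro d ⟨hd, q, hq, hqd⟩
    exact (h.dec_sq ht hT hq hd (hA2 _ hqd)).2
  · rintro q ⟨hq, d, hd, hqd⟩
    exact ⟨d, ⟨hd, q, hq, hqd⟩, hqd⟩
  · rintro d ⟨hd, q, hq, hqd⟩
    exact ⟨q, ⟨hq, d, hd, hqd⟩, hqd⟩
  · intro a ha
    obtain ⟨q, hq, d, hd, rfl⟩ := h.split t ht T hT a (hA ha) (hin a ha)
    exact ⟨q, ⟨hq, d, hd, ha⟩, d, ⟨hd, q, hq, ha⟩, rfl⟩
  · intro x hx hxA
    constructor
    · rintro q ⟨hq, d, hd, hqd⟩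
      exact (h.dec_comm ht hT hx hq hd (hxA _ hqd)).1
    · rintro d ⟨hd, q, hq, hqd⟩
      exact (h.dec_comm ht hT hx hq hd (hxA _ hqd)).2

/-- if the projections are not larger than `A`, they lie in `A` -/
theorem proj_le [Finite G] (ht : t ∈ X) (hT : SylC t T) {A Q D : Subgroup G} (hQ : Q ≤ T ⊓ F t) (hD : D ≤ T ⊓ K t)
    (hA : ∀ a ∈ A, ∃ q ∈ Q, ∃ d ∈ D, a = q * d) (hc : Nat.card Q * Nat.card D ≤ Nat.card A) :
    Q ≤ A ∧ D ≤ A ∧ Nat.card Q * Nat.card D = Nat.card A := by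
  have hcomm : ∀ q ∈ Q, ∀ d ∈ D, q * d = d * q := fun q hq d hd => h.comm_FK ht hT (hQ hq) (hD hd)
  have h1 := card_sup_comm hcomm (fun x hx hx' => h.eq_one_FK ht hT (hQ hx) (hD hx').2)
  have hle : A ≤ Q ⊔ D := fun a ha => (mem_sup_comm hcomm).2 (hA a ha)
  have heq : A = Q ⊔ D := eq_of_le_of_card_ge hle (by rw [h1]; exact hc)
  rw [heq]
  exact ⟨le_sup_left, le_sup_right, h1.symm⟩

end

end Sys

end Cfsg.Agent.GH.TOne
end

-- part: GH/TOne/LemP
section
prune_inst 0x4146075445d2202000018051270003e66ea000502006b8401fda10f020fcfff63ad432761fcb01f135912aae440388068139800594018000020208200411901a0842972e61374bd0437000fc0f887180c00000000000000000000000000041000000000000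
set_option linter.all false
open scoped Cfsg.Agent.FastGrp

/-!
# Lemma P of `blueprints/GH-L2-T1.md` and the rank argument behind it
-/

set_option autoImplicit false

namespace Cfsg.Agent.GH.TOne

open Subgroup
open Cfsg.Agent.TwoFusion.SectionalRank

variable {G : Type*} [Group G]

namespace LemP

/-- `h` commutes with `g` modulo `⟨z⟩` (and with `z`). -/
def cmod (z g : G) (hz : z * z = 1) : Subgroup G where
  carrier := {h | h * z = z * h ∧ (g * h = h * g ∨ g * h = h * g * z)}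
  one_mem' := ⟨by rw [one_mul, mul_one], Or.inl (by rw [one_mul, mul_one])⟩
  mul_mem' := by
    rintro a b ⟨ha, ha'⟩ ⟨hb, hb'⟩
    refine ⟨by rw [mul_assoc, hb, ← mul_assoc, ha, mul_assoc], ?_⟩
    have hza : z * a = a * z := ha.symm
    rcases ha' with ha' | ha' <;> rcases hb' with hb' | hb'
    · left
      rw [← mul_assoc, ha', mul_assoc, hb', ← mul_assoc]
    · right
      rw [← mul_assoc, ha', mul_assoc, hb', ← mul_assoc, ← mul_assoc]
    · right
      calc g * (a * b) = (g * a) * b := by group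
        _ = a * g * (z * b) := by rw [ha']; group
        _ = a * (g * b) * z := by rw [← hb]; group
        _ = a * b * g * z := by rw [hb']; group
    · left
      calc g * (a * b) = (g * a) * b := by group
        _ = a * g * (z * b) := by rw [ha']; group
        _ = a * (g * b) * z := by rw [← hb]; group
        _ = a * b * g * (z * z) := by rw [hb']; group
        _ = a * b * g := by rw [hz, mul_one]
  inv_mem' := by
    rintro a ⟨ha, ha'⟩
    have hza : a⁻¹ * z = z * a⁻¹ := by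
      rw [inv_mul_eq_iff_eq_mul, ← mul_assoc, ha]; group
    refine ⟨hza, ?_⟩
    rcases ha' with ha' | ha'
    · left
      calc g * a⁻¹ = a⁻¹ * (a * g) * a⁻¹ := by group
        _ = a⁻¹ * g := by rw [← ha']; group
    · right
      have h1 : g * a * z = a * g := by
        rw [ha', mul_assoc, hz, mul_one]
      calc g * a⁻¹ = a⁻¹ * (a * g) * a⁻¹ := by group
        _ = a⁻¹ * g * a * (z * a⁻¹) := by rw [← h1]; group
        _ = a⁻¹ * g * z := by rw [← hza]; group

/-- A subgroup generated by elements which commute with each other modulo `⟨z⟩` and square into `⟨z⟩`. -/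
theorem elemSection_closure {z : G} (hz : z * z = 1) {S : Set G} (hzS : z ∈ S)
    (hc : ∀ x ∈ S, x * z = z * x) (hcc : ∀ x ∈ S, ∀ y ∈ S, x * y = y * x ∨ x * y = y * x * z)
    (hsq : ∀ x ∈ S, x * x = 1 ∨ x * x = z) : ElemSection 2 (closure S) (zpowers z) := by
  have hcz : ∀ x ∈ closure S, x * z = z * x := by
    intro x hx
    have h1 : closure S ≤ centralizer {z} := by
      rw [closure_le]
      intro y hy
      exact mem_centralizer_singleton_iff.2 (hc y hy)
    exact mem_centralizer_singleton_iff.1 (h1 hx)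
  have h1 : ∀ x ∈ S, ∀ y ∈ closure S, x * y = y * x ∨ x * y = y * x * z := by
    intro x hx y hy
    have hle : closure S ≤ cmod z x hz := by
      rw [closure_le]
      intro w hw
      exact ⟨hc w hw, hcc x hx w hw⟩
    exact (hle hy).2
  have h2 : ∀ x ∈ closure S, ∀ y ∈ closure S, y * x = x * y ∨ y * x = x * y * z := by
    intro x hx y hy
    have hle : closure S ≤ cmod z y hz := by
      rw [closure_le]
      intro w hw
      refine ⟨hc w hw, ?_⟩
      rcases h1 w hw y hy with h | h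
      · left; exact h.symm
      · right
        rw [h, mul_assoc, hz, mul_one]
    exact (hle hx).2
  have hmz : ∀ x : G, x = 1 ∨ x = z → x ∈ zpowers z := by
    rintro x (rfl | rfl)
    · exact one_mem _
    · exact mem_zpowers _
  have h3 : ∀ x ∈ closure S, x * x = 1 ∨ x * x = z := by
    intro x hx
    induction hx using closure_induction with
    | mem x hx => exact hsq x hx
    | one => left; exact one_mul _
    | mul a b ha hb iha ihb =>
      have hab := h2 a ha b hb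
      have e : a * b * (a * b) = a * (b * a) * b := by group
      have hzb : z * b = b * z := (hcz b hb).symm
      rcases hab with h | h
      · rw [e, h]
        have e2 : a * (a * b) * b = (a * a) * (b * b) := by group
        rw [e2]
        rcases iha with h1 | h1 <;> rcases ihb with h2 | h2 <;> rw [h1, h2] <;> simp [hz]
      · rw [e, h]
        have e2 : a * (a * b * z) * b = (a * a) * (b * b) * z := by
          calc a * (a * b * z) * b = (a * a) * b * (z * b) := by group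
            _ = (a * a) * (b * b) * z := by rw [hzb]; group
        rw [e2]
        rcases iha with h1 | h1 <;> rcases ihb with h2 | h2 <;> rw [h1, h2] <;> simp [hz]
    | inv a ha iha =>
      have e : a⁻¹ * a⁻¹ = (a * a)⁻¹ := by group
      rw [e]
      rcases iha with h1 | h1
      · left; rw [h1, inv_one]
      · right; rw [h1]; exact inv_eq_of_mul_eq_one_left hz
  refine ⟨?_, ?_, ?_⟩
  · rw [zpowers_le]; exact subset_closure hzS
  · intro a ha b hb
    rcases h2 b hb a ha with h | h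
    · have : a * b * a⁻¹ * b⁻¹ = 1 := by rw [h]; group
      rw [this]; exact one_mem _
    · have : a * b * a⁻¹ * b⁻¹ = z := by
        rw [h]
        calc b * a * z * a⁻¹ * b⁻¹ = b * (a * z) * a⁻¹ * b⁻¹ := by group
          _ = (b * z) * a * a⁻¹ * b⁻¹ := by rw [hcz a ha]; group
          _ = z := by rw [hcz b hb]; group
      rw [this]; exact mem_zpowers _
  · intro a ha
    rw [pow_two]
    exact hmz _ (h3 a ha)

theorem two_mul_card_le [Finite G] {Y Z : Subgroup G} (h : Y ≤ Z) {x : G} (hx : x ∈ Z) (hxY : x ∉ Y) :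
    2 * Nat.card Y ≤ Nat.card Z := by
  have h1 := relIndex_mul_relIndex ⊥ Y Z bot_le h
  rw [relIndex_bot_left, relIndex_bot_left] at h1
  have h2 : Y.relIndex Z ≠ 1 := by
    intro h3
    rw [relIndex_eq_one] at h3
    exact hxY (h3 hx)
  have h3 : Y.relIndex Z ≠ 0 := by
    intro h4
    rw [h4, mul_zero] at h1
    exact (Nat.card_pos (α := Z)).ne h1
  rw [← h1, mul_comm]
  exact Nat.mul_le_mul_left _ (by omega)

/-- five independent elements modulo `⟨z⟩` -/
theorem kill_five [Finite G] (hr : RankFour G) {z x₁ x₂ x₃ x₄ x₅ : G} (hz : z * z = 1)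
    (hc : ∀ x ∈ ({x₁, x₂, x₃, x₄, x₅} : Set G), x * z = z * x)
    (hcc : ∀ x ∈ ({x₁, x₂, x₃, x₄, x₅} : Set G), ∀ y ∈ ({x₁, x₂, x₃, x₄, x₅} : Set G),
      x * y = y * x ∨ x * y = y * x * z)
    (hsq : ∀ x ∈ ({x₁, x₂, x₃, x₄, x₅} : Set G), x * x = 1 ∨ x * x = z)
    {H₀ H₁ H₂ H₃ H₄ : Subgroup G} (h₀ : z ∈ H₀) (h₀₁ : H₀ ≤ H₁) (h₁ : x₁ ∈ H₁) (h₁₂ : H₁ ≤ H₂)
    (h₂ : x₂ ∈ H₂) (h₂₃ : H₂ ≤ H₃) (h₃ : x₃ ∈ H₃) (h₃₄ : H₃ ≤ H₄) (h₄ : x₄ ∈ H₄)
    (n₁ : x₁ ∉ H₀) (n₂ : x₂ ∉ H₁) (n₃ : x₃ ∉ H₂) (n₄ : x₄ ∉ H₃) (n₅ : x₅ ∉ H₄) : False := by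
  have key : ElemSection 2 (closure (insert z ({x₁, x₂, x₃, x₄, x₅} : Set G))) (zpowers z) := by
    refine elemSection_closure hz (Set.mem_insert _ _) ?_ ?_ ?_
    · rintro x (rfl | hx)
      · rfl
      · exact hc x hx
    · rintro x (rfl | hx) y (rfl | hy)
      · left; rfl
      · left; exact (hc y hy).symm
      · left; exact hc x hx
      · exact hcc x hx y hy
    · rintro x (rfl | hx)
      · left; exact hz
      · exact hsq x hx
  have h5 := hr _ _ key
  set E := closure (insert z ({x₁, x₂, x₃, x₄, x₅} : Set G)) with hE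
  have mz : z ∈ E := subset_closure (Set.mem_insert _ _)
  have m1 : x₁ ∈ E := subset_closure (by simp)
  have m2 : x₂ ∈ E := subset_closure (by simp)
  have m3 : x₃ ∈ E := subset_closure (by simp)
  have m4 : x₄ ∈ E := subset_closure (by simp)
  have m5 : x₅ ∈ E := subset_closure (by simp)
  have c0 : Nat.card (zpowers z) ≤ Nat.card (H₀ ⊓ E : Subgroup G) :=
    card_le_of_le (zpowers_le.2 ⟨h₀, mz⟩)
  have c1 := two_mul_card_le (inf_le_inf_right E h₀₁) (x := x₁) ⟨h₁, m1⟩ (fun h => n₁ h.1)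
  have c2 := two_mul_card_le (inf_le_inf_right E h₁₂) (x := x₂) ⟨h₂, m2⟩ (fun h => n₂ h.1)
  have c3 := two_mul_card_le (inf_le_inf_right E h₂₃) (x := x₃) ⟨h₃, m3⟩ (fun h => n₃ h.1)
  have c4 := two_mul_card_le (inf_le_inf_right E h₃₄) (x := x₄) ⟨h₄, m4⟩ (fun h => n₄ h.1)
  have c5 := two_mul_card_le (inf_le_right : H₄ ⊓ E ≤ E) (x := x₅) m5 (fun h => n₅ h.1)
  have cp : 0 < Nat.card (zpowers z) := Nat.card_pos
  omega

end LemP

end Cfsg.Agent.GH.TOne
end

-- part: GH/TOne/LemmaR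
section
prune_inst 0x4047070445922020000000512700022045800050200608401fde10f020a4ef3628d4221404c801d135802aa800000006002980050001000000020000000050120802a5204937c0d0426000f803087180c00000000000000000000000000041000000000000
set_option linter.all false
open scoped Cfsg.Agent.FastGrp

/-!
# Lemma R
-/

set_option autoImplicit false

namespace Cfsg.Agent.GH.TOne

open Subgroup

variable {G : Type*} [Group G]

/-! ### facts on pairs -/

namespace Pair

variable {X : Set G} {K F : G → Subgroup G} {n : ℕ} {V U : Subgroup G} {y : G}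

theorem disj (p : Pair X K F V U y) (h : Sys X K F n) : ∀ x ∈ V, x ∈ U → x = 1 := fun x hx hx' =>
  h.disj y p.yX x (p.UK hx') (p.VF hx) (p.eV x hx)

theorem mem (p : Pair X K F V U y) {x : G} : x ∈ V ⊔ U ↔ ∃ v ∈ V, ∃ u ∈ U, x = v * u := mem_sup_comm p.comm

theorem sq (p : Pair X K F V U y) : ∀ x ∈ V ⊔ U, x * x = 1 := elem_sup p.comm p.eV p.eU

theorem card (p : Pair X K F V U y) (h : Sys X K F n) : Nat.card (V ⊔ U : Subgroup G) = 16 := by
  rw [card_sup_comm p.comm (p.disj h), p.cV, p.cU]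

theorem ecomm (p : Pair X K F V U y) {a b : G} (ha : a ∈ V ⊔ U) (hb : b ∈ V ⊔ U) : a * b = b * a :=
  comm_of_sq p.sq ha hb

theorem vX (p : Pair X K F V U y) (h : Sys X K F n) {v : G} (hv : v ∈ V) (hv1 : v ≠ 1) : v ∈ X :=
  h.closed y p.yX v (p.VF hv) ⟨p.eV v hv, hv1⟩

theorem vF (p : Pair X K F V U y) (h : Sys X K F n) {v v' : G} (hv : v ∈ V) (hv1 : v ≠ 1) (hv' : v' ∈ V) :
    v' ∈ F v :=
  h.share y p.yX v (p.vX h hv hv1) (p.VF hv) v' (comm_of_sq p.eV hv' p.yV) (comm_of_sq p.eV hv' hv) (p.VF hv')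

theorem uK (p : Pair X K F V U y) (h : Sys X K F n) {v u : G} (hv : v ∈ V) (hv1 : v ≠ 1) (hu : u ∈ U) :
    u ∈ K v :=
  h.shareK y p.yX v (p.vX h hv hv1) (p.VF hv) u (p.comm y p.yV u hu).symm (p.comm v hv u hu).symm
    (isPGroup_zpowers_of_sq (p.eU u hu)) (p.UK hu)

theorem change (p : Pair X K F V U y) (h : Sys X K F n) {v : G} (hv : v ∈ V) (hv1 : v ≠ 1) :
    Pair X K F V U v :=
  ⟨p.vX h hv hv1, hv, fun _ hx => p.vF h hv hv1 hx, fun _ hx => p.uK h hv hv1 hx, p.cV, p.cU, p.eV, p.eU, p.comm⟩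

/-- `F v ∩ (V × U) = V` -/
theorem mem_V (p : Pair X K F V U y) (h : Sys X K F n) {v x : G} (hv : v ∈ V) (hv1 : v ≠ 1) (hx : x ∈ V ⊔ U)
    (hF : x ∈ F v) : x ∈ V := by
  obtain ⟨v', hv', u, hu, rfl⟩ := p.mem.1 hx
  have h1 : u ∈ F v := by
    have := mul_mem (inv_mem (p.vF h hv hv1 hv')) hF
    rwa [inv_mul_cancel_left] at this
  have h2 : u = 1 := h.disj v (p.vX h hv hv1) u (p.uK h hv hv1 hu) h1 (p.eU u hu)
  rw [h2, mul_one]; exact hv'

theorem isPGroup_V (p : Pair X K F V U y) : IsPGroup 2 V := by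
  rintro ⟨x, hx⟩
  refine ⟨1, Subtype.ext ?_⟩
  rw [pow_one, pow_two]
  exact p.eV x hx

theorem isPGroup (p : Pair X K F V U y) : IsPGroup 2 (V ⊔ U : Subgroup G) := by
  rintro ⟨x, hx⟩
  refine ⟨1, Subtype.ext ?_⟩
  rw [pow_one, pow_two]
  exact p.sq x hx

/-- the element `ρ_U` -/
theorem rho (p : Pair X K F V U y) (h : Sys X K F n) : ∃ c : G, (∀ v ∈ V, c * v = v * c) ∧
    (∀ u ∈ U, c * u * c⁻¹ ∈ U) ∧ (∀ u ∈ U, u ≠ 1 → u ≠ c * u * c⁻¹) := by
  obtain ⟨a, ha, ha1, -⟩ := exists_ne_of_card_four p.cU 1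
  obtain ⟨b, hb, hb1, hba⟩ := exists_ne_of_card_four p.cU a
  have ia : Inv a := ⟨p.eU a ha, ha1⟩
  have ib : Inv b := ⟨p.eU b hb, hb1⟩
  have hc := comm_of_sq p.eU ha hb
  have hU := eq_four p.cU ia ib hc ha hb hba.symm
  obtain ⟨c, h1, h2, h3⟩ := h.rho y p.yX a (p.UK ha) b (p.UK hb) ia ib hba.symm hc V p.isPGroup_V p.VF
    (fun v hv => ⟨p.comm v hv a ha, p.comm v hv b hb⟩)
  have h4 : c * (a * b) * c⁻¹ = a := by
    calc c * (a * b) * c⁻¹ = (c * a * c⁻¹) * (c * b * c⁻¹) := by group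
      _ = b * (a * b) := by rw [h1, h2]
      _ = a := by rw [hc, ← mul_assoc, ib.sq, one_mul]
  refine ⟨c, h3, ?_, ?_⟩
  · intro u hu
    rw [← hU] at hu ⊢
    rcases hu with rfl | rfl | rfl | rfl
    · rw [mul_one, mul_inv_cancel]; exact one_mem _
    · rw [h1]; exact right_mem_four
    · rw [h2]; exact mul_mem left_mem_four right_mem_four
    · rw [h4]; exact left_mem_four
  · intro u hu hu1
    rw [← hU] at hu
    rcases hu with rfl | rfl | rfl | rfl
    · exact absurd rfl hu1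
    · rw [h1]; exact hba.symm
    · rw [h2]; intro e; exact ia.ne (mul_eq_right.1 e.symm)
    · rw [h4]; intro e; exact ib.ne (mul_eq_left.1 e)

/-- a subgroup of order four of `V × U` invariant under `ρ` is `V` or `U` -/
theorem inv_four (p : Pair X K F V U y) {c : G} (hcV : ∀ v ∈ V, c * v = v * c) (hcU : ∀ u ∈ U, c * u * c⁻¹ ∈ U)
    (hcU' : ∀ u ∈ U, u ≠ 1 → u ≠ c * u * c⁻¹) {M : Subgroup G} (hM : M ≤ V ⊔ U) (hM4 : Nat.card M = 4)
    (hMc : ∀ m ∈ M, c * m * c⁻¹ ∈ M) : M = V ∨ M = U := by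
  have hfin : Finite U := Nat.finite_of_card_ne_zero (by rw [p.cU]; norm_num)
  have hfinV : Finite V := Nat.finite_of_card_ne_zero (by rw [p.cV]; norm_num)
  have hfinM : Finite M := Nat.finite_of_card_ne_zero (by rw [hM4]; norm_num)
  by_cases hex : ∃ m ∈ M, m ∉ V
  · right
    obtain ⟨m, hm, hmV⟩ := hex
    obtain ⟨v, hv, u, hu, rfl⟩ := p.mem.1 (hM hm)
    have hu1 : u ≠ 1 := fun e => hmV (by rw [e, mul_one]; exact hv)
    have h1 : c * (v * u) * c⁻¹ = v * (c * u * c⁻¹) := by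
      calc c * (v * u) * c⁻¹ = (c * v) * u * c⁻¹ := by group
        _ = v * (c * u * c⁻¹) := by rw [hcV v hv]; group
    have h2 : u * (c * u * c⁻¹) ∈ M := by
      have h3 := mul_mem hm (hMc _ hm)
      rw [h1] at h3
      have h4 : v * u * (v * (c * u * c⁻¹)) = u * (c * u * c⁻¹) := by
        calc v * u * (v * (c * u * c⁻¹)) = v * (u * v) * (c * u * c⁻¹) := by group
          _ = (v * v) * u * (c * u * c⁻¹) := by rw [← p.comm v hv u hu]; group
          _ = u * (c * u * c⁻¹) := by rw [p.eV v hv, one_mul]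
      rwa [h4] at h3
    set w := u * (c * u * c⁻¹) with hw
    have hwU : w ∈ U := mul_mem hu (hcU u hu)
    have hw1 : w ≠ 1 := by
      intro e
      apply hcU' u hu hu1
      have := eq_inv_of_mul_eq_one_left e
      rwa [inv_eq_of_sq (p.eU _ (hcU u hu))] at this
    have hw2 : c * w * c⁻¹ ∈ U := hcU w hwU
    have hw3 : c * w * c⁻¹ ≠ 1 := by
      intro e
      apply hw1
      calc w = c⁻¹ * (c * w * c⁻¹) * c := by group
        _ = 1 := by rw [e]; group
    have i1 : Inv w := ⟨p.eU w hwU, hw1⟩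
    have i2 : Inv (c * w * c⁻¹) := ⟨p.eU _ hw2, hw3⟩
    have hU := eq_four p.cU i1 i2 (comm_of_sq p.eU hwU hw2) hwU hw2 (hcU' w hwU hw1)
    have hle : U ≤ M := by
      rw [← hU]
      exact four_le h2 (hMc _ h2)
    exact (eq_of_le_of_card_ge hle (by rw [hM4, p.cU])).symm
  · left
    push Not at hex
    exact eq_of_le_of_card_ge hex (by rw [hM4, p.cV])

/-- a transvection of `V × U` (with axis `E₀` and centre `z`) -/
theorem transv (p : Pair X K F V U y) (h : Sys X K F n) (h1 : AllTOne X K F) {E₀ : Subgroup G} {w z e : G}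
    (hz : z ∈ V ⊔ U) (hz1 : z ≠ 1) (he : e ∈ V ⊔ U) (heE : e ∉ E₀) (hw1 : ∀ x ∈ V ⊔ U, x ∈ E₀ → w * x = x * w)
    (hw2 : ∀ x ∈ V ⊔ U, x ∉ E₀ → w * x * w⁻¹ = x * z) :
    (z ∈ V ∧ U ≤ E₀ ∧ ∀ v ∈ V, v ∈ E₀ → v = 1 ∨ v = z) ∨ (z ∈ U ∧ V ≤ E₀ ∧ ∀ u ∈ U, u ∈ E₀ → u = 1 ∨ u = z) := by
  have hno : ¬ (V ≤ E₀ ∧ U ≤ E₀) := fun hc => heE ((sup_le hc.1 hc.2) he)
  have hnorm : ∀ x ∈ V ⊔ U, w * x * w⁻¹ ∈ V ⊔ U := by
    intro x hx
    by_cases hx0 : x ∈ E₀
    · rw [hw1 x hx hx0]; simpa using hx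
    · rw [hw2 x hx hx0]; exact mul_mem hx hz
  obtain ⟨hV, hU⟩ := h1 V U y p w hnorm
  have hiz : Inv z := ⟨p.sq z hz, hz1⟩
  by_cases hzV : z ∈ V
  · left
    have hUE : U ≤ E₀ := by
      intro u hu
      by_contra hcon
      have h2 := hU u hu
      rw [hw2 u (mem_sup_right hu) hcon] at h2
      have h3 : z ∈ U := by
        have := mul_mem (inv_mem hu) h2
        rwa [inv_mul_cancel_left] at this
      exact hz1 (p.disj h z hzV h3)
    refine ⟨hzV, hUE, fun v hv hvE => ?_⟩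
    by_contra hcon
    push Not at hcon
    refine hno ⟨?_, hUE⟩
    have h2 := eq_four p.cV hiz ⟨p.eV v hv, hcon.1⟩ (comm_of_sq p.eV hzV hv) hzV hv (Ne.symm hcon.2)
    have hzE : z ∈ E₀ := by
      -- otherwise `z` is not centralized by `w`
      by_contra hzE
      have h3 := hw2 z hz hzE
      rw [hiz.sq] at h3
      exact (hiz.conj w).ne h3
    rw [← h2]
    exact four_le hzE hvE
  · right
    have hVE : V ≤ E₀ := by
      intro v hv
      by_contra hcon
      have h2 := hV v hv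
      rw [hw2 v (mem_sup_left hv) hcon] at h2
      apply hzV
      have := mul_mem (inv_mem hv) h2
      rwa [inv_mul_cancel_left] at this
    have hzU : z ∈ U := by
      by_contra hzU
      refine hno ⟨hVE, fun u hu => ?_⟩
      by_contra hcon
      have h2 := hU u hu
      rw [hw2 u (mem_sup_right hu) hcon] at h2
      apply hzU
      have := mul_mem (inv_mem hu) h2
      rwa [inv_mul_cancel_left] at this
    refine ⟨hzU, hVE, fun u hu huE => ?_⟩
    by_contra hcon
    push Not at hcon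
    refine hno ⟨hVE, ?_⟩
    have h2 := eq_four p.cU hiz ⟨p.eU u hu, hcon.1⟩ (comm_of_sq p.eU hzU hu) hzU hu (Ne.symm hcon.2)
    have hzE : z ∈ E₀ := by
      by_contra hzE
      have h3 := hw2 z hz hzE
      rw [hiz.sq] at h3
      exact (hiz.conj w).ne h3
    rw [← h2]
    exact four_le hzE huE

end Pair

/-! ### Lemma R -/

section main

variable {X : Set G} {K F : G → Subgroup G} {n : ℕ} {V U T : Subgroup G} {y t : G}

/-- (R1) -/
def R1 (K F : G → Subgroup G) (V U : Subgroup G) (t : G) : Prop := U ≤ F t ∧ V ≤ K t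

/-- (R2) -/
def R2 (K F : G → Subgroup G) (V U T : Subgroup G) (t : G) : Prop :=
  U ≤ F t ∧ ∃ v₁ ∈ V, Inv v₁ ∧ v₁ ∈ K t ∧ ∃ w ∈ T ⊓ K t, (∀ u ∈ U, w * u = u * w) ∧ w * v₁ = v₁ * w ∧
    ∀ v ∈ V, v ≠ 1 → v ≠ v₁ → w * v * w⁻¹ = v * v₁

/-- (R3) -/
def R3 (K F : G → Subgroup G) (n : ℕ) (V U : Subgroup G) (t : G) : Prop :=
  3 ≤ n ∧ (∀ v ∈ V, v ∈ K t ∨ t * v ∈ K t) ∧ ∀ u ∈ U, u ≠ 1 → u ≠ t → ¬ Inner K F t u

variable [Finite G]

/-- Case 1: everything inner -/
theorem lemmaR_inner (h : Sys X K F n) (hr : RankFour G) (h1 : AllTOne X K F) (p : Pair X K F V U y)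
    (ht : t ∈ X) (htE : t ∈ V ⊔ U) (hT : SylC t T) (hE : V ⊔ U ≤ T) (hin : ∀ x ∈ V ⊔ U, Inner K F t x) :
    t ∈ V ∨ (t ∈ U ∧ R1 K F V U t) := by
  obtain ⟨Q, D, hQ, hD, hQ2, hD2, -, -, hA, -⟩ := h.proj ht hT hE p.sq hin
  have cQ := h.card_F hr ht hT hQ hQ2
  have cD := h.card_K hr ht hT hD hD2
  have hcard : Nat.card Q * Nat.card D ≤ Nat.card (V ⊔ U : Subgroup G) := by
    rw [p.card h]
    exact Nat.mul_le_mul cQ cD
  obtain ⟨hQE, hDE, hc⟩ := h.proj_le ht hT hQ hD hA hcard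
  rw [p.card h] at hc
  have cQ4 : Nat.card Q = 4 := by nlinarith
  have cD4 : Nat.card D = 4 := by rw [cQ4] at hc; omega
  have htQ : t ∈ Q := by
    obtain ⟨q, hq, d, hd, e⟩ := hA t htE
    have h2 : d = 1 := by
      apply h.eq_one_FK ht hT _ (hD hd).2
      have h3 : d = q⁻¹ * t := by rw [e]; group
      rw [h3]
      exact mul_mem (inv_mem (hQ hq)) (mem_inf.2 ⟨h.mem_T ht hT, h.self t ht⟩)
    rw [e, h2, mul_one]; exact hq
  have p' : Pair X K F Q D t :=
    ⟨ht, htQ, fun q hq => (hQ hq).2, fun d hd => (hD hd).2, cQ4, cD4, hQ2, hD2,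
      fun q hq d hd => h.comm_FK ht hT (hQ hq) (hD hd)⟩
  have hsup : Q ⊔ D = V ⊔ U := eq_of_le_of_card_ge (sup_le hQE hDE) (by rw [p.card h, p'.card h])
  obtain ⟨c, hcV, hcU, hcU'⟩ := p.rho h
  have hnorm : ∀ x ∈ V ⊔ U, c * x * c⁻¹ ∈ V ⊔ U := by
    intro x hx
    obtain ⟨v, hv, u, hu, rfl⟩ := p.mem.1 hx
    have : c * (v * u) * c⁻¹ = v * (c * u * c⁻¹) := by
      calc c * (v * u) * c⁻¹ = (c * v) * u * c⁻¹ := by group
        _ = v * (c * u * c⁻¹) := by rw [hcV v hv]; group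
    rw [this]
    exact mul_mem (mem_sup_left hv) (mem_sup_right (hcU u hu))
  obtain ⟨h2, h3⟩ := h1 Q D t p' c (by rw [hsup]; exact hnorm)
  rcases p.inv_four hcV hcU hcU' hQE cQ4 h2 with h4 | h4
  · left; rw [← h4]; exact htQ
  · rcases p.inv_four hcV hcU hcU' hDE cD4 h3 with h5 | h5
    · right
      refine ⟨h4 ▸ htQ, ?_, ?_⟩
      · rw [← h4]; exact fun q hq => (hQ hq).2
      · rw [← h5]; exact fun d hd => (hD hd).2
    · exfalso
      have h6 : t = 1 := p'.disj h t htQ (by rw [h5, ← h4]; exact htQ)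
      exact (h.inv t ht).ne h6

omit [Finite G] in
/-- the subgroup of inner elements has index 2 -/
theorem card_half (h : Sys X K F n) (p : Pair X K F V U y) (ht : t ∈ X) (hT : SylC t T) (hE : V ⊔ U ≤ T) {e : G}
    (he : e ∈ V ⊔ U) (hin : ¬ Inner K F t e) :
    Nat.card ((V ⊔ U : Subgroup G) ⊓ h.inn ht : Subgroup G) = 8 ∧
      ∀ x ∈ V ⊔ U, ¬ Inner K F t x → Inner K F t (e * x) := by
  have h2 : ∀ x ∈ V ⊔ U, ¬ Inner K F t x → Inner K F t (e * x) := by
    intro x hx hxn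
    have he1 : e ≠ 1 := fun e' => hin (by rw [e']; exact Sys.inner_of_F (one_mem _))
    have hx1 : x ≠ 1 := fun e' => hxn (by rw [e']; exact Sys.inner_of_F (one_mem _))
    by_cases hex : e = x
    · rw [← hex, p.sq e he]; exact Sys.inner_of_F (one_mem _)
    · exact h.outer_mul t ht T hT e (hE he) x (hE hx) ⟨p.sq e he, he1⟩ ⟨p.sq x hx, hx1⟩ (p.ecomm he hx) hex hin hxn
  refine ⟨?_, h2⟩
  set E₀ : Subgroup G := (V ⊔ U : Subgroup G) ⊓ h.inn ht with hE₀
  have hz : ∀ x ∈ zpowers e, x = 1 ∨ x = e := by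
    intro x hx
    obtain ⟨m, rfl⟩ := mem_zpowers_iff.1 hx
    rcases Int.even_or_odd' m with ⟨k, rfl | rfl⟩
    · left; rw [zpow_mul, zpow_ofNat, pow_two, p.sq e he, one_zpow]
    · right; rw [zpow_add, zpow_mul, zpow_ofNat, pow_two, p.sq e he, one_zpow, one_mul, zpow_one]
  have hcomm : ∀ a ∈ E₀, ∀ b ∈ zpowers e, a * b = b * a := by
    intro a ha b hb
    rcases hz b hb with rfl | rfl
    · rw [mul_one, one_mul]
    · exact p.ecomm (mem_inf.1 ha).1 he
  have h3 := card_sup_comm hcomm (by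
    intro x hx hx'
    rcases hz x hx' with h4 | rfl
    · exact h4
    · exact absurd (mem_inf.1 hx).2 hin)
  have h4 : E₀ ⊔ zpowers e = V ⊔ U := by
    apply le_antisymm
    · exact sup_le inf_le_left (zpowers_le.2 he)
    · intro x hx
      by_cases hxn : Inner K F t x
      · exact mem_sup_left (mem_inf.2 ⟨hx, hxn⟩)
      · have h5 := h2 x hx hxn
        have h6 : x = (e * x) * e := by
          rw [mul_assoc, p.ecomm hx he, ← mul_assoc, p.sq e he, one_mul]
        rw [h6]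
        exact mul_mem (mem_sup_left (mem_inf.2 ⟨mul_mem he hx, h5⟩)) (mem_sup_right (mem_zpowers e))
  have h5 : Nat.card (zpowers e) = 2 := by
    rw [Nat.card_zpowers]
    refine orderOf_eq_prime (by rw [pow_two]; exact p.sq e he) ?_
    intro e'
    exact hin (by rw [e']; exact Sys.inner_of_F (one_mem _))
  rw [h4, p.card h, h5] at h3
  omega

/-- Case 2: `e` of d-type -/
theorem lemmaR_dtype (h : Sys X K F n) (hr : RankFour G) (h1 : AllTOne X K F) (p : Pair X K F V U y)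
    (ht : t ∈ X) (htE : t ∈ V ⊔ U) (hT : SylC t T) (hE : V ⊔ U ≤ T) {e r s : G} (he : e ∈ V ⊔ U)
    (hin : ¬ Inner K F t e) (hd : DType n (T ⊓ K t) e r s) :
    t ∈ V ∨ (t ∈ U ∧ R2 K F V U T t) := by
  have ie : Inv e := ⟨p.sq e he, fun e' => hin (by rw [e']; exact Sys.inner_of_F (one_mem _))⟩
  obtain ⟨hc8, hmul⟩ := card_half h p ht hT hE he hin
  obtain ⟨z, iz, hzD, hCD, hze, w, hwD, hwe, hwz⟩ := hd.exists h.two_le ie
  set E₀ : Subgroup G := (V ⊔ U : Subgroup G) ⊓ h.inn ht with hE₀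
  have hE₀le : E₀ ≤ V ⊔ U := inf_le_left
  have heE₀ : e ∉ E₀ := fun h2 => hin (mem_inf.1 h2).2
  obtain ⟨Q, D, hQ, hD, hQ2, hD2, -, -, hA, hcm⟩ := h.proj ht hT (hE₀le.trans hE) (fun x hx => p.sq x (hE₀le hx))
    (fun x hx => (mem_inf.1 hx).2)
  obtain ⟨hQe, hDe⟩ := hcm e (hE he) (fun a ha => p.ecomm he (hE₀le ha))
  have hDz : ∀ d ∈ D, d = 1 ∨ d = z := fun d hd' => hCD d (hD hd') (hDe d hd').symm
  have cD : Nat.card D ≤ 2 := by
    have hle : D ≤ zpowers z := by
      intro d hd'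
      rcases hDz d hd' with rfl | rfl
      · exact one_mem _
      · exact mem_zpowers _
    have h2 := card_le_of_le hle
    rwa [Nat.card_zpowers, orderOf_eq_prime (by rw [pow_two]; exact iz.sq) iz.ne] at h2
  have cQ := h.card_F hr ht hT hQ hQ2
  obtain ⟨hQE, hDE, hc⟩ := h.proj_le ht hT hQ hD hA (by rw [hc8]; exact Nat.mul_le_mul cQ cD)
  rw [hc8] at hc
  have cQ4 : Nat.card Q = 4 := by nlinarith
  have cD2 : Nat.card D = 2 := by rw [cQ4] at hc; omega
  have hzE₀ : z ∈ E₀ := by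
    have hfin : Finite D := inferInstance
    have h2 : D ≠ ⊥ := fun h3 => by rw [h3, card_bot] at cD2; omega
    obtain ⟨⟨d, hd'⟩, hd1⟩ := ne_bot_iff_exists_ne_one.1 h2
    rcases hDz d hd' with h3 | h3
    · exact absurd (Subtype.ext h3) hd1
    · exact hDE (h3 ▸ hd')
  -- `w` centralizes `E₀`
  have hw1 : ∀ x ∈ V ⊔ U, x ∈ E₀ → w * x = x * w := by
    intro x _ hx
    obtain ⟨q, hq, d, hd', rfl⟩ := hA x hx
    have h2 : w * q = q * w := (h.comm_FK ht hT (hQ hq) hwD).symm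
    have h3 : w * d = d * w := by
      rcases hDz d hd' with rfl | rfl
      · rw [mul_one, one_mul]
      · exact hwz
    rw [← mul_assoc, h2, mul_assoc, h3, mul_assoc]
  have hw2 : ∀ x ∈ V ⊔ U, x ∉ E₀ → w * x * w⁻¹ = x * z := by
    intro x hx hx0
    have hxn : ¬ Inner K F t x := fun h2 => hx0 (mem_inf.2 ⟨hx, h2⟩)
    have h2 : e * x ∈ E₀ := mem_inf.2 ⟨mul_mem he hx, hmul x hx hxn⟩
    have h3 : x = e * (e * x) := by rw [← mul_assoc, ie.sq, one_mul]
    have h4 : w * (e * x) * w⁻¹ = e * x := by rw [hw1 _ (hE₀le h2) h2]; group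
    calc w * x * w⁻¹ = w * (e * (e * x)) * w⁻¹ := by rw [← h3]
      _ = (w * e * w⁻¹) * (w * (e * x) * w⁻¹) := by group
      _ = e * z * (e * x) := by rw [hwe, h4]
      _ = e * (z * (e * x)) := by group
      _ = e * (e * x * z) := by rw [p.ecomm (hE₀le hzE₀) (mul_mem he hx)]
      _ = e * (e * x) * z := by group
      _ = x * z := by rw [← h3]
  have hQF : ∀ x ∈ E₀, x ∈ F t → x ∈ Q := by
    intro x hx hxF
    obtain ⟨q, hq, d, hd', e'⟩ := hA x hx
    have h2 : d = 1 := by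
      apply h.eq_one_FK ht hT _ (hD hd').2
      have h3 : d = q⁻¹ * x := by rw [e']; group
      rw [h3]
      exact mul_mem (inv_mem (hQ hq)) (mem_inf.2 ⟨hE (hE₀le hx), hxF⟩)
    rw [e', h2, mul_one]; exact hq
  have htE₀ : t ∈ E₀ := mem_inf.2 ⟨htE, Sys.inner_of_F (h.self t ht)⟩
  have htQ : t ∈ Q := hQF t htE₀ (h.self t ht)
  rcases p.transv h h1 (hE₀le hzE₀) iz.ne he heE₀ hw1 hw2 with ⟨hzV, hUE, hVE⟩ | ⟨hzU, hVE, -⟩
  · obtain ⟨c, hcV, hcU, hcU'⟩ := p.rho h
    have hcE : ∀ x ∈ E₀, c * x * c⁻¹ ∈ E₀ := by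
      intro x hx
      obtain ⟨v, hv, u, hu, rfl⟩ := p.mem.1 (hE₀le hx)
      have h2 : c * (v * u) * c⁻¹ = v * (c * u * c⁻¹) := by
        calc c * (v * u) * c⁻¹ = (c * v) * u * c⁻¹ := by group
          _ = v * (c * u * c⁻¹) := by rw [hcV v hv]; group
      rw [h2]
      have h3 : v ∈ E₀ := by
        have := mul_mem hx (inv_mem (hUE hu))
        rwa [mul_inv_cancel_right] at this
      exact mul_mem h3 (hUE (hcU u hu))
    -- `Q` and its conjugate meet
    have hle : Q.map (MulAut.conj c).toMonoidHom ≤ E₀ := by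
      rintro _ ⟨q, hq, rfl⟩
      exact hcE q (hQE hq)
    obtain ⟨x, hxQ, hxQ', hx1⟩ := exists_inf hQE hle (by rw [card_conj, cQ4, hc8]; norm_num)
    rw [mem_map_conj] at hxQ'
    have ix : Inv x := ⟨hQ2 x hxQ, hx1⟩
    have hxX : x ∈ X := h.closed t ht x (mem_inf.1 (hQ hxQ)).2 ix
    set t' := c * t * c⁻¹ with ht'
    have ht'X : t' ∈ X := h.conj t ht c
    have ht'E : t' ∈ V ⊔ U := hE₀le (hcE t htE₀)
    have hxF' : x ∈ F t' := by
      have h2 := h.conjF t ht c _ (mem_inf.1 (hQ hxQ')).2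
      have h3 : c * (c⁻¹ * x * c) * c⁻¹ = x := by group
      rwa [h3] at h2
    have h3 : t ∈ F x := h.symm ht hxX (mem_inf.1 (hQ hxQ)).2
    have h4 : t' ∈ F x := h.symm ht'X hxX hxF'
    have h5 : t' ∈ F t := h.trans ht hxX h3 h4 (p.ecomm ht'E htE)
    have hcQ : ∀ q ∈ Q, c * q * c⁻¹ ∈ Q := by
      intro q hq
      have h6 := hcE q (hQE hq)
      apply hQF _ h6
      have h7 : c * q * c⁻¹ ∈ F t' := h.conjF t ht c q (mem_inf.1 (hQ hq)).2
      exact (h.share_iff ht ht'X h5 (p.ecomm (hE₀le h6) htE) (p.ecomm (hE₀le h6) ht'E)).2 h7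
    rcases p.inv_four hcV hcU hcU' (hQE.trans hE₀le) cQ4 hcQ with h6 | h6
    · left; rw [← h6]; exact htQ
    · right
      refine ⟨h6 ▸ htQ, ?_, z, hzV, iz, (mem_inf.1 hzD).2, w, hwD, ?_, hwz, ?_⟩
      · rw [← h6]; exact fun q hq => (mem_inf.1 (hQ hq)).2
      · exact fun u hu => hw1 u (mem_sup_right hu) (hUE hu)
      · intro v hv hv1 hvz
        refine hw2 v (mem_sup_left hv) fun h7 => ?_
        rcases hVE v hv h7 with h8 | h8
        · exact hv1 h8
        · exact hvz h8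
  · left
    obtain ⟨x, hxV, hxQ, hx1⟩ := exists_inf hVE hQE (by rw [p.cV, cQ4, hc8]; norm_num)
    have ix : Inv x := ⟨hQ2 x hxQ, hx1⟩
    have hxX : x ∈ X := h.closed t ht x (mem_inf.1 (hQ hxQ)).2 ix
    exact p.mem_V h hxV hx1 htE (h.symm ht hxX (mem_inf.1 (hQ hxQ)).2)

/-- Case 3: `e` of f-type -/
theorem lemmaR_ftype (h : Sys X K F n) (hr : RankFour G) (h1 : AllTOne X K F) (p : Pair X K F V U y)
    (ht : t ∈ X) (htE : t ∈ V ⊔ U) (hT : SylC t T) (hE : V ⊔ U ≤ T) {e : G} (he : e ∈ V ⊔ U)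
    (hin : ¬ Inner K F t e) (hf : FType (T ⊓ K t) e) (hn : 3 ≤ n) :
    t ∈ V ∨ (t ∈ U ∧ R3 K F n V U t) := by
  have ie : Inv e := ⟨p.sq e he, fun e' => hin (by rw [e']; exact Sys.inner_of_F (one_mem _))⟩
  have it := h.inv t ht
  have htT := h.mem_T ht hT
  have htF : t ∈ T ⊓ F t := mem_inf.2 ⟨htT, h.self t ht⟩
  obtain ⟨hc8, hmul⟩ := card_half h p ht hT hE he hin
  set E₀ : Subgroup G := (V ⊔ U : Subgroup G) ⊓ h.inn ht with hE₀
  have hE₀le : E₀ ≤ V ⊔ U := inf_le_left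
  have heE₀ : e ∉ E₀ := fun h2 => hin (mem_inf.1 h2).2
  obtain ⟨Q, D, hQ, hD, hQ2, hD2, -, -, hA, hcm⟩ := h.proj ht hT (hE₀le.trans hE) (fun x hx => p.sq x (hE₀le hx))
    (fun x hx => (mem_inf.1 hx).2)
  obtain ⟨hQe, -⟩ := hcm e (hE he) (fun a ha => p.ecomm he (hE₀le ha))
  have hte : t * e = e * t := p.ecomm htE he
  have huniq : ∀ a ∈ T ⊓ F t, a * e = e * a → a * a = 1 → a = 1 ∨ a = t := by
    intro a ha hae ha2
    by_cases ha1 : a = 1
    · exact Or.inl ha1
    · exact Or.inr (h.ftype_unique hr ht hT ie hin hf ha htF ⟨ha2, ha1⟩ it (h.centF t ht a (mem_inf.1 ha).2) hae hte)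
  have hQt : ∀ q ∈ Q, q = 1 ∨ q = t := fun q hq => huniq q (hQ hq) (hQe q hq).symm (hQ2 q hq)
  have cQ : Nat.card Q ≤ 2 := by
    have hle : Q ≤ zpowers t := by
      intro d hd'
      rcases hQt d hd' with rfl | rfl
      · exact one_mem _
      · exact mem_zpowers _
    have h2 := card_le_of_le hle
    rwa [Nat.card_zpowers, orderOf_eq_prime (by rw [pow_two]; exact it.sq) it.ne] at h2
  have cD := h.card_K hr ht hT hD hD2
  obtain ⟨hQE, hDE, hc⟩ := h.proj_le ht hT hQ hD hA (by rw [hc8]; exact Nat.mul_le_mul cQ cD)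
  obtain ⟨w, hwQ, hwe⟩ := lemmaN hT.two (inf_le_left : T ⊓ F t ≤ T) (h.normF ht hT) (hE he) ie
    (fun h2 => hin (Sys.inner_of_F (mem_inf.1 h2).2)) huniq (by
      obtain ⟨a, ha, ia, hat⟩ := h.exists_inv_F ht hT
      exact ⟨a, ha, ia.sq, ia.ne, hat⟩)
  have hwt : w * t = t * w := h.centF t ht w (mem_inf.1 hwQ).2
  have hw1 : ∀ x ∈ V ⊔ U, x ∈ E₀ → w * x = x * w := by
    intro x _ hx
    obtain ⟨q, hq, d, hd', rfl⟩ := hA x hx
    have h3 : w * d = d * w := h.comm_FK ht hT hwQ (hD hd')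
    have h2 : w * q = q * w := by
      rcases hQt q hq with rfl | rfl
      · rw [mul_one, one_mul]
      · exact hwt
    rw [← mul_assoc, h2, mul_assoc, h3, mul_assoc]
  have hw2 : ∀ x ∈ V ⊔ U, x ∉ E₀ → w * x * w⁻¹ = x * t := by
    intro x hx hx0
    have hxn : ¬ Inner K F t x := fun h2 => hx0 (mem_inf.2 ⟨hx, h2⟩)
    have h2 : e * x ∈ E₀ := mem_inf.2 ⟨mul_mem he hx, hmul x hx hxn⟩
    have h3 : x = e * (e * x) := by rw [← mul_assoc, ie.sq, one_mul]
    have h4 : w * (e * x) * w⁻¹ = e * x := by rw [hw1 _ (hE₀le h2) h2]; group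
    calc w * x * w⁻¹ = w * (e * (e * x)) * w⁻¹ := by rw [← h3]
      _ = (w * e * w⁻¹) * (w * (e * x) * w⁻¹) := by group
      _ = e * t * (e * x) := by rw [hwe, h4]
      _ = e * (t * (e * x)) := by group
      _ = e * (e * x * t) := by rw [p.ecomm htE (mul_mem he hx)]
      _ = e * (e * x) * t := by group
      _ = x * t := by rw [← h3]
  rcases p.transv h h1 htE it.ne he heE₀ hw1 hw2 with ⟨htV, -, -⟩ | ⟨htU, hVE, hUE⟩
  · exact Or.inl htV
  · right
    refine ⟨htU, hn, ?_, ?_⟩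
    · intro v hv
      obtain ⟨q, hq, d, hd', e'⟩ := hA v (hVE hv)
      rcases hQt q hq with h2 | h2
      · left; rw [e', h2, one_mul]; exact (mem_inf.1 (hD hd')).2
      · right; rw [e', h2, ← mul_assoc, it.sq, one_mul]; exact (mem_inf.1 (hD hd')).2
    · intro u hu hu1 hut hin'
      rcases hUE u hu (mem_inf.2 ⟨mem_sup_right hu, hin'⟩) with h2 | h2
      · exact hu1 h2
      · exact hut h2

/-- **Lemma R** -/
theorem lemmaR_full (h : Sys X K F n) (hr : RankFour G) (h1 : AllTOne X K F) (p : Pair X K F V U y)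
    (ht : t ∈ X) (htE : t ∈ V ⊔ U) (hT : SylC t T) (hE : V ⊔ U ≤ T) :
    t ∈ V ∨ (t ∈ U ∧ (R1 K F V U t ∨ R2 K F V U T t ∨ R3 K F n V U t)) := by
  by_cases hin : ∀ x ∈ V ⊔ U, Inner K F t x
  · rcases lemmaR_inner h hr h1 p ht htE hT hE hin with h2 | ⟨h2, h3⟩
    · exact Or.inl h2
    · exact Or.inr ⟨h2, Or.inl h3⟩
  · push Not at hin
    obtain ⟨e, he, hin⟩ := hin
    have ie : Inv e := ⟨p.sq e he, fun e' => hin (by rw [e']; exact Sys.inner_of_F (one_mem _))⟩
    rcases h.outer_type t ht T hT e (hE he) ie hin with ⟨hf, hn⟩ | ⟨r, s, hd⟩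
    · rcases lemmaR_ftype h hr h1 p ht htE hT hE he hin hf hn with h2 | ⟨h2, h3⟩
      · exact Or.inl h2
      · exact Or.inr ⟨h2, Or.inr (Or.inr h3)⟩
    · rcases lemmaR_dtype h hr h1 p ht htE hT hE he hin hd with h2 | ⟨h2, h3⟩
      · exact Or.inl h2
      · exact Or.inr ⟨h2, Or.inr (Or.inl h3)⟩

/-- a Sylow 2-subgroup of `C(t)` containing `V × U` -/
theorem Pair.exists_sylC (p : Pair X K F V U y) (htE : t ∈ V ⊔ U) : ∃ T, SylC t T ∧ V ⊔ U ≤ T :=
  TOne.exists_sylC p.isPGroup fun _ hx => p.ecomm hx htE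

/-- **Lemma R**, first part -/
theorem lemmaR (h : Sys X K F n) (hr : RankFour G) (h1 : AllTOne X K F) (p : Pair X K F V U y)
    (ht : t ∈ X) (htE : t ∈ V ⊔ U) : t ∈ V ∨ t ∈ U := by
  obtain ⟨T, hT, hE⟩ := p.exists_sylC htE
  rcases lemmaR_full h hr h1 p ht htE hT hE with h2 | h2
  · exact Or.inl h2
  · exact Or.inr h2.1

end main

end Cfsg.Agent.GH.TOne
end

-- part: GH/TOne/LemPDih
section
set_option linter.all false
open scoped Cfsg.Agent.FastGrp

/-!
# Lemma P of `blueprints/GH-L2-T1.md`: dihedral groups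
-/

set_option autoImplicit false

namespace Cfsg.Agent.GH.TOne

open Subgroup
open Cfsg.Agent.TwoFusion.SectionalRank

variable {G : Type*} [Group G]

namespace DihP

variable {n : ℕ} {D : Subgroup G} {r s : G}

theorem s_pow (h : Dih n D r s) (i : ℕ) : s * r ^ i * s = (r ^ i)⁻¹ := by
  induction i with
  | zero => rw [pow_zero, mul_one, h.sq, inv_one]
  | succ i ih =>
    calc s * r ^ (i + 1) * s = s * r ^ i * (s * s) * r * s := by rw [h.sq, pow_succ]; group
      _ = (s * r ^ i * s) * (s * r * s) := by group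
      _ = (r ^ i)⁻¹ * r⁻¹ := by rw [ih, h.rel]
      _ = (r ^ (i + 1))⁻¹ := by rw [pow_succ']; group

theorem s_mul_pow (h : Dih n D r s) (i : ℕ) : s * r ^ i = (r ^ i)⁻¹ * s := by
  rw [← s_pow h i, mul_assoc, h.sq, mul_one]

theorem pow_mul_s (h : Dih n D r s) (i : ℕ) : r ^ i * s = s * (r ^ i)⁻¹ := by
  rw [← s_pow h i, ← mul_assoc, ← mul_assoc, h.sq, one_mul]

theorem refl_sq (h : Dih n D r s) (i : ℕ) : r ^ i * s * (r ^ i * s) = 1 := by
  calc r ^ i * s * (r ^ i * s) = r ^ i * (s * r ^ i * s) := by group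
    _ = 1 := by rw [s_pow h, mul_inv_cancel]

theorem r_pow_mem (h : Dih n D r s) (i : ℕ) : r ^ i ∈ D := pow_mem h.rmem i

theorem z_sq (h : Dih n D r s) (hn : 2 ≤ n) : r ^ 2 ^ (n - 2) * r ^ 2 ^ (n - 2) = 1 := by
  rw [← pow_add, ← two_mul, ← pow_succ']
  have : n - 2 + 1 = n - 1 := by omega
  rw [this, ← h.ord, pow_orderOf_eq_one]

theorem z_ne (h : Dih n D r s) (hn : 2 ≤ n) : r ^ 2 ^ (n - 2) ≠ 1 := by
  intro h1
  have h2 := orderOf_dvd_of_pow_eq_one h1
  rw [h.ord] at h2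
  have h3 := Nat.pow_dvd_pow_iff_le_right (by norm_num : 1 < 2) |>.1 h2
  omega

/-- a power of `r` squaring to `1` is `1` or the central involution -/
theorem pow_eq (h : Dih n D r s) (hn : 2 ≤ n) {i : ℕ} (hi : r ^ i * r ^ i = 1) :
    r ^ i = 1 ∨ r ^ i = r ^ 2 ^ (n - 2) := by
  rw [← pow_add, ← two_mul] at hi
  have h2 := orderOf_dvd_of_pow_eq_one hi
  rw [h.ord] at h2
  have h3 : n - 1 = n - 2 + 1 := by omega
  rw [h3, pow_succ'] at h2
  obtain ⟨m, hm⟩ := Nat.dvd_of_mul_dvd_mul_left (by norm_num) h2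
  have hz := z_sq h hn
  rcases Nat.even_or_odd' m with ⟨k, rfl | rfl⟩
  · left
    rw [hm, pow_mul, pow_mul, pow_two, hz, one_pow]
  · right
    rw [hm, pow_mul, pow_succ, pow_mul, pow_two, hz, one_pow, one_mul]

theorem comm_z (h : Dih n D r s) (hn : 2 ≤ n) {x : G} (hx : x ∈ D) :
    x * r ^ 2 ^ (n - 2) = r ^ 2 ^ (n - 2) * x := by
  have hz : s * r ^ 2 ^ (n - 2) = r ^ 2 ^ (n - 2) * s := by
    rw [s_mul_pow h, inv_eq_of_mul_eq_one_left (z_sq h hn)]
  obtain ⟨i, rfl | rfl⟩ := h.exh x hx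
  · rw [← pow_add, ← pow_add, add_comm]
  · rw [mul_assoc, hz, ← mul_assoc, ← mul_assoc, ← pow_add, ← pow_add, add_comm]

/-- elements of `D` commuting with `s` -/
theorem comm_s (h : Dih n D r s) (hn : 2 ≤ n) {x : G} (hx : x ∈ D) (hxs : x * s = s * x) :
    x = 1 ∨ x = r ^ 2 ^ (n - 2) ∨ x = s ∨ x = r ^ 2 ^ (n - 2) * s := by
  have key : ∀ i : ℕ, r ^ i * s = s * r ^ i → r ^ i = 1 ∨ r ^ i = r ^ 2 ^ (n - 2) := by
    intro i hi
    apply pow_eq h hn
    rw [s_mul_pow h] at hi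
    have h1 : r ^ i = (r ^ i)⁻¹ := mul_right_cancel hi
    calc r ^ i * r ^ i = r ^ i * (r ^ i)⁻¹ := by rw [← h1]
      _ = 1 := mul_inv_cancel _
  obtain ⟨i, rfl | rfl⟩ := h.exh x hx
  · rcases key i hxs with h1 | h1
    · left; exact h1
    · right; left; exact h1
  · have h2 : r ^ i * s = s * r ^ i := by
      apply mul_right_cancel (b := s)
      rw [hxs]; group
    rcases key i h2 with h1 | h1
    · right; right; left; rw [h1, one_mul]
    · right; right; right; rw [h1]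

/-- an element of order at least `4` is a rotation -/
theorem rot_of_sq_ne (h : Dih n D r s) {x : G} (hx : x ∈ D) (hxx : x * x ≠ 1) : ∃ i : ℕ, x = r ^ i := by
  obtain ⟨i, rfl | rfl⟩ := h.exh x hx
  · exact ⟨i, rfl⟩
  · exact absurd (refl_sq h i) hxx

/-- **Lemma P**: with a commuting four-group, an element `p` outside of `D` inducing an automorphism
`= inner` on a reflection contradicts sectional rank four. -/
theorem false_of_fix [Finite G] (hr : RankFour G) (hn : 3 ≤ n) (h : Dih n D r s) {Q : Subgroup G} (hDQ : D ≤ Q)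
    {p : G} (hpQ : p ∈ Q) (hp : ∀ x ∈ D, p * x * p⁻¹ ∈ D) (hpD : p ∉ D) (hpp : p * p ∈ D)
    (hps : p * s = s * p) {u v : G} (hu : Inv u) (hv : Inv v) (huv : u ≠ v) (huvc : u * v = v * u)
    (huQ : ∀ q ∈ Q, u * q = q * u) (hvQ : ∀ q ∈ Q, v * q = q * v)
    (hd : u ∉ Q ∧ v ∉ Q ∧ u * v ∉ Q) : False := by
  have hn2 : 2 ≤ n := by omega
  set z := r ^ 2 ^ (n - 2) with hz
  have hzz : z * z = 1 := z_sq h hn2
  have hz1 : z ≠ 1 := z_ne h hn2
  have hzi : z⁻¹ = z := inv_eq_of_mul_eq_one_left hzz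
  set c := r ^ 2 ^ (n - 3) with hc
  have hcc : c * c = z := by
    rw [hc, hz, ← pow_add, ← two_mul, ← pow_succ']
    congr 2; omega
  have hrr : r * r ≠ 1 := by
    intro h1
    have h2 : r ^ 2 = 1 := by rw [pow_two]; exact h1
    have h3 := orderOf_dvd_of_pow_eq_one h2
    rw [h.ord] at h3
    have h4 := Nat.pow_dvd_pow_iff_le_right (by norm_num : 1 < 2) |>.1 (show 2 ^ (n - 1) ∣ 2 ^ 1 by simpa using h3)
    omega
  -- action of `p` on `r`
  obtain ⟨k, hk⟩ : ∃ k : ℕ, p * r * p⁻¹ = r ^ k := by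
    apply rot_of_sq_ne h (hp r h.rmem)
    intro h1
    apply hrr
    calc r * r = p⁻¹ * (p * r * p⁻¹ * (p * r * p⁻¹)) * p := by group
      _ = 1 := by rw [h1]; group
  have hpow : ∀ j : ℕ, p * r ^ j * p⁻¹ = r ^ (k * j) := by
    intro j
    rw [← conj_pow, hk, pow_mul]
  -- `k` is odd
  have hpz : p * z * p⁻¹ = z ^ k := by
    rw [hz, hpow, mul_comm, pow_mul]
  have hkodd : Odd k := by
    rw [← Nat.not_even_iff_odd]
    rintro ⟨m, rfl⟩
    apply hz1
    have h1 : z ^ (m + m) = 1 := by rw [← two_mul, pow_mul, pow_two, hzz, one_pow]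
    rw [h1] at hpz
    calc z = p⁻¹ * (p * z * p⁻¹) * p := by group
      _ = 1 := by rw [hpz]; group
  obtain ⟨m, hm⟩ := hkodd
  have hzk : z ^ k = z := by
    rw [hm, pow_succ, pow_mul, pow_two, hzz, one_pow, one_mul]
  have hpz' : p * z = z * p := by
    rw [hzk] at hpz
    exact mul_inv_eq_iff_eq_mul.1 hpz
  have hpc : p * c = c * p ∨ p * c = c * p * z := by
    have h1 : p * c * p⁻¹ = z ^ m * c := by
      rw [hc, hpow, mul_comm, pow_mul, ← hc, hm, pow_succ, pow_mul, pow_two, hcc]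
    have h2 : z ^ m = 1 ∨ z ^ m = z := by
      rcases Nat.even_or_odd' m with ⟨j, rfl | rfl⟩
      · left; rw [pow_mul, pow_two, hzz, one_pow]
      · right; rw [pow_succ, pow_mul, pow_two, hzz, one_pow, one_mul]
    have h3 : p * c = z ^ m * c * p := mul_inv_eq_iff_eq_mul.1 h1
    rcases h2 with h2 | h2
    · left; rw [h3, h2, one_mul]
    · right
      rw [h3, h2]
      have h4 : z * c = c * z := by rw [hz, hc, ← pow_add, ← pow_add, add_comm]
      rw [h4, mul_assoc, ← hpz', ← mul_assoc]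
  -- `p * p ∈ {1, z}`
  have hpp' : p * p = 1 ∨ p * p = z := by
    have h1 : p * p * s = s * (p * p) := by rw [mul_assoc, hps, ← mul_assoc, hps, mul_assoc]
    have key : p * p * r * (p * p)⁻¹ ≠ r⁻¹ := by
      intro h2
      have h3 : p * p * r * (p * p)⁻¹ = r ^ (k * k) := by
        calc p * p * r * (p * p)⁻¹ = p * (p * r * p⁻¹) * p⁻¹ := by group
          _ = r ^ (k * k) := by rw [hk, hpow]
      rw [h3] at h2
      have h4 : r ^ (k * k + 1) = 1 := by rw [pow_succ, h2, inv_mul_cancel]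
      have h5 := orderOf_dvd_of_pow_eq_one h4
      rw [h.ord] at h5
      have h6 : 4 ∣ k * k + 1 := by
        refine dvd_trans ?_ h5
        have : n - 1 = (n - 3) + 2 := by omega
        rw [this, pow_add]
        exact Dvd.intro_left _ rfl
      rw [hm] at h6
      have h7 : (2 * m + 1) * (2 * m + 1) + 1 = 4 * (m * m + m) + 2 := by ring
      omega
    rcases comm_s h hn2 hpp h1 with h2 | h2 | h2 | h2
    · left; exact h2
    · right; exact h2
    · exfalso
      apply key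
      rw [h2, inv_eq_of_mul_eq_one_left h.sq, h.rel]
    · exfalso
      apply key
      rw [h2, ← hz]
      have h5 : z * s = s * z := (comm_z h hn2 h.smem).symm
      have h6 : z * r = r * z := (comm_z h hn2 h.rmem).symm
      calc z * s * r * (z * s)⁻¹ = z * (s * r * s⁻¹) * z⁻¹ := by group
        _ = z * (s * r * s) * z⁻¹ := by rw [inv_eq_of_mul_eq_one_left h.sq]
        _ = z * r⁻¹ * z⁻¹ := by rw [h.rel]
        _ = (z * r * z⁻¹)⁻¹ := by group
        _ = r⁻¹ := by rw [h6]; group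
  -- the five elements
  have hcD : c ∈ D := r_pow_mem h _
  have hzD : z ∈ D := r_pow_mem h _
  have hcz : c * z = z * c := comm_z h hn2 hcD
  have hsz : s * z = z * s := comm_z h hn2 h.smem
  have hcs : c * s = s * c * z := by
    have h1 : c⁻¹ = c * z := by
      rw [inv_eq_iff_mul_eq_one, ← mul_assoc, hcc, hzz]
    rw [hc, pow_mul_s h, ← hc, h1, ← mul_assoc]
  have hsymm : ∀ x y : G, y * z = z * y → x * z = z * x → (x * y = y * x ∨ x * y = y * x * z) →
      (y * x = x * y ∨ y * x = x * y * z) := by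
    rintro x y _ _ (h1 | h1)
    · left; exact h1.symm
    · right; rw [h1, mul_assoc, hzz, mul_one]
  have huz : u * z = z * u := huQ z (hDQ hzD)
  have hvz : v * z = z * v := hvQ z (hDQ hzD)
  have huc : u * c = c * u := huQ c (hDQ hcD)
  have hvc : v * c = c * v := hvQ c (hDQ hcD)
  have hus : u * s = s * u := huQ s (hDQ h.smem)
  have hvs : v * s = s * v := hvQ s (hDQ h.smem)
  have hup : u * p = p * u := huQ p hpQ
  have hvp : v * p = p * v := hvQ p hpQ
  have huQ' : ∀ x ∈ Q, ∀ w ∈ zpowers u, x * w = w * x := by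
    intro x hx w hw
    obtain ⟨i, rfl⟩ := mem_zpowers_iff.1 hw
    have : Commute u x := huQ x hx
    exact (this.zpow_left i).eq.symm
  refine LemP.kill_five hr (z := z) (x₁ := c) (x₂ := s) (x₃ := p) (x₄ := u) (x₅ := v) hzz ?_ ?_ ?_
    (H₀ := zpowers z) (H₁ := zpowers r) (H₂ := D) (H₃ := Q) (H₄ := Q ⊔ zpowers u)
    (mem_zpowers z) (by rw [zpowers_le]; exact pow_mem (mem_zpowers r) _)
    (pow_mem (mem_zpowers r) _) (by rw [zpowers_le]; exact h.rmem) h.smem hDQ hpQ le_sup_left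
    (mem_sup_right (mem_zpowers u)) ?_ h.notMem hpD hd.1 ?_
  · rintro x (rfl | rfl | rfl | rfl | rfl)
    · exact hcz
    · exact hsz
    · exact hpz'
    · exact huz
    · exact hvz
  · rintro x (rfl | rfl | rfl | rfl | rfl) y (rfl | rfl | rfl | rfl | rfl)
    all_goals first
      | exact Or.inl rfl
      | exact Or.inl hps
      | exact Or.inl hps.symm
      | exact Or.inl huc
      | exact Or.inl huc.symm
      | exact Or.inl hvc
      | exact Or.inl hvc.symm
      | exact Or.inl hus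
      | exact Or.inl hus.symm
      | exact Or.inl hvs
      | exact Or.inl hvs.symm
      | exact Or.inl hup
      | exact Or.inl hup.symm
      | exact Or.inl hvp
      | exact Or.inl hvp.symm
      | exact Or.inl huvc
      | exact Or.inl huvc.symm
      | exact Or.inr hcs
      | exact hsymm _ _ hsz hcz (Or.inr hcs)
      | exact hpc
      | exact hsymm _ _ hcz hpz' hpc
  · rintro x (rfl | rfl | rfl | rfl | rfl)
    · right; exact hcc
    · left; exact h.sq
    · exact hpp'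
    · left; exact hu.sq
    · left; exact hv.sq
  · intro h1
    apply hz1
    obtain ⟨i, hi⟩ := mem_zpowers_iff.1 h1
    have h2 : c * c = 1 := by
      rw [← hi, ← zpow_add, ← two_mul, zpow_mul, zpow_ofNat, pow_two, hzz, one_zpow]
    rw [← hcc, h2]
  · intro h1
    obtain ⟨q, hq, w, hw, e⟩ := (mem_sup_comm huQ').1 h1
    obtain ⟨i, rfl⟩ := mem_zpowers_iff.1 hw
    rcases Int.even_or_odd' i with ⟨j, rfl | rfl⟩
    · rw [zpow_mul, zpow_ofNat, pow_two, hu.sq, one_zpow, mul_one] at e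
      rw [e] at hd
      exact hd.2.1 hq
    · rw [zpow_add, zpow_mul, zpow_ofNat, pow_two, hu.sq, one_zpow, one_mul, zpow_one] at e
      apply hd.2.2
      rw [e, ← mul_assoc, huQ q hq, mul_assoc, hu.sq, mul_one]
      exact hq

end DihP

end Cfsg.Agent.GH.TOne
end

-- part: GH/TOne/Struct
section
set_option linter.all false

/-!
# The output of parts (1)-(6) of Case II, `n ≥ 3` (interface)
-/

set_option autoImplicit false

namespace Cfsg.Agent.GH.TOne

open Subgroup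

variable {G : Type*} [Group G]

/-- The configuration of Case II, `n ≥ 3`, after parts (1)-(6) of the blueprint: `T` is a Sylow 2-subgroup of
`C(y)` and of `C(z)`, `D_y = T ∩ K y = T ∩ F z`, `D_z = T ∩ K z = T ∩ F y`, `g` normalizes `T` and swaps `y`, `z`. -/
structure Cfg (X : Set G) (K F : G → Subgroup G) (n : ℕ) (T : Subgroup G) (y z g : G) : Prop where
  three : 3 ≤ n
  yX : y ∈ X
  zX : z ∈ X
  sylY : SylC y T
  sylZ : SylC z T
  /-- `g` is a 2-element -/
  two : IsPGroup 2 (zpowers g)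
  norm : ∀ t ∈ T, g * t * g⁻¹ ∈ T
  gy : g * y * g⁻¹ = z
  gz : g * z * g⁻¹ = y
  zK : z ∈ K y
  yK : y ∈ K z
  yzX : y * z ∉ X
  FyKz : ∀ x ∈ T, x ∈ F y ↔ x ∈ K z
  FzKy : ∀ x ∈ T, x ∈ F z ↔ x ∈ K y
  dihY : ∃ r s : G, Dih n (T ⊓ K y) r s ∧ r ^ 2 ^ (n - 2) = z
  dihZ : ∃ r s : G, Dih n (T ⊓ K z) r s ∧ r ^ 2 ^ (n - 2) = y
  innerY : ∀ x ∈ T, Inner K F y x ↔ ∃ a ∈ T ⊓ K y, ∃ b ∈ T ⊓ K z, x = a * b
  innerZ : ∀ x ∈ T, Inner K F z x ↔ ∃ a ∈ T ⊓ K y, ∃ b ∈ T ⊓ K z, x = a * b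
  /-- `|T : B| ≤ 2` -/
  mulB : ∀ t ∈ T, ∀ t' ∈ T, ¬ Inner K F y t → ¬ Inner K F y t' → Inner K F y (t * t')
  /-- parity -/
  parity : ∀ h : G, (∀ t ∈ T, h * t * h⁻¹ ∈ T) → h * y * h⁻¹ = z → ∀ a ∈ T ⊓ K z, Inv a → a ≠ y →
    ∀ d ∈ T ⊓ K z, h * (h * a * h⁻¹) * h⁻¹ ≠ d * a * d⁻¹
  swapZ : ∀ t ∈ T, ¬ Inner K F y t → ∀ a ∈ T ⊓ K z, Inv a → a ≠ y → ∀ d ∈ T ⊓ K z, t * a * t⁻¹ ≠ d * a * d⁻¹
  swapY : ∀ t ∈ T, ¬ Inner K F y t → ∀ a ∈ T ⊓ K y, Inv a → a ≠ z → ∀ d ∈ T ⊓ K y, t * a * t⁻¹ ≠ d * a * d⁻¹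
  /-- involutions of `T - B` are of d-type at `y` and at `z` -/
  outer : ∀ e ∈ T, Inv e → ¬ Inner K F y e → (∃ r s : G, DType n (T ⊓ K y) e r s) ∧ ∃ r s : G, DType n (T ⊓ K z) e r s
  gg : g * g ∈ T
  ggB : ¬ Inner K F y (g * g)

/-- every `y ∈ X` such that `K y` contains a conjugate of `y`, and every Sylow 2-subgroup `T` of `C(y)` give
such a configuration -/
def AllCfg (X : Set G) (K F : G → Subgroup G) (n : ℕ) : Prop :=
  ∀ y ∈ X, (∃ x ∈ K y, Inv x ∧ ∃ g : G, g * y * g⁻¹ = x) → ∀ T : Subgroup G, SylC y T →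
    ∃ z g : G, Cfg X K F n T y z g

/-- the conclusion of Lemma R: no element of `X` in `V × U` outside of `V ∪ U` -/
def LemR (X : Set G) (K F : G → Subgroup G) : Prop :=
  ∀ (V U : Subgroup G) (y : G), Pair X K F V U y → ∀ t ∈ X, t ∈ V ⊔ U → t ∈ V ∨ t ∈ U

end Cfsg.Agent.GH.TOne
end

-- part: GH/TOne/NineTen
section
set_option linter.all false
open scoped Cfsg.Agent.FastGrp

/-!
# Case II, `n ≥ 3`, parts (9) and (10): no fusion from `T - B` to `B`, transfer
-/

set_option autoImplicit false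

namespace Cfsg.Agent.GH.TOne.NineTen

open Subgroup
open Cfsg.Agent.GH.TOne
open scoped commutatorElement

variable {G : Type*} [Group G] [Finite G]
variable {X : Set G} {K F : G → Subgroup G} {n : ℕ} {T : Subgroup G} {y z g : G}

/-- The output of (8): `S = T⟨g⟩` is a Sylow 2-subgroup of `G` and `X ∩ S ⊆ D_y ∪ D_z`. -/
structure Eight (X : Set G) (K : G → Subgroup G) (T : Subgroup G) (y z g : G) (S : Sylow 2 G) : Prop where
  mem : ∀ x, x ∈ S ↔ x ∈ T ∨ g * x ∈ T
  inX : ∀ s ∈ S, s ∈ X → s ∈ T ⊓ K y ∨ s ∈ T ⊓ K z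

omit [Finite G] in
theorem innerYZ (c : Cfg X K F n T y z g) {x : G} (hx : x ∈ T) : Inner K F z x ↔ Inner K F y x := by
  rw [c.innerY x hx, c.innerZ x hx]

omit [Finite G] in
theorem norm_inv (c : Cfg X K F n T y z g) {t : G} (ht : t ∈ T) : g⁻¹ * t * g ∈ T := by
  have h1 := c.norm _ (mul_mem (mul_mem (inv_mem c.gg) ht) c.gg)
  have e : g * ((g * g)⁻¹ * t * (g * g)) * g⁻¹ = g⁻¹ * t * g := by group
  rwa [e] at h1

omit [Finite G] in
theorem KyKz (h : Sys X K F n) (c : Cfg X K F n T y z g) {x : G} (hx : x ∈ T) (h1 : x ∈ K y)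
    (h2 : x ∈ K z) : x = 1 :=
  h.disjQD c.sylY.two c.yX hx h1 ((c.FyKz x hx).2 h2)

omit [Finite G] in
/-- an element of `S` commuting with an element of `X ∩ S` lies in `T` and is inner there iff it is inner at `y` -/
theorem inner_iff (h : Sys X K F n) (c : Cfg X K F n T y z g) {S : Sylow 2 G} (e : Eight X K T y z g S)
    {u β : G} (hu : u ∈ S) (huX : u ∈ X) (hβ : β ∈ S) (hc : β * u = u * β) :
    β ∈ T ∧ (Inner K F u β ↔ Inner K F y β) := by
  have hu1 : u ≠ 1 := (h.inv u huX).ne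
  have hT : β ∈ T := by
    rcases (e.mem β).1 hβ with hT | hT
    · exact hT
    · exfalso
      set t := g * β with ht
      have hβ' : β = g⁻¹ * t := by rw [ht]; group
      have hcomm : g⁻¹ * (t * u * t⁻¹) * g = u := by
        calc g⁻¹ * (t * u * t⁻¹) * g = β * u * β⁻¹ := by rw [hβ']; group
          _ = u := by rw [hc]; group
      have hgy : g⁻¹ * y * g⁻¹⁻¹ = z := by rw [← c.gz]; group
      have hgz : g⁻¹ * z * g⁻¹⁻¹ = y := by rw [← c.gy]; group
      rcases e.inX u hu huX with ⟨huT, huK⟩ | ⟨huT, huK⟩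
      · have h1 : t * u * t⁻¹ ∈ K y := h.conjK_self c.yX (c.sylY.cent t hT) huK
        have h2 := h.conjK y c.yX g⁻¹ _ h1
        rw [hgy, _root_.inv_inv, hcomm] at h2
        exact hu1 (KyKz h c huT huK h2)
      · have h1 : t * u * t⁻¹ ∈ K z := h.conjK_self c.zX (c.sylZ.cent t hT) huK
        have h2 := h.conjK z c.zX g⁻¹ _ h1
        rw [hgz, _root_.inv_inv, hcomm] at h2
        exact hu1 (KyKz h c huT h2 huK)
  refine ⟨hT, ?_⟩
  rcases e.inX u hu huX with ⟨huT, huK⟩ | ⟨huT, huK⟩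
  · have hF : u ∈ F z := (c.FzKy u huT).2 huK
    rw [← h.shareI_iff c.zX huX hF (c.sylZ.cent β hT) hc]
    exact innerYZ c hT
  · have hF : u ∈ F y := (c.FyKz u huT).2 huK
    exact (h.shareI_iff c.yX huX hF (c.sylY.cent β hT) hc).symm

/-- (9): no outer element of `T` is conjugate to an inner one -/
theorem nine (h : Sys X K F n) (c : Cfg X K F n T y z g) {S : Sylow 2 G} (e : Eight X K T y z g S)
    {σ m : G} (hσ : σ ∈ T) (hσo : ¬ Inner K F y σ) (hm : m * σ * m⁻¹ ∈ T)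
    (hmi : Inner K F y (m * σ * m⁻¹)) : False := by
  set β := m * σ * m⁻¹ with hβ
  -- two Sylow 2-subgroups of `C(β)`
  have hyβ : y * β = β * y := (c.sylY.cent β hm).symm
  have hy'β : (m * y * m⁻¹) * β = β * (m * y * m⁻¹) := by
    have := c.sylY.cent σ hσ
    calc (m * y * m⁻¹) * β = m * (y * σ) * m⁻¹ := by rw [hβ]; group
      _ = m * (σ * y) * m⁻¹ := by rw [this]
      _ = β * (m * y * m⁻¹) := by rw [hβ]; group
  have hyI := h.inv y c.yX
  have hcz : ∀ {a : G}, a * β = β * a → ∀ x ∈ zpowers a, x * β = β * x := by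
    intro a ha x hx
    obtain ⟨i, rfl⟩ := mem_zpowers_iff.1 hx
    exact ((Commute.zpow_left (show Commute a β from ha)) i).eq
  obtain ⟨R, hR, hyR⟩ := exists_sylC (isPGroup_zpowers_of_sq hyI.sq) (hcz hyβ)
  obtain ⟨R', hR', hyR'⟩ := exists_sylC (isPGroup_zpowers_of_sq (hyI.conj m).sq) (hcz hy'β)
  obtain ⟨d, hdβ, hd⟩ := hR'.exists_conj hR
  have h1 : d * (m * y * m⁻¹) * d⁻¹ ∈ R := by
    rw [← hd, mem_map_conj]
    have e1 : d⁻¹ * (d * (m * y * m⁻¹) * d⁻¹) * d = m * y * m⁻¹ := by group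
    rw [e1]
    exact hyR' (mem_zpowers _)
  have hβR : β ∈ R := hR.mem_of_normalizes (isPGroup_zpowers_of_mem c.sylY.two hm) rfl (fun t ht => by
    have e1 : β * t * β⁻¹ = t := by rw [← hR.cent t ht]; group
    rwa [e1])
  obtain ⟨P, hP⟩ := hR.two.exists_le_sylow
  obtain ⟨k, hk⟩ := MulAction.exists_smul_eq G P S
  have hkR : ∀ r ∈ R, k * r * k⁻¹ ∈ S := by
    intro r hr
    rw [← hk]
    exact ⟨r, hP hr, rfl⟩
  set y2 := (d * m) * y * (d * m)⁻¹ with hy2
  have h1' : y2 ∈ R := by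
    have e1 : y2 = d * (m * y * m⁻¹) * d⁻¹ := by rw [hy2]; group
    rw [e1]; exact h1
  have hβ2 : (d * m) * σ * (d * m)⁻¹ = β := by
    calc (d * m) * σ * (d * m)⁻¹ = d * β * d⁻¹ := by rw [hβ]; group
      _ = β := by rw [hdβ]; group
  have hyR2 : y ∈ R := hyR (mem_zpowers _)
  have hc1 : ∀ r ∈ R, (k * β * k⁻¹) * (k * r * k⁻¹) = (k * r * k⁻¹) * (k * β * k⁻¹) := by
    intro r hr
    calc (k * β * k⁻¹) * (k * r * k⁻¹) = k * (β * r) * k⁻¹ := by group
      _ = k * (r * β) * k⁻¹ := by rw [hR.cent r hr]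
      _ = (k * r * k⁻¹) * (k * β * k⁻¹) := by group
  have hy2X : y2 ∈ X := h.conj y c.yX _
  obtain ⟨hβT, i1⟩ := inner_iff h c e (hkR y hyR2) (h.conj y c.yX k) (hkR β hβR) (hc1 y hyR2)
  obtain ⟨-, i2⟩ := inner_iff h c e (hkR y2 h1') (h.conj y2 hy2X k) (hkR β hβR) (hc1 y2 h1')
  rw [h.inner_conj_iff c.yX] at i1
  rw [h.inner_conj_iff hy2X] at i2
  have h3 : Inner K F y2 β := i2.2 (i1.1 hmi)
  rw [← hβ2, hy2, h.inner_conj_iff c.yX] at h3
  exact hσo h3

omit [Finite G] in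
/-- squares of elements of `S - T` are outer -/
theorem sq_outer (h : Sys X K F n) (c : Cfg X K F n T y z g) {s : G} (hsn : ∀ t ∈ T, s * t * s⁻¹ ∈ T)
    (hs : s * y * s⁻¹ = z) (hss : s * s ∈ T) : ¬ Inner K F y (s * s) := by
  intro hi
  obtain ⟨a, ha, b, hb, hab⟩ := (c.innerY _ hss).1 hi
  obtain ⟨r, s0, hd, hr⟩ := c.dihZ
  have hs1 : Inv s0 := ⟨hd.sq, fun h1 => hd.notMem (h1 ▸ one_mem _)⟩
  have hsy : s0 ≠ y := by
    intro h1
    apply hd.notMem
    rw [h1, ← hr]
    exact pow_mem (mem_zpowers r) _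
  apply c.parity s hsn hs s0 hd.smem hs1 hsy b hb
  -- `a ∈ T ∩ K y = T ∩ F z` commutes with `T ∩ K z`
  have haz : a ∈ F z := (c.FzKy a ha.1).2 ha.2
  have hm : b * s0 * b⁻¹ ∈ T ⊓ K z := mul_mem (mul_mem hb hd.smem) (inv_mem hb)
  have h2 : a * (b * s0 * b⁻¹) = (b * s0 * b⁻¹) * a :=
    h.commQD c.sylY.two c.zX ha.1 hm.1 haz hm.2
  calc s * (s * s0 * s⁻¹) * s⁻¹ = (s * s) * s0 * (s * s)⁻¹ := by group
    _ = a * (b * s0 * b⁻¹) * a⁻¹ := by rw [hab]; group
    _ = b * s0 * b⁻¹ := by rw [h2]; group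

/-- (10) -/
theorem ten (h : Sys X K F n) (c : Cfg X K F n T y z g) {S : Sylow 2 G} (e : Eight X K T y z g S)
    (hG : commutator G = ⊤) : False := by
  have hgS : g ∈ S := (e.mem g).2 (Or.inr c.gg)
  have hTS : T ≤ S := fun t ht => (e.mem t).2 (Or.inl ht)
  have hg1 : g ∉ T := by
    intro hg
    have h1 := c.sylY.cent g hg
    have h2 : z = y := by rw [← c.gy, h1]; group
    exact h.disj_inv c.yX c.zK (h2 ▸ h.self y c.yX) (h2 ▸ h.inv y c.yX)
  -- elements of `S - T`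
  have hout : ∀ s ∈ S, s ∉ T → (∀ t ∈ T, s * t * s⁻¹ ∈ T) ∧ s * y * s⁻¹ = z ∧ s * s ∈ T := by
    intro s hs hsT
    rcases (e.mem s).1 hs with h1 | h1
    · exact absurd h1 hsT
    · set t := g * s with ht
      have hs' : s = g⁻¹ * t := by rw [ht]; group
      refine ⟨fun x hx => ?_, ?_, ?_⟩
      · have e1 : s * x * s⁻¹ = g⁻¹ * (t * x * t⁻¹) * g := by rw [hs']; group
        rw [e1]
        exact norm_inv c (mul_mem (mul_mem h1 hx) (inv_mem h1))
      · have e1 : s * y * s⁻¹ = g⁻¹ * (t * y * t⁻¹) * g := by rw [hs']; group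
        rw [e1, c.sylY.cent t h1]
        have e2 : g⁻¹ * (y * t * t⁻¹) * g = g⁻¹ * y * g := by group
        rw [e2, ← c.gz]; group
      · have e1 : s * s = (g⁻¹ * t * g) * (g * g)⁻¹ * t := by rw [hs']; group
        rw [e1]
        exact mul_mem (mul_mem (norm_inv c h1) (inv_mem c.gg)) h1
  -- no fusion from `S - T` into `T`
  have hfus : ∀ s ∈ S, s ∉ T → ∀ m : G, m * s * m⁻¹ ∈ T → False := by
    intro s hs hsT m hm
    obtain ⟨a1, a2, a3⟩ := hout s hs hsT
    have a4 := sq_outer h c a1 a2 a3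
    have e1 : m * (s * s) * m⁻¹ = (m * s * m⁻¹) * (m * s * m⁻¹) := by group
    apply nine h c e (σ := s * s) (m := m) a3 a4
    · rw [e1]; exact mul_mem hm hm
    · rw [e1]
      by_cases hx : Inner K F y (m * s * m⁻¹)
      · exact h.inner_mul c.yX hx hx
      · exact c.mulB _ hm _ hm hx hx
  -- transfer
  have hfoc := Subgroup.commutator_inf_eq_focalSubgroup S
  rw [hG, top_inf_eq] at hfoc
  have hle : focalSubgroup (S : Subgroup G) ≤ T := by
    rw [focalSubgroup_def, closure_le]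
    rintro x ⟨hxS, a, haS, u, rfl⟩
    have hb : u * a⁻¹ * u⁻¹ ∈ S := by
      have e1 : u * a⁻¹ * u⁻¹ = a⁻¹ * ⁅a, u⁆ := by rw [commutatorElement_def]; group
      rw [e1]; exact mul_mem (inv_mem haS) hxS
    have e2 : ⁅a, u⁆ = a * (u * a⁻¹ * u⁻¹) := by rw [commutatorElement_def]; group
    rw [SetLike.mem_coe, e2]
    by_cases haT : a ∈ T
    · by_cases hbT : u * a⁻¹ * u⁻¹ ∈ T
      · exact mul_mem haT hbT
      · exfalso
        apply hfus _ hb hbT u⁻¹
        have e3 : u⁻¹ * (u * a⁻¹ * u⁻¹) * u⁻¹⁻¹ = a⁻¹ := by group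
        rw [e3]; exact inv_mem haT
    · by_cases hbT : u * a⁻¹ * u⁻¹ ∈ T
      · exfalso
        exact hfus a⁻¹ (inv_mem haS) (fun h1 => haT (by simpa using inv_mem h1)) u hbT
      · -- both outside
        have h1 : g * a ∈ T := ((e.mem a).1 haS).resolve_left haT
        have h2 : g * (u * a⁻¹ * u⁻¹) ∈ T := ((e.mem _).1 hb).resolve_left hbT
        have e3 : a * (u * a⁻¹ * u⁻¹) = (g⁻¹ * (g * a) * g) * (g * g)⁻¹ * (g * (u * a⁻¹ * u⁻¹)) := by group
        rw [e3]
        exact mul_mem (mul_mem (norm_inv c h1) (inv_mem c.gg)) h2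
  rw [← hfoc] at hle
  exact hg1 (hle hgS)

end Cfsg.Agent.GH.TOne.NineTen
end

-- part: GH/TOne/InnerPair
section
set_option linter.all false
open scoped Cfsg.Agent.FastGrp

/-!
# Lemma INNER and Case I
-/

set_option autoImplicit false

namespace Cfsg.Agent.GH.TOne

open Subgroup

variable {G : Type*} [Group G] [Finite G] {X : Set G} {K F : G → Subgroup G} {n : ℕ}

omit [Finite G] in
theorem isPGroup_four {a b : G} (ha : Inv a) (hb : Inv b) (hc : a * b = b * a) : IsPGroup 2 (four a b ha hb hc) := by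
  rintro ⟨x, hx⟩
  refine ⟨1, Subtype.ext ?_⟩
  rw [pow_one, pow_two]
  exact four_sq x hx

omit [Finite G] in
theorem four_comm {a b x : G} {ha : Inv a} {hb : Inv b} {hc : a * b = b * a} (h1 : a * x = x * a) (h2 : b * x = x * b) :
    ∀ u ∈ four a b ha hb hc, u * x = x * u := by
  rintro u (rfl | rfl | rfl | rfl)
  · rw [one_mul, mul_one]
  · exact h1
  · exact h2
  · rw [mul_assoc, h2, ← mul_assoc, h1, mul_assoc]

/-- a Sylow 2-subgroup of `C(t)` containing two commuting involutions of `C(t)` -/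
theorem exists_sylC_two {t a b : G} (ha : Inv a) (hb : Inv b) (hc : a * b = b * a) (h1 : a * t = t * a)
    (h2 : b * t = t * b) : ∃ T, SylC t T ∧ a ∈ T ∧ b ∈ T := by
  obtain ⟨T, hT, hle⟩ := exists_sylC (isPGroup_four ha hb hc) (four_comm (x := t) h1 h2)
  exact ⟨T, hT, hle left_mem_four, hle right_mem_four⟩

/-- **Lemma INNER** -/
theorem inner_pair (h : Sys X K F n) {Y : Set G} (hYX : Y ⊆ X) (hYc : ∀ y ∈ Y, ∀ g : G, g * y * g⁻¹ ∈ Y)
    (hYcl : ∀ y ∈ Y, ∀ t ∈ F y, Inv t → t ∈ Y) {y t : G} (hy : y ∈ Y) (ht : t ∈ Y) (hc : y * t = t * y)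
    (htF : t ∉ F y) : ∃ y ∈ Y, ∃ t ∈ Y, y * t = t * y ∧ t ∉ F y ∧ Inner K F y t := by
  by_contra hcon
  push Not at hcon
  have hcon' : ∀ y ∈ Y, ∀ t ∈ Y, y * t = t * y → Inner K F y t → t ∈ F y := by
    intro y hy t ht hc hin
    by_contra hn
    exact hcon y hy t ht hc hn hin
  clear hcon
  have hyX := hYX hy
  have htX := hYX ht
  have iy := h.inv y hyX
  have it := h.inv t htX
  have hyF : y ∉ F t := fun h2 => htF (h.symm htX hyX h2)
  have hyI : ¬ Inner K F t y := fun h2 => hyF (hcon' t ht y hy hc.symm h2)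
  obtain ⟨T, hT, hyT, htT⟩ := exists_sylC_two iy it hc rfl hc.symm
  -- (2)
  have huniq : ∀ a ∈ T ⊓ F y, a * t = t * a → a * a = 1 → a = 1 ∨ a = y := by
    intro a ha hat ha2
    by_contra hne
    push Not at hne
    obtain ⟨ha1, hay⟩ := hne
    have ia : Inv a := ⟨ha2, ha1⟩
    have haF := (mem_inf.1 ha).2
    have hay' : a * y = y * a := h.centF y hyX a haF
    have haY : a ∈ Y := hYcl y hy a haF ia
    have hya : y * a = a * y := hay'.symm
    have haX := hYX haY
    have haFt : a ∉ F t := by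
      intro h2
      have h3 : t ∈ F a := h.symm htX haX h2
      have h4 : y ∈ F a := h.symm hyX haX haF
      exact htF (h.trans hyX haX h4 h3 hc.symm)
    have haI : ¬ Inner K F t a := fun h2 => haFt (hcon' t ht a haY hat.symm h2)
    have iya : Inv (y * a) := iy.mul ia hya (Ne.symm hay)
    have hyaF : y * a ∈ F y := mul_mem (h.self y hyX) haF
    have hyaY : y * a ∈ Y := hYcl y hy _ hyaF iya
    have hyaX := hYX hyaY
    have hyat : y * a * t = t * (y * a) := by rw [mul_assoc, hat, ← mul_assoc, hc, mul_assoc]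
    have hyaFt : y * a ∉ F t := by
      intro h2
      have h3 : t ∈ F (y * a) := h.symm htX hyaX h2
      have h4 : y ∈ F (y * a) := h.symm hyX hyaX hyaF
      exact htF (h.trans hyX hyaX h4 h3 hc.symm)
    obtain ⟨T', hT', hyT', haT'⟩ := exists_sylC_two iy ia hya hc hat
    have h5 := h.outer_mul t htX T' hT' y hyT' a haT' iy ia hya (Ne.symm hay) hyI haI
    exact hyaFt (hcon' t ht _ hyaY hyat.symm h5)
  obtain ⟨w, hw, hwt⟩ := lemmaN hT.two (inf_le_left : T ⊓ F y ≤ T) (h.normF hyX hT) htT it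
    (fun h2 => htF (mem_inf.1 h2).2) huniq (by
      obtain ⟨a, ha, ia, hay⟩ := h.exists_inv_F hyX hT
      exact ⟨a, ha, ia.sq, ia.ne, hay⟩)
  have hty : t * y ∈ Y := hwt ▸ hYc t ht w
  obtain ⟨v, hvK, iv, hvt, k, hkK, hk⟩ := h.zstar y hyX t it hc.symm htF
  have htv : t * v ∈ Y := hk ▸ hYc t ht k
  have hvy : v * y = y * v := h.centK y hyX v hvK
  have htyv : t * (v * y) ∈ Y := by
    have h2 := hYc _ hty k
    have h3 : k * (t * y) * k⁻¹ = t * (v * y) := by
      calc k * (t * y) * k⁻¹ = (k * t * k⁻¹) * (k * y * k⁻¹) := by group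
        _ = t * v * y := by rw [hk, Sys.conj_self (h.centK y hyX k hkK)]
        _ = t * (v * y) := by group
    rwa [h3] at h2
  have hvF : v ∉ F y := fun h2 => h.disj_inv hyX hvK h2 iv
  have hvne : v ≠ y := fun e => hvF (e ▸ h.self y hyX)
  have ivy : Inv (v * y) := iv.mul iy hvy hvne
  -- `v` is not inner at `t`
  have hvI : ¬ Inner K F t v := by
    intro h2
    have h3 : Inner K F t (t * v) := h.inner_mul htX (Sys.inner_of_F (h.self t htX)) h2
    have h4 := hcon' t ht _ htv (by rw [mul_assoc, ← hvt]) h3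
    have h5 : v ∈ F t := by
      have := mul_mem (inv_mem (h.self t htX)) h4
      rwa [inv_mul_cancel_left] at this
    have h6 : v ∈ Y := hYcl t ht v h5 iv
    exact hvF (hcon' y hy v h6 hvy.symm (Sys.inner_of_K hvK))
  have hvyt : v * y * t = t * (v * y) := by rw [mul_assoc, hc, ← mul_assoc, hvt, mul_assoc]
  have hvyI : ¬ Inner K F t (v * y) := by
    intro h2
    have h3 : Inner K F t (t * (v * y)) := h.inner_mul htX (Sys.inner_of_F (h.self t htX)) h2
    have h4 := hcon' t ht _ htyv (by rw [mul_assoc, hvyt]) h3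
    have h5 : v * y ∈ F t := by
      have := mul_mem (inv_mem (h.self t htX)) h4
      rwa [inv_mul_cancel_left] at this
    have h6 : v * y ∈ Y := hYcl t ht _ h5 ivy
    have h7 : v * y ∈ F y := hcon' y hy _ h6 (by rw [← mul_assoc, ← hvy, mul_assoc])
      (h.inner_mul hyX (Sys.inner_of_K hvK) (Sys.inner_of_F (h.self y hyX)))
    have h8 := mul_mem h7 (inv_mem (h.self y hyX))
    rw [mul_inv_cancel_right] at h8
    exact hvF h8
  obtain ⟨T', hT', hvT', hyT'⟩ := exists_sylC_two iv iy hvy hvt hc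
  exact hvyI (h.outer_mul t htX T' hT' v hvT' y hyT' iv iy hvy hvne hvI hyI)

/-- an inner element `t = a b` -/
theorem inner_dec (h : Sys X K F n) {y t : G} (hy : y ∈ X) (it : Inv t) (hin : Inner K F y t) (htF : t ∉ F y) :
    ∃ T, SylC y T ∧ t ∈ T ∧ ∃ a ∈ T ⊓ F y, ∃ b ∈ T ⊓ K y, a * a = 1 ∧ Inv b ∧ t = a * b := by
  have hc := h.inner_comm hy hin
  obtain ⟨T, hT, hle⟩ := exists_sylC (isPGroup_zpowers_of_sq it.sq) (y := y) (by
    intro x hx
    obtain ⟨m, rfl⟩ := mem_zpowers_iff.1 hx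
    exact ((show Commute t y from hc).zpow_left m).eq)
  have htT := hle (mem_zpowers t)
  obtain ⟨a, ha, b, hb, rfl⟩ := h.split y hy T hT t htT hin
  obtain ⟨h1, h2⟩ := h.dec_sq hy hT ha hb it.sq
  refine ⟨T, hT, htT, a, ha, b, hb, h1, ⟨h2, fun e => htF ?_⟩, rfl⟩
  rw [e, mul_one]; exact (mem_inf.1 ha).2

/-- four-groups of `T ∩ F y` containing a given involution -/
theorem exists_VF (h : Sys X K F n) {y : G} {T : Subgroup G} (hy : y ∈ X) (hT : SylC y T) {a : G}
    (ha : a ∈ T ⊓ F y) : ∃ V : Subgroup G, V ≤ T ⊓ F y ∧ Nat.card V = 4 ∧ (∀ v ∈ V, v * v = 1) ∧ y ∈ V ∧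
      (a * a = 1 → a ∈ V) := by
  have iy := h.inv y hy
  have hyT : y ∈ T ⊓ F y := mem_inf.2 ⟨h.mem_T hy hT, h.self y hy⟩
  by_cases hex : a * a = 1 ∧ a ≠ 1 ∧ a ≠ y
  · obtain ⟨h1, h2, h3⟩ := hex
    have hc : y * a = a * y := (h.centF y hy a (mem_inf.1 ha).2).symm
    exact ⟨four y a iy ⟨h1, h2⟩ hc, four_le hyT ha, card_four (Ne.symm h3), four_sq, left_mem_four,
      fun _ => right_mem_four⟩
  · obtain ⟨b, hb, ib, hby⟩ := h.exists_inv_F hy hT
    have hc : y * b = b * y := (h.centF y hy b (mem_inf.1 hb).2).symm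
    refine ⟨four y b iy ib hc, four_le hyT hb, card_four (Ne.symm hby), four_sq, left_mem_four, fun ha2 => ?_⟩
    push Not at hex
    by_cases ha1 : a = 1
    · rw [ha1]; exact one_mem _
    · rw [hex ha2 ha1]; exact left_mem_four

omit [Finite G] in
/-- four-groups of a dihedral group containing a given involution and the centre -/
theorem exists_UD {D : Subgroup G} {r s : G} (d : Dih n D r s) (hn : 2 ≤ n) (b : G) (hb : b ∈ D) :
    ∃ U : Subgroup G, U ≤ D ∧ Nat.card U = 4 ∧ (∀ u ∈ U, u * u = 1) ∧ r ^ 2 ^ (n - 2) ∈ U ∧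
      (b * b = 1 → b ∈ U) := by
  by_cases hex : b * b = 1 ∧ b ≠ 1 ∧ b ≠ r ^ 2 ^ (n - 2)
  · obtain ⟨h1, h2, h3⟩ := hex
    exact ⟨four _ b (d.zInv hn) ⟨h1, h2⟩ (d.z_comm hn hb), four_le d.z_mem hb, card_four (Ne.symm h3), four_sq,
      left_mem_four, fun _ => right_mem_four⟩
  · refine ⟨four _ s (d.zInv hn) d.sInv (d.z_comm hn d.smem), four_le d.z_mem d.smem, card_four d.z_ne_s,
      four_sq, left_mem_four, fun hb2 => ?_⟩
    push Not at hex
    by_cases hb1 : b = 1
    · rw [hb1]; exact one_mem _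
    · rw [hex hb2 hb1]; exact left_mem_four

/-- **Case I** -/
theorem caseI (h : Sys X K F n) (hr : RankFour G) (h1 : AllTOne X K F) (hS : LemS X F) (hne : X.Nonempty) :
    ∃ y ∈ X, ∃ x ∈ K y, Inv x ∧ ∃ g : G, g * y * g⁻¹ = x := by
  obtain ⟨y₀, hy₀⟩ := hne
  obtain ⟨T₀, hT₀, -⟩ := exists_sylC (y := y₀) (P := ⊥) IsPGroup.of_bot (by
    intro x hx; rw [mem_bot.1 hx, one_mul, mul_one])
  obtain ⟨x₀, hx₀, -, -, ix₀, -⟩ := h.exists_four_K hy₀ hT₀
  let Y : Set G := {t | t ∈ X ∧ ∃ x ∈ K t, Inv x ∧ ∃ g : G, g * x₀ * g⁻¹ = x}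
  have hYX : Y ⊆ X := fun t ht => ht.1
  have hall : ∀ t ∈ Y, ∀ x ∈ K t, Inv x → ∃ g : G, g * x₀ * g⁻¹ = x := by
    rintro t ⟨ht, x, hx, ix, g, rfl⟩ x' hx' ix'
    obtain ⟨k, -, rfl⟩ := h.one t ht _ hx _ hx' ix ix'
    exact ⟨k * g, by group⟩
  have hYc : ∀ y ∈ Y, ∀ g : G, g * y * g⁻¹ ∈ Y := by
    rintro y ⟨hy, x, hx, ix, c, rfl⟩ g
    exact ⟨h.conj y hy g, _, h.conjK y hy g _ hx, ix.conj g, g * c, by group⟩
  have hYcl : ∀ y ∈ Y, ∀ t ∈ F y, Inv t → t ∈ Y := by
    intro y hy t htF it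
    have hyX := hYX hy
    have htX := h.closed y hyX t htF it
    have hty : t * y = y * t := h.centF y hyX t htF
    obtain ⟨T, hT, hle⟩ := exists_sylC (isPGroup_zpowers_of_sq it.sq) (y := y) (by
      intro x hx
      obtain ⟨m, rfl⟩ := mem_zpowers_iff.1 hx
      exact ((show Commute t y from hty).zpow_left m).eq)
    have htT := hle (mem_zpowers t)
    obtain ⟨a, ha, -, -, ia, -⟩ := h.exists_four_K hyX hT
    have hat : a * t = t * a := (h.comm_FK hyX hT (mem_inf.2 ⟨htT, htF⟩) ha).symm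
    have haK : a ∈ K t := h.shareK y hyX t htX htF a (h.centK y hyX a (mem_inf.1 ha).2) hat
      (isPGroup_zpowers_of_sq ia.sq) (mem_inf.1 ha).2
    exact ⟨htX, a, haK, ia, hall y hy a (mem_inf.1 ha).2 ia⟩
  obtain ⟨y, hy, t, ht, hyt, htF⟩ := hS Y hYX ⟨y₀, hy₀, x₀, (mem_inf.1 hx₀).2, ix₀, 1, by group⟩ hYc hYcl
  obtain ⟨y, hy, t, ht, hyt, htF, hin⟩ := inner_pair h hYX hYc hYcl hy ht hyt htF
  have hyX := hYX hy
  obtain ⟨T, hT, htT, a, ha, b, hb, ha2, ib, rfl⟩ := inner_dec h hyX (h.inv t (hYX ht)) hin htF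
  have hbY : b ∉ Y → False := by
    intro hbY
    have ha1 : a ≠ 1 := fun e => hbY (by rw [e, one_mul] at ht; exact ht)
    obtain ⟨V, hV, hV4, hV2, hyV, haV⟩ := exists_VF h hyX hT ha
    obtain ⟨r, s, d⟩ := h.dih y hyX T hT
    obtain ⟨U, hU, hU4, hU2, -, hbU⟩ := exists_UD d h.two_le b hb
    have p : Pair X K F V U y := ⟨hyX, hyV, fun v hv => (mem_inf.1 (hV hv)).2, fun u hu => (mem_inf.1 (hU hu)).2,
      hV4, hU4, hV2, hU2, fun v hv u hu => h.comm_FK hyX hT (hV hv) (hU hu)⟩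
    rcases lemmaR h hr h1 p (hYX ht) (mul_mem (mem_sup_left (haV ha2)) (mem_sup_right (hbU ib.sq))) with h2 | h2
    · exact htF (p.VF h2)
    · apply ha1
      apply h.eq_one_FK hyX hT ha
      have h3 := mul_mem (p.UK h2) (inv_mem (mem_inf.1 hb).2)
      rwa [mul_inv_cancel_right] at h3
  have hbY : b ∈ Y := by
    by_contra hcon
    exact hbY hcon
  obtain ⟨hbX, x, hx, ix, g, hg⟩ := hbY
  obtain ⟨c, hc⟩ := hall y hy b (mem_inf.1 hb).2 ib
  refine ⟨b, hbX, x, hx, ix, g * c⁻¹, ?_⟩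
  rw [← hg, ← hc]; group

end Cfsg.Agent.GH.TOne
end

-- part: GH/L2AutField
section
prune_inst 0x4145035441d2200000018050050003e22ca0001000008800088000a000681ec0228030061b4b011021002a0446038006813880040420000000a000000011c01800000020010008000020000000000000000000000000000000000000000000000000000000
set_option linter.all false
open scoped Cfsg.Agent.FastGrp

/-!
# Automorphisms of `L ≅ PSL(2,F)` of field type

`R : Rep F L`, `α : MulAut L`, `α * α = 1`, `R.fld α ≠ 1`.
* `exists_fInv` : `α = gl h * fa σ * (gl h)⁻¹`, `σ = R.fld α`, with the data `FInv`;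
* `sig_iff`, `sig_of_inv` (f5) : `α = conj y * fa (fld α)`;
* `exists_fix_sylow` (f6a) : a conjugate of `α` under `L` centralizes a given Sylow 2-subgroup;
* `exists_conj_mul` (f6b) : `α` and `conj s * α` are `L`-conjugate for some `s` in a generating set of
  involutions of a Sylow 2-subgroup centralized by `α`;
* `sig_of_comm` (f6c) : what commutes with `α` is of the form `conj y * fa τ`;
* `sq_eq_one` (f4) : a 2-element centralizing a Sylow 2-subgroup of `L` has square one.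
-/

set_option autoImplicit false
set_option linter.unusedSectionVars false

namespace Cfsg.Agent.GH.L2AutField

open Matrix Cfsg.Agent.Lib.SL2Mat Cfsg.Agent.Lib.AutSL2 Cfsg.Agent.Lib.AutSL2Out
open Cfsg.Agent.GH.L2Aut Cfsg.Agent.LFourA.FieldInv

section base

variable {F : Type*} [Field F] [Finite F] {L : Type*} [Group L]
  (R : Cfsg.Agent.GH.L2Aut.Rep F L)

local notation "SL2" => Matrix.SpecialLinearGroup (Fin 2) F
local notation "M2" => Matrix (Fin 2) (Fin 2) F

theorem det_ne (g : GL (Fin 2) F) : g.1.det ≠ 0 := gl_det_ne g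

theorem det_inv' (g : GL (Fin 2) F) : g⁻¹.1.det = (g.1.det)⁻¹ := by
  have h1 : g.1.det * g⁻¹.1.det = 1 := by
    rw [← Matrix.det_mul, ← Units.val_mul, mul_inv_cancel, Units.val_one, Matrix.det_one]
  exact eq_inv_of_mul_eq_one_right h1

theorem det_map (σ : F ≃+* F) (g : GL (Fin 2) F) :
    (Matrix.GeneralLinearGroup.map σ.toRingHom g).1.det = σ g.1.det := by
  change (g.1.map σ.toRingHom).det = _
  rw [← RingHom.mapMatrix_apply, ← RingHom.map_det]
  rfl

/-- `u / σ u` is a square -/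
theorem isSquare_div (σ : F ≃+* F) {u : F} (hu : u ≠ 0) : IsSquare (u * (σ u)⁻¹) := by
  obtain ⟨a, ha⟩ := isSquare_mul_map σ u
  have h0 : σ u ≠ 0 := by
    intro h
    exact hu (σ.injective (by rw [h, map_zero]))
  refine ⟨a * (σ u)⁻¹, ?_⟩
  field_simp
  linear_combination ha

/-- decomposition and determinant class -/
theorem sig_iff {α : MulAut L} {g : GL (Fin 2) F} (h : α = R.gl g * R.fa (R.fld α)) :
    (∃ y : L, α = MulAut.conj y * R.fa (R.fld α)) ↔ IsSquare g.1.det := by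
  rw [← R.gl_mem_inn]
  constructor
  · rintro ⟨y, hy⟩
    exact ⟨y, mul_right_cancel (hy.symm.trans h)⟩
  · rintro ⟨y, hy⟩
    exact ⟨y, by rw [hy]; exact h⟩

theorem sig_of {α : MulAut L} {g : GL (Fin 2) F} {σ : F ≃+* F} (h : α = R.gl g * R.fa σ)
    (hg : IsSquare g.1.det) : ∃ y : L, α = MulAut.conj y * R.fa (R.fld α) := by
  have h1 : R.fld α = σ := by rw [h, map_mul, R.fld_gl, R.fld_fa, one_mul]
  exact (sig_iff R (by rw [h1]; exact h)).2 hg

/-- (A) involutory automorphisms outside `PGL(2,F)` are field involutions -/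
theorem exists_fInv {α : MulAut L} (hα : α * α = 1) (hf : R.fld α ≠ 1) :
    ∃ (h : GL (Fin 2) F) (K : Subfield F),
      FInv (R.π.comp (conjGL h).toMonoidHom) α (R.fld α) K ∧
      α = R.gl h * R.fa (R.fld α) * (R.gl h)⁻¹ := by
  have hα' : ∀ z, α (α z) = z := fun z => DFunLike.congr_fun hα z
  have hno : ¬ ∃ g : GL (Fin 2) F, ∀ x, α (R.π x) = R.π (conjGL g x) := by
    rintro ⟨g, hg⟩
    apply hf
    have h1 : α = R.gl g := R.ext_π fun x => by rw [hg, R.gl_apply]
    rw [h1, R.fld_gl]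
  obtain ⟨h, σ, K, H⟩ := exists_finv R.two R.surj R.ker hα' hno
  have h1 : α = R.gl h * R.fa σ * (R.gl h)⁻¹ := by
    apply R.ext_π
    intro x
    obtain ⟨y, rfl⟩ := (conjGL h).surjective x
    have h2 := H.act y
    change α (R.π (conjGL h y)) = R.π (conjGL h (fieldAut σ y)) at h2
    rw [h2, MulAut.mul_apply, MulAut.mul_apply, ← R.gl_apply h y, MulAut.inv_apply_self, R.fa_apply,
      R.gl_apply]
  have h2 : R.fld α = σ := by
    rw [h1, map_mul, map_mul, map_inv, R.fld_gl, R.fld_fa, one_mul, inv_one, mul_one]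
  refine ⟨h, K, ?_, ?_⟩
  · rw [h2]; exact H
  · rw [h2]; exact h1

/-- (f6c) -/
theorem sig_of_comm {α β : MulAut L} (hα : α * α = 1) (hf : R.fld α ≠ 1) (hc : β * α = α * β) :
    ∃ y : L, β = MulAut.conj y * R.fa (R.fld β) := by
  obtain ⟨h, K, H, h1⟩ := exists_fInv R hα hf
  obtain ⟨σ, hσ⟩ : ∃ σ, σ = R.fld α := ⟨_, rfl⟩
  rw [← hσ] at h1 H hf
  obtain ⟨g, hg⟩ := R.exists_eq β
  obtain ⟨τ, hτ⟩ : ∃ τ, τ = R.fld β := ⟨_, rfl⟩
  rw [← hτ] at hg
  -- the conjugate of `β`
  obtain ⟨k, hk⟩ : ∃ k : GL (Fin 2) F, k = h⁻¹ * g * Matrix.GeneralLinearGroup.map τ.toRingHom h :=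
    ⟨_, rfl⟩
  have hβ : (R.gl h)⁻¹ * β * R.gl h = R.gl k * R.fa τ := by
    rw [hg, hk, map_mul, map_mul, map_inv, mul_assoc, mul_assoc, R.fa_mul_gl, mul_assoc, mul_assoc]
  have hc1 : (R.gl k * R.fa τ) * R.fa σ = R.fa σ * (R.gl k * R.fa τ) := by
    rw [← hβ]
    have h3 : R.fa σ = (R.gl h)⁻¹ * α * R.gl h := by rw [h1]; group
    rw [h3]
    calc (R.gl h)⁻¹ * β * R.gl h * ((R.gl h)⁻¹ * α * R.gl h) = (R.gl h)⁻¹ * (β * α) * R.gl h := by
          group
      _ = (R.gl h)⁻¹ * (α * β) * R.gl h := by rw [hc]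
      _ = (R.gl h)⁻¹ * α * R.gl h * ((R.gl h)⁻¹ * β * R.gl h) := by group
  have hc2 : R.gl (Matrix.GeneralLinearGroup.map σ.toRingHom k) = R.gl k := by
    have h3 : R.fa τ * R.fa σ = R.fa σ * R.fa τ := by
      rw [← map_mul, ← map_mul, ringEquiv_comm]
    rw [mul_assoc, h3, ← mul_assoc, ← mul_assoc] at hc1
    have h4 := mul_right_cancel hc1
    rw [R.fa_mul_gl] at h4
    exact (mul_right_cancel h4).symm
  have hc3 : R.gl (k⁻¹ * Matrix.GeneralLinearGroup.map σ.toRingHom k) = 1 := by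
    rw [map_mul, map_inv, hc2, inv_mul_cancel]
  obtain ⟨c, hcc⟩ := R.gl_eq_one_iff.1 hc3
  have hmap : k.1.map σ = c • k.1 := by
    have h3 : (k * (k⁻¹ * Matrix.GeneralLinearGroup.map σ.toRingHom k)).1 =
        (Matrix.GeneralLinearGroup.map σ.toRingHom k).1 := by rw [mul_inv_cancel_left]
    rw [Units.val_mul, hcc, Matrix.mul_smul, Matrix.mul_one] at h3
    exact h3.symm
  have hu0 : k.1.det ≠ 0 := det_ne k
  have hdet : σ k.1.det = c ^ 2 * k.1.det := by
    have h3 : (k.1.map σ).det = σ k.1.det := det_map σ k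
    rw [← h3, hmap, Matrix.det_smul, Fintype.card_fin]
  have hcσ : c * σ c = 1 := by
    obtain ⟨i, j, hij⟩ : ∃ i j, k.1 i j ≠ 0 := by
      by_contra hcon
      push Not at hcon
      apply hu0
      rw [Matrix.det_fin_two, hcon, hcon, hcon]; ring
    have h3 : ∀ i j, σ (k.1 i j) = c * k.1 i j := fun i j => congrFun (congrFun hmap i) j
    have h4 := congrArg σ (h3 i j)
    rw [H.inv, map_mul, h3] at h4
    have h5 : (c * σ c - 1) * k.1 i j = 0 := by linear_combination -h4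
    rcases mul_eq_zero.1 h5 with h6 | h6
    · exact sub_eq_zero.1 h6
    · exact absurd h6 hij
  have hsq : IsSquare k.1.det := by
    refine Cfsg.Agent.Classification.TypeB.SigAut.isSquare_of_conj R.two H.inv hf hu0
      (l := c * k.1.det) ?_ ?_
    · rw [hdet]; ring
    · rw [map_mul, hdet]
      linear_combination (c * k.1.det) * hcσ
  -- back to `g`
  have hg2 : IsSquare g.1.det := by
    have h3 : g = h * k * (Matrix.GeneralLinearGroup.map τ.toRingHom h)⁻¹ := by rw [hk]; group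
    have h4 : g.1.det = k.1.det * (h.1.det * (τ h.1.det)⁻¹) := by
      rw [h3, Units.val_mul, Units.val_mul, Matrix.det_mul, Matrix.det_mul, det_inv', det_map]
      ring
    rw [h4]
    exact hsq.mul (isSquare_div τ (det_ne h))
  exact sig_of R hg hg2

end base

section card

variable {L : Type*} [Group L]

/-- `x² + ν y² = c` is solvable in a finite field of odd order -/
theorem exists_sq_add {K : Type*} [Field K] [Finite K] (h2 : (2 : K) ≠ 0) {ν : K} (hν : ν ≠ 0)
    (c : K) : ∃ x y : K, x ^ 2 + ν * y ^ 2 = c := by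
  have := Fintype.ofFinite K
  have hodd : Fintype.card K % 2 = 1 := by
    have h3 : ringChar K ≠ 2 := by
      intro h
      apply h2
      have h4 := ringChar.Nat.cast_ringChar (R := K)
      rw [h] at h4
      exact_mod_cast h4
    exact FiniteField.odd_card_of_char_ne_two h3
  have h := FiniteField.exists_root_sum_quadratic (R := K) (f := Polynomial.C ν * Polynomial.X ^ 2)
    (g := Polynomial.X ^ 2 - Polynomial.C c) (Polynomial.degree_C_mul_X_pow 2 hν)
    (Polynomial.degree_X_pow_sub_C (by decide) _) hodd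
  obtain ⟨a, b, hab⟩ := h
  refine ⟨b, a, ?_⟩
  simp only [Polynomial.eval_pow, Polynomial.eval_X, Polynomial.eval_sub, Polynomial.eval_C,
    Polynomial.eval_mul] at hab
  linear_combination hab

/-- the image of `SL(2,E)` modulo `±1` -/
theorem card_range {E : Type*} [Field E] [Finite E] (h2 : (2 : E) ≠ 0)
    (f : Matrix.SpecialLinearGroup (Fin 2) E →* L) (hk : ∀ x, f x = 1 ↔ x = 1 ∨ x = -1) :
    2 * Nat.card f.range = Nat.card E * (Nat.card E ^ 2 - 1) := by
  have := Fintype.ofFinite E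
  have h1 : Nat.card f.ker = 2 := by
    have h3 : (f.ker : Set (Matrix.SpecialLinearGroup (Fin 2) E)) = {1, -1} := by
      ext x
      rw [SetLike.mem_coe, MonoidHom.mem_ker, hk]
      rfl
    have h4 : (1 : Matrix.SpecialLinearGroup (Fin 2) E) ≠ -1 := by
      intro h
      have h5 := congrArg (fun x => ent x 0 0) h
      have h6 : (1 : E) = -1 := h5
      apply h2
      linear_combination h6
    have h5 : Nat.card f.ker = (f.ker : Set (Matrix.SpecialLinearGroup (Fin 2) E)).ncard := rfl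
    rw [h5, h3, Set.ncard_pair h4]
  have h3 := Subgroup.card_eq_card_quotient_mul_card_subgroup f.ker
  have h4 := Nat.card_congr (QuotientGroup.quotientKerEquivRange f).toEquiv
  rw [h4, h1, Cfsg.Agent.ClassicalGeometry.PSL2Basic.card_SL2, ← Nat.card_eq_fintype_card] at h3
  rw [mul_comm, ← h3]

end card

section fix

variable {F : Type*} [Field F] [Finite F] {L : Type*} [Group L]
  {π : Matrix.SpecialLinearGroup (Fin 2) F →* L} {α : MulAut L} {σ : F ≃+* F} {K : Subfield F}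

local notation "SL2" => Matrix.SpecialLinearGroup (Fin 2) F

theorem two_ne (h : FInv π α σ K) : (2 : K) ≠ 0 := by
  intro h0
  apply h.two
  have h1 : K.subtype 2 = K.subtype 0 := by rw [h0]
  rwa [map_ofNat, map_zero] at h1

theorem mem_sub_of_fix (H : FInv π α σ K) {x : SL2} (hx : fieldAut σ x = x) :
    π x ∈ H.sub.range := by
  have hK : ∀ i j, x.1 i j ∈ K := fun i j =>
    (H.mem _).2 (congrArg (fun y : SL2 => ent y i j) hx)
  obtain ⟨M, hM⟩ : ∃ M : Matrix (Fin 2) (Fin 2) K, ∀ i j, ((M i j : K) : F) = x.1 i j :=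
    ⟨fun i j => ⟨x.1 i j, hK i j⟩, fun i j => rfl⟩
  have hdet : M.det = 1 := by
    apply Subtype.ext
    have h1 := sl_det x
    rw [Matrix.det_fin_two, ← hM, ← hM, ← hM, ← hM] at h1
    rw [Matrix.det_fin_two]
    push_cast
    exact h1
  refine ⟨⟨M, hdet⟩, ?_⟩
  change π (Matrix.SpecialLinearGroup.map K.subtype _) = π x
  congr 1
  apply Subtype.ext
  ext i j
  exact hM i j

theorem sub_eq_one_iff (H : FInv π α σ K) (y : Matrix.SpecialLinearGroup (Fin 2) K) :
    H.sub y = 1 ↔ y = 1 ∨ y = -1 := by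
  change π (Matrix.SpecialLinearGroup.map K.subtype y) = 1 ↔ _
  rw [H.ker]
  have hinj : Function.Injective (Matrix.SpecialLinearGroup.map (n := Fin 2) K.subtype) := by
    intro a b hab
    apply Subtype.ext
    ext i j
    exact congrArg (fun y : SL2 => ent y i j) hab
  have h1 : Matrix.SpecialLinearGroup.map (n := Fin 2) K.subtype (-1) = -1 := by
    apply Subtype.ext
    ext i j
    change ((((-1 : Matrix (Fin 2) (Fin 2) K) i j : K)) : F) = (-1 : Matrix (Fin 2) (Fin 2) F) i j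
    rw [Matrix.neg_apply, Matrix.neg_apply]
    by_cases hij : i = j
    · rw [hij, Matrix.one_apply_eq, Matrix.one_apply_eq]; rfl
    · rw [Matrix.one_apply_ne hij, Matrix.one_apply_ne hij, neg_zero, neg_zero]; rfl
  rw [← hinj.eq_iff (a := y) (b := 1), ← hinj.eq_iff (a := y) (b := -1), map_one, h1]

theorem card_rel (H : FInv π α σ K) :
    Nat.card L = Nat.card H.sub.range * (Nat.card K * (Nat.card K ^ 2 + 1)) := by
  have h1 := card_range H.two π H.ker
  have h2 := card_range ((two_ne H :)) H.sub (sub_eq_one_iff H)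
  rw [MonoidHom.range_eq_top.2 H.surj, Subgroup.card_top, H.card] at h1
  have hq : 1 ≤ Nat.card K := Nat.card_pos
  obtain ⟨m, hm⟩ : ∃ m, Nat.card K = m + 1 := ⟨Nat.card K - 1, by omega⟩
  have h3 : Nat.card K ^ 2 - 1 = m * (m + 2) := by
    rw [hm]
    have : (m + 1) ^ 2 = m * (m + 2) + 1 := by ring
    omega
  have h4 : (Nat.card K ^ 2) ^ 2 - 1 = m * (m + 2) * (Nat.card K ^ 2 + 1) := by
    rw [hm]
    have : ((m + 1) ^ 2) ^ 2 = m * (m + 2) * ((m + 1) ^ 2 + 1) + 1 := by ring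
    omega
  rw [h4] at h1
  rw [h3] at h2
  have h5 : 2 * Nat.card L = 2 * (Nat.card H.sub.range * (Nat.card K * (Nat.card K ^ 2 + 1))) := by
    rw [h1]
    calc Nat.card K ^ 2 * (m * (m + 2) * (Nat.card K ^ 2 + 1)) =
        (Nat.card K * (m * (m + 2))) * (Nat.card K * (Nat.card K ^ 2 + 1)) := by ring
      _ = 2 * Nat.card H.sub.range * (Nat.card K * (Nat.card K ^ 2 + 1)) := by rw [h2]
      _ = _ := by ring
  omega

theorem odd_card_K (H : FInv π α σ K) : Nat.card K % 2 = 1 := by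
  have := Fintype.ofFinite K
  have h3 : ringChar K ≠ 2 := by
    intro h
    apply (two_ne H)
    have h4 := ringChar.Nat.cast_ringChar (R := K)
    rw [h] at h4
    exact_mod_cast h4
  rw [Nat.card_eq_fintype_card]
  exact FiniteField.odd_card_of_char_ne_two h3

/-- a Sylow 2-subgroup of `L` is not contained in `PSL(2,K)` -/
theorem not_le_sub (H : FInv π α σ K) (S : Sylow 2 L) : ¬ (S : Subgroup L) ≤ H.sub.range := by
  intro hle
  have hfin : Finite L := Finite.of_surjective _ H.surj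
  obtain ⟨m, hm⟩ := Subgroup.card_dvd_of_le hle
  have h1 := card_rel H
  rw [hm] at h1
  have h2 := Subgroup.card_mul_index (S : Subgroup L)
  have h3 : ¬ 2 ∣ (S : Subgroup L).index := S.not_dvd_index
  apply h3
  have h4 : Nat.card (S : Subgroup L) * (S : Subgroup L).index =
      Nat.card (S : Subgroup L) * (m * (Nat.card K * (Nat.card K ^ 2 + 1))) := by
    rw [h2, h1, mul_assoc]
  rw [Nat.eq_of_mul_eq_mul_left Nat.card_pos h4]
  apply Dvd.dvd.mul_left
  apply Dvd.dvd.mul_left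
  have h5 := odd_card_K H
  have h6 : Nat.card K ^ 2 % 2 = 1 := by rw [Nat.pow_mod, h5]
  omega

theorem exists_norm_sq (H : FInv π α σ K) : ∃ a : F, a ^ 2 + σ a ^ 2 = 1 := by
  obtain ⟨δ, hδ0, hδ⟩ := H.exists_anti
  have hν : δ ^ 2 ∈ K := (H.mem _).2 (by rw [map_pow, hδ, neg_sq])
  have hν0 : (⟨δ ^ 2, hν⟩ : K) ≠ 0 := by
    intro h
    exact hδ0 (pow_eq_zero_iff (two_ne_zero)|>.1 (congrArg Subtype.val h))
  obtain ⟨s, t, hst⟩ := exists_sq_add ((two_ne H :)) hν0 (2⁻¹ : K)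
  refine ⟨(s : F) + (t : F) * δ, ?_⟩
  have hs : σ (s : F) = s := (H.mem _).1 s.2
  have ht : σ (t : F) = t := (H.mem _).1 t.2
  rw [map_add, map_mul, hs, ht, hδ]
  have h1 : (s : F) ^ 2 + δ ^ 2 * (t : F) ^ 2 = (2 : F)⁻¹ := congrArg Subtype.val hst
  have h2 : (2 : F) * (2 : F)⁻¹ = 1 := mul_inv_cancel₀ H.two
  linear_combination 2 * h1 + h2

/-- the crucial equation -/
theorem key (H : FInv π α σ K) {s : L} (hs : s * s = 1) (hs1 : s ≠ 1) (hα : α s = s)
    (hns : s ∉ H.sub.range) : ∃ k : L, s * α k = k := by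
  obtain ⟨x, rfl⟩ := H.surj s
  have hxx : x * x = -1 := by
    rw [← map_mul, H.ker] at hs
    rcases hs with h | h
    · exfalso
      apply hs1
      rw [H.ker]
      exact Cfsg.Agent.Lib.PSL2Inv.sq_eq_one H.two h
    · exact h
  rw [H.alpha_eq_iff] at hα
  rcases hα with hx | hx
  · exact (hns (mem_sub_of_fix H hx)).elim
  · obtain ⟨a, ha⟩ := exists_norm_sq H
    have htr := Cfsg.Agent.Lib.PSL2Inv.tr_of_sq H.two hxx
    have hdet := det_eq x
    have hσ : ∀ i j, σ (ent x i j) = -ent x i j := fun i j => by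
      rw [← fieldAut_ent, hx]; rfl
    rw [htr] at hdet
    obtain ⟨k, hk00, hk01, hk10, hk11⟩ : ∃ k : SL2, ent k 0 0 = a + σ a * ent x 0 0 ∧
        ent k 0 1 = σ a * ent x 0 1 ∧ ent k 1 0 = σ a * ent x 1 0 ∧
        ent k 1 1 = a - σ a * ent x 0 0 := by
      refine ⟨mk (a + σ a * ent x 0 0) (σ a * ent x 0 1) (σ a * ent x 1 0) (a - σ a * ent x 0 0) ?_,
        rfl, rfl, rfl, rfl⟩
      linear_combination ha + σ a ^ 2 * hdet
    have hxk : x * fieldAut σ k = k := by
      apply ext_ent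
      · rw [ent_mul, fieldAut_ent, fieldAut_ent, hk00, hk10, map_add, map_mul, map_mul, H.inv, hσ, hσ]
        linear_combination a * hdet
      · rw [ent_mul, fieldAut_ent, fieldAut_ent, hk01, hk11, map_sub, map_mul, map_mul, H.inv, hσ, hσ]
        ring
      · rw [ent_mul, fieldAut_ent, fieldAut_ent, hk00, hk10, map_add, map_mul, map_mul, H.inv, hσ, hσ,
          htr]
        ring
      · rw [ent_mul, fieldAut_ent, fieldAut_ent, hk01, hk11, map_sub, map_mul, map_mul, H.inv, hσ, hσ,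
          htr]
        linear_combination a * hdet
    refine ⟨π k, ?_⟩
    rw [H.act, ← map_mul, hxk]

end fix

section main

variable {F : Type*} [Field F] [Finite F] {L : Type*} [Group L]
  (R : Cfsg.Agent.GH.L2Aut.Rep F L)

local notation "SL2" => Matrix.SpecialLinearGroup (Fin 2) F

/-- the centralizer of a field involution has odd index -/
theorem exists_conj_of_index [Finite L] (C : Subgroup L) (hC : ¬ 2 ∣ C.index) (S : Subgroup L)
    (hS : IsPGroup 2 S) : ∃ k : L, ∀ s ∈ S, k⁻¹ * s * k ∈ C := by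
  have : Fact (Nat.Prime 2) := ⟨Nat.prime_two⟩
  have h1 : ¬ 2 ∣ Nat.card (L ⧸ C) := hC
  obtain ⟨v, hv⟩ := hS.nonempty_fixed_point_of_prime_not_dvd_card (L ⧸ C) h1
  obtain ⟨k, rfl⟩ := QuotientGroup.mk_surjective v
  refine ⟨k, fun s hs => ?_⟩
  have h2 : ((s * k : L) : L ⧸ C) = (k : L ⧸ C) := hv ⟨s, hs⟩
  have h3 := QuotientGroup.eq.1 h2.symm
  rwa [← mul_assoc] at h3

/-- the centralizer of a field involution has odd index -/
theorem odd_index {π : SL2 →* L} {α : MulAut L} {σ : F ≃+* F} {K : Subfield F}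
    (H : FInv π α σ K) : ¬ 2 ∣ H.psi.range.index := by
  have hfin : Finite L := Finite.of_surjective _ H.surj
  have hle : H.sub.range ≤ H.psi.range := by
    rintro _ ⟨y, rfl⟩
    exact ⟨_, H.psi_sub y⟩
  have h2 : H.sub.range.relIndex H.psi.range = 2 := by
    have := Fintype.ofFinite K
    have hch : ringChar K ≠ 2 := by
      intro h
      apply (two_ne H)
      have h4 := ringChar.Nat.cast_ringChar (R := K)
      rw [h] at h4
      exact_mod_cast h4
    obtain ⟨ν, hν⟩ := FiniteField.exists_nonsquare hch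
    have hν0 : ν ≠ 0 := by rintro rfl; exact hν IsSquare.zero
    rw [Subgroup.relIndex, Subgroup.index_eq_two_iff]
    refine ⟨⟨H.psi (Matrix.GeneralLinearGroup.mkOfDetNeZero !![ν, 0; 0, 1]
      (by rw [Matrix.det_fin_two_of]; simpa using hν0)), ⟨_, rfl⟩⟩, ?_⟩
    rintro ⟨_, ⟨Y, rfl⟩⟩
    rw [Subgroup.mem_subgroupOf, Subgroup.mem_subgroupOf]
    change Xor (H.psi Y * H.psi _ ∈ H.sub.range) (H.psi Y ∈ H.sub.range)
    rw [← map_mul, H.psi_mem_sub, H.psi_mem_sub]
    have hdet : (Y * Matrix.GeneralLinearGroup.mkOfDetNeZero !![ν, 0; 0, 1]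
      (by rw [Matrix.det_fin_two_of]; simpa using hν0)).1.det = Y.1.det * ν := by
      rw [Units.val_mul, Matrix.det_mul]
      congr 1
      change (!![ν, 0; 0, 1] : Matrix (Fin 2) (Fin 2) K).det = ν
      rw [Matrix.det_fin_two_of]; ring
    rw [hdet]
    have hsq : ∀ c : K, (∃ s : K, s ^ 2 = c) ↔ IsSquare c := by
      intro c
      constructor
      · rintro ⟨s, rfl⟩; exact ⟨s, sq s⟩
      · rintro ⟨s, rfl⟩; exact ⟨s, sq s⟩
    rw [hsq, hsq]
    have hY : Y.1.det ≠ 0 := gl_det_ne Y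
    by_cases hY2 : IsSquare Y.1.det
    · right
      refine ⟨hY2, fun h => hν ?_⟩
      obtain ⟨a, ha⟩ := hY2
      obtain ⟨b, hb⟩ := h
      have ha0 : a ≠ 0 := by
        rintro rfl
        apply hY
        rw [ha, mul_zero]
      refine ⟨b * a⁻¹, ?_⟩
      rw [ha] at hb
      field_simp
      linear_combination hb
    · left
      exact ⟨isSquare_mul_of_not hY2 hν, hY2⟩
  have h3 := Subgroup.relIndex_mul_index hle
  have h4 := Subgroup.card_mul_index H.sub.range
  rw [card_rel H] at h4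
  have h5 := Nat.eq_of_mul_eq_mul_left Nat.card_pos h4
  rw [h2, h5] at h3
  intro hdvd
  obtain ⟨m, hm⟩ := hdvd
  rw [hm] at h3
  have h6 := odd_card_K H
  obtain ⟨j, hj⟩ : ∃ j, Nat.card K = 2 * j + 1 := ⟨Nat.card K / 2, by omega⟩
  rw [hj] at h3
  have h7 : (2 * j + 1) * ((2 * j + 1) ^ 2 + 1) = 2 * (2 * (2 * j ^ 3 + 3 * j ^ 2 + 2 * j) + 1) := by
    ring
  omega

/-- (f6a) -/
theorem exists_fix_sylow {α : MulAut L} (hα : α * α = 1) (hf : R.fld α ≠ 1) (S : Sylow 2 L) :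
    ∃ k : L, ∀ s ∈ S, (MulAut.conj k * α * (MulAut.conj k)⁻¹) s = s := by
  obtain ⟨h, K, H, -⟩ := exists_fInv R hα hf
  have hfin : Finite L := R.finite
  obtain ⟨k, hk⟩ := exists_conj_of_index _ (odd_index H) (S : Subgroup L) S.2
  refine ⟨k, fun s hs => ?_⟩
  have h1 := (H.psi_range).1 (hk s hs)
  rw [MulAut.mul_apply, MulAut.mul_apply, ← map_inv, MulAut.conj_apply, MulAut.conj_apply, inv_inv,
    h1]
  group

include R in
/-- (f4) a 2-element centralizing a Sylow 2-subgroup of `L` has square one -/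
theorem sq_eq_one {β : MulAut L} (hβ : ∃ n, β ^ 2 ^ n = 1) (S : Sylow 2 L)
    (hS : ∀ s ∈ S, β s = s) : β * β = 1 := by
  obtain ⟨a, b, ha, hb, hab⟩ := R.exists_four_mem S
  obtain ⟨Φ, y, δ, hfld, hΦa, hΦb, -, -, -, -, -, -, -, -, -, -, hfix, -⟩ := R.exists_frame hab
  obtain ⟨u, hu, hβu⟩ := hfix β (hS a ha) (hS b hb)
  obtain ⟨τ, hτ⟩ : ∃ τ, τ = R.fld β := ⟨_, rfl⟩
  rw [← hτ] at hβu
  have huu : u * u = 1 ∧ Φ τ u = u := by
    rcases hu with rfl | rfl | rfl | rfl
    · exact ⟨one_mul 1, map_one _⟩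
    · exact ⟨hab.aa, hΦa τ⟩
    · exact ⟨hab.bb, hΦb τ⟩
    · exact ⟨hab.right.bb, by rw [map_mul, hΦa, hΦb]⟩
  have hsq : β * β = Φ (τ * τ) := by
    have h1 : Φ τ * MulAut.conj u = MulAut.conj u * Φ τ := by
      have h2 := conj_conj (Φ τ) u
      rw [huu.2, mul_inv_eq_iff_eq_mul] at h2
      exact h2
    calc β * β = MulAut.conj u * (Φ τ * MulAut.conj u) * Φ τ := by rw [hβu]; simp only [mul_assoc]
      _ = MulAut.conj (u * u) * (Φ τ * Φ τ) := by rw [h1, map_mul]; simp only [mul_assoc]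
      _ = Φ (τ * τ) := by rw [huu.1, map_one, one_mul, map_mul]
  by_contra hne
  have hρ : τ * τ ≠ 1 := by
    intro h
    rw [h, map_one] at hsq
    exact hne hsq
  -- a power of order two
  obtain ⟨m, hm1, hm2⟩ : ∃ m : ℕ, (τ * τ) ^ m ≠ 1 ∧ (τ * τ) ^ m * (τ * τ) ^ m = 1 := by
    classical
    have hex : ∃ n, (τ * τ) ^ 2 ^ n = 1 := by
      obtain ⟨n, hn⟩ := hβ
      refine ⟨n, ?_⟩
      have h1 : τ ^ 2 ^ n = 1 := by rw [hτ, ← map_pow, hn, map_one]
      rw [(Commute.refl τ).mul_pow, h1, one_mul]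
    obtain ⟨n, hn, hmin⟩ : ∃ n, (τ * τ) ^ 2 ^ n = 1 ∧ ∀ j, (τ * τ) ^ 2 ^ j = 1 → n ≤ j :=
      ⟨Nat.find hex, Nat.find_spec hex, fun j hj => Nat.find_min' hex hj⟩
    rcases n with _ | n
    · exact absurd (by simpa only [_root_.pow_zero, _root_.pow_one] using hn) hρ
    · refine ⟨2 ^ n, ?_, ?_⟩
      · intro h
        have := hmin n h
        omega
      · rw [← pow_add, ← two_mul, ← pow_succ']
        exact hn
  obtain ⟨σ, hσ⟩ : ∃ σ, σ = (τ * τ) ^ m := ⟨_, rfl⟩
  rw [← hσ] at hm1 hm2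
  obtain ⟨γ, hγ⟩ : ∃ γ, γ = β ^ m := ⟨_, rfl⟩
  have hγγ : γ * γ = Φ σ := by
    rw [hγ, hσ, map_pow, ← hsq, (Commute.refl β).mul_pow]
  have hγS : ∀ s ∈ S, γ s = s := by
    intro s hs
    rw [hγ]
    clear hγ hσ hγγ
    induction m with
    | zero => rw [pow_zero, MulAut.one_apply]
    | succ k ih => rw [pow_succ, MulAut.mul_apply, hS s hs, ih]
  have hΦσ : Φ σ * Φ σ = 1 := by rw [← map_mul, hm2, map_one]
  have hfσ : R.fld (Φ σ) ≠ 1 := by rw [hfld]; exact hm1
  obtain ⟨h, K, H, h1⟩ := exists_fInv R hΦσ hfσ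
  rw [hfld] at H h1
  apply not_le_sub H S
  intro s hs
  obtain ⟨x, rfl⟩ := R.surj s
  have h2 : R.lift (Φ σ) x = x := by
    have h3 := hγS _ hs
    rw [R.lift_apply, R.π_eq_iff] at h3
    rw [← hγγ, map_mul, MulAut.mul_apply]
    rcases h3 with h3 | h3
    · rw [h3, h3]
    · rw [h3, R.aut_neg, h3, neg_neg]
  rw [h1, map_mul, map_mul, map_inv, R.lift_gl, R.lift_fa, MulAut.mul_apply, MulAut.mul_apply] at h2
  have h3 : fieldAut σ ((conjGL h)⁻¹ x) = (conjGL h)⁻¹ x := by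
    nth_rw 2 [← h2]
    rw [MulAut.inv_apply_self]
  have h4 := mem_sub_of_fix H h3
  change R.π (conjGL h ((conjGL h)⁻¹ x)) ∈ _ at h4
  rwa [MulAut.apply_inv_self] at h4

end main

end Cfsg.Agent.GH.L2AutField
end

-- part: GH/L2One/Frame
section
prune_inst 0x347065447d2202000000051270003826fa00050000630401fcc10c02090fff628d40274166a01c135802a2002000006813980050421000000a20000040050000802a5204937ca10406000f803087180c00000000000000000000000000041000000000000
set_option linter.all false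
open scoped Cfsg.Agent.FastGrp

/-!
# GH-L2, `m_2(Q) = 1`, `|Q| ≥ 4`: the frame

`Frame x K T D Q d r c o1 o2`: `x` an involution, `K` a normal subgroup of `C(x)` with `K/O(K) = L₂(q)` or `A₇`,
`T` a Sylow 2-subgroup of `C(x)`, `D = T ∩ K = ⟨r, c⟩` dihedral of order `2^d` (a four-group if `d = 2`),
`Q = C_T(K/O(K))` with the only involution `x`, `|Q| ≥ 4`, `o1`, `o2` the `PGL`- and the field part of the outer
automorphism of `K/O(K)` induced by an element of `C(x)`.
-/

set_option autoImplicit false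

open Subgroup

namespace Cfsg.Agent.GH.L2One

variable {G A : Type*} [Group G] [Group A]

/-- The frame. -/
structure Frame (x : G) (K T D Q : Subgroup G) (d : ℕ) (r c : G) (o1 : G → ℤˣ) (o2 : G → A) :
    Prop where
  xx : x * x = 1
  x_ne : x ≠ 1
  K_comm : ∀ k ∈ K, x * k = k * x
  K_norm : ∀ g, x * g = g * x → ∀ k ∈ K, g * k * g⁻¹ ∈ K
  T_comm : ∀ t ∈ T, x * t = t * x
  T_two : IsPGroup 2 T
  /-- `T` is a Sylow 2-subgroup of `C(x)` -/
  T_syl : ∀ P : Subgroup G, IsPGroup 2 P → (∀ p ∈ P, x * p = p * x) →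
    ∃ g, x * g = g * x ∧ ∀ p ∈ P, g * p * g⁻¹ ∈ T
  mem_D : ∀ g, g ∈ D ↔ g ∈ T ∧ g ∈ K
  Q_le : Q ≤ T
  Q_norm : ∀ t ∈ T, ∀ q ∈ Q, t * q * t⁻¹ ∈ Q
  x_mem : x ∈ Q
  Q_inv : ∀ q ∈ Q, q * q = 1 → q = 1 ∨ q = x
  Q_four : ∃ q ∈ Q, q * q = x
  QD : ∀ g ∈ D, g ∈ Q → g = 1
  d_ge : 2 ≤ d
  r_mem : r ∈ D
  c_mem : c ∈ D
  cc : c * c = 1
  crc : c * r * c⁻¹ = r⁻¹
  or_eq : orderOf r = 2 ^ (d - 1)
  c_not : ∀ k : ℤ, c ≠ r ^ k
  D_form : ∀ g ∈ D, ∃ k : ℤ, g = r ^ k ∨ g = r ^ k * c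
  /-- all involutions of `D` are `K`-conjugate -/
  inv_conj : ∀ a ∈ D, ∀ b ∈ D, a * a = 1 → a ≠ 1 → b * b = 1 → b ≠ 1 → ∃ k ∈ K, k * a * k⁻¹ = b
  o1_mul : ∀ g h, x * g = g * x → x * h = h * x → o1 (g * h) = o1 g * o1 h
  o2_mul : ∀ g h, x * g = g * x → x * h = h * x → o2 (g * h) = o2 g * o2 h
  /-- at most one involution in the image of `o2` -/
  A_inv : ∀ a b : A, a * a = 1 → a ≠ 1 → b * b = 1 → b ≠ 1 → a = b
  o1_Q : ∀ q ∈ Q, o1 q = 1
  o2_Q : ∀ q ∈ Q, o2 q = 1
  o1_K : ∀ k ∈ K, o1 k = 1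
  o2_K : ∀ k ∈ K, o2 k = 1
  ker : ∀ t ∈ T, o1 t = 1 → o2 t = 1 → ∃ q ∈ Q, ∃ e ∈ D, t = q * e
  /-- `o1 t ≠ 1` iff `t` swaps the two classes of reflections of `D` -/
  swap : 3 ≤ d → ∀ t ∈ T, ∀ k : ℤ, t * c * t⁻¹ = r ^ k * c → (o1 t = 1 ↔ Even k)
  small : d = 2 → ∀ t ∈ T, o2 t = 1 ∧ (o1 t = 1 ↔ ∀ e ∈ D, t * e = e * t)
  /-- no field automorphism of order 4 centralises `D` -/
  sq_mem : ∀ g ∈ T, (∀ e ∈ D, g * e = e * g) → g * g ∈ Q
  no_mixed : ∀ y ∈ T, y * y = 1 → o1 y = 1 ∨ o2 y = 1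
  /-- a field involution centralises a Sylow 2-subgroup of `K` -/
  field_cent : ∀ y ∈ T, y * y = 1 → o2 y ≠ 1 → ∃ k ∈ K, ∀ e ∈ D, k * y * k⁻¹ * e = e * (k * y * k⁻¹)
  /-- if the field involution `y` centralises `D`, then `e y ~ y` for some involution `e` of `D` -/
  field_conj : ∀ y ∈ T, y * y = 1 → o2 y ≠ 1 → (∀ e ∈ D, y * e = e * y) →
    ∃ e ∈ D, e ≠ 1 ∧ e * e = 1 ∧ ∃ k ∈ K, k * y * k⁻¹ = e * y
  field_o1 : ∀ y ∈ T, y * y = 1 → o2 y ≠ 1 → ∀ g ∈ T, g * y * g⁻¹ * y⁻¹ ∈ Q → o1 g = 1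

namespace Frame

variable {x : G} {K T D Q : Subgroup G} {d : ℕ} {r c : G} {o1 : G → ℤˣ} {o2 : G → A}

theorem D_le (F : Frame x K T D Q d r c o1 o2) : D ≤ T := fun g hg => ((F.mem_D g).1 hg).1

theorem D_le_K (F : Frame x K T D Q d r c o1 o2) : D ≤ K := fun g hg => ((F.mem_D g).1 hg).2

theorem x_T (F : Frame x K T D Q d r c o1 o2) : x ∈ T := F.Q_le F.x_mem

theorem r_T (F : Frame x K T D Q d r c o1 o2) : r ∈ T := F.D_le F.r_mem

theorem c_T (F : Frame x K T D Q d r c o1 o2) : c ∈ T := F.D_le F.c_mem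

theorem x_inv (F : Frame x K T D Q d r c o1 o2) : x⁻¹ = x := inv_eq_of_mul_eq_one_right F.xx

theorem c_inv (F : Frame x K T D Q d r c o1 o2) : c⁻¹ = c := inv_eq_of_mul_eq_one_right F.cc

theorem D_norm (F : Frame x K T D Q d r c o1 o2) {t e : G} (ht : t ∈ T) (he : e ∈ D) :
    t * e * t⁻¹ ∈ D :=
  (F.mem_D _).2 ⟨T.mul_mem (T.mul_mem ht (F.D_le he)) (T.inv_mem ht),
    F.K_norm t (F.T_comm t ht) e (F.D_le_K he)⟩

/-- an element of `D` moved by `t ∈ T` inside its `Q`-coset is fixed -/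
theorem comm_of_mem (F : Frame x K T D Q d r c o1 o2) {t e : G} (ht : t ∈ T) (he : e ∈ D)
    (h : t * e * t⁻¹ * e⁻¹ ∈ Q) : t * e = e * t := by
  have h1 := F.QD _ (D.mul_mem (F.D_norm ht he) (D.inv_mem he)) h
  calc t * e = t * e * t⁻¹ * e⁻¹ * (e * t) := by group
    _ = e * t := by rw [h1, one_mul]

theorem QD_comm (F : Frame x K T D Q d r c o1 o2) {q e : G} (hq : q ∈ Q) (he : e ∈ D) :
    q * e = e * q := by
  refine F.comm_of_mem (F.Q_le hq) he ?_
  have h1 := Q.mul_mem hq (F.Q_norm e (F.D_le he) q⁻¹ (Q.inv_mem hq))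
  have e1 : q * (e * q⁻¹ * e⁻¹) = q * e * q⁻¹ * e⁻¹ := by group
  rwa [e1] at h1

/-- uniqueness of the decomposition `q e` -/
theorem QD_unique (F : Frame x K T D Q d r c o1 o2) {q q' e e' : G} (hq : q ∈ Q) (hq' : q' ∈ Q)
    (he : e ∈ D) (he' : e' ∈ D) (h : q * e = q' * e') : q = q' ∧ e = e' := by
  have h1 : q'⁻¹ * q = e' * e⁻¹ := by
    calc q'⁻¹ * q = q'⁻¹ * (q * e) * e⁻¹ := by group
      _ = e' * e⁻¹ := by rw [h]; group
  have h2 := F.QD _ (D.mul_mem he' (D.inv_mem he)) (h1 ▸ Q.mul_mem (Q.inv_mem hq') hq)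
  refine ⟨?_, (mul_inv_eq_one.1 h2).symm⟩
  rw [← h1] at h2
  exact (inv_mul_eq_one.1 h2).symm

theorem o1_one (F : Frame x K T D Q d r c o1 o2) : o1 1 = 1 := F.o1_Q 1 Q.one_mem

theorem o2_one (F : Frame x K T D Q d r c o1 o2) : o2 1 = 1 := F.o2_Q 1 Q.one_mem

theorem o1_D (F : Frame x K T D Q d r c o1 o2) {e : G} (he : e ∈ D) : o1 e = 1 :=
  F.o1_K e (F.D_le_K he)

theorem o2_D (F : Frame x K T D Q d r c o1 o2) {e : G} (he : e ∈ D) : o2 e = 1 :=
  F.o2_K e (F.D_le_K he)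

theorem o1_mul' (F : Frame x K T D Q d r c o1 o2) {a b : G} (ha : a ∈ T) (hb : b ∈ T) :
    o1 (a * b) = o1 a * o1 b := F.o1_mul a b (F.T_comm a ha) (F.T_comm b hb)

theorem o2_mul' (F : Frame x K T D Q d r c o1 o2) {a b : G} (ha : a ∈ T) (hb : b ∈ T) :
    o2 (a * b) = o2 a * o2 b := F.o2_mul a b (F.T_comm a ha) (F.T_comm b hb)

theorem o1_inv (F : Frame x K T D Q d r c o1 o2) {a : G} (ha : a ∈ T) : o1 a⁻¹ = (o1 a)⁻¹ := by
  have h := F.o1_mul' (T.inv_mem ha) ha
  rw [inv_mul_cancel, F.o1_one] at h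
  exact eq_inv_of_mul_eq_one_left h.symm

theorem o2_inv (F : Frame x K T D Q d r c o1 o2) {a : G} (ha : a ∈ T) : o2 a⁻¹ = (o2 a)⁻¹ := by
  have h := F.o2_mul' (T.inv_mem ha) ha
  rw [inv_mul_cancel, F.o2_one] at h
  exact eq_inv_of_mul_eq_one_left h.symm

theorem units_sq (u : ℤˣ) : u * u = 1 := by
  rcases Int.units_eq_one_or u with h | h <;> rw [h] <;> rfl

theorem o1_sq (F : Frame x K T D Q d r c o1 o2) {a : G} (ha : a ∈ T) : o1 (a * a) = 1 := by
  rw [F.o1_mul' ha ha, units_sq]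

/-- the image in the outer automorphism group of an involution -/
theorem o2_invol (F : Frame x K T D Q d r c o1 o2) {a : G} (ha : a ∈ T) (haa : a * a = 1) :
    o2 a * o2 a = 1 := by rw [← F.o2_mul' ha ha, haa, F.o2_one]

/-! ### the dihedral group `D` -/

theorem crk (F : Frame x K T D Q d r c o1 o2) (k : ℤ) : c * r ^ k * c⁻¹ = r ^ (-k) := by
  have h : c * r ^ k * c⁻¹ = (c * r * c⁻¹) ^ k := (conj_zpow).symm
  rw [h, F.crc, inv_zpow, zpow_neg]

theorem c_rk (F : Frame x K T D Q d r c o1 o2) (k : ℤ) : c * r ^ k = r ^ (-k) * c := by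
  rw [← F.crk k, inv_mul_cancel_right]

/-- reflections are involutions -/
theorem refl_sq (F : Frame x K T D Q d r c o1 o2) (k : ℤ) : r ^ k * c * (r ^ k * c) = 1 := by
  calc r ^ k * c * (r ^ k * c) = r ^ k * (c * r ^ k) * c := by group
    _ = r ^ k * (r ^ (-k) * c) * c := by rw [F.c_rk]
    _ = (r ^ k * r ^ (-k)) * (c * c) := by group
    _ = 1 := by rw [F.cc, ← zpow_add, add_neg_cancel, zpow_zero, one_mul]

theorem refl_ne (F : Frame x K T D Q d r c o1 o2) (k l : ℤ) : r ^ k * c ≠ r ^ l := by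
  intro h
  apply F.c_not (-k + l)
  rw [zpow_add, ← h, ← mul_assoc, ← zpow_add, neg_add_cancel, zpow_zero, one_mul]

/-- `r ^ k = 1` iff `2^(d-1)` divides `k` -/
theorem rk_one (F : Frame x K T D Q d r c o1 o2) (k : ℤ) : r ^ k = 1 ↔ (2 : ℤ) ^ (d - 1) ∣ k := by
  rw [← orderOf_dvd_iff_zpow_eq_one, F.or_eq]
  norm_num

/-- every element of `T` maps `c` to a reflection (`d ≥ 3`) -/
theorem conj_c (F : Frame x K T D Q d r c o1 o2) (hd : 3 ≤ d) {t : G} (ht : t ∈ T) :
    ∃ k : ℤ, t * c * t⁻¹ = r ^ k * c := by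
  -- `t r t⁻¹` is a rotation
  obtain ⟨l, hl⟩ := F.D_form _ (F.D_norm ht F.r_mem)
  have hl' : t * r * t⁻¹ = r ^ l := by
    rcases hl with h | h
    · exact h
    · exfalso
      have h1 : t * r ^ (2 : ℤ) * t⁻¹ = 1 := by
        have e2 : t * r ^ (2 : ℤ) * t⁻¹ = (t * r * t⁻¹) * (t * r * t⁻¹) := by
          rw [zpow_two]; group
        rw [e2, h, F.refl_sq]
      have h2 : r ^ (2 : ℤ) = 1 := by
        have : r ^ (2 : ℤ) = t⁻¹ * (t * r ^ (2 : ℤ) * t⁻¹) * t := by group
        rw [this, h1]; group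
      rw [F.rk_one] at h2
      have h3 : (2 : ℤ) ^ 2 ∣ 2 ^ (d - 1) := pow_dvd_pow 2 (by omega)
      have h4 := h3.trans h2
      norm_num at h4
  obtain ⟨k, hk⟩ := F.D_form _ (F.D_norm ht F.c_mem)
  rcases hk with h | h
  · exfalso
    -- the map is injective, so `c` is a rotation
    have hinj : ∀ m : ℤ, t * r ^ m * t⁻¹ = r ^ (l * m) := by
      intro m
      rw [← conj_zpow, hl', zpow_mul]
    have hln : ∀ m : ℤ, r ^ (l * m) = 1 → r ^ m = 1 := by
      intro m hm
      rw [← hinj] at hm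
      have : r ^ m = t⁻¹ * (t * r ^ m * t⁻¹) * t := by group
      rw [this, hm]; group
    -- `l` is odd
    have hodd : Odd l := by
      by_contra heven
      rw [Int.not_odd_iff_even] at heven
      obtain ⟨j, hj⟩ := heven
      have h5 : r ^ (l * 2 ^ (d - 2)) = 1 := by
        rw [F.rk_one, hj]
        refine ⟨j, ?_⟩
        have : d - 1 = (d - 2) + 1 := by omega
        rw [this, pow_succ]; ring
      have h6 := hln _ h5
      rw [F.rk_one] at h6
      have h7 : (2 : ℤ) ^ (d - 1) ≤ 2 ^ (d - 2) := Int.le_of_dvd (by positivity) h6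
      have h8 : d - 1 = (d - 2) + 1 := by omega
      rw [h8, pow_succ] at h7
      have h9 : (0 : ℤ) < 2 ^ (d - 2) := by positivity
      omega
    have hcop : IsCoprime l ((2 : ℤ) ^ (d - 1)) := by
      apply IsCoprime.pow_right
      obtain ⟨j, hj⟩ := hodd
      exact ⟨1, -j, by rw [hj]; ring⟩
    obtain ⟨a, b, hab⟩ := hcop
    have h10 : t * r ^ (a * k) * t⁻¹ = r ^ k := by
      rw [hinj]
      have : l * (a * k) = k + (2 : ℤ) ^ (d - 1) * (-(b * k)) := by
        linear_combination k * hab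
      rw [this, zpow_add, (F.rk_one _).2 (Dvd.intro _ rfl), mul_one]
    rw [← h] at h10
    have h11 : r ^ (a * k) = c := by
      have := congrArg (fun g => t⁻¹ * g * t) h10
      simp only [mul_assoc, inv_mul_cancel_left, inv_mul_cancel, mul_one] at this
      exact this
    exact F.c_not _ h11.symm
  · exact ⟨k, h⟩

/-- the central involution of `D`, `d ≥ 2` -/
theorem z_sq (F : Frame x K T D Q d r c o1 o2) : r ^ 2 ^ (d - 2) * r ^ 2 ^ (d - 2) = 1 := by
  rw [← pow_add, ← orderOf_dvd_iff_pow_eq_one, F.or_eq]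
  have h : d - 1 = (d - 2) + 1 := by have := F.d_ge; omega
  rw [h, pow_succ, mul_two]

theorem z_ne (F : Frame x K T D Q d r c o1 o2) : r ^ 2 ^ (d - 2) ≠ 1 := by
  intro h
  rw [← orderOf_dvd_iff_pow_eq_one, F.or_eq] at h
  have h1 : 2 ^ (d - 1) ≤ 2 ^ (d - 2) := Nat.le_of_dvd (by positivity) h
  have h2 : d - 1 = (d - 2) + 1 := by have := F.d_ge; omega
  rw [h2, pow_succ] at h1
  have h9 : 0 < 2 ^ (d - 2) := by positivity
  omega

end Frame

end Cfsg.Agent.GH.L2One
end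

-- part: GH/L2One/AutData
section
set_option linter.all false
open scoped Cfsg.Agent.FastGrp

/-!
# GH-L2: the facts of the frame for a simple group `L` and its automorphisms

`AutData L S d r c p1 p2`: the facts of `L2One.Frame`, stated for `L = K/O(K)` (simple, `L ≅ L₂(q)` or `A₇`), a Sylow
2-subgroup `S = ⟨r, c⟩` of `L` and homomorphisms `p1 : Aut(L) → {±1}`, `p2 : Aut(L) → A`.

`AutData.conj`, `AutData.map`: transport along inner automorphisms and isomorphisms.

`AutData.frame`: the frame `L2One.Frame` from `L2Frame.Frame (C x) K T` and `AutData (STop K)`.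
-/

set_option autoImplicit false

open Subgroup

namespace Cfsg.Agent.GH.L2One

/-- The facts of the frame for a group `L` and its automorphisms. -/
structure AutData {L A : Type*} [Group L] [Group A] (S : Subgroup L) (d : ℕ) (r c : L)
    (p1 : MulAut L →* ℤˣ) (p2 : MulAut L →* A) : Prop where
  inn1 : ∀ l, p1 (MulAut.conj l) = 1
  inn2 : ∀ l, p2 (MulAut.conj l) = 1
  ker : ∀ α, p1 α = 1 → p2 α = 1 → ∃ l, α = MulAut.conj l
  A_inv : ∀ a b : A, a * a = 1 → a ≠ 1 → b * b = 1 → b ≠ 1 → a = b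
  inv_conj : ∀ a b : L, a * a = 1 → a ≠ 1 → b * b = 1 → b ≠ 1 → ∃ k, k * a * k⁻¹ = b
  d_ge : 2 ≤ d
  r_mem : r ∈ S
  c_mem : c ∈ S
  cc : c * c = 1
  crc : c * r * c⁻¹ = r⁻¹
  or_eq : orderOf r = 2 ^ (d - 1)
  c_not : ∀ k : ℤ, c ≠ r ^ k
  S_form : ∀ g ∈ S, ∃ k : ℤ, g = r ^ k ∨ g = r ^ k * c
  swap : 3 ≤ d → ∀ α : MulAut L, (∀ s ∈ S, α s ∈ S) → ∀ k : ℤ, α c = r ^ k * c →
    (p1 α = 1 ↔ Even k)
  small : d = 2 → ∀ α : MulAut L, (∃ n : ℕ, α ^ 2 ^ n = 1) → (∀ s ∈ S, α s ∈ S) →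
    p2 α = 1 ∧ (p1 α = 1 ↔ ∀ s ∈ S, α s = s)
  sq : ∀ α : MulAut L, (∃ n : ℕ, α ^ 2 ^ n = 1) → (∀ s ∈ S, α s = s) → α * α = 1
  no_mixed : ∀ α : MulAut L, α * α = 1 → p1 α = 1 ∨ p2 α = 1
  field_cent : ∀ α : MulAut L, α * α = 1 → p2 α ≠ 1 → ∃ l, ∀ s ∈ S,
    (MulAut.conj l * α * (MulAut.conj l)⁻¹ : MulAut L) s = s
  field_conj : ∀ α : MulAut L, α * α = 1 → p2 α ≠ 1 → (∀ s ∈ S, α s = s) →
    ∃ e ∈ S, e ≠ 1 ∧ e * e = 1 ∧ ∃ l, MulAut.conj l * α * (MulAut.conj l)⁻¹ = MulAut.conj e * α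
  field_o1 : ∀ α : MulAut L, α * α = 1 → p2 α ≠ 1 → ∀ β : MulAut L, β * α * β⁻¹ = α → p1 β = 1

namespace AutData

section transport

variable {L A : Type*} [Group L] [Group A] {S : Subgroup L} {d : ℕ} {r c : L}
  {p1 : MulAut L →* ℤˣ} {p2 : MulAut L →* A}

/-- Transport along an isomorphism. -/
theorem map {L' : Type*} [Group L'] (F : AutData S d r c p1 p2) (e : L ≃* L') :
    AutData (S.map e.toMonoidHom) d (e r) (e c)
      (p1.comp (MulAut.congr e.symm).toMonoidHom) (p2.comp (MulAut.congr e.symm).toMonoidHom) := by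
  have hcong : ∀ (α : MulAut L') (y : L), MulAut.congr e.symm α y = e.symm (α (e y)) :=
    fun α y => rfl
  have hconj : ∀ l : L', MulAut.congr e.symm (MulAut.conj l) = MulAut.conj (e.symm l) := by
    intro l
    ext y
    rw [hcong]
    simp only [MulAut.conj_apply, map_mul, map_inv, MulEquiv.symm_apply_apply]
  have hinj : Function.Injective (MulAut.congr e.symm) := (MulAut.congr e.symm).injective
  have hmem : ∀ {y : L}, y ∈ S → e y ∈ S.map e.toMonoidHom := fun hy => ⟨_, hy, rfl⟩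
  have hmem' : ∀ {y : L'}, y ∈ S.map e.toMonoidHom → e.symm y ∈ S := by
    rintro _ ⟨y, hy, rfl⟩
    change e.symm (e y) ∈ S
    rw [MulEquiv.symm_apply_apply]; exact hy
  have hpow : ∀ {α : MulAut L'}, (∃ n : ℕ, α ^ 2 ^ n = 1) →
      ∃ n : ℕ, (MulAut.congr e.symm α) ^ 2 ^ n = 1 := by
    rintro α ⟨n, hn⟩
    exact ⟨n, by rw [← map_pow, hn, map_one]⟩
  have hsq : ∀ {α : MulAut L'}, α * α = 1 →
      (MulAut.congr e.symm α) * (MulAut.congr e.symm α) = 1 := by
    intro α h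
    rw [← map_mul, h, map_one]
  have hstab : ∀ {α : MulAut L'}, (∀ s ∈ S.map e.toMonoidHom, α s ∈ S.map e.toMonoidHom) →
      ∀ s ∈ S, MulAut.congr e.symm α s ∈ S := by
    intro α h s hs
    rw [hcong]
    exact hmem' (h _ (hmem hs))
  have hfix : ∀ {α : MulAut L'}, (∀ s ∈ S.map e.toMonoidHom, α s = s) ↔
      ∀ s ∈ S, MulAut.congr e.symm α s = s := by
    intro α
    constructor
    · intro h s hs
      rw [hcong, h _ (hmem hs), MulEquiv.symm_apply_apply]
    · rintro h _ ⟨s, hs, rfl⟩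
      have h1 := h s hs
      rw [hcong] at h1
      have h2 := congrArg e h1
      rwa [MulEquiv.apply_symm_apply] at h2
  exact
    { inn1 := fun l => by
        change p1 (MulAut.congr e.symm (MulAut.conj l)) = 1
        rw [hconj]; exact F.inn1 _
      inn2 := fun l => by
        change p2 (MulAut.congr e.symm (MulAut.conj l)) = 1
        rw [hconj]; exact F.inn2 _
      ker := by
        intro α h1 h2
        obtain ⟨l, hl⟩ := F.ker _ h1 h2
        refine ⟨e l, hinj ?_⟩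
        rw [hconj, MulEquiv.symm_apply_apply]
        exact hl
      A_inv := F.A_inv
      inv_conj := by
        intro a b ha ha1 hb hb1
        obtain ⟨k, hk⟩ := F.inv_conj (e.symm a) (e.symm b) (by rw [← map_mul, ha, map_one])
          (fun h => ha1 (e.symm.injective (by rw [h, map_one])))
          (by rw [← map_mul, hb, map_one])
          (fun h => hb1 (e.symm.injective (by rw [h, map_one])))
        refine ⟨e k, e.symm.injective ?_⟩
        rw [map_mul, map_mul, map_inv, MulEquiv.symm_apply_apply, hk]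
      d_ge := F.d_ge
      r_mem := hmem F.r_mem
      c_mem := hmem F.c_mem
      cc := by rw [← map_mul, F.cc, map_one]
      crc := by rw [← map_mul, ← map_inv, ← map_mul, F.crc, map_inv]
      or_eq := by rw [e.orderOf_eq]; exact F.or_eq
      c_not := by
        intro k h
        apply F.c_not k
        apply e.injective
        rw [h, map_zpow]
      S_form := by
        rintro _ ⟨g, hg, rfl⟩
        obtain ⟨k, hk | hk⟩ := F.S_form g hg
        · exact ⟨k, Or.inl (by rw [← map_zpow, ← hk]; rfl)⟩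
        · exact ⟨k, Or.inr (by rw [← map_zpow, ← map_mul, ← hk]; rfl)⟩
      swap := by
        intro hd α h k hk
        apply F.swap hd _ (hstab h) k
        rw [hcong, hk, map_mul, map_zpow, MulEquiv.symm_apply_apply, MulEquiv.symm_apply_apply]
      small := by
        intro hd α hα h
        obtain ⟨h1, h2⟩ := F.small hd _ (hpow hα) (hstab h)
        exact ⟨h1, h2.trans hfix.symm⟩
      sq := by
        intro α hα h
        apply hinj
        rw [map_mul, map_one]
        exact F.sq _ (hpow hα) (hfix.1 h)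
      no_mixed := fun α h => F.no_mixed _ (hsq h)
      field_cent := by
        intro α h h1
        obtain ⟨l, hl⟩ := F.field_cent _ (hsq h) h1
        refine ⟨e l, hfix.2 ?_⟩
        rw [map_mul, map_mul, map_inv, hconj, MulEquiv.symm_apply_apply]
        exact hl
      field_conj := by
        intro α h h1 h2
        obtain ⟨x, hx, hx1, hxx, l, hl⟩ := F.field_conj _ (hsq h) h1 (hfix.1 h2)
        refine ⟨e x, hmem hx, fun h3 => hx1 (e.injective (by rw [h3, map_one])),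
          by rw [← map_mul, hxx, map_one], e l, hinj ?_⟩
        rw [map_mul, map_mul, map_mul, map_inv, hconj, hconj, MulEquiv.symm_apply_apply,
          MulEquiv.symm_apply_apply]
        exact hl
      field_o1 := by
        intro α h h1 β hβ
        refine F.field_o1 _ (hsq h) h1 (MulAut.congr e.symm β) ?_
        rw [← map_mul, ← map_inv, ← map_mul, hβ] }

/-- Transport along an inner automorphism. -/
theorem conj (F : AutData S d r c p1 p2) (g : L) :
    AutData (S.map (MulAut.conj g).toMonoidHom) d (g * r * g⁻¹) (g * c * g⁻¹) p1 p2 := by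
  have h := F.map (MulAut.conj g)
  have e1 : ∀ α : MulAut L, MulAut.congr (MulAut.conj g).symm α =
      (MulAut.conj g)⁻¹ * α * MulAut.conj g := fun α => rfl
  have hp1 : p1.comp (MulAut.congr (MulAut.conj g).symm).toMonoidHom = p1 := by
    ext α
    change ((p1 (MulAut.congr (MulAut.conj g).symm α) : ℤˣ) : ℤ) = _
    rw [e1, map_mul, map_mul, map_inv, F.inn1, inv_one, one_mul, mul_one]
  have hp2 : p2.comp (MulAut.congr (MulAut.conj g).symm).toMonoidHom = p2 := by
    ext α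
    change p2 (MulAut.congr (MulAut.conj g).symm α) = _
    rw [e1, map_mul, map_mul, map_inv, F.inn2, inv_one, one_mul, mul_one]
  rw [hp1, hp2] at h
  exact h

/-- The data for one Sylow 2-subgroup give the data for every Sylow 2-subgroup. -/
theorem of_sylow [Finite L] {P : Sylow 2 L} (F : AutData (P : Subgroup L) d r c p1 p2)
    (P' : Sylow 2 L) : ∃ r' c' : L, AutData (P' : Subgroup L) d r' c' p1 p2 := by
  have : Fact (Nat.Prime 2) := ⟨Nat.prime_two⟩
  obtain ⟨g, hg⟩ := MulAction.exists_smul_eq L P P'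
  refine ⟨g * r * g⁻¹, g * c * g⁻¹, ?_⟩
  have h1 : (P' : Subgroup L) = (P : Subgroup L).map (MulAut.conj g).toMonoidHom := by
    rw [← hg]; rfl
  rw [h1]
  exact F.conj g

end transport

end AutData

/-- Two involutions with product of odd order are conjugate by a power of the product. -/
theorem exists_conj_of_odd {G : Type*} [Group G] {u v : G} (hu : u * u = 1) (hv : v * v = 1)
    (h : Odd (orderOf (u * v))) : ∃ t ∈ zpowers (u * v), t * v * t⁻¹ = u := by
  obtain ⟨m, hm⟩ := h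
  obtain ⟨w, hw⟩ : ∃ w, w = u * v := ⟨_, rfl⟩
  rw [← hw] at hm ⊢
  have huw : u = w * v := by rw [hw, mul_assoc, hv, mul_one]
  have hvi : v⁻¹ = v := inv_eq_of_mul_eq_one_right hv
  have hui : u⁻¹ = u := inv_eq_of_mul_eq_one_right hu
  have hvw : v * w * v⁻¹ = w⁻¹ := by
    rw [hvi, hw, mul_inv_rev, hvi, hui, ← mul_assoc, mul_assoc, hv, mul_one]
  have hvk : ∀ k : ℕ, v * w ^ k * v⁻¹ = (w ^ k)⁻¹ := by
    intro k
    rw [← conj_pow, hvw, inv_pow]
  refine ⟨w ^ (m + 1), pow_mem (mem_zpowers w) _, ?_⟩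
  have h1 : w ^ (m + 1) * w ^ (m + 1) = w := by
    rw [← pow_add]
    have : m + 1 + (m + 1) = orderOf w + 1 := by omega
    rw [this, pow_add, pow_orderOf_eq_one, one_mul, pow_one]
  have h2 : v * (w ^ (m + 1))⁻¹ = w ^ (m + 1) * v := by
    have h3 := hvk (m + 1)
    rw [mul_inv_eq_iff_eq_mul] at h3
    -- v w^k = w^{-k} v
    have h4 : w ^ (m + 1) * (v * w ^ (m + 1)) = v := by rw [h3, mul_inv_cancel_left]
    have h5 : w ^ (m + 1) * v = v * (w ^ (m + 1))⁻¹ := by
      rw [eq_mul_inv_iff_mul_eq, mul_assoc, h4]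
    exact h5.symm
  rw [mul_assoc, h2, ← mul_assoc, h1, ← huw]

end Cfsg.Agent.GH.L2One
end

-- part: GH/L2One/AutSwap
section
prune_inst 0x424703444392202000018051232003826da000500006b8401dde10a000647fb632d432761e6a01d13d912a2200800006813980059421000000a20020000050120802a52049148a10406000f808084000000000000000000000000000000041000000000000
set_option linter.all false
open scoped Cfsg.Agent.FastGrp

/-!
# `o1` and the two classes of reflections of a Sylow 2-subgroup

`L ≅ PSL(2,F)`, `S = ⟨r, c⟩` a Sylow 2-subgroup of `L`, dihedral of order `2^d` (`Dih`).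
* `swap`: `3 ≤ d`, `α S = S`, `α c = r^k c`: `R.o1 α = 1 ↔ k` even;
* `small`: `d = 2`, `α` a 2-element with `α S = S`: `fld α = 1`, and `R.o1 α = 1` iff `α` is trivial on `S`.
-/

set_option autoImplicit false
set_option linter.style.haveILetI false

open Subgroup

namespace Cfsg.Agent.GH.L2One.AutSwap

open Cfsg.Agent.GH.L2Aut

/-- `S = ⟨r, c⟩` dihedral of order `2^d` -/
structure Dih {L : Type*} [Group L] (S : Subgroup L) (d : ℕ) (r c : L) : Prop where
  d_ge : 2 ≤ d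
  r_mem : r ∈ S
  c_mem : c ∈ S
  cc : c * c = 1
  crc : c * r * c⁻¹ = r⁻¹
  or_eq : orderOf r = 2 ^ (d - 1)
  c_not : ∀ k : ℤ, c ≠ r ^ k
  form : ∀ g ∈ S, ∃ k : ℤ, g = r ^ k ∨ g = r ^ k * c

namespace Dih

variable {L : Type*} [Group L] {S : Subgroup L} {d : ℕ} {r c : L}

theorem c_inv (h : Dih S d r c) : c⁻¹ = c := inv_eq_of_mul_eq_one_right h.cc

theorem c_ne (h : Dih S d r c) : c ≠ 1 := by simpa using h.c_not 0

theorem crk (h : Dih S d r c) (k : ℤ) : c * r ^ k * c⁻¹ = r ^ (-k) := by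
  rw [← conj_zpow, h.crc, inv_zpow, zpow_neg]

theorem c_rk (h : Dih S d r c) (k : ℤ) : c * r ^ k = r ^ (-k) * c := by
  rw [← h.crk k, inv_mul_cancel_right]

theorem rk_one (h : Dih S d r c) (k : ℤ) : r ^ k = 1 ↔ (2 : ℤ) ^ (d - 1) ∣ k := by
  rw [← orderOf_dvd_iff_zpow_eq_one, h.or_eq]
  push_cast
  rfl

theorem refl_ne (h : Dih S d r c) (k l : ℤ) : r ^ k * c ≠ r ^ l := by
  intro h1
  apply h.c_not (-k + l)
  rw [zpow_add, ← h1, zpow_neg, inv_mul_cancel_left]

/-- the central involution -/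
theorem z_ne (h : Dih S d r c) : r ^ (2 ^ (d - 2) : ℤ) ≠ 1 := by
  rw [Ne, h.rk_one]
  intro h1
  have h2 := Int.le_of_dvd (by positivity) h1
  have h3 : (2 : ℤ) ^ (d - 2) < 2 ^ (d - 1) :=
    pow_lt_pow_right₀ (by norm_num) (by have := h.d_ge; omega)
  omega

theorem z_sq (h : Dih S d r c) : r ^ (2 ^ (d - 2) : ℤ) * r ^ (2 ^ (d - 2) : ℤ) = 1 := by
  rw [← zpow_add, h.rk_one]
  have : (2 : ℤ) ^ (d - 1) = 2 ^ (d - 2) + 2 ^ (d - 2) := by
    have h1 : d - 1 = d - 2 + 1 := by have := h.d_ge; omega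
    rw [h1, pow_succ]; ring
  rw [this]

theorem z_comm (h : Dih S d r c) {g : L} (hg : g ∈ S) :
    r ^ (2 ^ (d - 2) : ℤ) * g = g * r ^ (2 ^ (d - 2) : ℤ) := by
  obtain ⟨k, rfl | rfl⟩ := h.form g hg
  · rw [← zpow_add, ← zpow_add, add_comm]
  · have h1 : r ^ (-(2 ^ (d - 2)) : ℤ) = r ^ (2 ^ (d - 2) : ℤ) := by
      rw [zpow_neg]
      exact inv_eq_of_mul_eq_one_right h.z_sq
    rw [mul_assoc (r ^ k), h.c_rk, h1, ← mul_assoc, ← mul_assoc, ← zpow_add, ← zpow_add, add_comm]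

theorem z_mem (h : Dih S d r c) : r ^ (2 ^ (d - 2) : ℤ) ∈ S := S.zpow_mem h.r_mem _

/-- a central involution of `S` is `z` (if `d ≥ 3`) -/
theorem eq_z (h : Dih S d r c) (hd : 3 ≤ d) {g : L} (hg : g ∈ S) (h1 : g ≠ 1)
    (hr : g * r = r * g) (hc : g * c = c * g) : g = r ^ (2 ^ (d - 2) : ℤ) := by
  obtain ⟨k, rfl | rfl⟩ := h.form g hg
  · rw [h.c_rk] at hc
    have h2 : r ^ k = r ^ (-k) := mul_right_cancel hc
    have h3 : r ^ (2 * k) = 1 := by rw [two_mul, zpow_add]; nth_rw 2 [h2]; rw [zpow_neg, mul_inv_cancel]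
    rw [h.rk_one] at h3
    have h4 : (2 : ℤ) ^ (d - 1) = 2 * 2 ^ (d - 2) := by
      have h5 : d - 1 = d - 2 + 1 := by omega
      rw [h5, pow_succ]; ring
    rw [h4] at h3
    obtain ⟨m, hm⟩ := Int.dvd_of_mul_dvd_mul_left two_ne_zero h3
    rcases Int.even_or_odd m with ⟨n, hn⟩ | ⟨n, hn⟩
    · exfalso
      apply h1
      rw [h.rk_one, h4, hm, hn]
      exact ⟨n, by ring⟩
    · have h6 : k = 2 ^ (d - 2) + 2 ^ (d - 1) * n := by rw [hm, hn, h4]; ring
      have h7 : r ^ (2 ^ (d - 1) * n : ℤ) = 1 := by rw [h.rk_one]; exact Dvd.intro n rfl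
      rw [h6, zpow_add, h7, mul_one]
  · exfalso
    have h2 : c * r = r⁻¹ * c := by simpa using h.c_rk 1
    have h3 : r ^ k * (r⁻¹ * c) = r ^ k * (r * c) := by
      rw [← h2, ← mul_assoc, hr, ← mul_assoc, ← mul_assoc, ← zpow_one_add, ← zpow_add_one, add_comm]
    have h4 := mul_right_cancel (mul_left_cancel h3)
    have h5 : r ^ (2 : ℤ) = 1 := by
      rw [zpow_two]
      nth_rw 1 [← h4]
      rw [inv_mul_cancel]
    rw [h.rk_one] at h5
    have h6 := Int.le_of_dvd (by norm_num) h5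
    have h7 : (2 : ℤ) ^ 2 ≤ 2 ^ (d - 1) := pow_le_pow_right₀ (by norm_num) (by omega)
    omega

/-- two reflections differ by an even power of `r` iff they are conjugate by a power of `r` -/
theorem conj_refl (h : Dih S d r c) (m : ℤ) : r ^ m * c * (r ^ m)⁻¹ = r ^ (m + m) * c := by
  rw [← zpow_neg, mul_assoc, h.c_rk, neg_neg, ← mul_assoc, ← zpow_add]

theorem mem_iff {A : Type*} [Group A] [Finite A] {S : Subgroup A} {α : MulAut A}
    (hα : ∀ g ∈ S, α g ∈ S) (g : A) : α g ∈ S ↔ g ∈ S := by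
  have h1 : S.map α.toMonoidHom = S := by
    apply Subgroup.eq_of_le_of_card_ge
    · rintro _ ⟨y, hy, rfl⟩
      exact hα y hy
    · rw [Subgroup.card_map_of_injective (f := α.toMonoidHom) α.injective]
  constructor
  · intro hg
    rw [← h1] at hg
    obtain ⟨y, hy, hyg⟩ := hg
    rwa [← α.injective hyg]
  · exact hα g

theorem aut_z [Finite L] (h : Dih S d r c) (hd : 3 ≤ d) {α : MulAut L} (hα : ∀ g ∈ S, α g ∈ S) :
    α (r ^ (2 ^ (d - 2) : ℤ)) = r ^ (2 ^ (d - 2) : ℤ) := by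
  have key : ∀ g ∈ S, α (r ^ (2 ^ (d - 2) : ℤ)) * g = g * α (r ^ (2 ^ (d - 2) : ℤ)) := by
    intro g hg
    have h1 : α (α⁻¹ g) = g := MulAut.apply_inv_self L α g
    have h2 : α⁻¹ g ∈ S := (mem_iff hα _).1 (by rw [h1]; exact hg)
    rw [← h1, ← map_mul, ← map_mul, h.z_comm h2]
  apply h.eq_z hd (hα _ h.z_mem)
  · intro h1
    apply h.z_ne
    exact α.injective (by rw [h1, map_one])
  · exact key r h.r_mem
  · exact key c h.c_mem

theorem four (h : Dih S d r c) : Four (r ^ (2 ^ (d - 2) : ℤ)) c where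
  aa := h.z_sq
  bb := h.cc
  a1 := h.z_ne
  b1 := h.c_ne
  ne := fun h1 => h.c_not _ h1.symm
  comm := h.z_comm h.c_mem

end Dih

variable {F : Type*} [Field F] [Finite F] {L : Type*} [Group L] (R : L2Aut.Rep F L)
  {S : Subgroup L} {d : ℕ} {r c : L}

/-- An automorphism fixing two distinct commuting involutions is in the kernel of `o1`. -/
theorem o1_of_fix {a b : L} (h : Four a b) {α : MulAut L} (ha : α a = a) (hb : α b = b) :
    R.o1 α = 1 := by
  obtain ⟨Φ, y, δ, -, -, -, -, -, -, -, -, -, -, -, -, -, h1, g, hg⟩ := R.exists_frame h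
  obtain ⟨u, -, hu⟩ := h1 α ha hb
  rw [hu, map_mul, R.o1_conj, one_mul, hg, R.o1_conj_eq, R.o1_fa]

include R in
theorem exists_nonsquare : ∃ c : F, c ≠ 0 ∧ ¬ IsSquare c := by
  letI := Fintype.ofFinite F
  have h2 : ringChar F ≠ 2 := by
    intro h
    have : CharP F 2 := by rw [← h]; infer_instance
    exact R.two (CharP.cast_eq_zero F 2)
  obtain ⟨c, hc⟩ := FiniteField.exists_nonsquare h2
  exact ⟨c, fun h0 => hc (h0 ▸ IsSquare.zero), hc⟩

theorem exists_o1_neg : ∃ γ : MulAut L, R.fld γ = 1 ∧ R.o1 γ = -1 := by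
  obtain ⟨c, hc0, hc⟩ := exists_nonsquare R
  have hd : (!![c, 0; 0, 1] : Matrix (Fin 2) (Fin 2) F).det = c := by
    rw [Matrix.det_fin_two_of]; ring
  refine ⟨R.gl (toGL' !![c, 0; 0, 1] (by rw [hd]; exact hc0)), R.fld_gl _, ?_⟩
  rcases Int.units_eq_one_or (R.o1 (R.gl (toGL' !![c, 0; 0, 1] (by rw [hd]; exact hc0)))) with h | h
  · rw [R.o1_gl_eq_one_iff, toGL'_val, hd] at h
    exact absurd h hc
  · exact h

theorem o1_of_even [Finite L] (h : Dih S d r c) (hd : 3 ≤ d) {α : MulAut L} (hα : ∀ g ∈ S, α g ∈ S)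
    {k : ℤ} (hk : α c = r ^ k * c) (hev : Even k) : R.o1 α = 1 := by
  obtain ⟨m, hm⟩ := hev
  have h1 : R.o1 (MulAut.conj ((r ^ m)⁻¹) * α) = 1 := by
    apply o1_of_fix R h.four
    · rw [MulAut.mul_apply, h.aut_z hd hα, MulAut.conj_apply, inv_inv]
      have := h.z_comm (S.zpow_mem h.r_mem m)
      rw [mul_assoc, this, inv_mul_cancel_left]
    · rw [MulAut.mul_apply, hk, hm, ← h.conj_refl, MulAut.conj_apply]
      group
  rw [map_mul, R.o1_conj, one_mul] at h1
  exact h1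

/-- the order of the image of `r` -/
theorem exists_odd [Finite L] (h : Dih S d r c) (hd : 3 ≤ d) {α : MulAut L} (hα : ∀ g ∈ S, α g ∈ S) :
    ∃ i : ℤ, Odd i ∧ α r = r ^ i := by
  obtain ⟨i, hi | hi⟩ := h.form _ (hα r h.r_mem)
  · refine ⟨i, ?_, hi⟩
    by_contra hodd
    rw [Int.not_odd_iff_even] at hodd
    obtain ⟨m, hm⟩ := hodd
    have h1 : α (r ^ (2 ^ (d - 2) : ℤ)) = 1 := by
      rw [map_zpow, hi, ← zpow_mul, h.rk_one, hm]
      have h2 : (2 : ℤ) ^ (d - 1) = 2 * 2 ^ (d - 2) := by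
        have h5 : d - 1 = d - 2 + 1 := by omega
        rw [h5, pow_succ]; ring
      rw [h2]
      exact ⟨m, by ring⟩
    exact h.z_ne (α.injective (by rw [h1, map_one]))
  · exfalso
    have h1 : α (r ^ (2 : ℤ)) = 1 := by
      rw [map_zpow, hi, zpow_two]
      calc r ^ i * c * (r ^ i * c) = r ^ i * (c * r ^ i * c⁻¹) * (c * c) := by
            rw [h.c_inv]; simp only [mul_assoc]
            rw [← mul_assoc c c, h.cc, one_mul]
        _ = 1 := by rw [h.crk, h.cc, mul_one, ← zpow_add, add_neg_cancel, zpow_zero]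
    have h5 : r ^ (2 : ℤ) = 1 := α.injective (by rw [h1, map_one])
    rw [h.rk_one] at h5
    have h6 := Int.le_of_dvd (by norm_num) h5
    have h7 : (2 : ℤ) ^ 2 ≤ 2 ^ (d - 1) := pow_le_pow_right₀ (by norm_num) (by omega)
    omega

/-- the image of `c` -/
theorem exists_refl [Finite L] (h : Dih S d r c) (hd : 3 ≤ d) {α : MulAut L} (hα : ∀ g ∈ S, α g ∈ S) :
    ∃ k : ℤ, α c = r ^ k * c := by
  obtain ⟨k, hk | hk⟩ := h.form _ (hα c h.c_mem)
  · exfalso
    obtain ⟨i, -, hi⟩ := exists_odd h hd hα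
    have h1 : α c * α r = α r * α c := by rw [hk, hi, ← zpow_add, ← zpow_add, add_comm]
    rw [← map_mul, ← map_mul] at h1
    have h2 := α.injective h1
    have h3 : c * r * c⁻¹ = r := by rw [h2, mul_inv_cancel_right]
    rw [h.crc] at h3
    have h5 : r ^ (2 : ℤ) = 1 := by
      rw [zpow_two]
      nth_rw 1 [← h3]
      rw [inv_mul_cancel]
    rw [h.rk_one] at h5
    have h6 := Int.le_of_dvd (by norm_num) h5
    have h7 : (2 : ℤ) ^ 2 ≤ 2 ^ (d - 1) := pow_le_pow_right₀ (by norm_num) (by omega)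
    omega
  · exact ⟨k, hk⟩

/-- an automorphism with `dg = -1` normalising `S` -/
theorem exists_o1_neg_norm [Finite L] (P : Sylow 2 L) :
    ∃ γ : MulAut L, R.o1 γ = -1 ∧ R.fld γ = 1 ∧ ∀ g ∈ (P : Subgroup L), γ g ∈ (P : Subgroup L) := by
  obtain ⟨γ, hf, hγ⟩ := exists_o1_neg R
  let P' : Sylow 2 L := P.mapSurjective (f := γ.toMonoidHom) γ.surjective
  have : Fact (Nat.Prime 2) := ⟨Nat.prime_two⟩
  obtain ⟨l, hl⟩ := MulAction.exists_smul_eq L P' P
  refine ⟨MulAut.conj l * γ, ?_, ?_, ?_⟩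
  · rw [map_mul, R.o1_conj, one_mul, hγ]
  · rw [map_mul, hf, mul_one]
    exact R.mem_PGL_iff_fld.1 (R.conj_mem_PGL l)
  · intro g hg
    rw [← hl]
    have h1 : γ g ∈ (P' : Subgroup L) := ⟨g, hg, rfl⟩
    change _ ∈ ((l • P' : Sylow 2 L) : Subgroup L)
    rw [Sylow.coe_subgroup_smul]
    exact ⟨γ g, h1, rfl⟩

/-- **swap** -/
theorem swap [Finite L] (P : Sylow 2 L) (h : Dih (P : Subgroup L) d r c) (hd : 3 ≤ d) {α : MulAut L}
    (hα : ∀ g ∈ (P : Subgroup L), α g ∈ (P : Subgroup L)) {k : ℤ} (hk : α c = r ^ k * c) :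
    R.o1 α = 1 ↔ Even k := by
  refine ⟨fun h1 => ?_, fun h1 => o1_of_even R h hd hα hk h1⟩
  by_contra hodd
  rw [Int.not_even_iff_odd] at hodd
  obtain ⟨γ, hγ, -, hγP⟩ := exists_o1_neg_norm R P
  obtain ⟨j, hj⟩ := exists_refl h hd hγP
  obtain ⟨i, hi, hir⟩ := exists_odd h hd hγP
  have hne : ¬ Even j := by
    intro hev
    rw [o1_of_even R h hd hγP hj hev] at hγ
    exact absurd hγ (by decide)
  rw [Int.not_even_iff_odd] at hne
  have h2 : R.o1 (γ * α) = 1 := by
    apply o1_of_even R h hd (α := γ * α) (k := i * k + j)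
    · intro g hg
      exact hγP _ (hα g hg)
    · rw [MulAut.mul_apply, hk, map_mul, map_zpow, hir, hj, ← zpow_mul, ← mul_assoc, ← zpow_add]
    · exact (hi.mul hodd).add_odd hne
  rw [map_mul, h1, mul_one, hγ] at h2
  exact absurd h2 (by decide)

end Cfsg.Agent.GH.L2One.AutSwap
end

-- part: GH/L2One/A7
section
prune_inst 0x424707444692202000000050272003a26da000502006b8400dde10e00068f7f630d022760f6a01b13d902a2240038006813980159421000000a200200411d01a0802a52069348a10427000f809083180c00000000000000000000000000041000000000000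
set_option linter.all false
open scoped Cfsg.Agent.FastGrp

/-!
# GH-L2: the facts of the frame for `A₇`

`A7.exists_autData`: `AutData` for a Sylow 2-subgroup of `A₇`.
-/

set_option autoImplicit false

open Subgroup

namespace Cfsg.Agent.GH.L2One.A7

abbrev S7 := Equiv.Perm (Fin 7)
abbrev Alt := alternatingGroup (Fin 7)

/-- `(0 1 2 3)(4 5)` -/
def ρ : S7 := Equiv.swap 0 1 * Equiv.swap 1 2 * Equiv.swap 2 3 * Equiv.swap 4 5
/-- `(0 2)(4 5)` -/
def γ : S7 := Equiv.swap 0 2 * Equiv.swap 4 5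
/-- `(0 2)(1 3)` -/
def ζ : S7 := Equiv.swap 0 2 * Equiv.swap 1 3
/-- `(4 5)` -/
def τ : S7 := Equiv.swap (4 : Fin 7) 5

theorem ρρ : ρ * ρ = ζ := by decide +kernel

theorem ζ_ne : ζ ≠ 1 := by decide +kernel

theorem ρ4 : ρ ^ 4 = 1 := by decide +kernel

theorem ext_of {a b : S7} (h0 : a 0 = b 0) (h1 : a 1 = b 1) (h2 : a 2 = b 2) (h3 : a 3 = b 3)
    (h4 : a 4 = b 4) (h5 : a 5 = b 5) (h6 : a 6 = b 6) : a = b := by
  ext i
  fin_cases i <;> simp_all only [_root_.Fin.isValue, _root_.Fin.zero_eta, _root_.Fin.mk_one, _root_.Fin.reduceFinMk]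

theorem values : ∀ u v w w' : Fin 7, ζ u ≠ u → ζ v ≠ v → ζ w = w → ζ w' = w' → w ≠ 6 → w' ≠ 6 →
    w ≠ w' → u ≠ v → ζ u ≠ v → ∃ i : Fin 4, ∃ j k : Fin 2,
      (ρ ^ i.val * γ ^ j.val * τ ^ k.val) 0 = u ∧ (ρ ^ i.val * γ ^ j.val * τ ^ k.val) 1 = v ∧
      (ρ ^ i.val * γ ^ j.val * τ ^ k.val) 4 = w ∧ (ρ ^ i.val * γ ^ j.val * τ ^ k.val) 5 = w' := by
  decide +kernel

theorem comp_eq : ∀ i : Fin 4, ∀ j k : Fin 2,
    (ρ ^ i.val * γ ^ j.val * τ ^ k.val) 6 = 6 ∧
    (ρ ^ i.val * γ ^ j.val * τ ^ k.val) 2 = ζ ((ρ ^ i.val * γ ^ j.val * τ ^ k.val) 0) ∧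
    (ρ ^ i.val * γ ^ j.val * τ ^ k.val) 3 = ζ ((ρ ^ i.val * γ ^ j.val * τ ^ k.val) 1) := by
  decide +kernel

/-- The centraliser of `ζ` in the stabiliser of `6`. -/
theorem form {a : S7} (h6 : a 6 = 6) (hz : a * ζ = ζ * a) : ∃ i : Fin 4, ∃ j k : Fin 2,
    a = ρ ^ i.val * γ ^ j.val * τ ^ k.val := by
  have hc : ∀ i, a (ζ i) = ζ (a i) := fun i => DFunLike.congr_fun hz i
  have hinj : ∀ i j, i ≠ j → a i ≠ a j := fun i j h h1 => h (a.injective h1)
  have z0 : ζ 0 = 2 := by decide +kernel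
  have z1 : ζ 1 = 3 := by decide +kernel
  have z4 : ζ 4 = 4 := by decide +kernel
  have z5 : ζ 5 = 5 := by decide +kernel
  have a2 : a 2 = ζ (a 0) := by rw [← hc, z0]
  have a3 : a 3 = ζ (a 1) := by rw [← hc, z1]
  obtain ⟨i, j, k, h1, h2, h3, h4⟩ := values (a 0) (a 1) (a 4) (a 5)
    (by rw [← a2]; exact hinj _ _ (by decide)) (by rw [← a3]; exact hinj _ _ (by decide))
    (by rw [← hc, z4]) (by rw [← hc, z5]) (by rw [← h6]; exact hinj _ _ (by decide))
    (by rw [← h6]; exact hinj _ _ (by decide)) (hinj _ _ (by decide)) (hinj _ _ (by decide))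
    (by rw [← a2]; exact hinj _ _ (by decide))
  obtain ⟨e6, e2, e3⟩ := comp_eq i j k
  refine ⟨i, j, k, ext_of h1.symm h2.symm ?_ ?_ h3.symm h4.symm ?_⟩
  · rw [a2, e2, h1]
  · rw [a3, e3, h2]
  · rw [h6, e6]

/-! ### the Sylow 2-subgroup -/

theorem ρ_mem : ρ ∈ Alt := by
  rw [Equiv.Perm.mem_alternatingGroup]; decide +kernel

theorem γ_mem : γ ∈ Alt := by
  rw [Equiv.Perm.mem_alternatingGroup]; decide +kernel

def r : Alt := ⟨ρ, ρ_mem⟩
def c : Alt := ⟨γ, γ_mem⟩

theorem cc : c * c = 1 := Subtype.ext (by change γ * γ = 1; decide +kernel)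

theorem crc : c * r * c⁻¹ = r⁻¹ := Subtype.ext (by change γ * ρ * γ⁻¹ = ρ⁻¹; decide +kernel)

theorem rr : r ^ 4 = 1 := Subtype.ext (by change ρ ^ 4 = 1; decide +kernel)

theorem orderOf_r : orderOf r = 4 := by
  have h : orderOf r = 2 ^ 2 := by
    apply orderOf_eq_prime_pow
    · intro h
      have h1 : ρ ^ 2 = 1 := (congrArg Subtype.val h :)
      revert h1
      decide +kernel
    · exact rr
  exact h

theorem c_not (k : ℤ) : c ≠ r ^ k := by
  intro h
  have h1 : c * r * c⁻¹ = r := by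
    rw [h, mul_inv_eq_iff_eq_mul, ← zpow_one_add, ← zpow_add_one, add_comm]
  rw [crc] at h1
  have h2 : ρ⁻¹ = ρ := congrArg Subtype.val h1
  revert h2
  decide +kernel

def g : DihedralGroup 4 → Alt
  | .r i => r ^ i.val
  | .sr i => c * r ^ i.val

theorem g_mul : ∀ a b, g (a * b) = g a * g b := by
  decide +kernel

theorem g_inj : ∀ a, g a = 1 → a = 1 := by
  decide +kernel

def gHom : DihedralGroup 4 →* Alt := MonoidHom.mk' g g_mul

theorem gHom_injective : Function.Injective gHom := (injective_iff_map_eq_one _).2 g_inj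

def S0 : Subgroup Alt := gHom.range

theorem card_S0 : Nat.card S0 = 8 := by
  unfold S0
  rw [← Nat.card_congr (MonoidHom.ofInjective gHom_injective).toEquiv, DihedralGroup.nat_card]

theorem card_Alt : Nat.card Alt = 2520 := by
  have h1 := two_mul_nat_card_alternatingGroup (α := Fin 7)
  have h3 : Nat.card (Equiv.Perm (Fin 7)) = 5040 := by
    rw [Nat.card_eq_fintype_card, Fintype.card_perm, Fintype.card_fin]
    rfl
  have h4 : 2 * Nat.card Alt = 5040 := h1.trans h3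
  omega

/-- `S0` as a Sylow 2-subgroup. -/
theorem exists_sylow : ∃ P : Sylow 2 Alt, (P : Subgroup Alt) = S0 := by
  have : Fact (Nat.Prime 2) := ⟨Nat.prime_two⟩
  have h0 : IsPGroup 2 S0 := by
    rw [IsPGroup.iff_card]
    exact ⟨3, card_S0⟩
  have h1 : ¬ 2 ∣ S0.index := by
    have h2 := S0.card_mul_index
    rw [card_S0, card_Alt] at h2
    have h3 : S0.index = 315 := by omega
    rw [h3]
    norm_num
  exact ⟨h0.toSylow h1, rfl⟩

theorem r_mem : r ∈ S0 := ⟨.r 1, by change r ^ (1 : ZMod 4).val = r; decide +kernel⟩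

theorem c_mem : c ∈ S0 := ⟨.sr 0, by change c * r ^ (0 : ZMod 4).val = c; decide +kernel⟩

theorem c_pow (k : ℤ) : c * r ^ k = r ^ (-k) * c := by
  have h : c * r ^ k * c⁻¹ = (c * r * c⁻¹) ^ k := (conj_zpow).symm
  rw [crc, inv_zpow, ← zpow_neg, mul_inv_eq_iff_eq_mul] at h
  exact h

theorem S_form : ∀ x ∈ S0, ∃ k : ℤ, x = r ^ k ∨ x = r ^ k * c := by
  rintro _ ⟨y, rfl⟩
  rcases y with i | i
  · exact ⟨(i.val : ℤ), Or.inl (by rw [zpow_natCast]; rfl)⟩
  · refine ⟨-(i.val : ℤ), Or.inr ?_⟩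
    rw [← c_pow, zpow_natCast]; rfl

/-! ### automorphisms -/

theorem exists_psi : ∃ ψ : MulAut Alt →* S7, ∀ (α : MulAut Alt) (x : Alt),
    ((α x : Alt) : S7) = ψ α * x * (ψ α)⁻¹ := StandardComponent.AltAut.exists_autHom 7 le_rfl

theorem unique {σ σ' : S7} (h : ∀ x : Alt, σ * x * σ⁻¹ = σ' * x * σ'⁻¹) : σ = σ' :=
  StandardComponent.AltAut.conj_unique (m := 5) (by norm_num) h

section psi

variable {ψ : MulAut Alt →* S7} (hψ : ∀ (α : MulAut Alt) (x : Alt),
  ((α x : Alt) : S7) = ψ α * x * (ψ α)⁻¹)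

include hψ

theorem psi_conj (l : Alt) : ψ (MulAut.conj l) = l := by
  apply unique
  intro x
  rw [← hψ]; rfl

theorem psi_injective : Function.Injective ψ := by
  intro α β h
  ext x
  rw [hψ, hψ, h]

/-- Automorphisms stabilising `S0`. -/
theorem fix6 {α : MulAut Alt} (h : ∀ s ∈ S0, α s ∈ S0) : ψ α 6 = 6 := by
  have h1 : ∀ s ∈ S0, (s : S7) 6 = 6 := by
    rintro _ ⟨y, rfl⟩
    revert y
    change ∀ y, (g y : S7) 6 = 6
    decide +kernel
  -- `ψ α⁻¹ 6`, hmm: `s (ψ α 6) = ψ α ((ψ α)⁻¹ s ψ α 6)`; use `α` bijective on `S0`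
  have h2 : ∀ s ∈ S0, ∃ s' ∈ S0, α s' = s := by
    have hfin : Set.Finite (S0 : Set Alt) := Set.toFinite _
    have h3 : (fun s => α s) '' (S0 : Set Alt) = S0 := by
      apply Set.eq_of_subset_of_ncard_le
      · rintro _ ⟨s, hs, rfl⟩
        exact h s hs
      · rw [Set.ncard_image_of_injective _ α.injective]
      · exact hfin
    intro s hs
    have h4 : s ∈ (fun s => α s) '' (S0 : Set Alt) := by rw [h3]; exact hs
    exact h4
  have h5 : ∀ s ∈ S0, (s : S7) (ψ α 6) = ψ α 6 := by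
    intro s hs
    obtain ⟨s', hs', rfl⟩ := h2 s hs
    rw [hψ]
    simp [h1 s' hs']
  have h6 := h5 r r_mem
  have h7 := h5 c c_mem
  have h8 : ∀ i : Fin 7, ρ i = i → i = 6 := by decide +kernel
  exact h8 _ h6

/-- Automorphisms stabilising `S0` commute with `ζ`. -/
theorem comm_zeta {α : MulAut Alt} (h : ∀ s ∈ S0, α s ∈ S0) : ψ α * ζ = ζ * ψ α := by
  have h1 : ∀ y : DihedralGroup 4, (g y : S7) ^ 4 = 1 → (g y : S7) ^ 2 ≠ 1 → (g y : S7) ^ 2 = ζ := by
    decide +kernel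
  obtain ⟨y, hy⟩ := h r r_mem
  have hy' : (g y : S7) = ψ α * ρ * (ψ α)⁻¹ := by
    rw [← show ((α r : Alt) : S7) = ψ α * ρ * (ψ α)⁻¹ from hψ α r, ← hy]; rfl
  have h2 : (g y : S7) ^ 2 = ψ α * ζ * (ψ α)⁻¹ := by
    rw [hy', ← ρρ, pow_two]; group
  have hρ4 : ρ ^ 4 = 1 := by decide +kernel
  have h3a : (g y : S7) ^ 4 = 1 := by
    rw [hy', conj_pow, hρ4, mul_one, mul_inv_cancel]
  have h3b : (g y : S7) ^ 2 ≠ 1 := by
    intro h4
    rw [h2, mul_inv_eq_one] at h4
    have h5 : ζ = 1 := mul_left_cancel (h4.trans (mul_one _).symm)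
    exact ζ_ne h5
  have h3 := h1 y h3a h3b
  rw [h2, mul_inv_eq_iff_eq_mul] at h3
  exact h3

theorem psi_form {α : MulAut Alt} (h : ∀ s ∈ S0, α s ∈ S0) : ∃ i : Fin 4, ∃ j k : Fin 2,
    ψ α = ρ ^ i.val * γ ^ j.val * τ ^ k.val :=
  form (fix6 hψ h) (comm_zeta hψ h)

theorem swap {α : MulAut Alt} (h : ∀ s ∈ S0, α s ∈ S0) {k : ℤ} (hk : α c = r ^ k * c) : Even k := by
  by_contra hodd
  rw [Int.not_even_iff_odd] at hodd
  obtain ⟨m, hm⟩ := hodd
  obtain ⟨i, j, l, hl⟩ := psi_form hψ h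
  have h1 : ((r ^ k * c : Alt) : S7) = ψ α * γ * (ψ α)⁻¹ := by
    rw [← hk]; exact hψ α c
  have h2 : ((r ^ k * c : Alt) : S7) = ρ * γ ∨ ((r ^ k * c : Alt) : S7) = ρ ^ 3 * γ := by
    have h3 : (ρ : S7) ^ k = ρ ∨ ρ ^ k = ρ ^ 3 := by
      have h4 : ρ ^ (4 : ℤ) = 1 := by
        have := ρ4
        exact_mod_cast this
      rcases Int.even_or_odd m with ⟨n, hn⟩ | ⟨n, hn⟩
      · left
        have : k = 4 * n + 1 := by omega
        rw [this, zpow_add, zpow_mul, h4, one_zpow, one_mul, zpow_one]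
      · right
        have : k = 4 * n + 3 := by omega
        rw [this, zpow_add, zpow_mul, h4, one_zpow, one_mul]
        norm_cast
    have h5 : ((r ^ k * c : Alt) : S7) = ρ ^ k * γ := by
      push_cast; rfl
    rw [h5]
    rcases h3 with h3 | h3 <;> rw [h3] <;> simp
  rw [h1, hl] at h2
  clear hl h1 hk
  revert i j l
  decide +kernel

/-- Automorphisms of 2-power order fixing `S0` pointwise are involutions. -/
theorem fixed_form {α : MulAut Alt} (h : ∀ s ∈ S0, α s = s) :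
    ψ α = 1 ∨ ψ α = ζ ∨ ψ α = τ ∨ ψ α = ζ * τ := by
  obtain ⟨i, j, k, hl⟩ := psi_form hψ (fun s hs => by rw [h s hs]; exact hs)
  have h1 : ψ α * ρ * (ψ α)⁻¹ = ρ := by
    rw [← show ((α r : Alt) : S7) = ψ α * ρ * (ψ α)⁻¹ from hψ α r, h r r_mem]; rfl
  have h2 : ψ α * γ * (ψ α)⁻¹ = γ := by
    rw [← show ((α c : Alt) : S7) = ψ α * γ * (ψ α)⁻¹ from hψ α c, h c c_mem]; rfl
  rw [hl] at h1 h2 ⊢
  clear hl
  revert i j k
  decide +kernel

end psi

/-! ### involutions -/

theorem conj_of_support {a b : S7} (ha : a * a = 1) (ha1 : a ≠ 1) (hb : b * b = 1) (hb1 : b ≠ 1)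
    (h : a.support.card = b.support.card) : ∃ σ : S7, σ * a * σ⁻¹ = b := by
  have hoa : orderOf a = 2 := orderOf_eq_prime (by rw [pow_two, ha]) ha1
  have hob : orderOf b = 2 := orderOf_eq_prime (by rw [pow_two, hb]) hb1
  obtain ⟨n, hn⟩ := Equiv.Perm.cycleType_prime_order (σ := a) (by rw [hoa]; exact Nat.prime_two)
  obtain ⟨m, hm⟩ := Equiv.Perm.cycleType_prime_order (σ := b) (by rw [hob]; exact Nat.prime_two)
  have h1 := a.sum_cycleType
  have h2 := b.sum_cycleType
  rw [hn, hoa, Multiset.sum_replicate, smul_eq_mul] at h1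
  rw [hm, hob, Multiset.sum_replicate, smul_eq_mul] at h2
  have hnm : n = m := by omega
  have h3 : IsConj a b := by
    rw [Equiv.Perm.isConj_iff_cycleType_eq, hn, hm, hoa, hob, hnm]
  exact isConj_iff.1 h3

theorem sign_support {a : S7} (ha : a * a = 1) (ha1 : a ≠ 1) :
    (a.support.card = 2 ∧ Equiv.Perm.sign a = -1) ∨ (a.support.card = 4 ∧ Equiv.Perm.sign a = 1) ∨
      (a.support.card = 6 ∧ Equiv.Perm.sign a = -1) := by
  have hoa : orderOf a = 2 := orderOf_eq_prime (by rw [pow_two, ha]) ha1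
  obtain ⟨n, hn⟩ := Equiv.Perm.cycleType_prime_order (σ := a) (by rw [hoa]; exact Nat.prime_two)
  have h1 := a.sum_cycleType
  rw [hn, hoa, Multiset.sum_replicate, smul_eq_mul] at h1
  have h2 : a.support.card ≤ 7 := by
    have := Finset.card_le_univ a.support
    rwa [Fintype.card_fin] at this
  have h3 := Equiv.Perm.sign_of_cycleType a
  rw [hn, hoa, Multiset.sum_replicate, Multiset.card_replicate, smul_eq_mul] at h3
  have h4 : n = 0 ∨ n = 1 ∨ n = 2 := by omega
  rcases h4 with rfl | rfl | rfl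
  · exact Or.inl ⟨h1.symm, h3.trans (by decide)⟩
  · exact Or.inr (Or.inl ⟨h1.symm, h3.trans (by decide)⟩)
  · exact Or.inr (Or.inr ⟨h1.symm, h3.trans (by decide)⟩)

theorem sign_τ : Equiv.Perm.sign τ = -1 := by decide +kernel

/-- Conjugation by an even permutation. -/
theorem exists_even {a b : S7} (hb : τ * b * τ⁻¹ = b) (h : ∃ σ : S7, σ * a * σ⁻¹ = b) :
    ∃ l : Alt, (l : S7) * a * (l : S7)⁻¹ = b := by
  obtain ⟨σ, hσ⟩ := h
  rcases Int.units_eq_one_or (Equiv.Perm.sign σ) with h1 | h1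
  · exact ⟨⟨σ, Equiv.Perm.mem_alternatingGroup.2 h1⟩, hσ⟩
  · refine ⟨⟨τ * σ, Equiv.Perm.mem_alternatingGroup.2 ?_⟩, ?_⟩
    · rw [map_mul, h1, sign_τ]; rfl
    · change τ * σ * a * (τ * σ)⁻¹ = b
      rw [← hb, ← hσ]; group

theorem conj_zeta {a : S7} (ha : a * a = 1) (ha1 : a ≠ 1) (hs : Equiv.Perm.sign a = 1) :
    ∃ l : Alt, (l : S7) * a * (l : S7)⁻¹ = ζ := by
  apply exists_even (by decide +kernel)
  apply conj_of_support ha ha1 (by decide +kernel) ζ_ne
  rcases sign_support ha ha1 with h | h | h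
  · rw [h.2] at hs; exact absurd hs (by decide)
  · rw [h.1]; decide +kernel
  · rw [h.2] at hs; exact absurd hs (by decide)

theorem conj_odd {a : S7} (ha : a * a = 1) (hs : Equiv.Perm.sign a ≠ 1) :
    ∃ l : Alt, (l : S7) * a * (l : S7)⁻¹ = τ ∨ (l : S7) * a * (l : S7)⁻¹ = ζ * τ := by
  have ha1 : a ≠ 1 := by
    rintro rfl
    exact hs (map_one _)
  rcases sign_support ha ha1 with h | h | h
  · obtain ⟨l, hl⟩ := exists_even (a := a) (b := τ) (by decide +kernel)
      (conj_of_support ha ha1 (by decide +kernel) (by decide +kernel) (by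
        rw [h.1]; decide +kernel))
    exact ⟨l, Or.inl hl⟩
  · exact absurd h.2 hs
  · obtain ⟨l, hl⟩ := exists_even (a := a) (b := ζ * τ) (by decide +kernel)
      (conj_of_support ha ha1 (by decide +kernel) (by decide +kernel) (by
        rw [h.1]; decide +kernel))
    exact ⟨l, Or.inr hl⟩

theorem inv_conj (a b : Alt) (ha : a * a = 1) (ha1 : a ≠ 1) (hb : b * b = 1) (hb1 : b ≠ 1) :
    ∃ k, k * a * k⁻¹ = b := by
  obtain ⟨l, hl⟩ := conj_zeta (a := a) (congrArg Subtype.val ha) (fun h => ha1 (Subtype.ext h))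
    (Equiv.Perm.mem_alternatingGroup.1 a.2)
  obtain ⟨m, hm⟩ := conj_zeta (a := b) (congrArg Subtype.val hb) (fun h => hb1 (Subtype.ext h))
    (Equiv.Perm.mem_alternatingGroup.1 b.2)
  refine ⟨m⁻¹ * l, Subtype.ext ?_⟩
  change (m : S7)⁻¹ * l * a * ((m : S7)⁻¹ * l)⁻¹ = b
  have h1 : (m : S7)⁻¹ * l * a * ((m : S7)⁻¹ * l)⁻¹ = (m : S7)⁻¹ * (l * a * (l : S7)⁻¹) * m := by
    group
  rw [h1, hl, ← hm]; group

/-- The facts of the frame for `A₇`. -/
theorem exists_autData : ∃ (P : Sylow 2 Alt) (p1 p2 : MulAut Alt →* ℤˣ),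
    AutData (P : Subgroup Alt) 3 r c p1 p2 := by
  obtain ⟨P, hP⟩ := exists_sylow
  obtain ⟨ψ, hψ⟩ := exists_psi
  refine ⟨P, 1, Equiv.Perm.sign.comp ψ, ?_⟩
  rw [hP]
  have hp2 : ∀ α, (Equiv.Perm.sign.comp ψ) α = Equiv.Perm.sign (ψ α) := fun α => rfl
  have hsq : ∀ {α : MulAut Alt}, α * α = 1 → ψ α * ψ α = 1 := fun h => by
    rw [← map_mul, h, map_one]
  exact
    { inn1 := fun _ => rfl
      inn2 := fun l => by
        rw [hp2, psi_conj hψ]
        exact Equiv.Perm.mem_alternatingGroup.1 l.2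
      ker := by
        intro α _ h2
        refine ⟨⟨ψ α, Equiv.Perm.mem_alternatingGroup.2 h2⟩, ?_⟩
        apply psi_injective hψ
        rw [psi_conj hψ]
      A_inv := by
        intro a b _ ha1 _ hb1
        rcases Int.units_eq_one_or a with h | h
        · exact absurd h ha1
        · rcases Int.units_eq_one_or b with h' | h'
          · exact absurd h' hb1
          · rw [h, h']
      inv_conj := inv_conj
      d_ge := by norm_num
      r_mem := r_mem
      c_mem := c_mem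
      cc := cc
      crc := crc
      or_eq := by rw [orderOf_r]; norm_num
      c_not := c_not
      S_form := S_form
      swap := fun _ α h k hk => ⟨fun _ => swap hψ h hk, fun _ => rfl⟩
      small := fun h => absurd h (by norm_num)
      sq := by
        intro α _ h
        apply psi_injective hψ
        rw [map_mul, map_one]
        rcases fixed_form hψ h with h1 | h1 | h1 | h1 <;> rw [h1] <;> decide +kernel
      no_mixed := fun _ _ => Or.inl rfl
      field_cent := by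
        intro α hα h
        rw [hp2] at h
        obtain ⟨l, hl⟩ := conj_odd (hsq hα) h
        refine ⟨l, fun s hs => ?_⟩
        have h1 : ψ (MulAut.conj l * α * (MulAut.conj l)⁻¹) = l * ψ α * (l : S7)⁻¹ := by
          rw [map_mul, map_mul, map_inv, psi_conj hψ]
        obtain ⟨y, rfl⟩ := hs
        apply Subtype.ext
        rw [hψ, h1]
        change _ * (g y : S7) * _ = (g y : S7)
        rcases hl with hl | hl <;> rw [hl] <;> revert y <;> decide +kernel
      field_conj := by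
        intro α hα h h0
        rw [hp2] at h
        rcases fixed_form hψ h0 with h1 | h1 | h1 | h1
        · rw [h1] at h; exact absurd (map_one _) h
        · rw [h1] at h; exact absurd (by decide +kernel) h
        · refine ⟨c, c_mem, ?_, cc, ⟨Equiv.swap (0 : Fin 7) 4 * Equiv.swap (2 : Fin 7) 5, ?_⟩, ?_⟩
          · intro h2
            have h3 : γ = 1 := congrArg Subtype.val h2
            revert h3
            decide +kernel
          · rw [Equiv.Perm.mem_alternatingGroup]; decide +kernel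
          · apply psi_injective hψ
            rw [map_mul ψ, map_mul ψ, map_mul ψ, map_inv ψ, psi_conj hψ, psi_conj hψ, h1]
            change (Equiv.swap (0 : Fin 7) 4 * Equiv.swap (2 : Fin 7) 5 : S7) * τ * (Equiv.swap (0 : Fin 7) 4 * Equiv.swap (2 : Fin 7) 5 : S7)⁻¹ =
              γ * τ
            decide +kernel
        · refine ⟨r * c, S0.mul_mem r_mem c_mem, ?_, ?_, ⟨Equiv.swap (1 : Fin 7) 2 * Equiv.swap (4 : Fin 7) 5, ?_⟩, ?_⟩
          · intro h2
            have h3 : ρ * γ = 1 := (congrArg Subtype.val h2 :)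
            revert h3
            decide +kernel
          · apply Subtype.ext
            change ρ * γ * (ρ * γ) = 1
            decide +kernel
          · rw [Equiv.Perm.mem_alternatingGroup]; decide +kernel
          · apply psi_injective hψ
            rw [map_mul ψ, map_mul ψ, map_mul ψ, map_inv ψ, psi_conj hψ, psi_conj hψ, h1]
            change (Equiv.swap (1 : Fin 7) 2 * Equiv.swap (4 : Fin 7) 5 : S7) * (ζ * τ) *
              (Equiv.swap (1 : Fin 7) 2 * Equiv.swap (4 : Fin 7) 5 : S7)⁻¹ = ρ * γ * (ζ * τ)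
            decide +kernel
      field_o1 := fun _ _ _ _ _ => rfl }

end Cfsg.Agent.GH.L2One.A7
end

-- part: GH/L2One/Dbl
section
set_option linter.all false

/-!
# GH-L2, `m_2(Q) = 1`, `|Q| ≥ 4`, CASE I: the situation after step (7)

`Dbl x z S T T0 D d r c s`: `S` a 2-group (later Sylow in `G`), `T = C_S(x)` of index 2, `s ∈ S - T` swaps `x` and
`z`, `D = ⟨r, c⟩ ⊴ T` dihedral of order `2^d`, `d ≥ 3`, `D` and `s D s⁻¹` commute and meet trivially,
`T0 = D × s D s⁻¹`, an element of `T` is in `T0` iff it fixes the two classes of reflections of `D`.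

`CoreH S N R x c0`: the consequence of (OC) for `H = C(c0)`, `N = O(H)`, `R = S ∩ O_{2',2}(H)`.
-/

set_option autoImplicit false

open Subgroup

namespace Cfsg.Agent.GH.L2One

variable {G : Type*} [Group G]

/-- The situation of CASE I after step (7). -/
structure Dbl (x z : G) (S T T0 D : Subgroup G) (d : ℕ) (r c s : G) : Prop where
  S_two : IsPGroup 2 S
  T_le : T ≤ S
  s_mem : s ∈ S
  s_not : s ∉ T
  /-- index 2 -/
  S_form : ∀ g ∈ S, g ∉ T → s⁻¹ * g ∈ T
  T_iff : ∀ g ∈ S, (g ∈ T ↔ x * g = g * x)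
  d_ge : 3 ≤ d
  D_le : D ≤ T
  D_norm : ∀ t ∈ T, ∀ e ∈ D, t * e * t⁻¹ ∈ D
  r_mem : r ∈ D
  c_mem : c ∈ D
  cc : c * c = 1
  crc : c * r * c⁻¹ = r⁻¹
  or_eq : orderOf r = 2 ^ (d - 1)
  c_not : ∀ k : ℤ, c ≠ r ^ k
  D_form : ∀ g ∈ D, ∃ k : ℤ, g = r ^ k ∨ g = r ^ k * c
  z_eq : z = r ^ 2 ^ (d - 2)
  sz : s * z * s⁻¹ = x
  sx : s * x * s⁻¹ = z
  comm : ∀ e ∈ D, ∀ f ∈ D, e * (s * f * s⁻¹) = s * f * s⁻¹ * e
  disj : ∀ e ∈ D, ∀ f ∈ D, e = s * f * s⁻¹ → e = 1
  mem_T0 : ∀ g, g ∈ T0 ↔ ∃ e ∈ D, ∃ f ∈ D, g = e * (s * f * s⁻¹)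
  /-- an element of `T` is in `T0` iff it fixes the two classes of reflections of `D` -/
  swap : ∀ t ∈ T, ∀ k : ℤ, t * c * t⁻¹ = r ^ k * c → (t ∈ T0 ↔ Even k)
  /-- `C_T(D) = ⟨z⟩ × s D s⁻¹` -/
  cent_D : ∀ t ∈ T, (∀ e ∈ D, t * e = e * t) → ∃ f ∈ D, t = s * f * s⁻¹ ∨ t = z * (s * f * s⁻¹)

/-- The consequence of (OC) for `H = C(c0)`, `N = O(H)`, `R = S ∩ O_{2',2}(H)`. -/
structure CoreH (S N R : Subgroup G) (x c0 : G) : Prop where
  N_comm : ∀ n ∈ N, c0 * n = n * c0
  N_norm : ∀ h, c0 * h = h * c0 → ∀ n ∈ N, h * n * h⁻¹ ∈ N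
  N_odd : Odd (Nat.card N)
  R_le : R ≤ S
  R_norm : ∀ s ∈ S, ∀ y ∈ R, s * y * s⁻¹ ∈ R
  x_mem : x ∈ R
  /-- every `H`-conjugate of `x` is congruent mod `O(H)` to an element `y` of `R` with `[R, y] ≤ ⟨c0⟩` -/
  conj : ∀ h, c0 * h = h * c0 → ∃ y ∈ R, y⁻¹ * (h * x * h⁻¹) ∈ N ∧
    ∀ w ∈ R, w * y * w⁻¹ * y⁻¹ = 1 ∨ w * y * w⁻¹ * y⁻¹ = c0

end Cfsg.Agent.GH.L2One
end

-- part: GH/L2FrameComp
section
set_option linter.all false
open scoped Cfsg.Agent.FastGrp

/-!
# GH-L2: 2-components of centralisers inside a 2-component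

* `exists_isComp_of_surjective`: `f : X → M` surjective with a kernel of odd order, `M` quasisimple with trivial
  core: the subgroup generated by the 2-elements of `X` is a 2-component of `X` mapping onto `M`.
* `exists_comp`: `K` a 2-component of `H`, `P ≤ H ⊓ N(K)` a 2-group, `M` a subnormal quasisimple subgroup of the
  fixed subgroup of `P` in `STop K`: there is a 2-component `J ≤ K` of `H ⊓ C(P)` mapping onto `M`.
-/

set_option autoImplicit false
set_option linter.unusedSectionVars false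

open Cfsg Subgroup
open scoped commutatorElement
open Cfsg.Agent.SignalizersComponents
open Cfsg.Agent.SignalizersComponents.IntrinsicBasic (cj mem_cj)
open Cfsg.Agent.Intrinsic.Basic Cfsg.Agent.GH.Defs Cfsg.Agent.GH.Comp
open Cfsg.Agent.Walter.SylowIn
open Cfsg.Agent.Lib

namespace Cfsg.Agent.GH.L2Frame

variable {G : Type*} [Group G] [Finite G]

/-- 2-elements lift to 2-elements. -/
theorem exists_two_lift {X M : Type*} [Group X] [Finite X] [Group M] {f : X →* M}
    (hf : Function.Surjective f) {y : M} {n : ℕ} (hy : y ^ 2 ^ n = 1) :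
    ∃ x : X, f x = y ∧ ∃ m : ℕ, x ^ 2 ^ m = 1 := by
  have : Fact (Nat.Prime 2) := ⟨Nat.prime_two⟩
  have h1 : IsPGroup 2 (zpowers y) := by
    rintro ⟨z, hz⟩
    obtain ⟨k, rfl⟩ := mem_zpowers_iff.1 hz
    refine ⟨n, Subtype.ext ?_⟩
    change (y ^ k) ^ 2 ^ n = 1
    rw [← zpow_natCast, ← zpow_mul, mul_comm, zpow_mul, zpow_natCast, hy, one_zpow]
  obtain ⟨S, hS⟩ := h1.exists_le_sylow
  obtain ⟨P, rfl⟩ := Sylow.mapSurjective_surjective hf 2 S
  obtain ⟨x, hx, hxy⟩ := hS (mem_zpowers y)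
  obtain ⟨m, hm⟩ := P.2 ⟨x, hx⟩
  exact ⟨x, hxy, m, by simpa using congrArg Subtype.val hm⟩

theorem odd_of_dvd {a b : ℕ} (h : a ∣ b) (hb : Odd b) : Odd a := hb.of_dvd_nat h

/-- A normal subgroup of odd order is in the core. -/
theorem le_oddCore {X : Type*} [Group X] {N : Subgroup X} (hN : N.Normal)
    (h : Odd (Nat.card N)) : N ≤ oddCore X :=
  Cores.le_pPrimeCore hN (Nat.coprime_two_right.2 h)

theorem odd_card_oddCore (X : Type*) [Group X] [Finite X] : Odd (Nat.card (oddCore X)) :=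
  Nat.coprime_two_right.1 (Cores.pPrimeCore_coprime (G := X) 2)

/-- A surjective homomorphism with odd kernel onto a group with trivial core: the kernel is the core. -/
theorem ker_eq_oddCore {X M : Type*} [Group X] [Finite X] [Group M] {f : X →* M}
    (hf : Function.Surjective f) (hker : Odd (Nat.card f.ker)) (hM : oddCore M = ⊥) :
    f.ker = oddCore X := by
  have : Finite M := Finite.of_surjective f hf
  apply le_antisymm (le_oddCore inferInstance hker)
  have h1 : (oddCore X).map f ≤ oddCore M := by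
    refine le_oddCore ((Cores.pPrimeCore_normal (G := X) 2).map f hf) ?_
    exact odd_of_dvd (card_map_dvd (oddCore X) f) (odd_card_oddCore X)
  rw [hM] at h1
  intro x hx
  exact mem_bot.1 (h1 ⟨x, hx, rfl⟩)

theorem exists_isComp_of_surjective {X : Subgroup G} {M : Type*} [Group M] {f : X →* M}
    (hf : Function.Surjective f) (hker : Odd (Nat.card f.ker)) (hq : IsQuasisimple M)
    (hM : oddCore M = ⊥) :
    ∃ (J : Subgroup G) (hJ : J ≤ X), IsComp X J ∧ X ≤ normalizer (J : Set G) ∧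
      Function.Surjective (f.comp (inclusion hJ)) ∧ Nonempty (Bar J ≃* M) := by
  have : Fact (Nat.Prime 2) := ⟨Nat.prime_two⟩
  have : Finite M := Finite.of_surjective f hf
  let J : Subgroup G := PComponents.pElem 2 X
  have hJ : J ≤ X := PComponents.pElem_le X
  have hne : Nontrivial M := ComponentSolvable.quasisimple_nontrivial hq
  have h2 : 2 ∣ Nat.card M := by
    by_contra h
    have h1 : Odd (Nat.card M) := by
      rw [← Nat.not_even_iff_odd]
      exact fun h3 => h h3.two_dvd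
    have h3 : (⊤ : Subgroup M) ≤ oddCore M := le_oddCore inferInstance (by rwa [card_top])
    rw [hM] at h3
    exact top_ne_bot (le_bot_iff.1 h3)
  have hsurj : Function.Surjective (f.comp (inclusion hJ)) := by
    have h1 : (⊤ : Subgroup M) ≤ (f.comp (inclusion hJ)).range := by
      rw [← PComponents.quasisimple_pElem_top (p := 2) hq h2]
      refine (closure_le _).2 ?_
      rintro y ⟨-, n, hn⟩
      obtain ⟨x, rfl, m, hm⟩ := exists_two_lift hf hn
      have hxJ : (x : G) ∈ J := PComponents.mem_pElem x.2 (n := m) (by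
        simpa using congrArg Subtype.val hm)
      exact ⟨⟨x, hxJ⟩, rfl⟩
    intro y
    exact h1 (mem_top y)
  have hker' : Odd (Nat.card (f.comp (inclusion hJ)).ker) := by
    refine odd_of_dvd ?_ hker
    have h1 : (f.comp (inclusion hJ)).ker.map (inclusion hJ) ≤ f.ker := by
      rintro _ ⟨x, hx, rfl⟩
      exact hx
    have h3 := card_dvd_of_le h1
    rwa [card_map_of_injective (inclusion_injective hJ)] at h3
  have hk := ker_eq_oddCore hsurj hker' hM
  have e : Bar J ≃* M :=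
    (QuotientGroup.quotientMulEquivOfEq hk.symm).trans
      (QuotientGroup.quotientKerEquivOfSurjective _ hsurj)
  have hn : X ≤ normalizer (J : Set G) :=
    le_normalizer.trans (PComponents.normalizer_le_normalizer_pElem (p := 2) X)
  refine ⟨J, hJ, ?_, hn, hsurj, ⟨e⟩⟩
  rw [isComp_iff]
  refine ⟨hJ, ?_, PCompQuot.quasisimple_congr e.symm hq, ?_⟩
  · exact (normal_subgroupOf_of_le_normalizer hn).isSubnormal
  · apply le_antisymm (PComponents.pElem_le _)
    refine (closure_le _).2 ?_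
    rintro y ⟨hy, n, hn⟩
    exact PComponents.mem_pElem (PComponents.mem_pElem hy hn) hn

/-- The fixed subgroup of `P` in `STop K`. -/
def fixedTop (K P : Subgroup G) : Subgroup (STop K) where
  carrier := {l | ∀ p : normalizer (K : Set G), (p : G) ∈ P → act K p l = l}
  one_mem' := fun p _ => map_one _
  mul_mem' := by
    intro a b ha hb p hp
    rw [map_mul, ha p hp, hb p hp]
  inv_mem' := by
    intro a ha p hp
    rw [map_inv, ha p hp]

theorem mem_fixedTop {K P : Subgroup G} {l : STop K} :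
    l ∈ fixedTop K P ↔ ∀ p : normalizer (K : Set G), (p : G) ∈ P → act K p l = l := Iff.rfl

theorem topMap_mem_fixedTop {K P : Subgroup G} {k : K}
    (hk : (k : G) ∈ centralizer (P : Set G)) : topMap K k ∈ fixedTop K P := by
  intro p hp
  have h1 : (p : G) * k * (p : G)⁻¹ = k := by
    rw [mul_inv_eq_iff_eq_mul]
    exact mem_centralizer_iff.1 hk _ hp
  have h2 := act_apply p.2 k
  have h3 : (⟨(p : G) * k * (p : G)⁻¹, conj_mem p.2 k.2⟩ : K) = k := Subtype.ext h1
  rw [h3] at h2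
  exact h2

theorem exists_of_mem_fixedTop {K P : Subgroup G} (hodd : ¬ EvenCenter K) (hP : IsPGroup 2 P)
    (hPK : P ≤ normalizer (K : Set G)) {l : STop K} (hl : l ∈ fixedTop K P) :
    ∃ k : K, (k : G) ∈ centralizer (P : Set G) ∧ topMap K k = l := by
  obtain ⟨k, hk, hkl⟩ := exists_fixed hodd hP hPK (l := l) (fun p hp => hl ⟨p, hPK hp⟩ hp)
  exact ⟨k, mem_centralizer_iff.2 hk, hkl⟩

/-- 2-components of `H ⊓ C(P)` inside `K` from quasisimple subnormal subgroups of the fixed subgroup. -/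
theorem exists_comp {H K P : Subgroup G} (hK : IsComp H K) (hodd : ¬ EvenCenter K)
    (hP : IsPGroup 2 P) (hPK : P ≤ normalizer (K : Set G))
    {M : Subgroup (STop K)} (hMC : M ≤ fixedTop K P)
    (hsub : (M.subgroupOf (fixedTop K P)).IsSubnormal) (hq : IsQuasisimple M)
    (hM : oddCore M = ⊥) :
    ∃ J : Subgroup G, IsComp (H ⊓ centralizer (P : Set G)) J ∧ J ≤ K ∧
      (∀ j : K, (j : G) ∈ J → topMap K j ∈ M) ∧
      (∀ m ∈ M, ∃ j : K, (j : G) ∈ J ∧ topMap K j = m) ∧ Nonempty (Bar J ≃* M) := by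
  -- `X` = the elements of `C_K(P)` with image in `M`
  let X : Subgroup G := (M.comap (topMap K)).map K.subtype ⊓ centralizer (P : Set G)
  have hXK : X ≤ K := inf_le_left.trans (map_subtype_le _)
  have hX : ∀ {x : G} (hx : x ∈ X), topMap K ⟨x, hXK hx⟩ ∈ M := by
    intro x hx
    obtain ⟨⟨y, hy, rfl⟩, -⟩ := hx
    exact hy
  have hX2 : ∀ k : K, topMap K k ∈ M → (k : G) ∈ centralizer (P : Set G) → (k : G) ∈ X :=
    fun k hk hc => ⟨⟨k, hk, rfl⟩, hc⟩
  let f : X →* M := ((topMap K).comp (inclusion hXK)).codRestrict M (fun x => hX x.2)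
  have hf : Function.Surjective f := by
    rintro ⟨m, hm⟩
    obtain ⟨k, hk, hkm⟩ := exists_of_mem_fixedTop hodd hP hPK (hMC hm)
    exact ⟨⟨k, hX2 k (hkm ▸ hm) hk⟩, Subtype.ext hkm⟩
  have hker : Odd (Nat.card f.ker) := by
    refine odd_of_dvd ?_ (odd_card_ker hodd)
    have h1 : f.ker.map (inclusion hXK) ≤ (topMap K).ker := by
      rintro _ ⟨x, hx, rfl⟩
      exact congrArg Subtype.val (show f x = 1 from hx)
    have h3 := card_dvd_of_le h1
    rwa [card_map_of_injective (inclusion_injective hXK)] at h3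
  obtain ⟨J, hJX, hJ, -, hsurj, hbar⟩ := exists_isComp_of_surjective hf hker hq hM
  -- subnormality
  let B : Subgroup G := K ⊓ centralizer (P : Set G)
  have hXB : X ≤ B := le_inf hXK inf_le_right
  have hBA : B ≤ H ⊓ centralizer (P : Set G) := inf_le_inf_right _ hK.le
  have h1 : (X.subgroupOf B).IsSubnormal := by
    let g : B →* fixedTop K P := ((topMap K).comp (inclusion (inf_le_left : B ≤ K))).codRestrict _
      (fun x => topMap_mem_fixedTop (k := inclusion (inf_le_left : B ≤ K) x) x.2.2)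
    have h2 := hsub.comap g
    have h3 : (M.subgroupOf (fixedTop K P)).comap g = X.subgroupOf B := by
      ext x
      constructor
      · intro hx
        exact mem_subgroupOf.2 (hX2 ⟨x, x.2.1⟩ hx x.2.2)
      · intro hx
        exact hX (mem_subgroupOf.1 hx)
    rwa [h3] at h2
  have h2 : (B.subgroupOf (H ⊓ centralizer (P : Set G))).IsSubnormal := by
    have h3 := (isComp_iff.1 hK).2.1.comap
      (inclusion (inf_le_left : H ⊓ centralizer (P : Set G) ≤ H))
    have h4 : (K.subgroupOf H).comap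
        (inclusion (inf_le_left : H ⊓ centralizer (P : Set G) ≤ H)) =
        B.subgroupOf (H ⊓ centralizer (P : Set G)) := by
      ext x
      constructor
      · intro hx
        exact mem_subgroupOf.2 ⟨hx, x.2.2⟩
      · intro hx
        exact (mem_subgroupOf.1 hx).1
    rwa [h4] at h3
  refine ⟨J, (hJ.extend hXB h1).extend hBA h2, hJX.trans hXK, ?_, ?_, hbar⟩
  · intro j hj
    exact hX (hJX hj)
  · intro m hm
    obtain ⟨j, hj⟩ := hsurj ⟨m, hm⟩
    exact ⟨⟨j, hXK (hJX j.2)⟩, j.2, congrArg Subtype.val hj⟩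

end Cfsg.Agent.GH.L2Frame
end

-- part: GH/L2AutPlus
section
prune_inst 0x424602044090002000018051270003846da00050000630401dca10c000087ff620d02274166a01d13581222400030004811880050001800000020000040010120802a50048308a10426000f803087180c00000000000000000000000000041000000000000
set_option linter.all false
open scoped Cfsg.Agent.FastGrp

-- part: GH/L2Conj
section
/-!
# GH-L2: exact conjugacy in a 2-component from conjugacy in its simple top

* `exists_lift_conj`: `f : X → L` with a kernel of odd order, `A`, `B` 2-subgroups of `X`; if `f(A)^{f(k)} ≤ f(B)` then some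
  `n ∈ ker f` has `A^{nk} ≤ B` compatibly with `f`;
* `exists_conj_of_top`, `exists_conj_fixed`: the same for `K → STop K`, centralising a 2-group fixing `K`;
* `exists_zstar`: an involution `t` normalising `K` and not fixing it: `t v` is `K`-conjugate to `t` for an involution
  `v ∈ C_K(t)` (Glauberman's Z*-theorem).
-/

set_option autoImplicit false
set_option linter.unusedSectionVars false

open Cfsg Subgroup
open scoped commutatorElement
open Cfsg.Agent.SignalizersComponents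
open Cfsg.Agent.SignalizersComponents.IntrinsicBasic (cj mem_cj)
open Cfsg.Agent.Intrinsic.Basic Cfsg.Agent.GH.Defs Cfsg.Agent.GH.Comp
open Cfsg.Agent.Walter.SylowIn
open Cfsg.Agent.Lib

namespace Cfsg.Agent.GH.L2Frame

theorem isPGroup_zpowers {X : Type*} [Group X] {p : ℕ} {x : X} {n : ℕ} (h : x ^ p ^ n = 1) :
    IsPGroup p (zpowers x) := by
  rintro ⟨z, hz⟩
  obtain ⟨k, rfl⟩ := mem_zpowers_iff.1 hz
  refine ⟨n, Subtype.ext ?_⟩
  change (x ^ k) ^ p ^ n = 1
  rw [← zpow_natCast, ← zpow_mul, mul_comm, zpow_mul, zpow_natCast, h, one_zpow]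

/-- A 2-element in a subgroup of odd order is trivial. -/
theorem eq_one_of_two {X : Type*} [Group X] {N : Subgroup X} (hN : Odd (Nat.card N)) {x : X}
    (hx : x ∈ N) {n : ℕ} (hn : x ^ 2 ^ n = 1) : x = 1 := by
  have h1 : orderOf x ∣ 2 ^ n := orderOf_dvd_of_pow_eq_one hn
  have h2 : orderOf x ∣ Nat.card N := by
    have := orderOf_dvd_natCard (⟨x, hx⟩ : N)
    rwa [Subgroup.orderOf_mk] at this
  have h3 := Nat.eq_one_of_dvd_coprimes (Nat.Coprime.pow_left n (Nat.coprime_two_left.2 hN)) h1 h2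
  exact orderOf_eq_one_iff.1 h3

theorem exists_lift_conj {X L : Type*} [Group X] [Finite X] [Group L] {f : X →* L}
    (hker : Odd (Nat.card f.ker)) {A B : Subgroup X} (hA : IsPGroup 2 A) (hB : IsPGroup 2 B)
    {k : X} (h : ∀ a ∈ A, ∃ b ∈ B, f (k * a * k⁻¹) = f b) :
    ∃ n ∈ f.ker, ∀ a ∈ A, ∀ b ∈ B, f (k * a * k⁻¹) = f b → (n * k) * a * (n * k)⁻¹ = b := by
  have : Fact (Nat.Prime 2) := ⟨Nat.prime_two⟩
  let M : Subgroup X := B ⊔ f.ker
  have hdisj : B ⊓ f.ker = ⊥ := by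
    rw [eq_bot_iff]
    rintro x ⟨hx, hx'⟩
    obtain ⟨n, hn⟩ := hB ⟨x, hx⟩
    exact mem_bot.2 (eq_one_of_two hker hx' (n := n) (by simpa using congrArg Subtype.val hn))
  have hBn : B ≤ normalizer (f.ker : Set X) := by
    rw [normalizer_eq_top_iff.2 (inferInstance : f.ker.Normal)]
    exact le_top
  have hidx : ¬ 2 ∣ B.relIndex M := by
    have h1 := relIndex_sup hBn
    rw [hdisj, relIndex_bot_left] at h1
    change ¬ 2 ∣ B.relIndex (B ⊔ f.ker)
    rw [← h1]
    exact hker.not_two_dvd_nat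
  have hS : SylIn 2 B M := sylIn_of le_sup_left hB hidx
  have hA' : IsPGroup 2 (A.map (MulAut.conj k).toMonoidHom) := hA.map _
  have hAM : A.map (MulAut.conj k).toMonoidHom ≤ M := by
    rintro _ ⟨a, ha, rfl⟩
    obtain ⟨b, hb, hab⟩ := h a ha
    have h1 : b⁻¹ * (k * a * k⁻¹) ∈ f.ker := by
      rw [MonoidHom.mem_ker, map_mul, map_inv, hab, inv_mul_cancel]
    have h2 : (MulAut.conj k).toMonoidHom a = b * (b⁻¹ * (k * a * k⁻¹)) := by
      change k * a * k⁻¹ = _
      group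
    rw [h2]
    exact M.mul_mem (mem_sup_left hb) (mem_sup_right h1)
  obtain ⟨g, hg, hgA⟩ := hS.conj_le hAM hA'
  obtain ⟨b₀, hb₀, n, hn, rfl⟩ := mem_sup_of_normal_right.1 hg
  refine ⟨n, hn, fun a ha b hb hab => ?_⟩
  have h1 := hgA _ ⟨a, ha, rfl⟩
  change b₀ * n * (k * a * k⁻¹) * (b₀ * n)⁻¹ ∈ B at h1
  have h2 : n * (k * a * k⁻¹) * n⁻¹ ∈ B := by
    have h3 := B.mul_mem (B.mul_mem (B.inv_mem hb₀) h1) hb₀
    have h4 : b₀⁻¹ * (b₀ * n * (k * a * k⁻¹) * (b₀ * n)⁻¹) * b₀ = n * (k * a * k⁻¹) * n⁻¹ := by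
      group
    rwa [h4] at h3
  have h3 : f (n * (k * a * k⁻¹) * n⁻¹) = f b := by
    rw [map_mul, map_mul, map_inv, MonoidHom.mem_ker.1 hn, one_mul, inv_one, mul_one, hab]
  have h4 : b⁻¹ * (n * (k * a * k⁻¹) * n⁻¹) ∈ B ⊓ f.ker :=
    mem_inf.2 ⟨B.mul_mem (B.inv_mem hb) h2, by
      rw [MonoidHom.mem_ker, map_mul, map_inv, h3, inv_mul_cancel]⟩
  rw [hdisj, mem_bot] at h4
  have h5 : (n * k) * a * (n * k)⁻¹ = n * (k * a * k⁻¹) * n⁻¹ := by group
  rw [h5]
  exact (inv_mul_eq_one.1 h4).symm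

variable {G : Type*} [Group G] [Finite G]

/-- Two 2-elements of `K` with conjugate images in `STop K` are `K`-conjugate. -/
theorem exists_conj_of_top {K : Subgroup G} (hodd : ¬ EvenCenter K) {a b : K} {m n : ℕ}
    (ha : a ^ 2 ^ m = 1) (hb : b ^ 2 ^ n = 1) {l : STop K}
    (h : l * topMap K a * l⁻¹ = topMap K b) : ∃ k : K, k * a * k⁻¹ = b := by
  obtain ⟨k, rfl⟩ := topMap_surjective K l
  rw [← map_inv, ← map_mul, ← map_mul] at h
  obtain ⟨c, -, hc⟩ := exists_lift_conj (odd_card_ker hodd) (isPGroup_zpowers ha)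
    (isPGroup_zpowers hb) (k := k) (by
      intro x hx
      obtain ⟨j, rfl⟩ := mem_zpowers_iff.1 hx
      refine ⟨b ^ j, zpow_mem (mem_zpowers b) j, ?_⟩
      rw [← conj_zpow, map_zpow, h, map_zpow])
  exact ⟨c * k, hc a (mem_zpowers a) b (mem_zpowers b) h⟩

/-- The fixed subgroup of a group fixing `K` is everything. -/
theorem fixedTop_eq_top {H K P : Subgroup G} (hK : IsComp H K) (hP : P ≤ fix K) :
    fixedTop K P = ⊤ := by
  rw [eq_top_iff]
  intro l _ p hp
  have h1 : act K p = 1 := (act_eq_one_iff (quasisimple hK) p.2).2 (mem_fix.1 (hP hp))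
  rw [h1, MulAut.one_apply]

/-- `P` a 2-group normalising `K`, `A`, `B` 2-subgroups of `C_K(P)`, `l` fixed by `P` maps the image of `A` into the
image of `B`: some element of `C_K(P)` does it exactly. -/
theorem exists_conj_fixed' {K P : Subgroup G} (hodd : ¬ EvenCenter K)
    (hP : IsPGroup 2 P) (hPK : P ≤ normalizer (K : Set G)) {A B : Subgroup K} (hA : IsPGroup 2 A)
    (hB : IsPGroup 2 B) (hAP : ∀ a ∈ A, (a : G) ∈ centralizer (P : Set G))
    (hBP : ∀ b ∈ B, (b : G) ∈ centralizer (P : Set G)) {l : STop K} (hl : l ∈ fixedTop K P)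
    (h : ∀ a ∈ A, ∃ b ∈ B, l * topMap K a * l⁻¹ = topMap K b) :
    ∃ k : K, (k : G) ∈ centralizer (P : Set G) ∧ topMap K k = l ∧
      ∀ a ∈ A, ∀ b ∈ B, l * topMap K a * l⁻¹ = topMap K b → k * a * k⁻¹ = b := by
  let C : Subgroup K := (centralizer (P : Set G)).subgroupOf K
  obtain ⟨k, hk, rfl⟩ := exists_of_mem_fixedTop hodd hP hPK (l := l) hl
  let f : C →* STop K := (topMap K).comp C.subtype
  have hker : Odd (Nat.card f.ker) := by
    refine odd_of_dvd ?_ (odd_card_ker hodd)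
    have h1 : f.ker.map C.subtype ≤ (topMap K).ker := by
      rintro _ ⟨x, hx, rfl⟩
      exact hx
    have h3 := card_dvd_of_le h1
    rwa [card_map_of_injective C.subtype_injective] at h3
  have hAC : A ≤ C := fun a ha => mem_subgroupOf.2 (hAP a ha)
  have hBC : B ≤ C := fun b hb => mem_subgroupOf.2 (hBP b hb)
  obtain ⟨n, hn, hnab⟩ := exists_lift_conj (f := f) hker (A := A.subgroupOf C)
    (B := B.subgroupOf C) (hA.comap_of_injective _ C.subtype_injective)
    (hB.comap_of_injective _ C.subtype_injective) (k := ⟨k, mem_subgroupOf.2 hk⟩) (by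
      intro a ha
      obtain ⟨b, hb, hab⟩ := h a (mem_subgroupOf.1 ha)
      refine ⟨⟨b, hBC hb⟩, mem_subgroupOf.2 hb, ?_⟩
      change topMap K (k * a * k⁻¹) = topMap K b
      rw [map_mul, map_mul, map_inv, hab])
  refine ⟨n * k, (centralizer (P : Set G)).mul_mem (mem_subgroupOf.1 n.2) hk, ?_, ?_⟩
  · rw [map_mul, show topMap K n = 1 from hn, one_mul]
  · intro a ha b hb hab
    have h1 := hnab ⟨a, hAC ha⟩ (mem_subgroupOf.2 ha) ⟨b, hBC hb⟩ (mem_subgroupOf.2 hb) (by
      change topMap K (k * a * k⁻¹) = topMap K b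
      rw [map_mul, map_mul, map_inv, hab])
    exact congrArg Subtype.val h1

/-- `P` a 2-group fixing `K`, `A`, `B` 2-subgroups of `C_K(P)`, `l` maps the image of `A` into the image of `B`:
some element of `C_K(P)` does it exactly. -/
theorem exists_conj_fixed {H K P : Subgroup G} (hK : IsComp H K) (hodd : ¬ EvenCenter K)
    (hP : IsPGroup 2 P) (hPK : P ≤ fix K) {A B : Subgroup K} (hA : IsPGroup 2 A)
    (hB : IsPGroup 2 B) (hAP : ∀ a ∈ A, (a : G) ∈ centralizer (P : Set G))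
    (hBP : ∀ b ∈ B, (b : G) ∈ centralizer (P : Set G)) {l : STop K}
    (h : ∀ a ∈ A, ∃ b ∈ B, l * topMap K a * l⁻¹ = topMap K b) :
    ∃ k : K, (k : G) ∈ centralizer (P : Set G) ∧ topMap K k = l ∧
      ∀ a ∈ A, ∀ b ∈ B, l * topMap K a * l⁻¹ = topMap K b → k * a * k⁻¹ = b :=
  exists_conj_fixed' hodd hP (hPK.trans (fix_le_normalizer K)) hA hB hAP hBP
    (by rw [fixedTop_eq_top hK hPK]; exact mem_top _) h

/-- Z*-theorem: an involution which is not central modulo the core commutes with another conjugate. -/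
theorem exists_commuting_conj {X : Type*} [Group X] [Finite X] {t : X} (ht : orderOf t = 2)
    (h : ¬ ∀ g : X, t * g * t⁻¹ * g⁻¹ ∈ oddCore X) :
    ∃ g : X, g * t * g⁻¹ ≠ t ∧ t * (g * t * g⁻¹) = g * t * g⁻¹ * t := by
  by_contra hcon
  push Not at hcon
  apply h
  have hiso : Cfsg.IsIsolatedInvolution t := ⟨ht, fun g hg => by
    by_contra hne
    exact hcon g hne hg.eq⟩
  have : Fact (Nat.Prime 2) := ⟨Nat.prime_two⟩
  have hp : IsPGroup 2 (zpowers t) := by
    apply IsPGroup.of_card (n := 1)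
    rw [Nat.card_zpowers, hiso.1, pow_one]
  obtain ⟨P, hP⟩ := hp.exists_le_sylow
  have htP : t ∈ P := hP (mem_zpowers t)
  obtain ⟨N, hN, hodd, hcomm⟩ := Cfsg.Agent.S0215.result P t hiso.1 htP
    (fun g hg => Cfsg.Agent.S1180.eq_of_conj_mem_isPGroup t hiso (P : Subgroup X) P.2 htP g hg)
  exact fun g => le_oddCore hN hodd (hcomm g)

/-- An involution `t` normalising `K`, not fixing it: some `t v`, `v ∈ C_K(t)` an involution, is
`K`-conjugate to `t`. -/
theorem exists_zstar {K : Subgroup G} {t : G} (ht : orderOf t = 2)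
    (htK : t ∈ normalizer (K : Set G)) (hf : t ∉ fix K) :
    ∃ v ∈ K, v * v = 1 ∧ v ≠ 1 ∧ v * t = t * v ∧ ∃ k ∈ K, k * t * k⁻¹ = t * v := by
  have htt : t * t = 1 := by rw [← pow_two, ← ht, pow_orderOf_eq_one]
  let M : Subgroup G := K ⊔ zpowers t
  have hKM : K ≤ M := le_sup_left
  have htM : t ∈ M := mem_sup_right (mem_zpowers t)
  have hMn : M ≤ normalizer (K : Set G) := sup_le le_normalizer (by rw [zpowers_le]; exact htK)
  have ht' : orderOf (⟨t, htM⟩ : M) = 2 := by rw [Subgroup.orderOf_mk, ht]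
  obtain ⟨⟨g, hg⟩, h1, h2⟩ := exists_commuting_conj ht' (by
    intro hcon
    apply hf
    rw [mem_fix]
    refine ⟨htK, fun y hy => ?_⟩
    have h3 := hcon ⟨y, hKM hy⟩
    have h4 : t * y * t⁻¹ * y⁻¹ ∈ core M := ⟨_, h3, rfl⟩
    have h5 : core M ⊓ K ≤ core K := by
      refine le_core inf_le_right ?_ ?_
      · intro a ha
        have e1 : a ∈ normalizer (core M : Set G) := by
          rw [mem_normalizer_iff]
          intro x
          constructor
          · intro hx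
            exact conj_mem_core (le_normalizer (hKM ha)) hx
          · intro hx
            have := conj_mem_core (K := M) (x := a⁻¹) (inv_mem (le_normalizer (hKM ha))) hx
            have e2 : a⁻¹ * (a * x * a⁻¹) * a⁻¹⁻¹ = x := by group
            rwa [e2] at this
        rw [mem_normalizer_iff] at e1 ⊢
        intro x
        constructor
        · rintro ⟨hx1, hx2⟩
          exact ⟨(e1 x).1 hx1, K.mul_mem (K.mul_mem ha hx2) (K.inv_mem ha)⟩
        · rintro ⟨hx1, hx2⟩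
          refine ⟨(e1 x).2 hx1, ?_⟩
          have := K.mul_mem (K.mul_mem (K.inv_mem ha) hx2) ha
          have e2 : a⁻¹ * (a * x * a⁻¹) * a = x := by group
          rwa [e2] at this
      · exact odd_of_dvd (card_dvd_of_le inf_le_left) (odd_card_core M)
    exact h5 ⟨h4, K.mul_mem (conj_mem htK hy) (K.inv_mem hy)⟩)
  have h1' : g * t * g⁻¹ ≠ t := fun h => h1 (Subtype.ext h)
  have h2' : t * (g * t * g⁻¹) = g * t * g⁻¹ * t := congrArg Subtype.val h2
  -- `g = k t^j`
  have hz : zpowers t ≤ normalizer (K : Set G) := by rw [zpowers_le]; exact htK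
  obtain ⟨k, hk, s, hs, rfl⟩ : ∃ k ∈ K, ∃ s ∈ zpowers t, g = k * s := by
    have h3 : g ∈ ((K ⊔ zpowers t : Subgroup G) : Set G) := hg
    rw [Subgroup.coe_mul_of_right_le_normalizer_left K (zpowers t) hz, Set.mem_mul] at h3
    obtain ⟨a, ha, b, hb, hab⟩ := h3
    exact ⟨a, ha, b, hb, hab.symm⟩
  have hst : s * t * s⁻¹ = t := by
    obtain ⟨j, rfl⟩ := mem_zpowers_iff.1 hs
    rw [mul_inv_eq_iff_eq_mul]
    exact ((Commute.refl t).zpow_left j).eq
  have h3 : k * s * t * (k * s)⁻¹ = k * t * k⁻¹ := by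
    calc k * s * t * (k * s)⁻¹ = k * (s * t * s⁻¹) * k⁻¹ := by group
      _ = k * t * k⁻¹ := by rw [hst]
  rw [h3] at h1' h2'
  have hti : t⁻¹ = t := inv_eq_of_mul_eq_one_right htt
  have hkk : (k * t * k⁻¹) * (k * t * k⁻¹) = 1 := by
    calc (k * t * k⁻¹) * (k * t * k⁻¹) = k * (t * t) * k⁻¹ := by group
      _ = 1 := by rw [htt]; group
  refine ⟨t * (k * t * k⁻¹), ?_, ?_, ?_, ?_, k, hk, ?_⟩
  · have h4 : t * (k * t * k⁻¹) = (t * k * t⁻¹) * k⁻¹ := by rw [hti]; group
    rw [h4]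
    exact K.mul_mem (conj_mem htK hk) (K.inv_mem hk)
  · calc t * (k * t * k⁻¹) * (t * (k * t * k⁻¹)) = t * (k * t * k⁻¹) * (k * t * k⁻¹ * t) := by
          rw [h2']
      _ = t * ((k * t * k⁻¹) * (k * t * k⁻¹)) * t := by group
      _ = 1 := by rw [hkk, mul_one, htt]
  · intro h4
    apply h1'
    have h5 := eq_inv_of_mul_eq_one_right h4
    rw [h5, hti]
  · rw [mul_assoc, ← h2']
  · rw [← mul_assoc, htt, one_mul]

end Cfsg.Agent.GH.L2Frame
end

-- part: GH/L2AutPlus
section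
/-!
# GH-L2: further facts on `Aut(L)`, `L ≅ L₂(q)` or `A₇`

* `sylow_coset`: Sylow's theorem in a coset: `S₀` a Sylow 2-subgroup of the normal subgroup `N`, `α`, `β` 2-elements in the
  same coset of `N`, `α` normalising `S₀`: some `N`-conjugate of `β` is in `S₀ α`;
* `AutPlus L p1 p2` : `four` (elements permuting four-groups), `split` (representatives of the cosets of `Inn`);
* `LData`: consequences of `AutData` and `AutPlus` (involutions outside `Inn`, their action on `S`).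
-/

set_option autoImplicit false
set_option linter.unusedSectionVars false

open Cfsg Subgroup
open Cfsg.Agent.Walter.SylowIn
open Cfsg.Agent.GH.L2Aut Cfsg.Agent.GH.L2One Cfsg.Agent.GH.L2Frame

namespace Cfsg.Agent.GH.L2AutPlus

/-- Sylow's theorem in a coset of a normal subgroup. -/
theorem sylow_coset {X : Type*} [Group X] [Finite X] {N S₀ : Subgroup X} [hN : N.Normal]
    (hS : SylIn 2 S₀ N) {α β : X} {m n : ℕ} (hα : α ^ 2 ^ m = 1)
    (hαS : α ∈ normalizer (S₀ : Set X)) (hβ : β ^ 2 ^ n = 1) (hβα : β * α⁻¹ ∈ N) :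
    ∃ y ∈ N, (∃ s ∈ S₀, y * β * y⁻¹ = s * α) ∧
      (β ∈ normalizer (S₀ : Set X) → ∀ s ∈ S₀, y * s * y⁻¹ ∈ S₀) := by
  have : Fact (Nat.Prime 2) := ⟨Nat.prime_two⟩
  let P1 : Subgroup X := S₀ ⊔ zpowers α
  let M : Subgroup X := P1 ⊔ N
  have hP1 : IsPGroup 2 P1 := by
    change IsPGroup 2 ↥(S₀ ⊔ zpowers α)
    rw [sup_comm]
    exact IsPGroup.to_sup_of_normal_right' (isPGroup_zpowers hα) hS.isPGroup
      (by rw [zpowers_le]; exact hαS)
  have hNn : P1 ≤ normalizer (N : Set X) := by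
    rw [normalizer_eq_top_iff.2 hN]; exact le_top
  have hinf : P1 ⊓ N = S₀ :=
    hS.eq_of_le (le_inf le_sup_left hS.le) inf_le_right (hP1.to_le inf_le_left)
  have hidx : ¬ 2 ∣ P1.relIndex M := by
    change ¬ 2 ∣ P1.relIndex (P1 ⊔ N)
    rw [← relIndex_sup hNn, hinf]
    exact hS.not_dvd
  have hP1M : SylIn 2 P1 M := sylIn_of le_sup_left hP1 hidx
  have hαM : α ∈ P1 := mem_sup_right (mem_zpowers α)
  have hβM : β ∈ M := by
    have h1 : β = (β * α⁻¹) * α := by group
    rw [h1]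
    exact M.mul_mem (mem_sup_right hβα) (mem_sup_left hαM)
  -- the key step, for a 2-subgroup `R` of `M`
  have key : ∀ R : Subgroup X, R ≤ M → IsPGroup 2 R → ∃ y ∈ N, ∀ x ∈ R, y * x * y⁻¹ ∈ P1 := by
    intro R hR hR2
    obtain ⟨g, hg, h1⟩ := hP1M.conj_le hR hR2
    obtain ⟨p, hp, y, hy, rfl⟩ := mem_sup_of_normal_right.1 hg
    refine ⟨y, hy, fun x hx => ?_⟩
    have h2 := P1.mul_mem (P1.mul_mem (P1.inv_mem hp) (h1 x hx)) hp
    have h3 : p⁻¹ * (p * y * x * (p * y)⁻¹) * p = y * x * y⁻¹ := by group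
    rwa [h3] at h2
  have fin : ∀ y ∈ N, y * β * y⁻¹ ∈ P1 → ∃ s ∈ S₀, y * β * y⁻¹ = s * α := by
    intro y hy h1
    refine ⟨y * β * y⁻¹ * α⁻¹, ?_, by group⟩
    rw [← hinf]
    refine ⟨P1.mul_mem h1 (P1.inv_mem hαM), ?_⟩
    have h2 : y * β * y⁻¹ * α⁻¹ = y * (β * y⁻¹ * β⁻¹) * (β * α⁻¹) := by group
    rw [h2]
    exact N.mul_mem (N.mul_mem hy (hN.conj_mem _ (N.inv_mem hy) β)) hβα
  by_cases hβS : β ∈ normalizer (S₀ : Set X)
  · have hR2 : IsPGroup 2 ↥(S₀ ⊔ zpowers β) := by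
      rw [sup_comm]
      exact IsPGroup.to_sup_of_normal_right' (isPGroup_zpowers hβ) hS.isPGroup
        (by rw [zpowers_le]; exact hβS)
    obtain ⟨y, hy, h1⟩ := key (S₀ ⊔ zpowers β) (sup_le (le_sup_left.trans le_sup_left)
      (by rw [zpowers_le]; exact hβM)) hR2
    refine ⟨y, hy, fin y hy (h1 β (mem_sup_right (mem_zpowers β))), fun _ s hs => ?_⟩
    rw [← hinf]
    exact ⟨h1 s (mem_sup_left hs), N.mul_mem (N.mul_mem hy (hS.le hs)) (N.inv_mem hy)⟩
  · obtain ⟨y, hy, h1⟩ := key (zpowers β) (by rw [zpowers_le]; exact hβM) (isPGroup_zpowers hβ)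
    exact ⟨y, hy, fin y hy (h1 β (mem_zpowers β)), fun h => absurd h hβS⟩

variable {L : Type*} [Group L]

theorem mul_conj (α : MulAut L) (y : L) : α * MulAut.conj y = MulAut.conj (α y) * α := by
  ext z
  simp only [MulAut.mul_apply, MulAut.conj_apply, map_mul, map_inv]

theorem conj_normal (α : MulAut L) (y : L) : α * MulAut.conj y * α⁻¹ = MulAut.conj (α y) := by
  rw [mul_conj, mul_inv_cancel_right]

instance inn_normal : (MulAut.conj : L →* MulAut L).range.Normal :=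
  ⟨by
    rintro _ ⟨y, rfl⟩ α
    exact ⟨α y, (conj_normal α y).symm⟩⟩

theorem finite_mulAut [Finite L] : Finite (MulAut L) :=
  Finite.of_injective (fun α : MulAut L => (α : L → L)) DFunLike.coe_injective

/-- `sylow_coset` in `Aut(L)`. -/
theorem aut_coset [Finite L] (hc : Function.Injective (MulAut.conj : L →* MulAut L))
    (S : Sylow 2 L) {α β : MulAut L} {m n : ℕ} (hα : α ^ 2 ^ m = 1)
    (hαS : ∀ s ∈ (S : Subgroup L), α s ∈ (S : Subgroup L)) (hβ : β ^ 2 ^ n = 1) {l : L}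
    (hβα : β = MulAut.conj l * α) :
    ∃ y : L, (∃ s ∈ (S : Subgroup L), MulAut.conj y * β * (MulAut.conj y)⁻¹ = MulAut.conj s * α) ∧
      ((∀ s ∈ (S : Subgroup L), β s ∈ (S : Subgroup L)) →
        ∀ s ∈ (S : Subgroup L), y * s * y⁻¹ ∈ (S : Subgroup L)) := by
  have : Fact (Nat.Prime 2) := ⟨Nat.prime_two⟩
  have : Finite (MulAut L) := finite_mulAut
  let N : Subgroup (MulAut L) := (MulAut.conj : L →* MulAut L).range
  let S₀ : Subgroup (MulAut L) := (S : Subgroup L).map (MulAut.conj : L →* MulAut L)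
  have hS0 : ∀ {s : L}, MulAut.conj s ∈ S₀ ↔ s ∈ (S : Subgroup L) := by
    intro s
    constructor
    · rintro ⟨t, ht, hts⟩
      rw [← hc hts]; exact ht
    · intro hs
      exact ⟨s, hs, rfl⟩
  have hS : SylIn 2 S₀ N := by
    refine sylIn_of (map_le_range _ _) (S.2.map _) ?_
    have h1 : S₀.relIndex N = (S : Subgroup L).index := by
      have h2 := relIndex_map_map_of_injective (S : Subgroup L) (⊤ : Subgroup L)
        (f := (MulAut.conj : L →* MulAut L)) hc
      rw [relIndex_top_right, ← MonoidHom.range_eq_map] at h2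
      exact h2
    rw [h1]
    exact S.not_dvd_index
  have hnorm : ∀ {γ : MulAut L}, (∀ s ∈ (S : Subgroup L), γ s ∈ (S : Subgroup L)) →
      γ ∈ normalizer (S₀ : Set (MulAut L)) := by
    intro γ hγ
    have h1 : ∀ x ∈ S₀, γ * x * γ⁻¹ ∈ S₀ := by
      rintro _ ⟨s, hs, rfl⟩
      rw [conj_normal]
      exact ⟨γ s, hγ s hs, rfl⟩
    have h2 : S₀.map (MulAut.conj γ).toMonoidHom = S₀ := by
      apply Subgroup.eq_of_le_of_card_ge
      · rintro _ ⟨x, hx, rfl⟩
        exact h1 x hx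
      · rw [card_map_of_injective (f := (MulAut.conj γ).toMonoidHom) (MulAut.conj γ).injective]
    rw [mem_normalizer_iff]
    intro x
    refine ⟨fun hx => h1 x hx, fun hx => ?_⟩
    rw [← h2] at hx
    obtain ⟨z, hz, hzx⟩ := hx
    have h3 : γ * z * γ⁻¹ = γ * x * γ⁻¹ := hzx
    have h4 : z = x := by
      have := mul_right_cancel h3
      exact mul_left_cancel this
    rw [← h4]; exact hz
  obtain ⟨_, ⟨y, rfl⟩, ⟨_, ⟨s, hs, rfl⟩, h1⟩, h2⟩ := sylow_coset hS hα (hnorm hαS) hβ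
    (β := β) (by rw [hβα, mul_inv_cancel_right]; exact ⟨l, rfl⟩)
  refine ⟨y, ⟨s, hs, h1⟩, fun hβS t ht => ?_⟩
  have h3 := h2 (hnorm hβS) _ (hS0.2 ht)
  rw [← map_inv, ← map_mul, ← map_mul] at h3
  exact hS0.1 h3

/-- Further facts: four-groups, representatives of the cosets of `Inn(L)`. -/
structure AutPlus {A : Type*} [Group A] (p1 : MulAut L →* ℤˣ) (p2 : MulAut L →* A) : Prop where
  four : ∀ a b : L, Four a b → ∃ y : L, y * a * y⁻¹ = b ∧ y * b * y⁻¹ = a * b
  split : ∀ α : MulAut L, p1 α = 1 → ∃ l : L, ∀ n : ℕ, p2 α ^ n = 1 → (MulAut.conj l * α) ^ n = 1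
  /-- the image of `p2` is commutative -/
  comm : ∀ α β : MulAut L, p2 α * p2 β = p2 β * p2 α
  /-- a field involution centralises a four-group and an element permuting it -/
  field_four : ∀ α : MulAut L, α * α = 1 → p2 α ≠ 1 → ∃ a b y : L, Four a b ∧ α a = a ∧ α b = b ∧
    α y = y ∧ y * a * y⁻¹ = b ∧ y * b * y⁻¹ = a * b

section consequences

variable {A : Type*} [Group A] {p1 : MulAut L →* ℤˣ} {p2 : MulAut L →* A} {d : ℕ} {r c : L}

theorem dih {S : Subgroup L} (E : AutData S d r c p1 p2) : AutSwap.Dih S d r c :=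
  ⟨E.d_ge, E.r_mem, E.c_mem, E.cc, E.crc, E.or_eq, E.c_not, E.S_form⟩

/-- `α` is inner. -/
def Inn (α : MulAut L) : Prop := ∃ l : L, α = MulAut.conj l

theorem inn_iff {S : Subgroup L} (E : AutData S d r c p1 p2) {α : MulAut L} :
    Inn α ↔ p1 α = 1 ∧ p2 α = 1 := by
  constructor
  · rintro ⟨l, rfl⟩
    exact ⟨E.inn1 l, E.inn2 l⟩
  · rintro ⟨h1, h2⟩
    exact E.ker α h1 h2

theorem units_mul {a b : ℤˣ} (ha : a ≠ 1) (hb : b ≠ 1) : a * b = 1 := by
  rcases Int.units_eq_one_or a with rfl | rfl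
  · exact absurd rfl ha
  · rcases Int.units_eq_one_or b with rfl | rfl
    · exact absurd rfl hb
    · rfl

theorem sq_hom {B : Type*} [Group B] (p : MulAut L →* B) {α : MulAut L} (h : α * α = 1) :
    p α * p α = 1 := by rw [← map_mul, h, map_one]

/-- Two commuting non-inner involutions have an inner product. -/
theorem outer_mul {S : Subgroup L} (E : AutData S d r c p1 p2) {α β : MulAut L} (hα : α * α = 1)
    (hβ : β * β = 1) (hc : α * β = β * α) (h1 : ¬ Inn α) (h2 : ¬ Inn β) : Inn (α * β) := by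
  rw [inn_iff E] at h1 h2 ⊢
  have key : ∀ {α β : MulAut L}, α * α = 1 → β * β = 1 → α * β = β * α → p2 α ≠ 1 →
      ¬ (p1 β = 1 ∧ p2 β = 1) → p1 α = 1 ∧ p1 β = 1 ∧ p2 β ≠ 1 := by
    intro α β hα hβ hc h3 h4
    have h5 : p1 β = 1 := E.field_o1 α hα h3 β (by rw [← hc, mul_inv_cancel_right])
    exact ⟨E.field_o1 α hα h3 α (by rw [mul_inv_cancel_right]), h5, fun h6 => h4 ⟨h5, h6⟩⟩
  rw [map_mul, map_mul]
  by_cases h3 : p2 α = 1
  · by_cases h4 : p2 β = 1
    · rw [h3, h4, mul_one]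
      exact ⟨units_mul (fun h5 => h1 ⟨h5, h3⟩) (fun h5 => h2 ⟨h5, h4⟩), rfl⟩
    · exact absurd h3 (key hβ hα hc.symm h4 h1).2.2
  · obtain ⟨h5, h6, h7⟩ := key hα hβ hc h3 h2
    have h8 := E.A_inv _ _ (sq_hom p2 hα) h3 (sq_hom p2 hβ) h7
    rw [h5, h6, ← h8, sq_hom p2 hα, mul_one]
    exact ⟨rfl, rfl⟩

theorem pow_of_sq {α : MulAut L} (h : α * α = 1) : α ^ 2 ^ 1 = 1 := by rw [pow_one, pow_two, h]

/-- a conjugate under `L` is in the same coset of `Inn(L)` -/
theorem conj_eq_mul (α : MulAut L) (l : L) :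
    MulAut.conj l * α * (MulAut.conj l)⁻¹ = MulAut.conj (l * α l⁻¹) * α := by
  rw [map_mul, mul_assoc, mul_assoc, ← mul_conj, map_inv]

/-- `α` a 2-element with `α S = S`, `β` in the same coset of `Inn`, `β² = 1`, `p2 β ≠ 1`: some `conj a * α`, `a ∈ S`,
has square 1 and is trivial on `S`. -/
theorem field_split [Finite L] (hc : Function.Injective (MulAut.conj : L →* MulAut L))
    {S : Sylow 2 L} (E : AutData (S : Subgroup L) d r c p1 p2) {α β : MulAut L} {m : ℕ}
    (hα : α ^ 2 ^ m = 1) (hαS : ∀ s ∈ (S : Subgroup L), α s ∈ (S : Subgroup L)) {l : L}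
    (hl : β = MulAut.conj l * α) (hβ : β * β = 1) (hβ2 : p2 β ≠ 1) :
    ∃ a ∈ (S : Subgroup L), (∀ s ∈ (S : Subgroup L), (MulAut.conj a * α) s = s) ∧
      (MulAut.conj a * α) * (MulAut.conj a * α) = 1 := by
  obtain ⟨l', hl'⟩ := E.field_cent β hβ hβ2
  obtain ⟨β', hβ'⟩ : ∃ β', β' = MulAut.conj l' * β * (MulAut.conj l')⁻¹ := ⟨_, rfl⟩
  rw [← hβ'] at hl'
  have hsq : β' * β' = 1 := by
    rw [hβ']
    calc _ = MulAut.conj l' * (β * β) * (MulAut.conj l')⁻¹ := by group
      _ = 1 := by rw [hβ]; group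
  obtain ⟨y, ⟨s, hs, h1⟩, h2⟩ := aut_coset hc S hα hαS (pow_of_sq hsq) (l := l' * β l'⁻¹ * l) (by
    calc β' = MulAut.conj (l' * β l'⁻¹) * β := by rw [hβ', conj_eq_mul]
      _ = MulAut.conj (l' * β l'⁻¹) * (MulAut.conj l * α) := by rw [← hl]
      _ = MulAut.conj (l' * β l'⁻¹ * l) * α := by
        rw [map_mul MulAut.conj (l' * β l'⁻¹) l, mul_assoc])
  have h3 := h2 (fun t ht => by rw [hl' t ht]; exact ht)
  refine ⟨s, hs, ?_, ?_⟩
  · -- `y` normalises `S`
    have h4 : ∀ t ∈ (S : Subgroup L), y⁻¹ * t * y ∈ (S : Subgroup L) := by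
      have h5 : (S : Subgroup L).map (MulAut.conj y).toMonoidHom = S := by
        apply Subgroup.eq_of_le_of_card_ge
        · rintro _ ⟨x, hx, rfl⟩
          exact h3 x hx
        · rw [card_map_of_injective (f := (MulAut.conj y).toMonoidHom) (MulAut.conj y).injective]
      intro t ht
      rw [← h5] at ht
      obtain ⟨x, hx, hxt⟩ := ht
      have h6 : y * x * y⁻¹ = t := hxt
      rw [← h6]
      have h7 : y⁻¹ * (y * x * y⁻¹) * y = x := by group
      rw [h7]; exact hx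
    intro t ht
    rw [← h1, MulAut.mul_apply, MulAut.mul_apply, ← map_inv, MulAut.conj_apply, MulAut.conj_apply,
      inv_inv, hl' _ (h4 t ht)]
    group
  · rw [← h1]
    calc _ = MulAut.conj y * (β' * β') * (MulAut.conj y)⁻¹ := by group
      _ = 1 := by rw [hsq]; group

theorem odd_gen {d : ℕ} {k : ℤ} (hk : Odd k) : ∃ a b : ℤ, a * k + b * 2 ^ d = 1 := by
  have h1 : IsCoprime k ((2 : ℤ) ^ d) := by
    apply IsCoprime.pow_right
    obtain ⟨j, hj⟩ := hk
    exact ⟨1, -j, by rw [hj]; ring⟩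
  exact h1

/-- change of the generator -/
theorem dih_odd {S : Subgroup L} (h : AutSwap.Dih S d r c) {k : ℤ} (hk : Odd k) :
    AutSwap.Dih S d (r ^ k) c := by
  obtain ⟨a, b, hab⟩ := odd_gen (d := d - 1) hk
  have hr : ∀ i : ℤ, (r ^ k) ^ (a * i) = r ^ i := by
    intro i
    have h1 : k * (a * i) = i + 2 ^ (d - 1) * (-(b * i)) := by linear_combination i * hab
    rw [← zpow_mul, h1, zpow_add, (h.rk_one _).2 (Dvd.intro _ rfl), mul_one]
  have hr1 : (r ^ k) ^ a = r := by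
    have := hr 1
    rwa [mul_one, zpow_one] at this
  refine ⟨h.d_ge, S.zpow_mem h.r_mem k, h.c_mem, h.cc, ?_, ?_, ?_, ?_⟩
  · rw [h.crk, zpow_neg]
  · rw [← h.or_eq]
    apply Nat.dvd_antisymm
    · exact orderOf_dvd_of_mem_zpowers (zpow_mem (mem_zpowers r) k)
    · apply orderOf_dvd_of_mem_zpowers
      have h2 : (r ^ k) ^ a ∈ zpowers (r ^ k) := zpow_mem (mem_zpowers (r ^ k)) a
      rwa [hr1] at h2
  · intro m hm
    rw [← zpow_mul] at hm
    exact h.c_not _ hm
  · intro g hg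
    obtain ⟨i, hi | hi⟩ := h.form g hg
    · exact ⟨a * i, Or.inl (by rw [hr, hi])⟩
    · exact ⟨a * i, Or.inr (by rw [hr, hi])⟩

theorem dih_two {S : Subgroup L} (h : AutSwap.Dih S 2 r c) {a b : L} (ha : a ∈ S) (hb : b ∈ S)
    (ha1 : a ≠ 1) (hb1 : b ≠ 1) (hab : a ≠ b) :
    AutSwap.Dih S 2 a b ∧ a * b = b * a ∧ a * a = 1 ∧ b * b = 1 := by
  classical
  have hrr : r * r = 1 := by
    have := pow_orderOf_eq_one r
    rw [h.or_eq] at this
    rwa [show 2 ^ (2 - 1) = 2 from rfl, pow_two] at this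
  have hrk : ∀ k : ℤ, r ^ k = 1 ∨ r ^ k = r := by
    intro k
    rcases Int.even_or_odd k with ⟨m, hm⟩ | ⟨m, hm⟩
    · left
      rw [hm, ← two_mul, zpow_mul, zpow_two, hrr, one_zpow]
    · right
      rw [hm, zpow_add, zpow_mul, zpow_two, hrr, one_zpow, one_mul, zpow_one]
  have hrc : r * c = c * r := by
    have h1 := h.crc
    rw [inv_eq_of_mul_eq_one_right hrr] at h1
    exact (mul_inv_eq_iff_eq_mul.1 h1).symm
  have hform : ∀ g ∈ S, g = 1 ∨ g = r ∨ g = c ∨ g = r * c := by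
    intro g hg
    obtain ⟨k, hk | hk⟩ := h.form g hg <;> rcases hrk k with h1 | h1 <;> rw [h1] at hk
    · exact Or.inl hk
    · exact Or.inr (Or.inl hk)
    · rw [one_mul] at hk
      exact Or.inr (Or.inr (Or.inl hk))
    · exact Or.inr (Or.inr (Or.inr hk))
  have hcomm : ∀ x ∈ S, ∀ y ∈ S, x * y = y * x := by
    have e1 : Commute r c := hrc
    intro x hx y hy
    change Commute x y
    rcases hform x hx with rfl | rfl | rfl | rfl <;> rcases hform y hy with rfl | rfl | rfl | rfl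
    · exact Commute.one_left _
    · exact Commute.one_left _
    · exact Commute.one_left _
    · exact Commute.one_left _
    · exact Commute.one_right _
    · exact Commute.refl _
    · exact e1
    · exact (Commute.refl _).mul_right e1
    · exact Commute.one_right _
    · exact e1.symm
    · exact Commute.refl _
    · exact e1.symm.mul_right (Commute.refl _)
    · exact Commute.one_right _
    · exact ((Commute.refl _).mul_right e1).symm
    · exact (e1.symm.mul_right (Commute.refl _)).symm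
    · exact Commute.refl _
  have hsq : ∀ x ∈ S, x * x = 1 := by
    intro x hx
    rcases hform x hx with rfl | rfl | rfl | rfl
    · exact mul_one 1
    · exact hrr
    · exact h.cc
    · have e1 : Commute r c := hrc
      rw [e1.symm.mul_mul_mul_comm, hrr, h.cc, mul_one]
  have hab' : a * b ≠ 1 := fun h1 => hab (by
    rw [← inv_eq_of_mul_eq_one_right (hsq b hb)]
    exact eq_inv_of_mul_eq_one_left h1)
  have hset : (({1, a, b, a * b} : Finset L) : Set L) = (S : Set L) := by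
    apply Set.eq_of_subset_of_ncard_le
    · intro x hx
      simp only [Finset.coe_insert, Finset.coe_singleton, Set.mem_insert_iff,
        Set.mem_singleton_iff] at hx
      rcases hx with rfl | rfl | rfl | rfl
      · exact S.one_mem
      · exact ha
      · exact hb
      · exact S.mul_mem ha hb
    · have e1 : (S : Set L) ⊆ (({1, r, c, r * c} : Finset L) : Set L) := by
        intro x hx
        simp only [Finset.coe_insert, Finset.coe_singleton, Set.mem_insert_iff,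
          Set.mem_singleton_iff]
        exact hform x hx
      have e2 := Set.ncard_le_ncard e1 (Finset.finite_toSet _)
      rw [Set.ncard_coe_finset] at e2 ⊢
      have e3 : ({1, r, c, r * c} : Finset L).card ≤ 4 := Finset.card_le_four
      have e4 : ({1, a, b, a * b} : Finset L).card = 4 :=
        Finset.card_eq_four.2 ⟨1, a, b, a * b, ha1.symm, hb1.symm, hab'.symm, hab,
          fun h1 => hb1 (left_eq_mul.1 h1), fun h1 => ha1 (right_eq_mul.1 h1), rfl⟩
      omega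
    · exact (Set.toFinite ({1, r, c, r * c} : Set L)).subset (fun x hx => hform x hx)
  have hmem : ∀ g ∈ S, g = 1 ∨ g = a ∨ g = b ∨ g = a * b := by
    intro g hg
    have h1 : g ∈ (S : Set L) := hg
    rw [← hset] at h1
    simpa using h1
  refine ⟨⟨le_rfl, ha, hb, hsq b hb, ?_, ?_, ?_, ?_⟩, hcomm a ha b hb, hsq a ha, hsq b hb⟩
  · rw [hcomm b hb a ha, mul_inv_cancel_right, inv_eq_of_mul_eq_one_right (hsq a ha)]
  · rw [show 2 ^ (2 - 1) = 2 from rfl]
    exact orderOf_eq_prime (by rw [pow_two]; exact hsq a ha) ha1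
  · intro k hk
    rcases Int.even_or_odd k with ⟨m, hm⟩ | ⟨m, hm⟩
    · rw [hm, ← two_mul, zpow_mul, zpow_two, hsq a ha, one_zpow] at hk
      exact hb1 hk
    · rw [hm, zpow_add, zpow_mul, zpow_two, hsq a ha, one_zpow, one_mul, zpow_one] at hk
      exact hab hk.symm
  · intro g hg
    rcases hmem g hg with rfl | rfl | rfl | rfl
    · exact ⟨0, Or.inl (zpow_zero a).symm⟩
    · exact ⟨1, Or.inl (zpow_one _).symm⟩
    · exact ⟨0, Or.inr (by rw [zpow_zero, one_mul])⟩
    · exact ⟨1, Or.inr (by rw [zpow_one])⟩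

/-- Action of a non-inner involution on `S`. -/
theorem outer_type [Finite L] (hc : Function.Injective (MulAut.conj : L →* MulAut L))
    {S : Sylow 2 L} (E : AutData (S : Subgroup L) d r c p1 p2) {α : MulAut L} (hα : α * α = 1)
    (hαS : ∀ s ∈ (S : Subgroup L), α s ∈ (S : Subgroup L)) (h1 : ¬ Inn α) :
    (p2 α ≠ 1 ∧ 3 ≤ d ∧ ∃ a ∈ (S : Subgroup L), ∃ b ∈ (S : Subgroup L), Four a b ∧ α a = a ∧ α b = b) ∨
    (p2 α = 1 ∧ p1 α ≠ 1 ∧ ∃ r' c', AutSwap.Dih (S : Subgroup L) d r' c' ∧ α r' = r'⁻¹ ∧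
      α c' = c' * r') := by
  have hD := dih E
  by_cases h2 : p2 α = 1
  · have h3 : p1 α ≠ 1 := fun h3 => h1 ((inn_iff E).2 ⟨h3, h2⟩)
    refine Or.inr ⟨h2, h3, ?_⟩
    rcases Nat.lt_or_ge 2 d with hd | hd
    · have hd3 : 3 ≤ d := hd
      obtain ⟨k, hk⟩ := AutSwap.exists_refl hD hd3 hαS
      obtain ⟨i, hi, hir⟩ := AutSwap.exists_odd hD hd3 hαS
      have hodd : Odd k := by
        rw [← Int.not_even_iff_odd]
        exact fun h => h3 ((E.swap hd3 α hαS k hk).2 h)
      -- `α² c = r^{ik + k} c`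
      have h4 : r ^ (i * k + k) = 1 := by
        have h5 : α (α c) = c := by
          rw [← MulAut.mul_apply, hα, MulAut.one_apply]
        rw [hk, map_mul, map_zpow, hir, hk, ← zpow_mul, ← mul_assoc, ← zpow_add] at h5
        exact mul_eq_right.1 h5
      rw [hD.rk_one] at h4
      have h5 : (2 : ℤ) ^ (d - 1) ∣ i + 1 := by
        have h6 : i * k + k = (i + 1) * k := by ring
        rw [h6] at h4
        obtain ⟨a, b, hab⟩ := odd_gen (d := d - 1) hodd
        have h7 : IsCoprime ((2 : ℤ) ^ (d - 1)) k := ⟨b, a, by rw [add_comm]; exact hab⟩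
        exact h7.dvd_of_dvd_mul_right h4
      have h6 : α r = r⁻¹ := by
        rw [hir]
        have h7 : r ^ (i + 1) = 1 := (hD.rk_one _).2 h5
        rw [zpow_add, zpow_one] at h7
        exact eq_inv_of_mul_eq_one_left h7
      refine ⟨r ^ (-k), c, dih_odd hD hodd.neg, by rw [map_zpow, h6, inv_zpow], ?_⟩
      rw [hk, hD.c_rk, neg_neg]
    · have hd2 : d = 2 := le_antisymm hd E.d_ge
      subst hd2
      have h4 := (E.small rfl α ⟨1, pow_of_sq hα⟩ hαS).2
      obtain ⟨s, hs, hsα⟩ : ∃ s ∈ (S : Subgroup L), α s ≠ s := by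
        by_contra hcon
        push Not at hcon
        exact h3 (h4.2 hcon)
      have hs1 : s ≠ 1 := by
        rintro rfl
        exact hsα (map_one α)
      have hs2 : α s ≠ 1 := fun h => hs1 (α.injective (by rw [h, map_one]))
      obtain ⟨hD1, hcom, hss, haa⟩ := dih_two hD hs (hαS s hs) hs1 hs2 (Ne.symm hsα)
      have hαα : α (α s) = s := by rw [← MulAut.mul_apply, hα, MulAut.one_apply]
      have h5 : s * α s ≠ 1 := by
        intro h
        exact hsα ((inv_eq_of_mul_eq_one_right h).symm.trans (inv_eq_of_mul_eq_one_right hss))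
      obtain ⟨hD2, -, h6, -⟩ := dih_two hD ((S : Subgroup L).mul_mem hs (hαS s hs)) hs h5 hs1
        (fun h => hs2 (mul_eq_left.1 h))
      refine ⟨s * α s, s, hD2, ?_, ?_⟩
      · rw [map_mul, hαα, ← hcom]
        exact (inv_eq_of_mul_eq_one_right h6).symm
      · rw [← mul_assoc, hss, one_mul]
  · have hd3 : 3 ≤ d := by
      by_contra hd
      have hd2 : d = 2 := by have := E.d_ge; omega
      exact h2 (E.small hd2 α ⟨1, pow_of_sq hα⟩ hαS).1
    refine Or.inl ⟨h2, hd3, ?_⟩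
    obtain ⟨a, ha, h3, h4⟩ := field_split hc E (pow_of_sq hα) hαS (l := 1) (β := α)
      (by rw [map_one, one_mul]) hα h2
    have h5 : ∀ s ∈ (S : Subgroup L), α s = a⁻¹ * s * a := by
      intro s hs
      have h6 := h3 s hs
      rw [MulAut.mul_apply, MulAut.conj_apply] at h6
      calc α s = a⁻¹ * (a * α s * a⁻¹) * a := by group
        _ = a⁻¹ * s * a := by rw [h6]
    have haa : a * a = 1 := by
      have h6 : α a = a := by rw [h5 a ha]; group
      have h7 : MulAut.conj a * α * (MulAut.conj a * α) = MulAut.conj (a * a) := by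
        calc MulAut.conj a * α * (MulAut.conj a * α) =
              MulAut.conj a * (α * MulAut.conj a) * α := by simp only [mul_assoc]
          _ = MulAut.conj a * (MulAut.conj a * α) * α := by rw [mul_conj, h6]
          _ = MulAut.conj a * MulAut.conj a * (α * α) := by simp only [mul_assoc]
          _ = MulAut.conj (a * a) := by rw [hα, mul_one, map_mul]
      rw [h7] at h4
      exact hc (by rw [h4, map_one])
    have hfix : ∀ s ∈ (S : Subgroup L), s * a = a * s → α s = s := by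
      intro s hs h6
      rw [h5 s hs, mul_assoc, h6, inv_mul_cancel_left]
    have hz := hD.z_mem
    by_cases h6 : c * a = a * c
    · exact ⟨_, hz, c, hD.c_mem, hD.four, hfix _ hz (hD.z_comm ha), hfix _ hD.c_mem h6⟩
    · have ha1 : a ≠ 1 := by
        rintro rfl
        exact h6 (by rw [mul_one, one_mul])
      exact ⟨_, hz, a, ha, ⟨hD.z_sq, haa, hD.z_ne, ha1, fun h7 => h6 (by
        rw [← h7]; exact (hD.z_comm hD.c_mem).symm), hD.z_comm ha⟩, hfix _ hz (hD.z_comm ha),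
        hfix _ ha rfl⟩

/-- noncentral involutions of `S` are reflections -/
theorem refl_of {S : Subgroup L} (h : AutSwap.Dih S d r c) {a : L} (ha : a ∈ S) (haa : a * a = 1)
    (hx : ∃ x ∈ S, x * a ≠ a * x) : ∃ k : ℤ, a = r ^ k * c := by
  obtain ⟨k, hk | hk⟩ := h.form a ha
  · exfalso
    obtain ⟨x, hx, hxa⟩ := hx
    apply hxa
    have e1 : r ^ (-k) = r ^ k := by
      rw [← hk, zpow_neg, ← hk]
      exact inv_eq_of_mul_eq_one_right haa
    have e2 : Commute (r ^ k) c := by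
      change r ^ k * c = c * r ^ k
      rw [h.c_rk, e1]
    change Commute x a
    rw [hk]
    obtain ⟨m, hm | hm⟩ := h.form x hx
    · rw [hm]
      exact ((Commute.refl r).zpow_left m).zpow_right k
    · rw [hm]
      exact Commute.mul_left (((Commute.refl r).zpow_left m).zpow_right k) e2.symm
  · exact ⟨k, hk⟩

/-- An automorphism fixing an `S`-class of noncentral involutions has `p1 = 1`. -/
theorem p1_of_class [Finite L] {S : Subgroup L} (E : AutData S d r c p1 p2) (hd : 3 ≤ d)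
    {α : MulAut L} (hαS : ∀ s ∈ S, α s ∈ S) {a e : L} (ha : a ∈ S) (haa : a * a = 1)
    (hx : ∃ x ∈ S, x * a ≠ a * x) (he : e ∈ S) (h : α a = e * a * e⁻¹) : p1 α = 1 := by
  have hD := dih E
  obtain ⟨k, hk⟩ := refl_of hD ha haa hx
  obtain ⟨j, hj⟩ := AutSwap.exists_refl hD hd hαS
  obtain ⟨i, hi, hir⟩ := AutSwap.exists_odd hD hd hαS
  rw [E.swap hd α hαS j hj]
  -- the class of `a`
  obtain ⟨l, hl⟩ : ∃ l : ℤ, Even (l - k) ∧ e * a * e⁻¹ = r ^ l * c := by
    obtain ⟨m, hm | hm⟩ := hD.form e he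
    · refine ⟨m + k + m, ⟨m, by ring⟩, ?_⟩
      rw [hm, hk, ← mul_assoc, ← zpow_add, ← zpow_neg, mul_assoc, hD.c_rk, neg_neg, ← mul_assoc,
        ← zpow_add]
    · refine ⟨m - k + m, ⟨m - k, by ring⟩, ?_⟩
      rw [hm, hk, mul_inv_rev, hD.c_inv, ← zpow_neg]
      calc r ^ m * c * (r ^ k * c) * (c * r ^ (-m)) = r ^ m * (c * r ^ k) * (c * c) * r ^ (-m) := by
            simp only [mul_assoc]
        _ = r ^ (m - k + m) * c := by
          rw [hD.cc, mul_one, hD.c_rk, mul_assoc, mul_assoc, hD.c_rk, neg_neg, ← mul_assoc,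
            ← mul_assoc, ← zpow_add, ← zpow_add, sub_eq_add_neg]
  rw [hl.2, hk, map_mul, map_zpow, hir, hj, ← zpow_mul, ← mul_assoc, ← zpow_add] at h
  have h1 := mul_right_cancel h
  have h2 : r ^ (i * k + j - l) = 1 := by rw [zpow_sub, h1, mul_inv_cancel]
  rw [hD.rk_one] at h2
  have h3 : (2 : ℤ) ∣ i * k + j - l := (dvd_pow_self 2 (by omega)).trans h2
  have h4 : Even (i * k + j - l) := even_iff_two_dvd.2 h3
  obtain ⟨i', hi'⟩ := hi
  obtain ⟨x, hx'⟩ := hl.1
  obtain ⟨y, hy⟩ := h4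
  have e1 : j = (i * k + j - l) + (l - k) - (i - 1) * k := by ring
  refine ⟨y + x - i' * k, ?_⟩
  rw [e1, hy, hx', hi']
  ring

/-- A non-inner 2-automorphism with inner square fixing a class of noncentral involutions of `S` is, up to an element
of `S`, an involutory automorphism centralising `S`. -/
theorem outer_field [Finite L] (hc : Function.Injective (MulAut.conj : L →* MulAut L))
    {S : Sylow 2 L} (E : AutData (S : Subgroup L) d r c p1 p2) (P : AutPlus p1 p2) (hd : 3 ≤ d)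
    {α : MulAut L} {m : ℕ} (hα : α ^ 2 ^ m = 1) (hαS : ∀ s ∈ (S : Subgroup L), α s ∈ (S : Subgroup L))
    (h1 : ¬ Inn α) (h2 : Inn (α * α)) {a e : L} (ha : a ∈ (S : Subgroup L)) (haa : a * a = 1)
    (hx : ∃ x ∈ (S : Subgroup L), x * a ≠ a * x) (he : e ∈ (S : Subgroup L)) (h : α a = e * a * e⁻¹) :
    ∃ b ∈ (S : Subgroup L), (∀ s ∈ (S : Subgroup L), (MulAut.conj b * α) s = s) ∧
      (MulAut.conj b * α) * (MulAut.conj b * α) = 1 := by
  have h3 := p1_of_class E hd hαS ha haa hx he h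
  have h4 : p2 α ≠ 1 := fun h4 => h1 ((inn_iff E).2 ⟨h3, h4⟩)
  obtain ⟨l, hl⟩ := P.split α h3
  have h5 := hl 2 (by
    rw [pow_two, ← map_mul]
    exact ((inn_iff E).1 h2).2)
  rw [pow_two] at h5
  exact field_split hc E hα hαS rfl h5 (by rw [map_mul, E.inn2, one_mul]; exact h4)

end consequences

end Cfsg.Agent.GH.L2AutPlus
end
end

-- part: GH/L2One/Bridge
section
set_option linter.all false
open scoped Cfsg.Agent.FastGrp

/-!
# GH-L2: the frame of a 2-component from the data of its simple quotient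

`AutData.frame`: `L2Frame.Frame (C x) K T` and `AutData (STop K)` give `L2One.Frame x K T (T ⊓ K) (T ⊓ fix K)`.
-/

set_option autoImplicit false

open Cfsg Subgroup
open Cfsg.Agent.SignalizersComponents
open Cfsg.Agent.Intrinsic.Basic Cfsg.Agent.GH.Defs Cfsg.Agent.GH.Comp
open Cfsg.Agent.Walter.SylowIn Cfsg.Agent.GH.L2Frame

namespace Cfsg.Agent.GH.L2One

variable {G : Type*} [Group G]

open Classical in
/-- A homomorphism on `Aut(K/O(K))` as a function on `G`. -/
noncomputable def outFun {M : Type*} [Group M] (K : Subgroup G) (p : MulAut (STop K) →* M)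
    (g : G) : M :=
  if h : g ∈ normalizer (K : Set G) then p (act K ⟨g, h⟩) else 1

theorem outFun_of_mem {M : Type*} [Group M] {K : Subgroup G} (p : MulAut (STop K) →* M) {g : G}
    (h : g ∈ normalizer (K : Set G)) : outFun K p g = p (act K ⟨g, h⟩) := dif_pos h

theorem outFun_mul {M : Type*} [Group M] {K : Subgroup G} (p : MulAut (STop K) →* M) {g h : G}
    (hg : g ∈ normalizer (K : Set G)) (hh : h ∈ normalizer (K : Set G)) :
    outFun K p (g * h) = outFun K p g * outFun K p h := by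
  rw [outFun_of_mem p hg, outFun_of_mem p hh, outFun_of_mem p (mul_mem hg hh), ← map_mul,
    ← map_mul]
  rfl

variable [Finite G]

/-- Two involutions which agree modulo the kernel of `K → STop K` are `K`-conjugate. -/
theorem exists_conj_of_ker {K : Subgroup G} (hodd : ¬ EvenCenter K) {u v : G} (hu : u * u = 1)
    (hv : v * v = 1) (hK : u * v ∈ K) (h : (⟨u * v, hK⟩ : K) ∈ (topMap K).ker) :
    ∃ t ∈ K, t * v * t⁻¹ = u := by
  have h1 : Odd (orderOf (u * v)) := by
    have h2 : orderOf (⟨⟨u * v, hK⟩, h⟩ : (topMap K).ker) ∣ Nat.card (topMap K).ker :=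
      orderOf_dvd_natCard _
    rw [Subgroup.orderOf_mk, Subgroup.orderOf_mk] at h2
    exact (odd_card_ker hodd).of_dvd_nat h2
  obtain ⟨t, ht, h2⟩ := exists_conj_of_odd hu hv h1
  exact ⟨t, (zpowers_le.2 hK) ht, h2⟩

/-- A Sylow 2-subgroup of `STop K` fixed by `y` lifts to a Sylow 2-subgroup of `K` fixed by `y`. -/
theorem exists_conj_comm {H K T : Subgroup G} (F : L2Frame.Frame H K T) {y : G} (hy : y ∈ T)
    {S' : Subgroup (STop K)} (hS : Nat.card S' = Nat.card F.dTop.range)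
    (hS2 : IsPGroup 2 S') (hfix : ∀ s ∈ S', F.rho ⟨y, hy⟩ s = s) :
    ∃ g ∈ K, ∀ e ∈ T ⊓ K, g * y * g⁻¹ * e = e * (g * y * g⁻¹) := by
  have : Fact (Nat.Prime 2) := ⟨Nat.prime_two⟩
  have hyN : y ∈ normalizer (K : Set G) := F.norm hy
  have hP2 : IsPGroup 2 (zpowers y) := F.two.to_le (zpowers_le.2 hy)
  have hPK : zpowers y ≤ normalizer (K : Set G) := zpowers_le.2 hyN
  -- `S'` is contained in the fixed points
  have hSM : S' ≤ fixedTop K (zpowers y) := by
    intro s hs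
    rw [mem_fixedTop]
    rintro ⟨p, hp⟩ hpy
    obtain ⟨k, hk⟩ := mem_zpowers_iff.1 hpy
    have h1 : (⟨p, hp⟩ : normalizer (K : Set G)) = ⟨y, hyN⟩ ^ k := Subtype.ext hk.symm
    rw [h1, map_zpow]
    have h2 : act K ⟨y, hyN⟩ ∈ MulAction.stabilizer (MulAut (STop K)) s := hfix s hs
    exact (zpow_mem h2 k : _)
  -- the map of the centralizer
  let C : Subgroup K := (centralizer (zpowers y : Set G)).subgroupOf K
  have hCM : ∀ k : C, topMap K k ∈ fixedTop K (zpowers y) := fun k =>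
    topMap_mem_fixedTop (mem_subgroupOf.1 k.2)
  let f : C →* fixedTop K (zpowers y) :=
    ((topMap K).comp C.subtype).codRestrict _ hCM
  have hf : Function.Surjective f := by
    rintro ⟨l, hl⟩
    obtain ⟨k, hk, hkl⟩ := exists_of_mem_fixedTop F.odd hP2 hPK hl
    exact ⟨⟨k, mem_subgroupOf.2 hk⟩, Subtype.ext hkl⟩
  let P₀ : Sylow 2 C := default
  let Q₀ : Sylow 2 (fixedTop K (zpowers y)) := P₀.mapSurjective hf
  have hQ : SylIn 2 ((Q₀ : Subgroup _).map (fixedTop K (zpowers y)).subtype)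
      (fixedTop K (zpowers y)) := ⟨Q₀, rfl⟩
  have h1 : Nat.card S' ≤ Nat.card P₀ := by
    have h2 := hQ.card_le hSM hS2
    rw [card_map_of_injective (subtype_injective _)] at h2
    refine h2.trans ?_
    rw [Sylow.coe_mapSurjective]
    exact Nat.card_le_card_of_surjective _ (MonoidHom.subgroupMap_surjective f P₀)
  let P : Subgroup G := ((P₀ : Subgroup C).map C.subtype).map K.subtype
  have hPK' : P ≤ K := map_subtype_le _
  have hPy : ∀ p ∈ P, p * y = y * p := by
    rintro _ ⟨_, ⟨p, -, rfl⟩, rfl⟩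
    exact ((mem_centralizer_iff.1 (mem_subgroupOf.1 p.2)) y (mem_zpowers y)).symm
  have hPc : Nat.card P = Nat.card P₀ := by
    rw [card_map_of_injective (subtype_injective _), card_map_of_injective (subtype_injective _)]
  have hP2' : IsPGroup 2 P := (P₀.2.map _).map _
  have hD : Nat.card ↥(T ⊓ K) = Nat.card F.dTop.range := by
    exact Nat.card_congr (Equiv.ofInjective _ F.dTop_injective)
  have hsyl : SylIn 2 P K := sylIn_of_card_le F.sylD hPK' hP2' (by rw [hPc, hD, ← hS]; exact h1)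
  obtain ⟨g, hg, h3⟩ := hsyl.exists_conj F.sylD
  refine ⟨g, hg, fun e he => ?_⟩
  rw [← h3] at he
  obtain ⟨p, hp, rfl⟩ := he
  have h4 := hPy p hp
  change g * y * g⁻¹ * (g * p * g⁻¹) = g * p * g⁻¹ * (g * y * g⁻¹)
  calc g * y * g⁻¹ * (g * p * g⁻¹) = g * (y * p) * g⁻¹ := by group
    _ = g * (p * y) * g⁻¹ := by rw [h4]
    _ = g * p * g⁻¹ * (g * y * g⁻¹) := by group

omit [Finite G] in
theorem mem_cent {x g : G} : g ∈ centralizer ({x} : Set G) ↔ x * g = g * x := by
  rw [mem_centralizer_iff]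
  exact ⟨fun h => h x rfl, fun h y hy => by rw [Set.mem_singleton_iff.1 hy]; exact h⟩

omit [Finite G] in
theorem outFun_rho {M : Type*} [Group M] {H K T : Subgroup G} (F : L2Frame.Frame H K T)
    (p : MulAut (STop K) →* M) {t : G} (ht : t ∈ T) : outFun K p t = p (F.rho ⟨t, ht⟩) :=
  outFun_of_mem p (F.norm ht)

/-- **The frame**. -/
theorem AutData.frame {A : Type*} [Group A] {x : G} {K T : Subgroup G} (hx : x * x = 1)
    (hx1 : x ≠ 1) (F : L2Frame.Frame (centralizer ({x} : Set G)) K T)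
    (hn : centralizer ({x} : Set G) ≤ normalizer (K : Set G)) {d : ℕ} {r c : STop K}
    {p1 : MulAut (STop K) →* ℤˣ} {p2 : MulAut (STop K) →* A}
    (E : AutData F.dTop.range d r c p1 p2)
    (hQ1 : ∀ q ∈ T ⊓ fix K, q * q = 1 → q = 1 ∨ q = x) (hQ4 : ∃ q ∈ T ⊓ fix K, q * q = x) :
    ∃ r' c' : ↥(T ⊓ K), F.dTop r' = r ∧ F.dTop c' = c ∧
      L2One.Frame x K T (T ⊓ K) (T ⊓ fix K) d (r' : G) (c' : G) (outFun K p1) (outFun K p2) := by
  have : Fact (Nat.Prime 2) := ⟨Nat.prime_two⟩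
  obtain ⟨r', hr'⟩ := E.r_mem
  obtain ⟨c', hc'⟩ := E.c_mem
  have hinj := F.dTop_injective
  have hN : ∀ {g : G}, x * g = g * x → g ∈ normalizer (K : Set G) := fun h => hn (mem_cent.2 h)
  have hTx : ∀ t ∈ T, x * t = t * x := fun t ht => mem_cent.1 (F.le ht)
  have hKx : ∀ k ∈ K, x * k = k * x := fun k hk => mem_cent.1 (F.comp.le hk)
  have hsyl : ∀ P : Subgroup G, IsPGroup 2 P → (∀ p ∈ P, x * p = p * x) →
      ∃ g, x * g = g * x ∧ ∀ p ∈ P, g * p * g⁻¹ ∈ T := by
    intro P hP hPx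
    obtain ⟨g, hg, h1⟩ := F.syl.conj_le (fun p hp => mem_cent.2 (hPx p hp)) hP
    exact ⟨g, mem_cent.1 hg, h1⟩
  have hxT : x ∈ T := by
    have h1 : IsPGroup 2 (zpowers x) := by
      rintro ⟨y, hy⟩
      obtain ⟨k, rfl⟩ := mem_zpowers_iff.1 hy
      refine ⟨1, Subtype.ext ?_⟩
      change (x ^ k) ^ 2 ^ 1 = 1
      rw [pow_one, ← zpow_natCast, ← zpow_mul, mul_comm, zpow_mul, zpow_natCast, _root_.sq, hx, one_zpow]
    obtain ⟨g, hg, h2⟩ := hsyl (zpowers x) h1 (by
      rintro p hp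
      obtain ⟨k, rfl⟩ := mem_zpowers_iff.1 hp
      exact ((Commute.refl x).zpow_right k).eq)
    have h3 := h2 x (mem_zpowers x)
    rwa [← hg, mul_inv_cancel_right] at h3
  have hxf : x ∈ fix K := by
    rw [mem_fix]
    refine ⟨hN rfl, fun y hy => ?_⟩
    rw [commutatorElement_eq_one_iff_mul_comm.2 (hKx y hy)]
    exact one_mem _
  have hmap : ∀ {t : G} (ht : t ∈ T), ∀ s ∈ F.dTop.range, F.rho ⟨t, ht⟩ s ∈ F.dTop.range := by
    rintro t ht _ ⟨s, rfl⟩
    rw [F.rho_dTop]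
    exact ⟨_, rfl⟩
  have hpow : ∀ {t : G} (ht : t ∈ T), ∃ n : ℕ, F.rho ⟨t, ht⟩ ^ 2 ^ n = 1 := by
    intro t ht
    obtain ⟨n, hn'⟩ := F.exists_pow ht
    refine ⟨n, ?_⟩
    rw [← map_pow]
    have h1 : (⟨t, ht⟩ : T) ^ 2 ^ n = 1 := Subtype.ext hn'
    rw [h1, map_one]
  have hfix : ∀ {t : G} (ht : t ∈ T), (∀ s ∈ F.dTop.range, F.rho ⟨t, ht⟩ s = s) ↔
      ∀ e ∈ T ⊓ K, t * e = e * t := by
    intro t ht
    constructor
    · intro h e he
      exact (F.comm_iff ⟨t, ht⟩ ⟨e, he⟩).2 (h _ ⟨_, rfl⟩)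
    · rintro h _ ⟨e, rfl⟩
      exact (F.comm_iff ⟨t, ht⟩ e).1 (h e e.2)
  have hsq : ∀ {t : G} (ht : t ∈ T), t * t = 1 → F.rho ⟨t, ht⟩ * F.rho ⟨t, ht⟩ = 1 := by
    intro t ht h
    rw [← map_mul]
    have h1 : (⟨t, ht⟩ : T) * ⟨t, ht⟩ = 1 := Subtype.ext h
    rw [h1, map_one]
  have hrhofix : ∀ {t : G} (ht : t ∈ T), F.rho ⟨t, ht⟩ = 1 ↔ t ∈ fix K :=
    fun ht => F.rho_eq_one_iff ⟨_, ht⟩
  refine ⟨r', c', hr', hc', ?_⟩
  exact
    { xx := hx
      x_ne := hx1
      K_comm := hKx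
      K_norm := fun g hg k hk => L2Frame.conj_mem (hN hg) hk
      T_comm := hTx
      T_two := F.two
      T_syl := hsyl
      mem_D := fun g => mem_inf
      Q_le := inf_le_left
      Q_norm := fun t ht q hq => F.conj_mem_Q ht hq
      x_mem := ⟨hxT, hxf⟩
      Q_inv := hQ1
      Q_four := hQ4
      QD := fun g hg hgQ => F.eq_one hg hgQ.2
      d_ge := E.d_ge
      r_mem := r'.2
      c_mem := c'.2
      cc := by
        have h1 : c' * c' = 1 := hinj (by rw [map_mul, hc', E.cc, map_one])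
        exact congrArg Subtype.val h1
      crc := by
        have h1 : c' * r' * c'⁻¹ = r'⁻¹ := hinj (by
          rw [map_mul, map_mul, map_inv, map_inv, hc', hr', E.crc])
        exact congrArg Subtype.val h1
      or_eq := by
        rw [Subgroup.orderOf_coe, ← orderOf_injective F.dTop hinj, hr', E.or_eq]
      c_not := by
        intro k h
        apply E.c_not k
        have h1 : c' = r' ^ k := Subtype.ext h
        rw [← hc', h1, map_zpow, hr']
      D_form := by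
        intro g hg
        obtain ⟨k, hk | hk⟩ := E.S_form (F.dTop ⟨g, hg⟩) ⟨_, rfl⟩
        · refine ⟨k, Or.inl ?_⟩
          have h1 : (⟨g, hg⟩ : ↥(T ⊓ K)) = r' ^ k := hinj (by rw [hk, map_zpow, hr'])
          exact congrArg Subtype.val h1
        · refine ⟨k, Or.inr ?_⟩
          have h1 : (⟨g, hg⟩ : ↥(T ⊓ K)) = r' ^ k * c' := hinj (by
            rw [hk, map_mul, map_zpow, hr', hc'])
          exact congrArg Subtype.val h1
      inv_conj := by
        intro a ha b hb haa ha1 hbb hb1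
        have haa' : (⟨a, ha⟩ : ↥(T ⊓ K)) * ⟨a, ha⟩ = 1 := Subtype.ext haa
        have hbb' : (⟨b, hb⟩ : ↥(T ⊓ K)) * ⟨b, hb⟩ = 1 := Subtype.ext hbb
        obtain ⟨l, hl⟩ := E.inv_conj (F.dTop ⟨a, ha⟩) (F.dTop ⟨b, hb⟩)
          (by rw [← map_mul, haa', map_one])
          (fun h => ha1 (congrArg Subtype.val (hinj (h.trans (map_one _).symm))))
          (by rw [← map_mul, hbb', map_one])
          (fun h => hb1 (congrArg Subtype.val (hinj (h.trans (map_one _).symm))))
        obtain ⟨k, rfl⟩ := topMap_surjective K l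
        have hmem : (k : G) * a * (k : G)⁻¹ * b ∈ K :=
          mul_mem (mul_mem (mul_mem k.2 ha.2) (inv_mem k.2)) hb.2
        obtain ⟨t, ht, h1⟩ := exists_conj_of_ker (K := K) F.odd (u := (k : G) * a * (k : G)⁻¹)
          (v := b) (by
            calc (k : G) * a * (k : G)⁻¹ * ((k : G) * a * (k : G)⁻¹) = k * (a * a) * (k : G)⁻¹ := by
                  group
              _ = 1 := by rw [haa, mul_one, mul_inv_cancel]) hbb hmem (by
            rw [MonoidHom.mem_ker]
            have e1 : (⟨(k : G) * a * (k : G)⁻¹ * b, hmem⟩ : K) =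
                k * ⟨a, ha.2⟩ * k⁻¹ * ⟨b, hb.2⟩ := rfl
            have e2 : topMap K k * topMap K ⟨a, ha.2⟩ * (topMap K k)⁻¹ = topMap K ⟨b, hb.2⟩ := hl
            have e3 : (⟨b, hb.2⟩ : K) * ⟨b, hb.2⟩ = 1 := Subtype.ext hbb
            rw [e1, map_mul, map_mul, map_mul, map_inv, e2, ← map_mul, e3, map_one])
        refine ⟨t⁻¹ * k, mul_mem (inv_mem ht) k.2, ?_⟩
        calc t⁻¹ * k * a * (t⁻¹ * k)⁻¹ = t⁻¹ * (k * a * (k : G)⁻¹) * t := by group
          _ = t⁻¹ * (t * b * t⁻¹) * t := by rw [h1]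
          _ = b := by group
      o1_mul := fun g h hg hh => outFun_mul p1 (hN hg) (hN hh)
      o2_mul := fun g h hg hh => outFun_mul p2 (hN hg) (hN hh)
      A_inv := E.A_inv
      o1_Q := fun q hq => by rw [outFun_rho F p1 hq.1, (hrhofix hq.1).2 hq.2, map_one]
      o2_Q := fun q hq => by rw [outFun_rho F p2 hq.1, (hrhofix hq.1).2 hq.2, map_one]
      o1_K := fun k hk => by
        rw [outFun_of_mem p1 (le_normalizer hk), act_of_mem ⟨k, hk⟩]
        exact E.inn1 _
      o2_K := fun k hk => by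
        rw [outFun_of_mem p2 (le_normalizer hk), act_of_mem ⟨k, hk⟩]
        exact E.inn2 _
      ker := by
        intro t ht h1 h2
        rw [outFun_rho F p1 ht] at h1
        rw [outFun_rho F p2 ht] at h2
        obtain ⟨l, hl⟩ := E.ker _ h1 h2
        obtain ⟨y, hy, a, h3, -⟩ := F.exists_mul hl
        exact ⟨y, hy, a, a.2, h3⟩
      swap := by
        intro hd t ht k hk
        rw [outFun_rho F p1 ht]
        apply E.swap hd _ (hmap ht) k
        rw [← hc', F.rho_dTop, ← hr', ← map_zpow, ← map_mul]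
        congr 1
        exact Subtype.ext hk
      small := by
        intro hd t ht
        obtain ⟨h1, h2⟩ := E.small hd _ (hpow ht) (hmap ht)
        rw [outFun_rho F p1 ht, outFun_rho F p2 ht, ← hfix ht]
        exact ⟨h1, h2⟩
      sq_mem := by
        intro g hg h
        have h1 := E.sq _ (hpow hg) ((hfix hg).2 h)
        rw [← map_mul] at h1
        exact ⟨mul_mem hg hg, (hrhofix (mul_mem hg hg)).1 h1⟩
      no_mixed := by
        intro y hy h
        rw [outFun_rho F p1 hy, outFun_rho F p2 hy]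
        exact E.no_mixed _ (hsq hy h)
      field_cent := by
        intro y hy h h2
        rw [outFun_rho F p2 hy] at h2
        obtain ⟨l, hl⟩ := E.field_cent _ (hsq hy h) h2
        refine exists_conj_comm F hy
          (S' := F.dTop.range.map (MulAut.conj l⁻¹).toMonoidHom)
          (card_map_of_injective (MulAut.conj l⁻¹).injective) ?_ ?_
        · obtain ⟨S, hS⟩ := F.exists_sylow
          rw [← hS]
          exact S.2.map _
        · rintro _ ⟨s, hs, rfl⟩
          have h3 := hl s hs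
          rw [← map_inv, MulAut.mul_apply, MulAut.mul_apply] at h3
          have h4 := congrArg (MulAut.conj l⁻¹) h3
          rw [map_inv MulAut.conj l, MulAut.inv_apply_self, ← map_inv MulAut.conj l] at h4
          exact h4
      field_conj := by
        intro y hy h h2 h3
        rw [outFun_rho F p2 hy] at h2
        obtain ⟨_, ⟨e, rfl⟩, he1, hee, l, hl⟩ := E.field_conj _ (hsq hy h) h2 ((hfix hy).2 h3)
        have hee' : (e : G) * e = 1 := by
          have h5 : e * e = 1 := hinj (by rw [map_mul, hee, map_one])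
          exact congrArg Subtype.val h5
        obtain ⟨k, rfl⟩ := topMap_surjective K l
        refine ⟨e, e.2, fun h5 => he1 (by rw [show e = 1 from Subtype.ext h5, map_one]), hee', ?_⟩
        have hye : y * e = e * y := h3 e e.2
        have hmem : (k : G) * y * (k : G)⁻¹ * (e * y) ∈ K := by
          have e1 : (k : G) * y * (k : G)⁻¹ * (e * y) = k * (y * (k : G)⁻¹ * y⁻¹) * e := by
            calc (k : G) * y * (k : G)⁻¹ * (e * y) = k * y * (k : G)⁻¹ * (y * e) := by rw [hye]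
              _ = k * (y * (k : G)⁻¹ * y) * e := by group
              _ = k * (y * (k : G)⁻¹ * y⁻¹) * e := by rw [inv_eq_of_mul_eq_one_right h]
          rw [e1]
          exact mul_mem (mul_mem k.2 (L2Frame.conj_mem (F.norm hy) (inv_mem k.2))) e.2.2
        obtain ⟨t, ht, h5⟩ := exists_conj_of_ker (K := K) F.odd (u := (k : G) * y * (k : G)⁻¹)
          (v := e * y) (by
            calc (k : G) * y * (k : G)⁻¹ * ((k : G) * y * (k : G)⁻¹) = k * (y * y) * (k : G)⁻¹ := by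
                  group
              _ = 1 := by rw [h, mul_one, mul_inv_cancel]) (by
            calc (e : G) * y * (e * y) = e * (y * e) * y := by group
              _ = (e * e) * (y * y) := by rw [hye]; group
              _ = 1 := by rw [hee', h, one_mul]) hmem (by
            rw [mem_ker_iff, mem_fix, ← act_eq_one_iff (quasisimple F.comp) (le_normalizer hmem)]
            have hkN : (k : G) ∈ normalizer (K : Set G) := le_normalizer k.2
            have heN : (e : G) ∈ normalizer (K : Set G) := le_normalizer e.2.2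
            have hyN : y ∈ normalizer (K : Set G) := F.norm hy
            have e1 : (⟨(k : G) * y * (k : G)⁻¹ * (e * y), le_normalizer hmem⟩ :
                normalizer (K : Set G)) = ⟨k, hkN⟩ * ⟨y, hyN⟩ * ⟨k, hkN⟩⁻¹ * (⟨e, heN⟩ * ⟨y, hyN⟩) :=
              rfl
            rw [e1, map_mul, map_mul, map_mul, map_mul, map_inv]
            have e2 : act K ⟨k, hkN⟩ = MulAut.conj (topMap K k) := act_of_mem k
            have e3 : act K ⟨(e : G), heN⟩ = MulAut.conj (F.dTop e) := act_of_mem ⟨(e : G), e.2.2⟩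
            have e4 : act K ⟨y, hyN⟩ = F.rho ⟨y, hy⟩ := rfl
            rw [e2, e3, e4, hl]
            have e5 : F.rho ⟨y, hy⟩ * MulAut.conj (F.dTop e) =
                MulAut.conj (F.dTop e) * F.rho ⟨y, hy⟩ := by
              rw [← F.rho_of_mem, ← map_mul, ← map_mul]
              congr 1
              exact Subtype.ext hye
            rw [mul_assoc, ← mul_assoc (F.rho ⟨y, hy⟩), e5, mul_assoc, hsq hy h, mul_one,
              ← map_mul, hee, map_one])
        refine ⟨t⁻¹ * k, mul_mem (inv_mem ht) k.2, ?_⟩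
        calc t⁻¹ * k * y * (t⁻¹ * k)⁻¹ = t⁻¹ * (k * y * (k : G)⁻¹) * t := by group
          _ = t⁻¹ * (t * (e * y) * t⁻¹) * t := by rw [h5]
          _ = e * y := by group
      field_o1 := by
        intro y hy h h2 g hg hgy
        rw [outFun_rho F p2 hy] at h2
        rw [outFun_rho F p1 hg]
        refine E.field_o1 _ (hsq hy h) h2 _ ?_
        have h3 := (hrhofix hgy.1).2 hgy.2
        have e1 : (⟨g * y * g⁻¹ * y⁻¹, hgy.1⟩ : T) =
            ⟨g, hg⟩ * ⟨y, hy⟩ * ⟨g, hg⟩⁻¹ * ⟨y, hy⟩⁻¹ := rfl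
        rw [e1, map_mul, map_mul, map_mul, map_inv, map_inv] at h3
        exact mul_inv_eq_one.1 h3 }

end Cfsg.Agent.GH.L2One
end

-- part: GH/L2FourOC
section
set_option linter.all false
open scoped Cfsg.Agent.FastGrp

/-!
# GH-L2: the world with odd centres

* nonabelian simple groups of even order have sectional 2-rank at least 2;
* `AllOdd G`, sectional 2-rank at most 4: the centralizer of an involution has at most one 2-component;
* pump-ups between commuting involutions `u`, `v`, when `v` fixes a 2-component of maximal order.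
-/

set_option autoImplicit false

open Cfsg Subgroup
open scoped commutatorElement
open Cfsg.Agent.SignalizersComponents Cfsg.Agent.Lib
open Cfsg.Agent.SignalizersComponents.IntrinsicBasic
open Cfsg.Agent.SignalizersComponents.PLayerAut
open Cfsg.Agent.Intrinsic.Basic Cfsg.Agent.Intrinsic.Cen
open Cfsg.Agent.GH.Defs Cfsg.Agent.GH.Rank Cfsg.Agent.GH.Comp

namespace Cfsg.Agent.GH.L2FourOC

/-! ### sectional rank one -/

/-- A finite 2-group of sectional rank at most one is cyclic. -/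
theorem isCyclic_of_srank_le_one {S : Type*} [Group S] [Finite S] (hS : IsPGroup 2 S)
    (h : srank 2 S ≤ 1) : IsCyclic S := by
  have : Fact (Nat.Prime 2) := ⟨Nat.prime_two⟩
  have h1 : SectionalPRankLE 2 1 S := (srank_le_iff (by norm_num)).1 h
  have h2 : PRankLE 2 1 (S ⧸ frattini S) := Rank.pRankLE (of_quotient h1 (frattini S))
  have hcomm : ∀ a b : S ⧸ frattini S, a * b = b * a := by
    intro a b
    obtain ⟨a, rfl⟩ := QuotientGroup.mk_surjective a
    obtain ⟨b, rfl⟩ := QuotientGroup.mk_surjective b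
    have h3 := (QuotientGroup.eq_one_iff (N := frattini S) _).mpr
      (FrattiniPGroup.commutator_mem_frattini hS a b)
    have h4 : ((⁅a, b⁆ : S) : S ⧸ frattini S) = (a : S ⧸ frattini S) * b *
      (a : S ⧸ frattini S)⁻¹ * (b : S ⧸ frattini S)⁻¹ := rfl
    rw [h4, mul_inv_eq_one, mul_inv_eq_iff_eq_mul] at h3
    exact h3
  have h5 : Nat.card (⊤ : Subgroup (S ⧸ frattini S)) ≤ 2 ^ 1 := by
    refine h2 ⊤ ⟨⟨fun a b => Subtype.ext (hcomm a b)⟩⟩ fun a _ => ?_
    obtain ⟨a, rfl⟩ := QuotientGroup.mk_surjective a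
    exact (QuotientGroup.eq_one_iff (N := frattini S) _).mpr (FrattiniPGroup.pow_mem_frattini hS a)
  rw [Subgroup.card_top, pow_one] at h5
  by_cases h6 : ∃ x : S, x ∉ frattini S
  · obtain ⟨x, hx⟩ := h6
    have h7 : zpowers x ⊔ frattini S = ⊤ := by
      rw [← Subgroup.comap_map_eq_self (f := QuotientGroup.mk' (frattini S))
        (H := zpowers x ⊔ frattini S) (by rw [QuotientGroup.ker_mk']; exact le_sup_right)]
      have h8 : (zpowers x ⊔ frattini S).map (QuotientGroup.mk' (frattini S)) = ⊤ := by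
        apply Subgroup.eq_top_of_card_eq
        apply le_antisymm (Subgroup.card_le_card_group _)
        refine h5.trans ?_
        have h9 : (QuotientGroup.mk' (frattini S)) x ≠ 1 := fun h9 =>
          hx ((QuotientGroup.eq_one_iff _).mp h9)
        have h10 : 1 < Nat.card ((zpowers x ⊔ frattini S).map
            (QuotientGroup.mk' (frattini S))) := by
          rw [Finite.one_lt_card_iff_nontrivial]
          refine ⟨⟨⟨_, mem_map_of_mem _ (le_sup_left (a := zpowers x) (mem_zpowers x))⟩, 1, ?_⟩⟩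
          intro h11
          exact h9 (congrArg Subtype.val h11)
        omega
      rw [h8, comap_top]
    have h12 : zpowers x = ⊤ := frattini_nongenerating h7
    exact ⟨⟨x, fun y => by
      have : y ∈ zpowers x := h12 ▸ mem_top y
      exact this⟩⟩
  · push Not at h6
    have h7 : frattini S = ⊤ := by rw [eq_top_iff]; exact fun x _ => h6 x
    have h8 : (⊥ : Subgroup S) = ⊤ := frattini_nongenerating (K := ⊥) (by rw [h7, sup_top_eq])
    have : Subsingleton S := Subgroup.subsingleton_iff.mp (subsingleton_of_bot_eq_top h8)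
    infer_instance

/-- A nonabelian simple group of even order has sectional 2-rank at least 2. -/
theorem two_le_srank_of_simple {X : Type*} [Group X] [Finite X] (hs : IsSimpleGroup X)
    (hn : ¬ IsMulCommutative X) (h2 : 2 ∣ Nat.card X) : 2 ≤ srank 2 X := by
  have : Fact (Nat.Prime 2) := ⟨Nat.prime_two⟩
  by_contra h
  let P : Sylow 2 X := default
  have h1 : srank 2 (P : Subgroup X) ≤ 1 := by
    have := srank_sylow P
    omega
  exact SmallSimple.EvenOrder.not_isCyclic_sylow_two hn h2 P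
    (isCyclic_of_srank_le_one P.isPGroup' h1)

section comps

variable {G : Type*} [Group G] [Finite G]

theorem two_dvd_top {H K : Subgroup G} (hK : IsComp H K) (hodd : ¬ EvenCenter K) :
    2 ∣ Nat.card (STop K) := by
  have h1 : Nat.card K = Nat.card (Bar K) * Nat.card (oddCore ↥K) :=
    Subgroup.card_eq_card_quotient_mul_card_subgroup _
  have h2 : Nat.card (Bar K) = Nat.card (STop K) * Nat.card (center (Bar K)) :=
    Subgroup.card_eq_card_quotient_mul_card_subgroup _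
  have h3 : ¬ 2 ∣ Nat.card (oddCore ↥K) := by
    have h := Lib.Cores.pPrimeCore_coprime (G := K) 2
    intro h2
    have h3 := Nat.coprime_two_right.1 h
    exact (Nat.not_even_iff_odd.2 h3) (even_iff_two_dvd.2 h2)
  have h4 : ¬ 2 ∣ Nat.card (center (Bar K)) := fun h => hodd (even_iff_two_dvd.2 h)
  have h5 := hK.even
  rw [h1, h2] at h5
  have hp := Nat.prime_two
  rcases (Nat.Prime.dvd_mul hp).1 h5 with h6 | h6
  · rcases (Nat.Prime.dvd_mul hp).1 h6 with h7 | h7
    · exact h7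
    · exact absurd h7 h4
  · exact absurd h6 h3

/-- Odd centre: `2 ≤ r(K)`. -/
theorem two_le_srank {H K : Subgroup G} (hK : IsComp H K) (hodd : ¬ EvenCenter K) :
    2 ≤ srank 2 K := by
  rw [← srank_top hodd]
  exact two_le_srank_of_simple (top_simple hK) (top_nonComm hK) (two_dvd_top hK hodd)

omit [Finite G] in
theorem center_card_odd {K : Subgroup G} (hodd : ¬ EvenCenter K) :
    Odd (Nat.card (center (Bar K))) := by
  rw [← Nat.not_even_iff_odd]; exact hodd

/-- Odd centre: `K / O(K)` has trivial centre. -/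
theorem center_bar_eq_bot {K : Subgroup G} (hodd : ¬ EvenCenter K) : center (Bar K) = ⊥ := by
  have h1 : oddCore (Bar K) = ⊥ := Lib.Cores.pPrimeCore_quotient_pPrimeCore 2
  have h2 : center (Bar K) ≤ oddCore (Bar K) :=
    le_sSup (show center (Bar K) ∈ _ from ⟨inferInstance, by
      exact Nat.coprime_two_right.2 (center_card_odd hodd)⟩)
  rw [h1] at h2
  exact le_bot_iff.mp h2

/-- The isomorphism `STop K ≃* Bar K` when the centre is odd. -/
noncomputable def topEquiv {K : Subgroup G} (hodd : ¬ EvenCenter K) : STop K ≃* Bar K :=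
  (QuotientGroup.quotientMulEquivOfEq (center_bar_eq_bot hodd)).trans
    (QuotientGroup.quotientBot (G := Bar K))

/-- At most one 2-component in the centralizer of an involution. -/
theorem comp_unique (h : Hyp G) (ho : AllOdd G) {x : G} {K M : Subgroup G} (hK : Comp2 x K)
    (hM : Comp2 x M) : K = M := by
  by_contra hne
  have hx : x ∈ centralizer ({x} : Set G) := mem_centralizer_singleton_iff.mpr rfl
  have hfx : ∀ L : Subgroup G, Comp2 x L → zpowers x ≤ cenMod (centralizer ({x} : Set G)) L := by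
    intro L hL
    rw [zpowers_le]
    exact (hL.comp.fixes_iff hx).mp (fixes_self hL.comp.le)
  let D : Subgroup G := M ⊔ zpowers x
  have hMD : M ≤ D := le_sup_left
  have hD : D ≤ centralizer ({x} : Set G) := sup_le hM.comp.le (by rwa [zpowers_le])
  have h1 : srank 2 K + srank 2 D ≤ srank 2 (centralizer ({x} : Set G)) := by
    refine srank_add_le hK.comp (ho x K hK) hD fun d hd => ?_
    rw [hK.comp.fixes_iff (hD hd)]
    exact (sup_le (fun a ha => (hK.comp.fixes_iff (hM.comp.le ha)).mp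
      (hK.comp.fixes_of_mem hM.comp hne ha)) (hfx K hK) : D ≤ _) hd
  have h2 : srank 2 M + srank 2 (zpowers x) ≤ srank 2 D := by
    refine srank_add_le (hM.comp.restrict hD hMD) (ho x M hM) le_sup_right fun d hd => ?_
    have hdC : d ∈ centralizer ({x} : Set G) := (zpowers_le.mpr hx) hd
    rw [hM.comp.fixes_iff hdC]
    exact hfx M hM hd
  rw [srank_zpowers hK.inv] at h2
  have h3 : srank 2 (centralizer ({x} : Set G)) ≤ 4 :=
    (srank_subgroup_le (by norm_num) _).trans ((srank_le_iff (by norm_num)).2 h.rank4)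
  have h4 := two_le_srank hK.comp (ho x K hK)
  have h5 := two_le_srank hM.comp (ho x M hM)
  omega

omit [Finite G] in
theorem Comp2.cj {x : G} {K : Subgroup G} (h : Comp2 x K) (g : G) :
    Comp2 (g * x * g⁻¹) (cj g K) := by
  refine ⟨?_, ?_⟩
  · have e : orderOf (MulAut.conj g x) = orderOf x := orderOf_injective (MulAut.conj g).toMonoidHom
      (MulAut.conj g).injective x
    rw [← h.inv, ← e]
    rfl
  · rw [← cj_centralizer]
    exact h.comp.cj g

omit [Finite G] in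
theorem Comp2.sq {x : G} {K : Subgroup G} (h : Comp2 x K) : x * x = 1 := by
  rw [← pow_two, ← h.inv, pow_orderOf_eq_one]

omit [Finite G] in
theorem Comp2.ne_one {x : G} {K : Subgroup G} (h : Comp2 x K) : x ≠ 1 := by
  rintro rfl
  have := h.inv
  simp at this

/-- The 2-component is normal in `C(x)`. -/
theorem centralizer_le_normalizer (h : Hyp G) (ho : AllOdd G) {x : G} {K : Subgroup G}
    (hK : Comp2 x K) : centralizer ({x} : Set G) ≤ normalizer (K : Set G) := by
  intro g hg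
  rw [mem_normalizer_iff_cj]
  have h1 := Comp2.cj hK g
  have h2 : g * x * g⁻¹ = x := by
    rw [mul_inv_eq_iff_eq_mul]
    exact mem_centralizer_singleton_iff.mp hg
  rw [h2] at h1
  exact comp_unique h ho h1 hK

/-- `K` is the 2-layer of `C(x)`. -/
theorem L2_eq (h : Hyp G) (ho : AllOdd G) {x : G} {K : Subgroup G} (hK : Comp2 x K) :
    L2 (centralizer ({x} : Set G)) = K := by
  apply le_antisymm _ hK.comp.le_L2
  rw [L2, Subgroup.map_le_iff_le_comap]
  refine sSup_le ?_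
  intro M hM
  have hM' : IsPComponent 2 M := hM
  have h1 : Comp2 x (M.map (centralizer ({x} : Set G)).subtype) := ⟨hK.inv, isComp_of_subtype hM'⟩
  have h2 := comp_unique h ho h1 hK
  rw [← Subgroup.map_le_iff_le_comap, h2]

omit [Finite G] in
/-- If the 2-layer of `C(x)` is not trivial then there is a 2-component. -/
theorem exists_comp2_of_L2_ne_bot {x : G} (hx : orderOf x = 2)
    (hL : L2 (centralizer ({x} : Set G)) ≠ ⊥) : ∃ K, Comp2 x K := by
  by_contra hcon
  apply hL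
  rw [L2, eq_bot_iff, Subgroup.map_le_iff_le_comap]
  refine sSup_le ?_
  intro M hM
  exact absurd ⟨_, hx, isComp_of_subtype hM⟩ hcon

/-! ### pump-ups -/

/-- Existence of the pump-up: `v` commutes with `x` and fixes `K`. -/
theorem exists_pump (h : Hyp G) (ho : AllOdd G) {x v : G} {K : Subgroup G} (hK : Comp2 x K)
    (hv : orderOf v = 2) (hvx : v * x = x * v) (hf : Fixes v K) :
    ∃ L, Comp2 v L ∧ cen K v ≤ L := by
  have hvv : v * v = 1 := by rw [← pow_two, ← hv, pow_orderOf_eq_one]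
  have hvC : v ∈ centralizer ({x} : Set G) := mem_centralizer_singleton_iff.mpr hvx
  have hxC : x ∈ centralizer ({v} : Set G) := mem_centralizer_singleton_iff.mpr hvx.symm
  have h1 := (isComp_cen hK.comp hvC hvv hf).1
  rw [inf_comm] at h1
  have h2 : cen K v ≤ L2 (centralizer ({v} : Set G)) := isComp_le_L2 hxC (Comp2.sq hK) h1
  have h3 : L2 (centralizer ({v} : Set G)) ≠ ⊥ := by
    intro h4
    rw [h4, le_bot_iff] at h2
    exact h1.ne_bot h2
  obtain ⟨L, hL⟩ := exists_comp2_of_L2_ne_bot hv h3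
  exact ⟨L, hL, (L2_eq h ho hL) ▸ h2⟩

/-- The pump-up lies in the 2-component of `C(v)`. -/
theorem cen_le_comp (h : Hyp G) (ho : AllOdd G) {x v : G} {K L : Subgroup G} (hK : Comp2 x K)
    (hL : Comp2 v L) (hvx : v * x = x * v) (hf : Fixes v K) : cen K v ≤ L := by
  obtain ⟨M, hM, h1⟩ := exists_pump h ho hK hL.inv hvx hf
  rwa [comp_unique h ho hM hL] at h1

/-- The natural map `J → L / O(L)` for `J ≤ L` has an image of order at least `|J / O(J)|`. -/
theorem card_bar_le {J L : Subgroup G} (hJ : J ≤ L) :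
    Nat.card (Bar J) ≤ Nat.card (Bar L) ∧
      (Nat.card (Bar L) ≤ Nat.card (Bar J) → J ⊔ core L = L) := by
  let f : J →* Bar L := (QuotientGroup.mk' (oddCore ↥L)).comp (inclusion hJ)
  have hker : f.ker ≤ oddCore ↥J := by
    refine le_sSup ⟨inferInstance, Nat.coprime_two_right.2 ?_⟩
    have h1 : f.ker.map J.subtype ≤ core L := by
      rintro _ ⟨j, hj, rfl⟩
      have h2 : f j = 1 := hj
      have h3 : (QuotientGroup.mk' (oddCore ↥L)) ⟨(j : G), hJ j.2⟩ = 1 := h2
      exact ⟨⟨(j : G), hJ j.2⟩, (QuotientGroup.eq_one_iff _).mp h3, rfl⟩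
    have h4 : Nat.card f.ker = Nat.card (f.ker.map J.subtype) :=
      (card_map_of_injective J.subtype_injective).symm
    rw [h4]
    exact (odd_card_core L).of_dvd_nat (card_dvd_of_le h1)
  have h1 : Nat.card (Bar J) ≤ Nat.card f.range := by
    have h2 : Nat.card f.range = f.ker.index := (Subgroup.index_ker f).symm
    have h3 : Nat.card (Bar J) = (oddCore ↥J).index := rfl
    rw [h2, h3]
    exact Nat.le_of_dvd (Nat.pos_of_ne_zero f.ker.index_ne_zero_of_finite)
      (Subgroup.index_dvd_of_le hker)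
  have h2 : Nat.card f.range ≤ Nat.card (Bar L) := Subgroup.card_le_card_group _
  refine ⟨h1.trans h2, fun h3 => ?_⟩
  have h4 : f.range = ⊤ := Subgroup.eq_top_of_card_eq _ (le_antisymm h2 (h3.trans h1))
  refine sup_of_exists hJ fun y hy => ?_
  have h5 : (QuotientGroup.mk' (oddCore ↥L)) ⟨y, hy⟩ ∈ f.range := h4 ▸ mem_top _
  obtain ⟨j, hj⟩ := h5
  refine ⟨j, j.2, ?_⟩
  have h6 : (QuotientGroup.mk' (oddCore ↥L)) (⟨(j : G), hJ j.2⟩⁻¹ * ⟨y, hy⟩) = 1 := by
    rw [map_mul, map_inv, ← hj]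
    exact inv_mul_cancel _
  have h7 := (QuotientGroup.eq_one_iff _).mp h6
  exact ⟨_, h7, rfl⟩

theorem card_bar_cen {x v : G} {K : Subgroup G} (hK : Comp2 x K) (hvv : v * v = 1)
    (hvx : v * x = x * v) (hf : Fixes v K) : Nat.card (Bar (cen K v)) = Nat.card (Bar K) := by
  obtain ⟨e, -⟩ := exists_quotEquiv (isComp_cen hK.comp
    (mem_centralizer_singleton_iff.mpr hvx) hvv hf).2
  exact Nat.card_congr e.toEquiv

/-- The isomorphism `K / O(K) ≃* L / O(L)` etc. come from a common subgroup `J`. -/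
def Link (K L : Subgroup G) : Prop := ∃ J : Subgroup G, J ⊔ core K = K ∧ J ⊔ core L = L

omit [Finite G] in
theorem Link.symm {K L : Subgroup G} (h : Link K L) : Link L K := by
  obtain ⟨J, h1, h2⟩ := h
  exact ⟨J, h2, h1⟩

theorem Link.equiv {K L : Subgroup G} (h : Link K L) : Nonempty (Bar K ≃* Bar L) := by
  obtain ⟨J, h1, h2⟩ := h
  obtain ⟨e, -⟩ := exists_quotEquiv h1
  obtain ⟨e', -⟩ := exists_quotEquiv h2
  exact ⟨e.symm.trans e'⟩

/-- Pump-up in the maximal case. -/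
theorem pump_eq (h : Hyp G) (ho : AllOdd G) {x v : G} {K L : Subgroup G} (hK : Comp2 x K)
    (hL : Comp2 v L) (hvx : v * x = x * v) (hf : Fixes v K)
    (hmax : Nat.card (Bar L) ≤ Nat.card (Bar K)) :
    cen K v ⊔ core L = L ∧ Fixes x L ∧ cen L x = cen K v ∧
      Nat.card (Bar L) = Nat.card (Bar K) := by
  have hvv := Comp2.sq hL
  have hxx := Comp2.sq hK
  have hvC : v ∈ centralizer ({x} : Set G) := mem_centralizer_singleton_iff.mpr hvx
  have hxC : x ∈ centralizer ({v} : Set G) := mem_centralizer_singleton_iff.mpr hvx.symm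
  have h1 := isComp_cen hK.comp hvC hvv hf
  have h2 := cen_le_comp h ho hK hL hvx hf
  have h3 := card_bar_le h2
  have h4 := card_bar_cen hK hvv hvx hf
  rw [h4] at h3
  have h5 : cen K v ⊔ core L = L := h3.2 hmax
  have h6 : Fixes x L := by
    have h7 : x ∈ normalizer (L : Set G) := centralizer_le_normalizer h ho hL hxC
    have h8 : ∀ y ∈ cen K v, x * y * x⁻¹ = y := by
      intro y hy
      rw [mul_inv_eq_iff_eq_mul]
      exact (mem_centralizer_singleton_iff.mp (hK.comp.le (cen_le K v hy))).symm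
    rw [fixes_iff_conj]
    refine ⟨h7, fun y hy => ?_⟩
    obtain ⟨j, hj, hc⟩ := exists_mul_of_sup h5 hy
    have h9 : y⁻¹ * (x * y * x⁻¹) =
        (j⁻¹ * y)⁻¹ * (x * (j⁻¹ * y) * x⁻¹) := by
      have h10 : x * (j⁻¹ * y) * x⁻¹ = (x * j * x⁻¹)⁻¹ * (x * y * x⁻¹) := by group
      rw [h10, h8 j hj]
      group
    rw [h9]
    exact mul_mem (inv_mem hc) (conj_mem_core h7 hc)
  refine ⟨h5, h6, ?_, le_antisymm hmax h3.1⟩
  have h7 := isComp_cen hL.comp hxC hxx h6
  have h8 : IsComp (centralizer ({x} : Set G) ⊓ centralizer ({v} : Set G)) (cen L x) := by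
    rw [inf_comm]; exact h7.1
  refine (h1.1.eq_of_le h8 ?_).symm
  rw [← h1.1.pElem_eq]
  exact PComponents.pElem_mono (le_inf h2 ((cen_le K v).trans hK.comp.le))

/-- `x` carries a 2-component of maximal order (mod core). -/
structure Max2 (x : G) (K : Subgroup G) : Prop where
  comp2 : Comp2 x K
  le : ∀ (y : G) (L : Subgroup G), Comp2 y L → Nat.card (Bar L) ≤ Nat.card (Bar K)

omit [Finite G] in
theorem Max2.of_card {x y : G} {K L : Subgroup G} (hK : Max2 x K) (hL : Comp2 y L)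
    (hc : Nat.card (Bar L) = Nat.card (Bar K)) : Max2 y L :=
  ⟨hL, fun z M hM => by rw [hc]; exact hK.le z M hM⟩

theorem exists_max2 {x : G} {K : Subgroup G} (hK : Comp2 x K) : ∃ y L, Max2 (G := G) y L := by
  classical
  let P : ℕ → Prop := fun n => ∃ (y : G) (L : Subgroup G), Comp2 y L ∧ Nat.card (Bar L) = n
  have hb : ∀ n, P n → n ≤ Nat.card G := by
    rintro n ⟨y, L, -, rfl⟩
    have h1 : Nat.card (Bar L) ≤ Nat.card L :=
      Nat.card_le_card_of_surjective _ (QuotientGroup.mk_surjective (s := oddCore ↥L))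
    exact h1.trans (Subgroup.card_le_card_group _)
  have h0 : P (Nat.card (Bar K)) := ⟨x, K, hK, rfl⟩
  obtain ⟨y, L, hL, hc⟩ := Nat.findGreatest_spec (hb _ h0) h0
  refine ⟨y, L, hL, fun z M hM => ?_⟩
  rw [hc]
  exact Nat.le_findGreatest (hb _ ⟨z, M, hM, rfl⟩) ⟨z, M, hM, rfl⟩

omit [Finite G] in
theorem card_bar_cj (g : G) (K : Subgroup G) : Nat.card (Bar (cj g K)) = Nat.card (Bar K) :=
  (Nat.card_congr (cjQuot g K).toEquiv).symm

omit [Finite G] in
theorem Max2.cj {x : G} {K : Subgroup G} (hK : Max2 x K) (g : G) :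
    Max2 (g * x * g⁻¹) (cj g K) := hK.of_card (Comp2.cj hK.comp2 g) (card_bar_cj g K)

/-- **Pump-up for maximal 2-components**: `v` commutes with `x` and fixes `K`.  Then `C(v)` has a
2-component `L`, again maximal, fixed by `x`, and `K`, `L` agree modulo cores. -/
theorem Max2.pump (h : Hyp G) (ho : AllOdd G) {x v : G} {K : Subgroup G} (hK : Max2 x K)
    (hv : orderOf v = 2) (hvx : v * x = x * v) (hf : Fixes v K) :
    ∃ L, Max2 v L ∧ Fixes x L ∧ cen L x = cen K v ∧ cen K v ⊔ core L = L ∧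
      cen K v ⊔ core K = K := by
  obtain ⟨L, hL, -⟩ := exists_pump h ho hK.comp2 hv hvx hf
  obtain ⟨h1, h2, h3, h4⟩ := pump_eq h ho hK.comp2 hL hvx hf (hK.le v L hL)
  exact ⟨L, hK.of_card hL h4, h2, h3, h1, (isComp_cen hK.comp2.comp
    (mem_centralizer_singleton_iff.mpr hvx) (Comp2.sq hL) hf).2⟩

/-- **Symmetry** of `v` fixes `K_x`. -/
theorem Max2.fixes_symm (h : Hyp G) (ho : AllOdd G) {x v : G} {K L : Subgroup G}
    (hK : Max2 x K) (hL : Comp2 v L) (hvx : v * x = x * v) (hf : Fixes v K) : Fixes x L :=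
  (pump_eq h ho hK.comp2 hL hvx hf (hK.le v L hL)).2.1

theorem Max2.link (h : Hyp G) (ho : AllOdd G) {x v : G} {K L : Subgroup G}
    (hK : Max2 x K) (hL : Comp2 v L) (hvx : v * x = x * v) (hf : Fixes v K) : Link K L :=
  ⟨cen K v, (isComp_cen hK.comp2.comp (mem_centralizer_singleton_iff.mpr hvx)
    (Comp2.sq hL) hf).2, (pump_eq h ho hK.comp2 hL hvx hf (hK.le v L hL)).1⟩

end comps

end Cfsg.Agent.GH.L2FourOC

private theorem dce_34db4273bbae : _root_.True := by
  try have : _root_.True := by simp only [_root_.Cfsg.Agent.Intrinsic.Basic.L2.eq_1]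
  exact _root_.True.intro
end

-- part: GH/L2Pair
section
prune_inst 0x4047030444900020000180512500022444800050200608401fda10e00020ef3628d0221414c801d13580222000000002813880050001000000020000000050120802a50040300010426000f803087180c00000000000000000000000000041000000000000
set_option linter.all false
open scoped Cfsg.Agent.FastGrp

-- part: GH/L2W
section
/-!
# GH-L2, Lemma W

A group whose Sylow 2-subgroup is `E⟨d⟩`, `E` elementary abelian, `d` an involution with
`|E| = |C_E(d)|²`, `|C_E(d)| ≥ 4` (for `|E| = 16` this is `V₄ ≀ 2`), has a subgroup of index two.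
-/

set_option autoImplicit false

open Subgroup

namespace Cfsg.Agent.GH.L2W

variable {G : Type*} [Group G] [Finite G]

/-- A 2-subgroup of an overgroup `N` of a Sylow 2-subgroup `S` is `N`-conjugate into `S`. -/
theorem conj_into (S : Sylow 2 G) {N : Subgroup G} (hSN : (S : Subgroup G) ≤ N) {R : Subgroup G}
    (hRN : R ≤ N) (hR : IsPGroup 2 R) : ∃ n ∈ N, ∀ r ∈ R, n * r * n⁻¹ ∈ S := by
  have hR' : IsPGroup 2 (R.subgroupOf N) := hR.comap_subtype
  obtain ⟨P, hP⟩ := hR'.exists_le_sylow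
  obtain ⟨n, hn⟩ := MulAction.exists_smul_eq N P (S.subtype hSN)
  refine ⟨n, n.2, fun r hr => ?_⟩
  have h1 : (⟨r, hRN hr⟩ : N) ∈ P := hP hr
  have h2 : n * ⟨r, hRN hr⟩ * n⁻¹ ∈ n • P := by
    rw [← SetLike.mem_coe, Sylow.coe_smul]
    exact Set.mem_smul_set.mpr ⟨_, h1, by simp only [MulAut.conj_apply, _root_.MulAut.smul_def]⟩
  rw [hn] at h2
  exact h2

end Cfsg.Agent.GH.L2W
end

-- part: GH/L2Pair
section
/-!
# GH-L2: pairs `(V, U)`

* `xset_max`: the maximal 2-components give an `XSet`.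
* `VPair X V L`: `V` a four-group, `V# ⊆ X`, the elements of `V` fix all `KK v`, `L` is the common
  2-component of `C(V)`.
* `Quad X V L U ρ`: moreover `U ≤ L` a four-group, `ρ ∈ L` acting on `U` without fixed points, and every
  2-element of `C_L(U)` is in `U`.  `Quad.tri : Tri (V ⊔ U) V U ρ`.
* `Quad.cen_E` (L2): if `V` is not normal in `N(E)` then all 2-elements of `C(E)` are in `E`.
* `Quad.t4_Q`, `Quad.t4_D`, `Quad.t4_T` (L3).
-/

set_option autoImplicit false

open Cfsg Subgroup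
open Cfsg.Agent.SignalizersComponents Cfsg.Agent.Lib
open Cfsg.Agent.SignalizersComponents.IntrinsicBasic
open Cfsg.Agent.Intrinsic.Basic Cfsg.Agent.Intrinsic.Cen
open Cfsg.Agent.GH.Defs Cfsg.Agent.GH.Comp Cfsg.Agent.GH.L2Tri
open Cfsg.Agent.GH.XSet
open scoped commutatorElement

namespace Cfsg.Agent.GH.L2Pair

variable {G : Type*} [Group G] [Finite G]

/-! ### the `XSet` of the maximal 2-components -/

/-- The involutions whose centralizer has a 2-component of maximal order (mod core). -/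
def maxSet (G : Type*) [Group G] : Set G := {y | ∃ K : Subgroup G, L2FourOC.Max2 y K}

theorem KK_eq (h : Hyp G) (ho : AllOdd G) {y : G} {K : Subgroup G} (hK : Comp2 y K) : KK y = K :=
  L2FourOC.L2_eq h ho hK

theorem xset_max (h : Hyp G) (ho : AllOdd G) {x : G} {K : Subgroup G}
    (hK : L2FourOC.Max2 x K) : XSet (maxSet G) (Nat.card (Bar K)) := by
  refine ⟨⟨?_, ?_, ?_, ?_⟩, ?_⟩
  · rintro y ⟨M, hM⟩
    exact hM.comp2.inv
  · rintro y ⟨M, hM⟩
    rw [KK_eq h ho hM.comp2]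
    exact hM.comp2.comp
  · rintro y ⟨M, hM⟩ g
    exact ⟨_, hM.cj g⟩
  · rintro y ⟨M, hM⟩ u hu hc hf
    rw [KK_eq h ho hM.comp2] at hf
    obtain ⟨L, hL, -⟩ := hM.pump h ho hu hc.eq hf
    exact ⟨L, hL⟩
  · rintro y ⟨M, hM⟩
    rw [KK_eq h ho hM.comp2]
    exact le_antisymm (hK.le y M hM.comp2) (hM.le x K hK.comp2)

/-! ### four-groups `V` fixing `KK v` -/

/-- `V` a four-group, all of whose involutions are in `X` and fix each other, `L` the 2-component of
`C(V)`. -/
structure VPair (X : Set G) (V L : Subgroup G) : Prop where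
  four : Four V
  mem : ∀ v ∈ V, v ≠ 1 → v ∈ X
  fix : ∀ v ∈ V, v ≠ 1 → ∀ w ∈ V, Fixes w (KK v)
  comp : IsComp (centralizer (V : Set G)) L
  uniq : ∀ M, IsComp (centralizer (V : Set G)) M → M = L
  le : ∀ v ∈ V, v ≠ 1 → L ≤ KK v
  sup : ∀ v ∈ V, v ≠ 1 → L ⊔ core (KK v) = KK v

omit [Finite G] in
theorem orderOf_of_sq {w : G} (hw : w * w = 1) (h1 : w ≠ 1) : orderOf w = 2 :=
  orderOf_eq_prime (by rw [pow_two, hw]) h1

/-- Construction of a `VPair` from one element of `V`. -/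
theorem exists_vpair {X : Set G} {N : ℕ} (h : XSet X N) {V : Subgroup G} (hV : Four V) {v₀ : G}
    (hv₀ : v₀ ∈ V) (hX : v₀ ∈ X) (hf : ∀ v ∈ V, Fixes v (KK v₀)) : ∃ L, VPair X V L := by
  have hv₀1 : v₀ ≠ 1 := h.toXBase.ne_one hX
  have hmem : ∀ v ∈ V, v ≠ 1 → v ∈ X := by
    intro v hv hv1
    exact h.closed v₀ hX v (orderOf_of_sq (hV.sq v hv) hv1) (hV.comm v hv v₀ hv₀) (hf v hv)
  have hfix : ∀ v ∈ V, v ≠ 1 → ∀ w ∈ V, Fixes w (KK v) := by
    intro v hv hv1 w hw
    by_cases hvv₀ : v = v₀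
    · rw [hvv₀]; exact hf w hw
    have h1 : Fixes v₀ (KK v) := h.fixes_symm hX (hmem v hv hv1) (hV.comm v₀ hv₀ v hv) (hf v hv)
    have h2 : Fixes v (KK v) := h.toXBase.fixes_self (hmem v hv hv1)
    rcases hV.cases hv hv₀ hv1 hv₀1 hvv₀ hw with rfl | rfl | rfl | rfl
    · exact fixes_one _
    · exact h2
    · exact h1
    · exact fixes_mul h2 h1
  have hVp : IsPGroup 2 V := by
    rintro ⟨v, hv⟩
    refine ⟨1, ?_⟩
    apply Subtype.ext
    simpa only [pow_two, _root_.pow_one, _root_.MulMemClass.mk_mul_mk, _root_.OneMemClass.coe_one] using hV.sq v hv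
  obtain ⟨L, h1, h2, h3⟩ := h.toXBase.exists_common hVp
    (fun a ha b hb => hV.comm a ha b hb) ⟨v₀, hX, hv₀⟩
    (fun y hy hyV w hw => hfix y hyV (h.toXBase.ne_one hy) w hw)
  exact ⟨L, hV, hmem, hfix, h1, h2, fun v hv hv1 => (h3 v (hmem v hv hv1) hv).2.1,
    fun v hv hv1 => (h3 v (hmem v hv hv1) hv).2.2⟩

namespace VPair

variable {X : Set G} {V L : Subgroup G} (p : VPair X V L)

include p

omit [Finite G] in
/-- `L` is normal in `C(V)`. -/
theorem cen_le_normalizer : centralizer (V : Set G) ≤ normalizer (L : Set G) := by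
  intro g hg
  rw [mem_normalizer_iff_cj]
  apply p.uniq
  have h1 := p.comp.cj g
  rwa [cj_eq_self_of_mem hg] at h1

omit [Finite G] in
/-- `N(V) ≤ N(L)` -/
theorem normalizer_le_normalizer : normalizer (V : Set G) ≤ normalizer (L : Set G) := by
  intro g hg
  rw [mem_normalizer_iff_cj]
  apply p.uniq
  have h1 := p.comp.cj g
  have h2 : cj g (centralizer (V : Set G)) = centralizer (V : Set G) := by
    have h3 := mem_normalizer_iff_cj.mp hg
    ext x
    rw [mem_cj, mem_centralizer_iff, mem_centralizer_iff]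
    constructor
    · intro h v hv
      rw [← h3] at hv
      have h4 := h (g⁻¹ * v * g) (mem_cj.mp hv)
      have h5 : g⁻¹ * (v * x) * g = g⁻¹ * (x * v) * g := by
        calc g⁻¹ * (v * x) * g = g⁻¹ * v * g * (g⁻¹ * x * g) := by group
          _ = g⁻¹ * x * g * (g⁻¹ * v * g) := h4
          _ = g⁻¹ * (x * v) * g := by group
      exact mul_left_cancel (mul_right_cancel h5)
    · intro h v hv
      have h4 := h (g * v * g⁻¹) (by
        rw [← h3]
        exact conj_mem_cj hv)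
      calc v * (g⁻¹ * x * g) = g⁻¹ * (g * v * g⁻¹ * x) * g := by group
        _ = g⁻¹ * (x * (g * v * g⁻¹)) * g := by rw [h4]
        _ = g⁻¹ * x * g * v := by group
  rwa [h2] at h1

omit [Finite G] in
theorem L_comm {l v : G} (hl : l ∈ L) (hv : v ∈ V) : l * v = v * l :=
  (mem_centralizer_iff.mp (p.comp.le hl) v hv).symm

end VPair

/-! ### quadruples -/

/-- `(V, U)` with the element `ρ`. -/
structure Quad (X : Set G) (V L U : Subgroup G) (ρ : G) : Prop extends VPair X V L where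
  odd : ∀ y ∈ X, ¬ EvenCenter (KK y)
  fourU : Four U
  UL : U ≤ L
  mem_L : ρ ∈ L
  map : ∀ u ∈ U, ρ * u * ρ⁻¹ ∈ U
  fpf : ∀ u ∈ U, u ≠ 1 → ρ * u * ρ⁻¹ ≠ u
  self : ∀ a ∈ L, (∀ u ∈ U, a * u = u * a) → ∀ n : ℕ, a ^ 2 ^ n = 1 → a ∈ U

namespace Quad

variable {X : Set G} {V L U : Subgroup G} {ρ : G} {N : ℕ}

section

variable (h : XSet X N) (q : Quad X V L U ρ)

include q

omit [Finite G] in
theorem comm_VU {v u : G} (hv : v ∈ V) (hu : u ∈ U) : v * u = u * v :=
  (q.toVPair.L_comm (q.UL hu) hv).symm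

omit [Finite G] in
theorem mem_E {e : G} : e ∈ V ⊔ U ↔ ∃ v ∈ V, ∃ u ∈ U, e = v * u := by
  constructor
  · intro he
    have h1 : U ≤ normalizer (V : Set G) := by
      intro u hu
      rw [mem_normalizer_iff_cj]
      ext x
      rw [mem_cj]
      constructor
      · intro hx
        have h2 := q.comm_VU hx hu
        have h3 : x = u * (u⁻¹ * x * u) * u⁻¹ := by group
        rw [h3, ← h2]
        have h4 : u⁻¹ * x * u * u * u⁻¹ = u⁻¹ * x * u := by group
        rw [h4]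
        exact hx
      · intro hx
        have h2 := q.comm_VU hx hu
        rw [mul_assoc, h2, inv_mul_cancel_left]
        exact hx
    rw [← SetLike.mem_coe, Subgroup.coe_mul_of_right_le_normalizer_left V U h1] at he
    obtain ⟨v, hv, u, hu, rfl⟩ := Set.mem_mul.mp he
    exact ⟨v, hv, u, hu, rfl⟩
  · rintro ⟨v, hv, u, hu, rfl⟩
    exact mul_mem (mem_sup_left hv) (mem_sup_right hu)

include h

/-- an element of `U` (or any 2-element of `L`) fixing `KK v` is trivial -/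
theorem eq_one_of_fixes {v a : G} (hv : v ∈ V) (hv1 : v ≠ 1) (ha : a ∈ KK v) {n : ℕ}
    (hn : a ^ 2 ^ n = 1) (hf : Fixes a (KK v)) : a = 1 := by
  refine eq_one_of_odd (h.comp v (q.mem v hv hv1)) (q.odd v (q.mem v hv hv1)) hf
    ⟨a, ha, ?_⟩ hn
  rw [inv_mul_cancel]
  exact one_mem _

theorem disj {a : G} (haV : a ∈ V) (haU : a ∈ U) : a = 1 := by
  by_contra ha1
  exact ha1 (q.eq_one_of_fixes h haV ha1 (q.le a haV ha1 (q.UL haU)) (n := 1)
    (by rw [pow_one, pow_two]; exact q.four.sq a haV) (q.fix a haV ha1 a haV))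

/-- `V = C_E(KK v / O)` -/
theorem mem_V_iff {v e : G} (hv : v ∈ V) (hv1 : v ≠ 1) (he : e ∈ V ⊔ U) :
    e ∈ V ↔ Fixes e (KK v) := by
  constructor
  · exact q.fix v hv hv1 e
  · intro hf
    obtain ⟨w, hw, u, hu, rfl⟩ := q.mem_E.mp he
    have h1 : Fixes u (KK v) := by
      have h2 := fixes_mul (fixes_inv (q.fix v hv hv1 w hw)) hf
      rwa [inv_mul_cancel_left] at h2
    have h2 := q.eq_one_of_fixes h hv hv1 (q.le v hv hv1 (q.UL hu)) (n := 1)
      (by rw [pow_one, pow_two]; exact q.fourU.sq u hu) h1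
    rw [h2, mul_one]
    exact hw

/-- `U = E ∩ KK v` -/
theorem mem_U_iff {v e : G} (hv : v ∈ V) (hv1 : v ≠ 1) (he : e ∈ V ⊔ U) :
    e ∈ U ↔ e ∈ KK v := by
  constructor
  · intro he
    exact q.le v hv hv1 (q.UL he)
  · intro hf
    obtain ⟨w, hw, u, hu, rfl⟩ := q.mem_E.mp he
    have h1 : w ∈ KK v := by
      have h2 := mul_mem hf (inv_mem (q.le v hv hv1 (q.UL hu)))
      rwa [mul_inv_cancel_right] at h2
    have h2 := q.eq_one_of_fixes h hv hv1 h1 (n := 1)
      (by rw [pow_one, pow_two]; exact q.four.sq w hw) (q.fix v hv hv1 w hw)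
    rw [h2, one_mul]
    exact hu

omit h [Finite G] in
theorem commE : ∀ a ∈ V ⊔ U, ∀ b ∈ V ⊔ U, a * b = b * a := by
  intro a ha b hb
  obtain ⟨v, hv, u, hu, rfl⟩ := q.mem_E.mp ha
  obtain ⟨v', hv', u', hu', rfl⟩ := q.mem_E.mp hb
  calc v * u * (v' * u') = v * (u * v') * u' := by group
    _ = v * (v' * u) * u' := by rw [q.comm_VU hv' hu]
    _ = (v * v') * (u * u') := by group
    _ = (v' * v) * (u' * u) := by rw [q.four.comm v hv v' hv', q.fourU.comm u hu u' hu']
    _ = v' * (v * u') * u := by group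
    _ = v' * (u' * v) * u := by rw [q.comm_VU hv hu']
    _ = v' * u' * (v * u) := by group

omit h [Finite G] in
theorem sqE : ∀ a ∈ V ⊔ U, a * a = 1 := by
  intro a ha
  obtain ⟨v, hv, u, hu, rfl⟩ := q.mem_E.mp ha
  calc v * u * (v * u) = v * (u * v) * u := by group
    _ = v * (v * u) * u := by rw [q.comm_VU hv hu]
    _ = (v * v) * (u * u) := by group
    _ = 1 := by rw [q.four.sq v hv, q.fourU.sq u hu, one_mul]

theorem cardE : Nat.card (V ⊔ U : Subgroup G) = 16 := by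
  let f : V × U → (V ⊔ U : Subgroup G) := fun p => ⟨p.1 * p.2, q.mem_E.mpr ⟨_, p.1.2, _, p.2.2, rfl⟩⟩
  have hf : Function.Bijective f := by
    constructor
    · rintro ⟨⟨v, hv⟩, ⟨u, hu⟩⟩ ⟨⟨v', hv'⟩, ⟨u', hu'⟩⟩ he
      have h1 : v * u = v' * u' := congrArg Subtype.val he
      have h2 : v'⁻¹ * v = u' * u⁻¹ := by
        rw [inv_mul_eq_iff_eq_mul, ← mul_assoc, ← h1, mul_inv_cancel_right]
      have h3 := q.disj h (mul_mem (inv_mem hv') hv) (by rw [h2]; exact mul_mem hu' (inv_mem hu))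
      have h4 : v = v' := (inv_mul_eq_one.mp h3).symm
      rw [h3] at h2
      have h5 : u' = u := mul_inv_eq_one.mp h2.symm
      subst h4 h5
      rfl
    · rintro ⟨e, he⟩
      obtain ⟨v, hv, u, hu, rfl⟩ := q.mem_E.mp he
      exact ⟨(⟨v, hv⟩, ⟨u, hu⟩), rfl⟩
  rw [← Nat.card_congr (Equiv.ofBijective f hf), Nat.card_prod, q.four.card, q.fourU.card]

theorem stab {g : G} (hg : g ∈ normalizer ((V ⊔ U : Subgroup G) : Set G)) {v : G} (hv : v ∈ V)
    (hv1 : v ≠ 1) (hgv : g * v * g⁻¹ ∈ V) : cj g V = V ∧ cj g U = U := by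
  have hgv1 : g * v * g⁻¹ ≠ 1 := by
    intro h1
    apply hv1
    have e : v = g⁻¹ * (g * v * g⁻¹) * g := by group
    rw [e, h1]; group
  have hK : cj g (KK v) = KK (g * v * g⁻¹) := h.toXBase.cj_KK (q.mem v hv hv1) g
  have hgE : ∀ e ∈ V ⊔ U, g * e * g⁻¹ ∈ V ⊔ U := fun e he => (mem_normalizer_iff.mp hg e).mp he
  constructor
  · apply Subgroup.eq_of_le_of_card_ge
    · rintro _ ⟨w, hw, rfl⟩
      change g * w * g⁻¹ ∈ V
      rw [q.mem_V_iff h hgv hgv1 (hgE w (mem_sup_left hw)), ← hK]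
      exact (q.fix v hv hv1 w hw).cj g
    · rw [q.four.card, (q.four.cj g).card]
  · apply Subgroup.eq_of_le_of_card_ge
    · rintro _ ⟨u, hu, rfl⟩
      change g * u * g⁻¹ ∈ U
      rw [q.mem_U_iff h hgv hgv1 (hgE u (mem_sup_right hu)), ← hK]
      exact conj_mem_cj (q.le v hv hv1 (q.UL hu))
    · rw [q.fourU.card, (q.fourU.cj g).card]

/-- **The configuration of the trichotomy.** -/
theorem tri : Tri (V ⊔ U) V U ρ where
  comm := q.commE
  sq := q.sqE
  VE := le_sup_left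
  UE := le_sup_right
  cardE := q.cardE h
  cardV := q.four.card
  cardU := q.fourU.card
  disj := fun a ha hb => q.disj h ha hb
  stab := fun g hg v hv hv1 hgv => q.stab h hg hv hv1 hgv
  norm := by
    rw [mem_normalizer_iff_cj]
    have h1 : cj ρ V = V := by
      apply Subgroup.eq_of_le_of_card_ge
      · rintro _ ⟨w, hw, rfl⟩
        change ρ * w * ρ⁻¹ ∈ V
        rw [q.toVPair.L_comm q.mem_L hw, mul_inv_cancel_right]
        exact hw
      · rw [q.four.card, (q.four.cj ρ).card]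
    have h2 : cj ρ U = U := by
      apply Subgroup.eq_of_le_of_card_ge
      · rintro _ ⟨w, hw, rfl⟩
        exact q.map w hw
      · rw [q.fourU.card, (q.fourU.cj ρ).card]
    have h3 : cj ρ (V ⊔ U) = cj ρ V ⊔ cj ρ U := Subgroup.map_sup _ _ _
    rw [h3, h1, h2]
  cen := by
    intro v hv
    rw [q.toVPair.L_comm q.mem_L hv, mul_inv_cancel_right]
  map := q.map
  fpf := q.fpf

end

/-! ### (L2): `E` is self-centralizing -/

/-- an involution centralizing the elementary abelian `E` of order 16 is in `E` -/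
theorem mem_of_comm {E : Subgroup G} (hr : PRankLE 2 4 G) (hE : Nat.card E = 16)
    (hc : ∀ a ∈ E, ∀ b ∈ E, a * b = b * a) (hs : ∀ a ∈ E, a * a = 1) {t : G} (ht : t * t = 1)
    (htE : ∀ e ∈ E, t * e = e * t) : t ∈ E := by
  by_contra htn
  have ht' : t⁻¹ = t := inv_eq_of_mul_eq_one_left ht
  let F : Subgroup G :=
    { carrier := {x | x ∈ E ∨ ∃ e ∈ E, x = t * e}
      one_mem' := Or.inl E.one_mem
      mul_mem' := by
        rintro a b (ha | ⟨a, ha, rfl⟩) (hb | ⟨b, hb, rfl⟩)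
        · exact Or.inl (E.mul_mem ha hb)
        · refine Or.inr ⟨_, E.mul_mem ha hb, ?_⟩
          rw [← mul_assoc, ← htE a ha, mul_assoc]
        · refine Or.inr ⟨_, E.mul_mem ha hb, ?_⟩
          rw [mul_assoc]
        · left
          have h1 : t * a * (t * b) = a * b := by
            rw [htE a ha, mul_assoc, ← mul_assoc t, ht, one_mul]
          rw [h1]
          exact E.mul_mem ha hb
      inv_mem' := by
        rintro a (ha | ⟨a, ha, rfl⟩)
        · exact Or.inl (E.inv_mem ha)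
        · refine Or.inr ⟨_, E.inv_mem ha, ?_⟩
          rw [mul_inv_rev, ht', htE _ (E.inv_mem ha)] }
  have hF : ∀ x, x ∈ F ↔ x ∈ E ∨ ∃ e ∈ E, x = t * e := fun x => Iff.rfl
  have hEF : E ≤ F := fun x hx => (hF x).2 (Or.inl hx)
  have htF : t ∈ F := (hF t).2 (Or.inr ⟨1, E.one_mem, (mul_one t).symm⟩)
  have hcomm : ∀ a ∈ F, ∀ b ∈ F, a * b = b * a := by
    rintro a (ha | ⟨a, ha, rfl⟩) b (hb | ⟨b, hb, rfl⟩)
    · exact hc a ha b hb
    · rw [← mul_assoc, ← htE a ha, mul_assoc, hc a ha b hb, mul_assoc]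
    · rw [mul_assoc, hc a ha b hb, ← mul_assoc, htE b hb, mul_assoc]
    · have h1 : t * a * (t * b) = a * b := by
        rw [htE a ha, mul_assoc, ← mul_assoc t, ht, one_mul]
      have h2 : t * b * (t * a) = b * a := by
        rw [htE b hb, mul_assoc, ← mul_assoc t, ht, one_mul]
      rw [h1, h2, hc a ha b hb]
  have hsq : ∀ a ∈ F, a ^ 2 = 1 := by
    rintro a (ha | ⟨a, ha, rfl⟩)
    · rw [pow_two, hs a ha]
    · rw [pow_two]
      have h1 : t * a * (t * a) = a * a := by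
        nth_rw 1 [htE a ha]
        rw [mul_assoc, ← mul_assoc t, ht, one_mul]
      rw [h1, hs a ha]
  have h1 := hr F ⟨⟨fun a b => Subtype.ext (hcomm a a.2 b b.2)⟩⟩ hsq
  have h2 : E < F := lt_of_le_of_ne hEF fun he => htn (he ▸ htF)
  have h3 := Subgroup.card_mul_index (E.subgroupOf F)
  rw [Nat.card_congr (subgroupOfEquivOfLe hEF).toEquiv, hE] at h3
  have h4 : (E.subgroupOf F).index ≠ 1 := by
    intro h5
    rw [Subgroup.index_eq_one, subgroupOf_eq_top] at h5
    exact h2.not_ge h5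
  have h5 : (E.subgroupOf F).index ≠ 0 := Subgroup.index_ne_zero_of_finite
  have h6 : 2 ≤ (E.subgroupOf F).index := by omega
  have h7 : (2 : ℕ) ^ 4 = 16 := by norm_num
  rw [← h3, h7] at h1
  linarith only [h1, h6]

section

variable (h : XSet X N) (q : Quad X V L U ρ)

include h q

/-- A Sylow 2-subgroup `P` of `C(E)` (as a subgroup of `G`) is normalized by an element `l ∈ L` acting on
`E` as `ρ`. -/
theorem exists_l {E C P' : Subgroup G} (hE : E = V ⊔ U) (hC : C = centralizer (E : Set G))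
    (P : Sylow 2 C) (hP' : P' = (P : Subgroup C).map C.subtype) :
    ∃ l ∈ L, (∀ x ∈ P', l * x * l⁻¹ ∈ P') ∧ ∀ e ∈ E, l * e * l⁻¹ = ρ * e * ρ⁻¹ := by
  have t := q.tri h
  rw [← hE] at t
  have hP'C : P' ≤ C := hP' ▸ map_subtype_le _
  have hVE : V ≤ E := hE ▸ le_sup_left
  have hCV : C ≤ centralizer (V : Set G) := hC ▸ Subgroup.centralizer_le hVE
  have hP'L : P' ≤ normalizer (L : Set G) := (hP'C.trans hCV).trans q.cen_le_normalizer
  have hρC : cj ρ C = C := by
    have h1 := mem_normalizer_iff_cj.mp t.norm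
    ext x
    rw [mem_cj, hC, mem_centralizer_iff, mem_centralizer_iff]
    constructor
    · intro hx v hv
      rw [← h1] at hv
      have h4 := hx (ρ⁻¹ * v * ρ) (mem_cj.mp hv)
      have h5 : ρ⁻¹ * (v * x) * ρ = ρ⁻¹ * (x * v) * ρ := by
        calc ρ⁻¹ * (v * x) * ρ = ρ⁻¹ * v * ρ * (ρ⁻¹ * x * ρ) := by group
          _ = ρ⁻¹ * x * ρ * (ρ⁻¹ * v * ρ) := h4
          _ = ρ⁻¹ * (x * v) * ρ := by group
      exact mul_left_cancel (mul_right_cancel h5)
    · intro hx v hv
      have h4 := hx (ρ * v * ρ⁻¹) (by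
        rw [← h1]
        exact conj_mem_cj hv)
      calc v * (ρ⁻¹ * x * ρ) = ρ⁻¹ * (ρ * v * ρ⁻¹ * x) * ρ := by group
        _ = ρ⁻¹ * (x * (ρ * v * ρ⁻¹)) * ρ := by rw [h4]
        _ = ρ⁻¹ * x * ρ * v := by group
  -- the group `M = C ∩ L P'`
  have hPM : (P : Subgroup C) ≤ (L ⊔ P').subgroupOf C := by
    intro x hx
    rw [mem_subgroupOf]
    exact mem_sup_right (hP' ▸ ⟨x, hx, rfl⟩)
  have hRM : (cj ρ P').subgroupOf C ≤ (L ⊔ P').subgroupOf C := by
    rintro x hx
    rw [mem_subgroupOf] at hx ⊢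
    obtain ⟨y, hy, hyx⟩ := hx
    rw [← hyx]
    change ρ * y * ρ⁻¹ ∈ L ⊔ P'
    exact mul_mem (mul_mem (mem_sup_left q.mem_L) (mem_sup_right hy))
      (inv_mem (mem_sup_left q.mem_L))
  have hRp : IsPGroup 2 ((cj ρ P').subgroupOf C) := by
    have h1 : IsPGroup 2 P' := hP' ▸ P.2.map _
    have h2 : IsPGroup 2 (cj ρ P') := h1.map _
    exact h2.comap_subtype
  obtain ⟨n, hn, hnP⟩ := L2W.conj_into P hPM hRM hRp
  have hn1 : ∀ x ∈ P', (n : G) * ρ * x * ((n : G) * ρ)⁻¹ ∈ P' := by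
    intro x hx
    have h1 : ρ * x * ρ⁻¹ ∈ C := by
      rw [← hρC]
      exact conj_mem_cj (hP'C hx)
    have h2 := hnP ⟨ρ * x * ρ⁻¹, h1⟩ (conj_mem_cj hx)
    rw [hP']
    refine ⟨_, h2, ?_⟩
    change (n : G) * (ρ * x * ρ⁻¹) * (n : G)⁻¹ = _
    group
  -- `n ρ = l p₀`
  have hnρ : (n : G) * ρ ∈ L ⊔ P' := mul_mem hn (mem_sup_left q.mem_L)
  rw [← SetLike.mem_coe, Subgroup.coe_mul_of_right_le_normalizer_left L P' hP'L] at hnρ
  obtain ⟨l, hl, p₀, hp₀, hlp⟩ := Set.mem_mul.mp hnρ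
  have hl' : l = (n : G) * ρ * p₀⁻¹ := by rw [← hlp, mul_inv_cancel_right]
  refine ⟨l, hl, ?_, ?_⟩
  · intro x hx
    have h1 := hn1 _ (mul_mem (mul_mem (inv_mem hp₀) hx) hp₀)
    have e : l * x * l⁻¹ = (n : G) * ρ * (p₀⁻¹ * x * p₀) * ((n : G) * ρ)⁻¹ := by
      rw [hl']; group
    rw [e]
    exact h1
  · intro e he
    have h1 : p₀⁻¹ * e * p₀ = e := by
      have h2 := mem_centralizer_iff.mp (hC ▸ hP'C hp₀) e he
      rw [mul_assoc, h2, inv_mul_cancel_left]
    have h2 : ρ * e * ρ⁻¹ ∈ E := (mem_normalizer_iff.mp t.norm e).mp he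
    have h3 : (n : G) * (ρ * e * ρ⁻¹) * (n : G)⁻¹ = ρ * e * ρ⁻¹ := by
      have h4 := mem_centralizer_iff.mp (hC.le n.2) _ h2
      rw [← h4, mul_inv_cancel_right]
    have e1 : l * e * l⁻¹ = (n : G) * (ρ * (p₀⁻¹ * e * p₀) * ρ⁻¹) * (n : G)⁻¹ := by
      rw [hl']; group
    rw [e1, h1, h3]

/-- **(L2)** If `V` is not normal in `N(E)` then the 2-elements of `C(E)` are in `E`. -/
theorem cen_E (hr : PRankLE 2 4 G)
    (hmove : ∃ g ∈ normalizer ((V ⊔ U : Subgroup G) : Set G), cj g V ≠ V) :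
    ∀ a : G, (∀ e ∈ V ⊔ U, a * e = e * a) → ∀ n : ℕ, a ^ 2 ^ n = 1 → a ∈ V ⊔ U := by
  classical
  have t := q.tri h
  obtain ⟨E, hE⟩ : ∃ E : Subgroup G, E = V ⊔ U := ⟨_, rfl⟩
  rw [← hE] at t hmove ⊢
  obtain ⟨C, hC⟩ : ∃ C : Subgroup G, C = centralizer (E : Set G) := ⟨_, rfl⟩
  obtain ⟨P⟩ : Nonempty (Sylow 2 C) := inferInstance
  obtain ⟨P', hP'⟩ : ∃ P' : Subgroup G, P' = (P : Subgroup C).map C.subtype := ⟨_, rfl⟩
  obtain ⟨l, hl, hlP, hlE⟩ := q.exists_l h hE hC P hP'
  have hP'C : P' ≤ C := hP' ▸ map_subtype_le _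
  have hVE : V ≤ E := hE ▸ le_sup_left
  have hUE : U ≤ E := hE ▸ le_sup_right
  have hPcomm : ∀ x ∈ P', ∀ e ∈ E, x * e = e * x := fun x hx e he =>
    (mem_centralizer_iff.mp (hC ▸ hP'C hx) e he).symm
  have hPp : IsPGroup 2 P' := hP' ▸ P.2.map _
  have hP2 : ∀ x ∈ P', ∃ k : ℕ, x ^ 2 ^ k = 1 := by
    intro x hx
    obtain ⟨k, hk⟩ := hPp ⟨x, hx⟩
    exact ⟨k, congrArg Subtype.val hk⟩
  -- `E ≤ P'`
  have hEC : E ≤ C := by
    intro e he
    rw [hC, mem_centralizer_iff]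
    intro b hb
    exact t.comm b hb e he
  have hEP : E ≤ P' := by
    have h1 : (E.subgroupOf C).Normal := by
      refine ⟨fun e he c => ?_⟩
      rw [mem_subgroupOf] at he ⊢
      have h2 := mem_centralizer_iff.mp (hC.le c.2) _ he
      change (c : G) * e * (c : G)⁻¹ ∈ E
      rw [← h2, mul_inv_cancel_right]
      exact he
    have h2 : IsPGroup 2 (E.subgroupOf C) := by
      rintro ⟨x, hx⟩
      refine ⟨1, ?_⟩
      rw [mem_subgroupOf] at hx
      apply Subtype.ext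
      apply Subtype.ext
      simpa only [pow_two, _root_.pow_one, _root_.MulMemClass.mk_mul_mk, _root_.Subgroup.coe_mul, _root_.OneMemClass.coe_one] using t.sq _ hx
    have h3 : IsPGroup 2 ((P : Subgroup C) ⊔ E.subgroupOf C : Subgroup C) :=
      P.2.to_sup_of_normal_right h2
    have h4 := P.3 h3 le_sup_left
    intro e he
    rw [hP']
    refine ⟨⟨e, hEC he⟩, ?_, rfl⟩
    have h5 : (⟨e, hEC he⟩ : C) ∈ (P : Subgroup C) ⊔ E.subgroupOf C := mem_sup_right he
    rw [h4] at h5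
    exact h5
  have hP'V : ∀ x ∈ P', x ∈ normalizer (L : Set G) := fun x hx =>
    q.cen_le_normalizer (Subgroup.centralizer_le hVE (hC ▸ hP'C hx))
  -- `[l, x] ∈ U`
  have hcU : ∀ x ∈ P', l * x * l⁻¹ * x⁻¹ ∈ U := by
    intro x hx
    have h1 : l * x * l⁻¹ * x⁻¹ ∈ P' := mul_mem (hlP x hx) (inv_mem hx)
    obtain ⟨k, hk⟩ := hP2 _ h1
    refine q.self _ ?_ ?_ k hk
    · have h2 : x * l⁻¹ * x⁻¹ ∈ L := (mem_normalizer_iff.mp (hP'V x hx) _).mp (inv_mem hl)
      have e : l * x * l⁻¹ * x⁻¹ = l * (x * l⁻¹ * x⁻¹) := by group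
      rw [e]
      exact mul_mem hl h2
    · intro u hu
      exact hPcomm _ h1 u (hUE hu)
  -- decomposition `P' = U × C_{P'}(l)`
  have hdec : ∀ x ∈ P', ∃ u ∈ U, l * (u * x) * l⁻¹ = u * x := by
    intro x hx
    have hw := hcU x hx
    set w : G := l * x * l⁻¹ * x⁻¹ with hwdef
    -- `u = ρ w ρ⁻¹`
    refine ⟨ρ * w * ρ⁻¹, q.map w hw, ?_⟩
    have h1 : l * (ρ * w * ρ⁻¹) * l⁻¹ = w * (ρ * w * ρ⁻¹) := by
      rw [hlE _ (hUE (q.map w hw)), q.fourU.rho_sq q.map q.fpf hw]
    have h2 : l * x * l⁻¹ = w * x := by rw [hwdef]; group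
    have e : l * (ρ * w * ρ⁻¹ * x) * l⁻¹ = (l * (ρ * w * ρ⁻¹) * l⁻¹) * (l * x * l⁻¹) := by group
    rw [e, h1, h2]
    have h3 := q.fourU.comm w hw _ (q.map w hw)
    calc w * (ρ * w * ρ⁻¹) * (w * x) = (ρ * w * ρ⁻¹ * w) * (w * x) := by rw [h3]
      _ = ρ * w * ρ⁻¹ * (w * w) * x := by group
      _ = ρ * w * ρ⁻¹ * x := by rw [q.fourU.sq w hw, mul_one]
  -- involutions of `P'` commuting with `l` are in `V`
  have hinv : ∀ x ∈ P', x * x = 1 → l * x * l⁻¹ = x → x ∈ V := by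
    intro x hx hx2 hxl
    have h1 := mem_of_comm hr t.cardE t.comm t.sq hx2 (hPcomm x hx)
    obtain ⟨v, hv, u, hu, rfl⟩ := q.mem_E.mp (hE ▸ h1)
    rw [hlE _ h1] at hxl
    have h2 : ρ * (v * u) * ρ⁻¹ = (ρ * v * ρ⁻¹) * (ρ * u * ρ⁻¹) := by group
    rw [h2, t.cen v hv] at hxl
    have h3 := mul_left_cancel hxl
    by_cases hu1 : u = 1
    · rw [hu1, mul_one]; exact hv
    · exact absurd h3 (q.fpf u hu hu1)
  -- main step
  have hPE : P' ≤ E := by
    by_contra hcon
    obtain ⟨x₀, hx₀, hx₀E⟩ := SetLike.not_le_iff_exists.mp hcon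
    obtain ⟨u₀, hu₀, hz⟩ := hdec x₀ hx₀
    set z := u₀ * x₀ with hzdef
    have hzP : z ∈ P' := mul_mem (hEP (hUE hu₀)) hx₀
    have hz2 : z * z ≠ 1 := by
      intro h1
      have h2 := mem_of_comm hr t.cardE t.comm t.sq h1 (hPcomm z hzP)
      apply hx₀E
      have h3 := E.mul_mem (E.inv_mem (hUE hu₀)) h2
      rwa [hzdef, inv_mul_cancel_left] at h3
    -- the largest `m` with a nontrivial `2^m`-th power
    let Pr : ℕ → Prop := fun k => ∃ x ∈ P', x ^ 2 ^ k ≠ 1
    obtain ⟨K, hK⟩ : ∃ K : ℕ, ∀ k, Pr k → k ≤ K := by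
      obtain ⟨K, hK⟩ := IsPGroup.iff_card.mp hPp
      refine ⟨K, ?_⟩
      rintro k ⟨x, hx, hxk⟩
      by_contra hlt
      push Not at hlt
      apply hxk
      have h1 : orderOf x ∣ 2 ^ K := by
        rw [← hK]
        exact Subgroup.orderOf_dvd_natCard P' hx
      exact orderOf_dvd_iff_pow_eq_one.mp (h1.trans (pow_dvd_pow 2 hlt.le))
    have h1P : Pr 1 := ⟨z, hzP, by rw [pow_one, pow_two]; exact hz2⟩
    obtain ⟨m, hm1, hPm, hmmax⟩ : ∃ m, 1 ≤ m ∧ Pr m ∧ ∀ k, Pr k → k ≤ m := by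
      classical
      refine ⟨Nat.findGreatest Pr K, Nat.le_findGreatest (hK 1 h1P) h1P,
        Nat.findGreatest_spec (hK 1 h1P) h1P, fun k hk => Nat.le_findGreatest (hK k hk) hk⟩
    have hmm : ∀ x ∈ P', x ^ 2 ^ (m + 1) = 1 := by
      intro x hx
      by_contra hx1
      have := hmmax (m + 1) ⟨x, hx, hx1⟩
      omega
    have hpowV : ∀ x ∈ P', x ^ 2 ^ m ∈ V := by
      intro x hx
      obtain ⟨u, hu, hux⟩ := hdec x hx
      have huxP : u * x ∈ P' := mul_mem (hEP (hUE hu)) hx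
      have hcomm : Commute u x := (hPcomm x hx u (hUE hu)).symm
      have h2 : (u * x) ^ 2 ^ m = x ^ 2 ^ m := by
        rw [hcomm.mul_pow]
        obtain ⟨m', rfl⟩ : ∃ m', m = m' + 1 := ⟨m - 1, by omega⟩
        have h3 : u ^ 2 ^ (m' + 1) = 1 := by
          rw [pow_succ, mul_comm, pow_mul, pow_two, q.fourU.sq u hu, one_pow]
        rw [h3, one_mul]
      rw [← h2]
      apply hinv
      · exact pow_mem huxP _
      · rw [← pow_two, ← pow_mul, ← pow_succ]
        exact hmm _ huxP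
      · have h3 : l * (u * x) ^ 2 ^ m * l⁻¹ = (l * (u * x) * l⁻¹) ^ 2 ^ m := by
          rw [conj_pow]
        rw [h3, hux]
    obtain ⟨x, hx, hxm⟩ := hPm
    obtain ⟨g, hg, hgV⟩ := hmove
    apply hgV
    -- a conjugate
    have hgC : ∀ y ∈ C, g * y * g⁻¹ ∈ C := by
      intro y hy
      rw [hC, mem_centralizer_iff] at hy ⊢
      intro e he
      have h1 : g⁻¹ * e * g ∈ E := by
        have h2 := (mem_normalizer_iff.mp (inv_mem hg) e).mp he
        rwa [inv_inv] at h2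
      have h2 := hy _ h1
      calc e * (g * y * g⁻¹) = g * (g⁻¹ * e * g * y) * g⁻¹ := by group
        _ = g * (y * (g⁻¹ * e * g)) * g⁻¹ := by rw [h2]
        _ = g * y * g⁻¹ * e := by group
    have hRp : IsPGroup 2 ((cj g P').subgroupOf C) := by
      have h2 : IsPGroup 2 (cj g P') := hPp.map _
      exact h2.comap_subtype
    obtain ⟨n, -, hnP⟩ := L2W.conj_into P (le_top : (P : Subgroup C) ≤ ⊤) (le_top) hRp
    have h1 := hnP ⟨g * x * g⁻¹, hgC x (hP'C hx)⟩ (conj_mem_cj hx)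
    have h2 : (n : G) * (g * x * g⁻¹) * (n : G)⁻¹ ∈ P' := hP' ▸ ⟨_, h1, rfl⟩
    have h3 := hpowV _ h2
    have h4 : g * (x ^ 2 ^ m) * g⁻¹ ∈ E :=
      (mem_normalizer_iff.mp hg _).mp (hVE (hpowV x hx))
    have h5 : ((n : G) * (g * x * g⁻¹) * (n : G)⁻¹) ^ 2 ^ m = g * (x ^ 2 ^ m) * g⁻¹ := by
      rw [conj_pow, conj_pow]
      have h6 := mem_centralizer_iff.mp (hC.le n.2) _ h4
      rw [← h6, mul_inv_cancel_right]
    rw [h5] at h3
    exact (t.stab g hg _ (hpowV x hx) hxm h3).1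
  -- conclusion
  intro a ha n hn
  have haC : a ∈ C := by
    rw [hC, mem_centralizer_iff]
    intro e he
    exact (ha e he).symm
  have hRp : IsPGroup 2 ((zpowers a).subgroupOf C) := by
    have h2 : IsPGroup 2 (zpowers a) := by
      rw [IsPGroup.iff_card]
      have h3 : Nat.card (zpowers a) ∣ 2 ^ n := by
        rw [Nat.card_zpowers]
        exact orderOf_dvd_of_pow_eq_one hn
      exact ((Nat.dvd_prime_pow Nat.prime_two).mp h3).imp fun k hk => hk.2
    exact h2.comap_subtype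
  obtain ⟨c, -, hcP⟩ := L2W.conj_into P (le_top : (P : Subgroup C) ≤ ⊤) (le_top) hRp
  have h1 := hcP ⟨a, haC⟩ (mem_zpowers a)
  have h2 : (c : G) * a * (c : G)⁻¹ ∈ E := hPE (hP' ▸ ⟨_, h1, rfl⟩)
  have h3 := mem_centralizer_iff.mp (hC.le c.2) _ h2
  have h4 : a = (c : G)⁻¹ * ((c : G) * a * (c : G)⁻¹) * c := by group
  rw [h4, mul_assoc, h3, inv_mul_cancel_left]
  exact h2

end

/-! ### (L3): the structure of `C(v)` in case `(T4)` -/

omit [Finite G] in
/-- A 2-subgroup `R` of `L` is `L`-conjugate into every subgroup `M` of odd index. -/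
theorem conj_into_odd {L M R : Subgroup G} (hodd : Odd (M.relIndex L)) (hR : IsPGroup 2 R)
    (hRL : R ≤ L) : ∃ l ∈ L, ∀ r ∈ R, l⁻¹ * r * l ∈ M := by
  have : Fact (Nat.Prime 2) := ⟨Nat.prime_two⟩
  have hR' : IsPGroup 2 (R.subgroupOf L) := hR.comap_subtype
  have h1 : ¬ 2 ∣ Nat.card (L ⧸ M.subgroupOf L) := by
    intro h2
    have h3 : Odd (Nat.card (L ⧸ M.subgroupOf L)) := hodd
    exact (Nat.not_even_iff_odd.mpr h3) (even_iff_two_dvd.mpr h2)
  obtain ⟨x, hx⟩ := hR'.nonempty_fixed_point_of_prime_not_dvd_card _ h1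
  obtain ⟨l, rfl⟩ := QuotientGroup.mk_surjective x
  refine ⟨l, l.2, fun r hr => ?_⟩
  have h2 := hx ⟨⟨r, hRL hr⟩, mem_subgroupOf.mpr hr⟩
  have h3 : ((⟨r, hRL hr⟩ * l : L) : L ⧸ M.subgroupOf L) = (l : L ⧸ M.subgroupOf L) := h2
  have h4 := QuotientGroup.eq.mp h3.symm
  rw [mem_subgroupOf] at h4
  have h5 : (l : G)⁻¹ * r * l = (l : G)⁻¹ * (r * l) := by group
  rw [h5]
  exact h4

/-- `M` covers `L / O(L)`: it has odd index. -/
theorem odd_relIndex {M L : Subgroup G} (hs : M ⊔ core L = L) : Odd (M.relIndex L) := by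
  have hML : M ≤ L := by rw [← hs]; exact le_sup_left
  let f : M →* Bar L := (QuotientGroup.mk' (oddCore ↥L)).comp (inclusion hML)
  have hf : Function.Surjective f := by
    intro y
    obtain ⟨⟨x, hx⟩, rfl⟩ := QuotientGroup.mk'_surjective _ y
    obtain ⟨j, hj, hc⟩ := exists_mul_of_sup hs hx
    exact ⟨⟨j, hj⟩, mk_eq_mk_iff.mpr hc⟩
  have h1 : Nat.card M = Nat.card f.ker * Nat.card (Bar L) := by
    rw [← Subgroup.card_mul_index f.ker, Subgroup.index_ker, MonoidHom.range_eq_top.mpr hf,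
      Subgroup.card_top]
  have h2 : Nat.card L = Nat.card (oddCore ↥L) * Nat.card (Bar L) :=
    (Subgroup.card_mul_index (oddCore ↥L)).symm
  have h3 : Nat.card M * M.relIndex L = Nat.card L := by
    have h4 := Subgroup.card_mul_index (M.subgroupOf L)
    rwa [Nat.card_congr (subgroupOfEquivOfLe hML).toEquiv] at h4
  rw [h1, h2] at h3
  have h5 : 0 < Nat.card (Bar L) := Nat.card_pos
  have h6 : Nat.card f.ker * M.relIndex L = Nat.card (oddCore ↥L) := by
    apply Nat.eq_of_mul_eq_mul_right h5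
    rw [← h3]
    ring
  have h7 : Odd (Nat.card (oddCore ↥L)) := Nat.coprime_two_right.1 (Cores.pPrimeCore_coprime 2)
  exact h7.of_dvd_nat (Dvd.intro_left _ h6)

omit [Finite G] in
/-- A 2-element normalizing a four-group fixes one of its involutions. -/
theorem _root_.Cfsg.Agent.GH.L2Tri.Four.exists_fixed {V : Subgroup G} (hV : Four V) {t : G}
    (ht : ∀ v ∈ V, t * v * t⁻¹ ∈ V) {n : ℕ} (hn : t ^ 2 ^ n = 1) :
    ∃ v ∈ V, v ≠ 1 ∧ t * v * t⁻¹ = v := by
  by_contra hcon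
  push Not at hcon
  have h1 : ∀ v ∈ V, (t ^ 3) * v = v * t ^ 3 := by
    intro v hv
    have h2 := hV.rho_cube ht hcon hv
    have e : t * (t * (t * v * t⁻¹) * t⁻¹) * t⁻¹ = (t ^ 3) * v * (t ^ 3)⁻¹ := by
      rw [pow_succ, pow_two]
      group
    rw [e, mul_inv_eq_iff_eq_mul] at h2
    exact h2
  have h2 : Nat.Coprime 3 (orderOf t) := by
    have h3 : orderOf t ∣ 2 ^ n := orderOf_dvd_of_pow_eq_one hn
    exact Nat.Coprime.coprime_dvd_right h3 (Nat.Coprime.pow_right n (by norm_num))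
  obtain ⟨m, hm⟩ := exists_pow_eq_self_of_coprime h2
  obtain ⟨v, hv, hv1⟩ := hV.exists_ne
  apply hcon v hv hv1
  have h3 : Commute (t ^ 3) v := h1 v hv
  have h4 := h3.pow_left m
  rw [hm] at h4
  rw [h4.eq, mul_inv_cancel_right]

section

variable (h : XSet X N) (q : Quad X V L U ρ)

include h q

/-- **(L3)** `(T4)`: a 2-group `R ≥ V` centralizing `v ∈ V#` and fixing `KK v` is `V`. -/
theorem t4_Q (hr : PRankLE 2 4 G) (t4 : T4 (V ⊔ U) V U ρ) {v : G} (hv : v ∈ V) (hv1 : v ≠ 1)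
    {R : Subgroup G} (hR : IsPGroup 2 R) (hVR : V ≤ R) (hRv : ∀ r ∈ R, r * v = v * r)
    (hRf : ∀ r ∈ R, Fixes r (KK v)) : R = V := by
  have : Fact (Nat.Prime 2) := ⟨Nat.prime_two⟩
  have tt := q.tri h
  by_contra hne
  have hlt : V < R := lt_of_le_of_ne hVR (Ne.symm hne)
  -- an element of `R - V` normalizing `V`
  obtain ⟨t, ht, htV, htN⟩ : ∃ t ∈ R, t ∉ V ∧ t ∈ normalizer (V : Set G) := by
    have h1 : V.subgroupOf R ≠ ⊤ := by
      intro h2
      rw [subgroupOf_eq_top] at h2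
      exact hlt.not_ge h2
    have hfin : Finite R := inferInstance
    have h2 : Group.IsNilpotent R := hR.isNilpotent
    have h3 := Group.normalizerCondition_of_isNilpotent (G := R)
    have h4 := h3 (V.subgroupOf R) (lt_top_iff_ne_top.mpr h1)
    obtain ⟨t, ht, htn⟩ := SetLike.exists_of_lt h4
    refine ⟨t, t.2, fun h5 => htn (mem_subgroupOf.mpr h5), ?_⟩
    rw [mem_normalizer_iff] at ht ⊢
    intro x
    constructor
    · intro hx
      exact (ht ⟨x, hVR hx⟩).mp hx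
    · intro hx
      have h5 : (t : G)⁻¹ * ((t : G) * x * (t : G)⁻¹) * t ∈ R :=
        mul_mem (mul_mem (inv_mem t.2) (hVR hx)) t.2
      have h6 : (t : G)⁻¹ * ((t : G) * x * (t : G)⁻¹) * t = x := by group
      rw [h6] at h5
      exact (ht ⟨x, h5⟩).mpr hx
  obtain ⟨n, hn⟩ : ∃ n : ℕ, t ^ 2 ^ n = 1 := by
    obtain ⟨n, hn⟩ := hR ⟨t, ht⟩
    exact ⟨n, congrArg Subtype.val hn⟩
  have htL : t ∈ normalizer (L : Set G) := q.toVPair.normalizer_le_normalizer htN
  have hfL : Fixes t L := (fixes_iff_of_sup (q.sup v hv hv1) htL (hRf t ht).1).mpr (hRf t ht)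
  -- `C_L(t)` covers
  have hWp : IsPGroup 2 (zpowers t) := hR.to_le ((zpowers_le).mpr ht)
  have hcov := inf_centralizer_sup (X := L) hWp (by
    intro w hw
    obtain ⟨k, rfl⟩ := mem_zpowers_iff.mp hw
    exact (fixer L).zpow_mem hfL k)
  obtain ⟨l, hl, hlU⟩ := conj_into_odd (odd_relIndex hcov) (R := U) (by
    rintro ⟨u, hu⟩
    refine ⟨1, ?_⟩
    apply Subtype.ext
    simpa only [pow_two, _root_.pow_one, _root_.MulMemClass.mk_mul_mk, _root_.OneMemClass.coe_one] using q.fourU.sq u hu) q.UL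
  -- `t' = l t l⁻¹` centralizes `U`
  set t' : G := l * t * l⁻¹ with ht'
  have hU' : ∀ u ∈ U, t' * u * t'⁻¹ = u := by
    intro u hu
    have h1 := mem_centralizer_iff.mp (hlU u hu).2 t (mem_zpowers t)
    have e : t' * u * t'⁻¹ = l * (t * (l⁻¹ * u * l)) * t⁻¹ * l⁻¹ := by rw [ht']; group
    rw [e, h1]
    group
  have hl' : ∀ w ∈ V, l⁻¹ * w * l = w := by
    intro w hw
    have h1 := q.toVPair.L_comm (inv_mem hl) hw
    rw [h1, inv_mul_cancel_right]
  have hlV : ∀ w ∈ V, l * w * l⁻¹ = w := by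
    intro w hw
    rw [q.toVPair.L_comm hl hw, mul_inv_cancel_right]
  have ht'V : ∀ w ∈ V, t' * w * t'⁻¹ = t * w * t⁻¹ := by
    intro w hw
    have e : t' * w * t'⁻¹ = l * (t * (l⁻¹ * w * l) * t⁻¹) * l⁻¹ := by rw [ht']; group
    rw [e, hl' w hw]
    exact hlV _ ((mem_normalizer_iff.mp htN w).mp hw)
  have ht'N : t' ∈ normalizer ((V ⊔ U : Subgroup G) : Set G) := by
    rw [mem_normalizer_iff_cj]
    have h3 : cj t' (V ⊔ U) = cj t' V ⊔ cj t' U := Subgroup.map_sup _ _ _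
    rw [h3]
    congr 1
    · apply Subgroup.eq_of_le_of_card_ge
      · rintro _ ⟨w, hw, rfl⟩
        change t' * w * t'⁻¹ ∈ V
        rw [ht'V w hw]
        exact (mem_normalizer_iff.mp htN w).mp hw
      · rw [q.four.card, (q.four.cj t').card]
    · apply Subgroup.eq_of_le_of_card_ge
      · rintro _ ⟨w, hw, rfl⟩
        change t' * w * t'⁻¹ ∈ U
        rw [hU' w hw]
        exact hw
      · rw [q.fourU.card, (q.fourU.cj t').card]
  have h5 : t' * v * t'⁻¹ = v := by
    rw [ht'V v hv, hRv t ht, mul_inv_cancel_right]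
  have h6 := t4.cen_V tt ht'N hU' hv hv1 h5
  obtain ⟨g, hg, hgV⟩ := t4.move
  have h7 : t' ∈ V ⊔ U := by
    refine q.cen_E h hr ⟨g, hg, hgV⟩ t' ?_ n ?_
    · intro e he
      obtain ⟨w, hw, u, hu, rfl⟩ := q.mem_E.mp he
      have e1 : t' * (w * u) * t'⁻¹ = (t' * w * t'⁻¹) * (t' * u * t'⁻¹) := by group
      rw [h6 w hw, hU' u hu] at e1
      rw [← e1, inv_mul_cancel_right]
      rw [e1]
    · rw [ht', conj_pow, hn]; group
  have h8 : Fixes t' (KK v) := by
    have h9 := (hRf t ht).cj l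
    have h10 : cj l (KK v) = KK v := cj_eq_self_of_mem (q.le v hv hv1 hl)
    rwa [h10] at h9
  have h9 := (q.mem_V_iff h hv hv1 h7).mpr h8
  apply htV
  have e : t = l⁻¹ * t' * l := by rw [ht']; group
  rw [e, hl' _ h9]
  exact h9

/-- **(L3)** `(T4)`: `U` is a Sylow 2-subgroup of `L`. -/
theorem t4_D (t4 : T4 (V ⊔ U) V U ρ)
    {R : Subgroup G} (hR : IsPGroup 2 R) (hUR : U ≤ R) (hRL : R ≤ L) : R = U := by
  have : Fact (Nat.Prime 2) := ⟨Nat.prime_two⟩
  have tt := q.tri h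
  by_contra hne
  have hlt : U < R := lt_of_le_of_ne hUR (Ne.symm hne)
  obtain ⟨t, ht, htV, htN⟩ : ∃ t ∈ R, t ∉ U ∧ t ∈ normalizer (U : Set G) := by
    have h1 : U.subgroupOf R ≠ ⊤ := by
      intro h2
      rw [subgroupOf_eq_top] at h2
      exact hlt.not_ge h2
    have hfin : Finite R := inferInstance
    have h2 : Group.IsNilpotent R := hR.isNilpotent
    have h3 := Group.normalizerCondition_of_isNilpotent (G := R)
    have h4 := h3 (U.subgroupOf R) (lt_top_iff_ne_top.mpr h1)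
    obtain ⟨t, ht, htn⟩ := SetLike.exists_of_lt h4
    refine ⟨t, t.2, fun h5 => htn (mem_subgroupOf.mpr h5), ?_⟩
    rw [mem_normalizer_iff] at ht ⊢
    intro x
    constructor
    · intro hx
      exact (ht ⟨x, hUR hx⟩).mp hx
    · intro hx
      have h5 : (t : G)⁻¹ * ((t : G) * x * (t : G)⁻¹) * t ∈ R :=
        mul_mem (mul_mem (inv_mem t.2) (hUR hx)) t.2
      have h6 : (t : G)⁻¹ * ((t : G) * x * (t : G)⁻¹) * t = x := by group
      rw [h6] at h5
      exact (ht ⟨x, h5⟩).mpr hx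
  obtain ⟨n, hn⟩ : ∃ n : ℕ, t ^ 2 ^ n = 1 := by
    obtain ⟨n, hn⟩ := hR ⟨t, ht⟩
    exact ⟨n, congrArg Subtype.val hn⟩
  have hVt : ∀ w ∈ V, t * w * t⁻¹ = w := by
    intro w hw
    rw [q.toVPair.L_comm (hRL ht) hw, mul_inv_cancel_right]
  have htU : ∀ u ∈ U, t * u * t⁻¹ ∈ U := fun u hu => (mem_normalizer_iff.mp htN u).mp hu
  have htN' : t ∈ normalizer ((V ⊔ U : Subgroup G) : Set G) := by
    rw [mem_normalizer_iff_cj]
    have h3 : cj t (V ⊔ U) = cj t V ⊔ cj t U := Subgroup.map_sup _ _ _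
    rw [h3]
    congr 1
    · apply Subgroup.eq_of_le_of_card_ge
      · rintro _ ⟨w, hw, rfl⟩
        change t * w * t⁻¹ ∈ V
        rw [hVt w hw]
        exact hw
      · rw [q.four.card, (q.four.cj t).card]
    · exact mem_normalizer_iff_cj.mp htN
  obtain ⟨u₀, hu₀, hu₀1, hfix⟩ := q.fourU.exists_fixed htU hn
  have h1 := t4.cen_U tt htN' hVt hu₀ hu₀1 hfix
  exact htV (q.self t (hRL ht) (fun u hu => mul_inv_eq_iff_eq_mul.mp (h1 u hu)) n hn)

/-- **(L3)** `(T4)`: `U` is a Sylow 2-subgroup of `KK v`. -/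
theorem t4_KK (t4 : T4 (V ⊔ U) V U ρ) {v : G} (hv : v ∈ V) (hv1 : v ≠ 1)
    {R : Subgroup G} (hR : IsPGroup 2 R) (hUR : U ≤ R) (hRL : R ≤ KK v) : R = U := by
  have : Fact (Nat.Prime 2) := ⟨Nat.prime_two⟩
  -- `R` is conjugate into `L`
  obtain ⟨k, hk, hkR⟩ := conj_into_odd (odd_relIndex (q.sup v hv hv1)) hR hRL
  let R₁ : Subgroup G := cj k⁻¹ R
  have hR₁L : R₁ ≤ L := by
    rintro _ ⟨r, hr', rfl⟩
    have h1 := hkR r hr'
    change k⁻¹ * r * k⁻¹⁻¹ ∈ L
    rwa [inv_inv]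
  have hR₁p : IsPGroup 2 R₁ := hR.map _
  -- Sylow subgroups of `L` have order four
  have hUp : IsPGroup 2 U := by
    rintro ⟨u, hu⟩
    refine ⟨1, ?_⟩
    apply Subtype.ext
    simpa only [pow_two, _root_.pow_one, _root_.MulMemClass.mk_mul_mk, _root_.OneMemClass.coe_one] using q.fourU.sq u hu
  obtain ⟨P, hP⟩ := (hUp.comap_subtype : IsPGroup 2 (U.subgroupOf L)).exists_le_sylow
  have hPU : (P : Subgroup L).map L.subtype = U := by
    apply q.t4_D h t4 (P.2.map _)
    · intro u hu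
      exact ⟨⟨u, q.UL hu⟩, hP (mem_subgroupOf.mpr hu), rfl⟩
    · exact map_subtype_le _
  obtain ⟨c, -, hc⟩ := L2W.conj_into P (le_top : (P : Subgroup L) ≤ ⊤) (le_top)
    (hR₁p.comap_subtype : IsPGroup 2 (R₁.subgroupOf L))
  have h1 : cj (c : G) R₁ ≤ U := by
    rintro _ ⟨r, hr', rfl⟩
    have h2 := hc ⟨r, hR₁L hr'⟩ (mem_subgroupOf.mpr hr')
    rw [← hPU]
    exact ⟨_, h2, rfl⟩
  have h2 : Nat.card R ≤ Nat.card U := by
    have h3 := card_le_of_le h1
    have h4 : Nat.card (cj (c : G) R₁) = Nat.card R₁ :=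
      card_map_of_injective (MulAut.conj (c : G)).injective
    have h5 : Nat.card R₁ = Nat.card R := card_map_of_injective (MulAut.conj k⁻¹).injective
    rw [h4, h5] at h3
    exact h3
  exact (Subgroup.eq_of_le_of_card_ge hUR h2).symm

/-- **(L3)** `(T4)`: a 2-group `T ≥ E` centralizing `v ∈ V#` normalizes `V` and `U`, and `|T : E| ≤ 2`. -/
theorem t4_T (hr : PRankLE 2 4 G) (t4 : T4 (V ⊔ U) V U ρ) {v : G} (hv : v ∈ V) (hv1 : v ≠ 1)
    {T : Subgroup G} (hT : IsPGroup 2 T) (hET : V ⊔ U ≤ T) (hTv : ∀ t ∈ T, t * v = v * t) :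
    (∀ t ∈ T, cj t V = V ∧ cj t U = U) ∧
      ∀ a ∈ T, ∀ b ∈ T, a ∉ V ⊔ U → b ∉ V ⊔ U → a * b ∈ V ⊔ U := by
  have : Fact (Nat.Prime 2) := ⟨Nat.prime_two⟩
  have tt := q.tri h
  have hvX := q.mem v hv hv1
  have hTN : ∀ t ∈ T, t ∈ normalizer (KK v : Set G) := fun t ht =>
    h.toXBase.mem_normalizer hvX (hTv t ht)
  -- `T` normalizes `V = T ∩ fixer`
  have hQ : T ⊓ fixer (KK v) = V := by
    apply q.t4_Q h hr t4 hv hv1 (hT.to_le inf_le_left)
    · intro w hw
      exact ⟨hET (mem_sup_left hw), q.fix v hv hv1 w hw⟩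
    · intro r hr'
      exact hTv r hr'.1
    · intro r hr'
      exact hr'.2
  have hD : T ⊓ KK v = U := by
    apply q.t4_KK h t4 hv hv1 (hT.to_le inf_le_left)
    · intro w hw
      exact ⟨hET (mem_sup_right hw), q.le v hv hv1 (q.UL hw)⟩
    · exact inf_le_right
  have hnorm : ∀ t ∈ T, cj t V = V ∧ cj t U = U := by
    intro t ht
    have h1 : cj t (KK v) = KK v := mem_normalizer_iff_cj.mp (hTN t ht)
    constructor
    · apply Subgroup.eq_of_le_of_card_ge
      · rintro _ ⟨w, hw, rfl⟩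
        rw [← hQ] at hw
        have h2 : t * w * t⁻¹ ∈ T ⊓ fixer (KK v) := by
          refine ⟨T.mul_mem (T.mul_mem ht hw.1) (T.inv_mem ht), ?_⟩
          have h3 : Fixes w (KK v) := hw.2
          have h4 := h3.cj t
          rw [h1] at h4
          exact h4
        rw [hQ] at h2
        exact h2
      · rw [q.four.card, (q.four.cj t).card]
    · apply Subgroup.eq_of_le_of_card_ge
      · rintro _ ⟨w, hw, rfl⟩
        rw [← hD] at hw
        have h2 : t * w * t⁻¹ ∈ T ⊓ KK v := by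
          refine ⟨T.mul_mem (T.mul_mem ht hw.1) (T.inv_mem ht), ?_⟩
          have h4 := conj_mem_cj (g := t) hw.2
          rw [h1] at h4
          exact h4
        rw [hD] at h2
        exact h2
      · rw [q.fourU.card, (q.fourU.cj t).card]
  refine ⟨hnorm, ?_⟩
  -- elements of `T` centralizing `V` are in `E`
  have hcenV : ∀ t ∈ T, (∀ w ∈ V, t * w * t⁻¹ = w) → t ∈ V ⊔ U := by
    intro t ht htV
    obtain ⟨n, hn⟩ : ∃ n : ℕ, t ^ 2 ^ n = 1 := by
      obtain ⟨n, hn⟩ := hT ⟨t, ht⟩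
      exact ⟨n, congrArg Subtype.val hn⟩
    have htU : ∀ u ∈ U, t * u * t⁻¹ ∈ U := by
      intro u hu
      have h2 := conj_mem_cj (g := t) hu
      rwa [(hnorm t ht).2] at h2
    have htN : t ∈ normalizer ((V ⊔ U : Subgroup G) : Set G) := by
      rw [mem_normalizer_iff_cj]
      have h3 : cj t (V ⊔ U) = cj t V ⊔ cj t U := Subgroup.map_sup _ _ _
      rw [h3, (hnorm t ht).1, (hnorm t ht).2]
    obtain ⟨u₀, hu₀, hu₀1, hfix⟩ := q.fourU.exists_fixed htU hn
    have h1 := t4.cen_U tt htN htV hu₀ hu₀1 hfix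
    obtain ⟨g, hg, hgV⟩ := t4.move
    refine q.cen_E h hr ⟨g, hg, hgV⟩ t ?_ n hn
    intro e he
    obtain ⟨w, hw, u, hu, rfl⟩ := q.mem_E.mp he
    have e1 : t * (w * u) * t⁻¹ = (t * w * t⁻¹) * (t * u * t⁻¹) := by group
    rw [htV w hw, h1 u hu] at e1
    exact mul_inv_eq_iff_eq_mul.mp e1
  -- an element of `T - E` maps `w ∈ V - ⟨v⟩` to `v w`
  have hout : ∀ t ∈ T, t ∉ V ⊔ U → ∀ w ∈ V, w ≠ 1 → w ≠ v → t * w * t⁻¹ = v * w := by
    intro t ht htE w hw hw1 hwv
    have h1 : t * w * t⁻¹ ∈ V := by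
      have h2 := conj_mem_cj (g := t) hw
      rwa [(hnorm t ht).1] at h2
    have htv : t * v * t⁻¹ = v := by rw [hTv t ht, mul_inv_cancel_right]
    rcases q.four.cases hv hw hv1 hw1 (Ne.symm hwv) h1 with h2 | h2 | h2 | h2
    · exfalso
      apply hw1
      have e : w = t⁻¹ * (t * w * t⁻¹) * t := by group
      rw [e, h2]; group
    · exfalso
      apply hwv
      have e : w = t⁻¹ * (t * w * t⁻¹) * t := by group
      rw [e, h2]
      have e2 : v = t⁻¹ * (t * v * t⁻¹) * t := by group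
      rw [htv] at e2
      exact e2.symm
    · exfalso
      apply htE
      apply hcenV t ht
      intro x hx
      rcases q.four.cases hv hw hv1 hw1 (Ne.symm hwv) hx with rfl | rfl | rfl | rfl
      · group
      · exact htv
      · exact h2
      · have e : t * (v * w) * t⁻¹ = (t * v * t⁻¹) * (t * w * t⁻¹) := by group
        rw [e, htv, h2]
    · exact h2
  intro a ha b hb haE hbE
  apply hcenV _ (mul_mem ha hb)
  have hav : a * v * a⁻¹ = v := by rw [hTv a ha, mul_inv_cancel_right]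
  have hbv : b * v * b⁻¹ = v := by rw [hTv b hb, mul_inv_cancel_right]
  intro w hw
  by_cases hw1 : w = 1
  · rw [hw1]; group
  by_cases hwv : w = v
  · rw [hwv]
    have e : a * b * v * (a * b)⁻¹ = a * (b * v * b⁻¹) * a⁻¹ := by group
    rw [e, hbv, hav]
  · have e : a * b * w * (a * b)⁻¹ = a * (b * w * b⁻¹) * a⁻¹ := by group
    rw [e, hout b hb hbE w hw hw1 hwv]
    have e2 : a * (v * w) * a⁻¹ = (a * v * a⁻¹) * (a * w * a⁻¹) := by group
    rw [e2, hav, hout a ha haE w hw hw1 hwv, ← mul_assoc, q.four.sq v hv, one_mul]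

end

end Quad

end Cfsg.Agent.GH.L2Pair
end
end

-- part: GH/L2FourAlt
section
set_option linter.all false
open scoped Cfsg.Agent.FastGrp

-- part: GH/L2FourFact
section
/-!
# GH-L2: four-groups of groups with dihedral Sylow 2-subgroups

`F4 Y`: for every four-group `U` of `Y` the 2-elements of `C(U)` are in `U`, and some element of `N(U)`
acts on `U` without fixed points.

* `f4_of_dihedral`: `F4 X` for `X` finite with dihedral Sylow 2-subgroups (order at least 4) and no subgroup of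
  index two.
* `F4.congr`: invariance under isomorphisms.
-/

set_option autoImplicit false

open Subgroup
open Cfsg.Agent.TwoFusion.DihedralSylow Cfsg.Agent.TwoFusion.DihedralFusion
open Cfsg.Agent.SignalizersComponents.IntrinsicBasic (cj mem_cj conj_mem_cj cj_one cj_mul
  cj_inv_cj cj_cj_inv cj_injective cj_mono mem_normalizer_iff_cj)
open Cfsg.Agent.GH.L2Tri

namespace Cfsg.Agent.GH.L2FourFact

/-- The property of four-groups. -/
def F4 (Y : Type*) [Group Y] : Prop :=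
  ∀ U : Subgroup Y, Four U → (∀ a : Y, (∀ u ∈ U, a * u = u * a) → ∀ n : ℕ, a ^ 2 ^ n = 1 → a ∈ U) ∧
    ∃ y : Y, (∀ u ∈ U, y * u * y⁻¹ ∈ U) ∧ ∀ u ∈ U, u ≠ 1 → y * u * y⁻¹ ≠ u

theorem four_map {X Y : Type*} [Group X] [Group Y] {f : X →* Y} (hf : Function.Injective f)
    {U : Subgroup X} (h : Four U) : Four (U.map f) := by
  refine ⟨?_, ?_, ?_⟩
  · rintro _ ⟨a, ha, rfl⟩ _ ⟨b, hb, rfl⟩
    rw [← map_mul, ← map_mul, h.comm a ha b hb]
  · rintro _ ⟨a, ha, rfl⟩
    rw [← map_mul, h.sq a ha, map_one]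
  · rw [card_map_of_injective hf]
    exact h.card

theorem F4.congr {X Y : Type*} [Group X] [Group Y] (e : X ≃* Y) (h : F4 X) : F4 Y := by
  intro U hU
  obtain ⟨h1, y, h2, h3⟩ := h (U.map e.symm.toMonoidHom) (four_map e.symm.injective hU)
  have key : ∀ {a : Y}, a ∈ U → e.symm a ∈ U.map e.symm.toMonoidHom := fun ha => ⟨_, ha, rfl⟩
  have key' : ∀ {x : X}, x ∈ U.map e.symm.toMonoidHom → e x ∈ U := by
    rintro x ⟨a, ha, rfl⟩
    change e (e.symm a) ∈ U
    rwa [e.apply_symm_apply]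
  refine ⟨?_, e y, ?_, ?_⟩
  · intro a ha n hn
    have h4 := h1 (e.symm a) (by
      rintro _ ⟨u, hu, rfl⟩
      change e.symm a * e.symm u = e.symm u * e.symm a
      rw [← map_mul, ha u hu, map_mul]) n (by rw [← map_pow, hn, map_one])
    have h5 := key' h4
    rwa [e.apply_symm_apply] at h5
  · intro u hu
    have h4 := key' (h2 _ (key hu))
    rwa [map_mul, map_mul, map_inv, e.apply_symm_apply] at h4
  · intro u hu hu1 h4
    refine h3 _ (key hu) (fun h5 => hu1 (e.symm.injective (by rw [h5, map_one]))) ?_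
    apply e.injective
    rw [map_mul, map_mul, map_inv, e.apply_symm_apply]
    exact h4

section dihedral

variable {X : Type*} [Group X] [Finite X] {m : ℕ} {r z : X}

omit [Finite X] in
/-- a four-group of a dihedral group -/
theorem four_le {S : Subgroup X} (hD : DihData S m r z) {U : Subgroup X} (hU : Four U)
    (hUS : U ≤ S) : z ∈ U ∧ ∃ t ∈ U, t ∉ zpowers r := by
  obtain ⟨t, ht, htr⟩ : ∃ t ∈ U, t ∉ zpowers r := by
    by_contra hcon
    push Not at hcon
    obtain ⟨b, hb, hb1, hbz⟩ := hU.exists_ne' z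
    rcases hD.eq_z b (hcon b hb) (hU.sq b hb) with h | h
    · exact hb1 h
    · exact hbz h
  refine ⟨?_, t, ht, htr⟩
  obtain ⟨b, hb, hb1, hbt⟩ := hU.exists_ne' t
  by_cases hbr : b ∈ zpowers r
  · rcases hD.eq_z b hbr (hU.sq b hb) with h | h
    · exact absurd h hb1
    · rw [← h]; exact hb
  · have h1 := hD.refl_mul t (hUS ht) b (hUS hb) htr hbr
    have h2 := hU.sq _ (mul_mem ht hb)
    rcases hD.eq_z _ h1 h2 with h | h
    · exfalso
      apply hbt
      have h3 : t = b⁻¹ := eq_inv_of_mul_eq_one_left h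
      rw [hU.inv hb] at h3
      exact h3.symm
    · rw [← h]; exact mul_mem ht hb

omit [Finite X] in
/-- four-groups of a dihedral group are self-centralizing -/
theorem self_le {S : Subgroup X} (hD : DihData S m r z) {U : Subgroup X} (hU : Four U)
    (hUS : U ≤ S) {a : X} (ha : a ∈ S) (haU : ∀ u ∈ U, a * u = u * a) : a ∈ U := by
  obtain ⟨hz, t, ht, htr⟩ := four_le hD hU hUS
  have hat := haU t ht
  have ht2 := hU.sq t ht
  by_cases har : a ∈ zpowers r
  · have h1 : t * a ∉ zpowers r := fun h => htr (by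
      have h2 := mul_mem h (inv_mem har)
      rwa [mul_inv_cancel_right] at h2)
    have h2 := hD.refl_sq _ (mul_mem (hUS ht) ha) h1
    have h3 : t * a * (t * a) = a * a := by
      calc t * a * (t * a) = a * t * (t * a) := by rw [hat]
        _ = a * (t * t) * a := by group
        _ = a * a := by rw [ht2, mul_one]
    rw [h3] at h2
    rcases hD.eq_z a har h2 with h | h
    · rw [h]; exact U.one_mem
    · rw [h]; exact hz
  · have h1 := hD.refl_mul t (hUS ht) a ha htr har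
    have h2 := hD.refl_sq a ha har
    have h3 : t * a * (t * a) = 1 := by
      calc t * a * (t * a) = a * t * (t * a) := by rw [hat]
        _ = a * (t * t) * a := by group
        _ = 1 := by rw [ht2, mul_one, h2]
    have h4 : a = t * (t * a) := by rw [← mul_assoc, ht2, one_mul]
    rcases hD.eq_z _ h1 h3 with h | h
    · rw [h4, h, mul_one]; exact ht
    · rw [h4, h]; exact mul_mem ht hz

omit [Finite X] in
theorem isPGroup_four {U : Subgroup X} (hU : Four U) : IsPGroup 2 U := by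
  rintro ⟨u, hu⟩
  refine ⟨1, ?_⟩
  apply Subtype.ext
  simpa only [pow_two, _root_.pow_one, _root_.MulMemClass.mk_mul_mk, _root_.OneMemClass.coe_one] using hU.sq u hu

omit [Finite X] in
theorem isPGroup_zpowers {a : X} {n : ℕ} (hn : a ^ 2 ^ n = 1) : IsPGroup 2 (zpowers a) := by
  rintro ⟨_, k, rfl⟩
  refine ⟨n, ?_⟩
  apply Subtype.ext
  change (a ^ k) ^ (2 ^ n) = 1
  rw [← zpow_natCast, ← zpow_mul, mul_comm, zpow_mul, zpow_natCast, hn, one_zpow]

theorem self_of (S : Sylow 2 X) (hD : DihData (S : Subgroup X) m r z) {U : Subgroup X}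
    (hU : Four U) {a : X} (haU : ∀ u ∈ U, a * u = u * a) {n : ℕ} (hn : a ^ 2 ^ n = 1) : a ∈ U := by
  have : Fact (Nat.Prime 2) := ⟨Nat.prime_two⟩
  have h1 : zpowers a ≤ normalizer (U : Set X) := by
    rw [zpowers_le, mem_normalizer_iff_cj]
    ext x
    rw [mem_cj]
    constructor
    · intro hx
      have h2 := haU _ hx
      have h3 : x = a * (a⁻¹ * x * a) * a⁻¹ := by group
      rw [h3, h2, mul_inv_cancel_right]
      exact hx
    · intro hx
      rw [mul_assoc, ← haU x hx, inv_mul_cancel_left]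
      exact hx
  have h2 : IsPGroup 2 (zpowers a ⊔ U : Subgroup X) :=
    (isPGroup_zpowers hn).to_sup_of_normal_right' (isPGroup_four hU) h1
  obtain ⟨g, -, hg⟩ := exists_conj_mem S ⊤ (zpowers a ⊔ U) le_top le_top h2
  have h3 := self_le hD (hU.cj g) (by
    rintro _ ⟨u, hu, rfl⟩
    exact hg u (mem_sup_right hu)) (hg a (mem_sup_left (mem_zpowers a))) (by
    rintro _ ⟨u, hu, rfl⟩
    change g * a * g⁻¹ * (g * u * g⁻¹) = g * u * g⁻¹ * (g * a * g⁻¹)
    have e1 : g * a * g⁻¹ * (g * u * g⁻¹) = g * (a * u) * g⁻¹ := by group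
    have e2 : g * u * g⁻¹ * (g * a * g⁻¹) = g * (u * a) * g⁻¹ := by group
    rw [e1, e2, haU u hu])
  rw [mem_cj] at h3
  have e : g⁻¹ * (g * a * g⁻¹) * g = a := by group
  rwa [e] at h3

/-- `|S| ≥ 8`: for `u ∈ U#` there is an element of `N(U)` fixing `u` and moving the others. -/
theorem exists_swap (S : Sylow 2 X) (hD : DihData (S : Subgroup X) m r z) (h4 : 4 ∣ m)
    (hX : ∀ H : Subgroup X, H.index ≠ 2) {U : Subgroup X}
    (hU : Four U) {u : X} (hu : u ∈ U) (hu1 : u ≠ 1) :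
    ∃ t : X, t * u * t⁻¹ = u ∧ ∀ w ∈ U, w ≠ 1 → w ≠ u → t * w * t⁻¹ = u * w := by
  have : Fact (Nat.Prime 2) := ⟨Nat.prime_two⟩
  obtain ⟨g, hg⟩ := isConj_iff.mp (isConj_z_of_no_index_two S hD hX u
    ((orderOf_two_iff u).2 ⟨hU.sq u hu, hu1⟩))
  obtain ⟨c, hc, hcU⟩ := exists_conj_mem S (centralizer ({z} : Set X)) (cj g U) (by
    intro s hs
    exact mem_centralizer_singleton_iff.mpr (hD.z_comm s hs)) (by
    rintro _ ⟨w, hw, rfl⟩
    rw [mem_centralizer_singleton_iff, ← hg]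
    change g * w * g⁻¹ * (g * u * g⁻¹) = g * u * g⁻¹ * (g * w * g⁻¹)
    have e1 : g * w * g⁻¹ * (g * u * g⁻¹) = g * (w * u) * g⁻¹ := by group
    have e2 : g * u * g⁻¹ * (g * w * g⁻¹) = g * (u * w) * g⁻¹ := by group
    rw [e1, e2, hU.comm w hw u hu]) (isPGroup_four (hU.cj g))
  have hcz : c * z = z * c := mem_centralizer_singleton_iff.mp hc
  -- `k = c g`
  have hku : (c * g) * u * (c * g)⁻¹ = z := by
    have e : (c * g) * u * (c * g)⁻¹ = c * (g * u * g⁻¹) * c⁻¹ := by group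
    rw [e, hg, hcz, mul_inv_cancel_right]
  have hUS : cj (c * g) U ≤ S := by
    rintro _ ⟨w, hw, rfl⟩
    have h1 := hcU _ (conj_mem_cj (g := g) hw)
    have e : c * (g * w * g⁻¹) * c⁻¹ = (c * g) * w * (c * g)⁻¹ := by group
    rw [e] at h1
    exact h1
  have hU' := hU.cj (c * g)
  obtain ⟨hz, t, ht, htr⟩ := four_le hD hU' hUS
  obtain ⟨s, hs, hst⟩ := hD.swap h4 t (hUS ht) htr
  have hsz : s * z * s⁻¹ = z := by rw [hD.z_comm s hs, mul_inv_cancel_right]
  have ht1 : t ≠ 1 := fun h => htr (h ▸ one_mem _)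
  have htz : t ≠ z := fun h => htr (h ▸ hD.z_mem)
  refine ⟨(c * g)⁻¹ * s * (c * g), ?_, ?_⟩
  · have e : (c * g)⁻¹ * s * (c * g) * u * ((c * g)⁻¹ * s * (c * g))⁻¹ =
        (c * g)⁻¹ * (s * ((c * g) * u * (c * g)⁻¹) * s⁻¹) * (c * g) := by group
    rw [e, hku, hsz, ← hku]
    group
  · intro w hw hw1 hwu
    have hkw : (c * g) * w * (c * g)⁻¹ ∈ cj (c * g) U := conj_mem_cj hw
    have e : (c * g)⁻¹ * s * (c * g) * w * ((c * g)⁻¹ * s * (c * g))⁻¹ =
        (c * g)⁻¹ * (s * ((c * g) * w * (c * g)⁻¹) * s⁻¹) * (c * g) := by group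
    have key : s * ((c * g) * w * (c * g)⁻¹) * s⁻¹ = z * ((c * g) * w * (c * g)⁻¹) := by
      rcases hU'.cases hz ht hD.z_ne ht1 (Ne.symm htz) hkw with h | h | h | h
      · exfalso
        apply hw1
        have e : w = (c * g)⁻¹ * ((c * g) * w * (c * g)⁻¹) * (c * g) := by group
        rw [e, h]; group
      · exfalso
        apply hwu
        have e : w = (c * g)⁻¹ * ((c * g) * w * (c * g)⁻¹) * (c * g) := by group
        rw [e, h, ← hku]; group
      · rw [h]; exact hst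
      · rw [h]
        have e : s * (z * t) * s⁻¹ = (s * z * s⁻¹) * (s * t * s⁻¹) := by group
        rw [e, hsz, hst]
    rw [e, key, ← hku]
    group

/-- `|S| = 4`: `N(U)` is transitive on `U#`. -/
theorem exists_trans (S : Sylow 2 X) (hD : DihData (S : Subgroup X) 2 r z)
    (hX : ∀ H : Subgroup X, H.index ≠ 2) {U : Subgroup X}
    (hU : Four U) {u v : X} (hu : u ∈ U) (hu1 : u ≠ 1) (hv : v ∈ U) (hv1 : v ≠ 1) :
    ∃ t : X, t * u * t⁻¹ = v ∧ ∀ w ∈ U, t * w * t⁻¹ ∈ U := by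
  have : Fact (Nat.Prime 2) := ⟨Nat.prime_two⟩
  have h1 := (isConj_z_of_no_index_two S hD hX u ((orderOf_two_iff u).2 ⟨hU.sq u hu, hu1⟩)).trans
    (isConj_z_of_no_index_two S hD hX v ((orderOf_two_iff v).2 ⟨hU.sq v hv, hv1⟩)).symm
  obtain ⟨g, hg⟩ := isConj_iff.mp h1
  obtain ⟨P, hP⟩ := (isPGroup_four hU).exists_le_sylow
  have hPU : (P : Subgroup X) = U := by
    refine (Subgroup.eq_of_le_of_card_ge hP ?_).symm
    rw [hU.card, Nat.card_congr (P.equiv S).toEquiv, hD.card]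
  obtain ⟨c, hc, hcU⟩ := exists_conj_mem P (centralizer ({v} : Set X)) (cj g U) (by
    rw [hPU]
    intro s hs
    exact mem_centralizer_singleton_iff.mpr (hU.comm s hs v hv)) (by
    rintro _ ⟨w, hw, rfl⟩
    rw [mem_centralizer_singleton_iff, ← hg]
    change g * w * g⁻¹ * (g * u * g⁻¹) = g * u * g⁻¹ * (g * w * g⁻¹)
    have e1 : g * w * g⁻¹ * (g * u * g⁻¹) = g * (w * u) * g⁻¹ := by group
    have e2 : g * u * g⁻¹ * (g * w * g⁻¹) = g * (u * w) * g⁻¹ := by group
    rw [e1, e2, hU.comm w hw u hu]) (isPGroup_four (hU.cj g))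
  have hcz : c * v = v * c := mem_centralizer_singleton_iff.mp hc
  refine ⟨c * g, ?_, ?_⟩
  · have e : (c * g) * u * (c * g)⁻¹ = c * (g * u * g⁻¹) * c⁻¹ := by group
    rw [e, hg, hcz, mul_inv_cancel_right]
  · intro w hw
    have h2 := hcU _ (conj_mem_cj (g := g) hw)
    rw [hPU] at h2
    have e : c * (g * w * g⁻¹) * c⁻¹ = (c * g) * w * (c * g)⁻¹ := by group
    rwa [e] at h2

/-- **Four-groups in groups with dihedral Sylow 2-subgroups.** -/
theorem f4_of_dihedral (S : Sylow 2 X) {m : ℕ} (hm : 2 ≤ m)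
    (e : (S : Subgroup X) ≃* DihedralGroup m) (hX : ∀ H : Subgroup X, H.index ≠ 2) : F4 X := by
  obtain ⟨hm2, r, z, hD⟩ := exists_data S m hm e
  intro U hU
  refine ⟨fun a ha n hn => self_of S hD hU ha hn, ?_⟩
  obtain ⟨a, ha, ha1⟩ := hU.exists_ne
  obtain ⟨b, hb, hb1, hba⟩ := hU.exists_ne' a
  have hab1 : a * b ≠ 1 := by
    intro h
    apply hba
    have h1 : a = b⁻¹ := eq_inv_of_mul_eq_one_left h
    rw [hU.inv hb] at h1
    exact h1.symm
  have haba : a * b ≠ a := fun h => hb1 (mul_eq_left.mp h)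
  have habb : a * b ≠ b := fun h => ha1 (mul_eq_right.mp h)
  -- a cyclic permutation `a → b → ab → a` is without fixed points
  have cyc : ∀ y : X, y * a * y⁻¹ = b → y * b * y⁻¹ = a * b →
      ∃ y : X, (∀ u ∈ U, y * u * y⁻¹ ∈ U) ∧ ∀ u ∈ U, u ≠ 1 → y * u * y⁻¹ ≠ u := by
    intro y h1 h2
    have h3 : y * (a * b) * y⁻¹ = a := by
      have e1 : y * (a * b) * y⁻¹ = (y * a * y⁻¹) * (y * b * y⁻¹) := by group
      rw [e1, h1, h2, hU.comm a ha b hb, ← mul_assoc, hU.sq b hb, one_mul]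
    refine ⟨y, ?_, ?_⟩
    · intro u hu
      rcases hU.cases ha hb ha1 hb1 (Ne.symm hba) hu with rfl | rfl | rfl | rfl
      · have e1 : y * 1 * y⁻¹ = 1 := by group
        rw [e1]; exact U.one_mem
      · rw [h1]; exact hb
      · rw [h2]; exact mul_mem ha hb
      · rw [h3]; exact ha
    · intro u hu hu1
      rcases hU.cases ha hb ha1 hb1 (Ne.symm hba) hu with rfl | rfl | rfl | rfl
      · exact absurd rfl hu1
      · rw [h1]; exact hba
      · rw [h2]; exact habb
      · rw [h3]; exact haba.symm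
  rcases hm2 with rfl | h4
  · -- `|S| = 4`
    obtain ⟨n, hn1, hn2⟩ := exists_trans S hD hX hU ha ha1 hb hb1
    have hinj : ∀ (n : X) {v w : X}, n * v * n⁻¹ = n * w * n⁻¹ → v = w := by
      intro n v w h
      exact mul_left_cancel (mul_right_cancel h)
    have hne : ∀ (n : X) {v : X}, v ≠ 1 → n * v * n⁻¹ ≠ 1 := fun n v hv h => conj_ne_one n hv h
    rcases hU.cases ha hb ha1 hb1 (Ne.symm hba) (hn2 b hb) with h | h | h | h
    · exact absurd h (hne n hb1)
    · -- `n` swaps `a` and `b`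
      obtain ⟨k, hk1, hk2⟩ := exists_trans S hD hX hU ha ha1 (mul_mem ha hb) hab1
      have hnab : n * (a * b) * n⁻¹ = a * b := by
        have e1 : n * (a * b) * n⁻¹ = (n * a * n⁻¹) * (n * b * n⁻¹) := by group
        rw [e1, hn1, h, hU.comm b hb a ha]
      rcases hU.cases ha hb ha1 hb1 (Ne.symm hba) (hk2 _ (mul_mem ha hb)) with h' | h' | h' | h'
      · exact absurd h' (hne k hab1)
      · -- `k` swaps `a` and `ab`, fixes `b`: use `n k`... `a → ab → ab`, `b → b → a`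
        have hkb : k * b * k⁻¹ = b := by
          have e1 : k * b * k⁻¹ = (k * a * k⁻¹)⁻¹ * (k * (a * b) * k⁻¹) := by group
          rw [e1, hk1, h', hU.inv (mul_mem ha hb), hU.comm a ha b hb, mul_assoc, hU.sq a ha, mul_one]
        -- `y = k n` : `a → b → b`, `b → a → ab`
        refine cyc (k * n) ?_ ?_
        · have e1 : k * n * a * (k * n)⁻¹ = k * (n * a * n⁻¹) * k⁻¹ := by group
          rw [e1, hn1, hkb]
        · have e1 : k * n * b * (k * n)⁻¹ = k * (n * b * n⁻¹) * k⁻¹ := by group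
          rw [e1, h, hk1]
      · -- `k: a → ab → b → a`; `k⁻¹` or `k²`
        have hkb : k * b * k⁻¹ = a := by
          have e1 : k * b * k⁻¹ = (k * a * k⁻¹)⁻¹ * (k * (a * b) * k⁻¹) := by group
          rw [e1, hk1, h', hU.inv (mul_mem ha hb), mul_assoc, hU.sq b hb, mul_one]
        refine cyc (k * k) ?_ ?_
        · have e1 : k * k * a * (k * k)⁻¹ = k * (k * a * k⁻¹) * k⁻¹ := by group
          rw [e1, hk1, h']
        · have e1 : k * k * b * (k * k)⁻¹ = k * (k * b * k⁻¹) * k⁻¹ := by group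
          rw [e1, hkb, hk1]
      · exfalso
        have h5 : k * (a * b) * k⁻¹ = k * a * k⁻¹ := by rw [h', hk1]
        exact haba (hinj k h5)
    · exfalso
      have h5 : n * b * n⁻¹ = n * a * n⁻¹ := by rw [h, hn1]
      exact hba (hinj n h5)
    · exact cyc n hn1 h
  · -- `|S| ≥ 8`
    obtain ⟨s, hs1, hs2⟩ := exists_swap S hD h4 hX hU ha ha1
    obtain ⟨t, ht1, ht2⟩ := exists_swap S hD h4 hX hU hb hb1
    -- `s : a → a, b → ab, ab → b`; `t : b → b, a → ab, ab → a`
    have hsb := hs2 b hb hb1 hba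
    have hta := ht2 a ha ha1 (Ne.symm hba)
    have hsab : s * (a * b) * s⁻¹ = b := by
      have e1 : s * (a * b) * s⁻¹ = (s * a * s⁻¹) * (s * b * s⁻¹) := by group
      rw [e1, hs1, hsb, ← mul_assoc, hU.sq a ha, one_mul]
    -- `y = s t` : `a → ab → b`, `b → b → ab`
    refine cyc (s * t) ?_ ?_
    · have e1 : s * t * a * (s * t)⁻¹ = s * (t * a * t⁻¹) * s⁻¹ := by group
      rw [e1, hta, hU.comm b hb a ha, hsab]
    · have e1 : s * t * b * (s * t)⁻¹ = s * (t * b * t⁻¹) * s⁻¹ := by group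
      rw [e1, ht1, hsb]

end dihedral

end Cfsg.Agent.GH.L2FourFact
end

-- part: GH/L2FourAlt
section
/-!
# GH-L2: `F4` for the alternating group of degree seven
-/

set_option autoImplicit false

open Subgroup
open Cfsg.Agent.GH.L2FourFact

namespace Cfsg.Agent.GH.L2FourAlt

def R : Equiv.Perm (Fin 7) := c[0, 1, 2, 3] * c[4, 5]
def S : Equiv.Perm (Fin 7) := c[0, 2] * c[4, 5]

/-- the dihedral group of order 8 in `S₇` -/
def fn : DihedralGroup 4 → Equiv.Perm (Fin 7)
  | .r i => R ^ i.val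
  | .sr i => S * R ^ i.val

theorem fn_mul : ∀ a b : DihedralGroup 4, fn (a * b) = fn a * fn b := by decide +kernel

theorem fn_sign : ∀ a : DihedralGroup 4, Equiv.Perm.sign (fn a) = 1 := by decide +kernel

theorem fn_inj : ∀ a : DihedralGroup 4, fn a = 1 → a = 1 := by decide

def hom : DihedralGroup 4 →* ↥(alternatingGroup (Fin 7)) where
  toFun a := ⟨fn a, Equiv.Perm.mem_alternatingGroup.mpr (fn_sign a)⟩
  map_one' := rfl
  map_mul' a b := Subtype.ext (fn_mul a b)

theorem hom_injective : Function.Injective hom := by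
  rw [injective_iff_map_eq_one]
  intro a ha
  exact fn_inj a (congrArg Subtype.val ha)

theorem card_alt : Nat.card ↥(alternatingGroup (Fin 7)) = 2520 := by
  rw [nat_card_alternatingGroup, Nat.card_eq_fintype_card, Fintype.card_fin]
  rfl

theorem index_ne_two (H : Subgroup ↥(alternatingGroup (Fin 7))) : H.index ≠ 2 := by
  intro h
  have hs : IsSimpleGroup ↥(alternatingGroup (Fin 7)) := alternatingGroup.isSimpleGroup (by simp)
  have hn : H.Normal := Subgroup.normal_of_index_eq_two h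
  rcases hn.eq_bot_or_eq_top with h1 | h1
  · rw [h1, index_bot, card_alt] at h
    omega
  · rw [h1, index_top] at h
    omega

theorem exists_sylow : ∃ P : Sylow 2 ↥(alternatingGroup (Fin 7)),
    Nonempty ((P : Subgroup ↥(alternatingGroup (Fin 7))) ≃* DihedralGroup 4) := by
  have : Fact (Nat.Prime 2) := ⟨Nat.prime_two⟩
  have h1 : Nat.card hom.range = 8 := by
    rw [← Nat.card_congr (MonoidHom.ofInjective hom_injective).toEquiv, DihedralGroup.nat_card]
  have h2 : IsPGroup 2 hom.range := by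
    rw [IsPGroup.iff_card]
    exact ⟨3, by rw [h1]; norm_num⟩
  obtain ⟨P, hP⟩ := h2.exists_le_sylow
  have h3 : Nat.card (P : Subgroup ↥(alternatingGroup (Fin 7))) ≤ 8 := by
    obtain ⟨n, hn⟩ := IsPGroup.iff_card.mp P.2
    have h4 : 2 ^ n ∣ 2520 := by
      rw [← card_alt, ← hn]
      exact card_subgroup_dvd_card _
    have h5 : n ≤ 3 := by
      by_contra hlt
      push Not at hlt
      have h6 : 2 ^ 4 ∣ 2520 := (pow_dvd_pow 2 hlt).trans h4
      norm_num at h6
    rw [hn]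
    calc 2 ^ n ≤ 2 ^ 3 := Nat.pow_le_pow_right (by norm_num) h5
      _ = 8 := by norm_num
  have h4 : hom.range = (P : Subgroup ↥(alternatingGroup (Fin 7))) :=
    Subgroup.eq_of_le_of_card_ge hP (by rw [h1]; exact h3)
  exact ⟨P, ⟨(MulEquiv.subgroupCongr h4.symm).trans (MonoidHom.ofInjective hom_injective).symm⟩⟩

theorem f4_alt : F4 ↥(alternatingGroup (Fin 7)) := by
  obtain ⟨P, ⟨e⟩⟩ := exists_sylow
  exact f4_of_dihedral P (by norm_num) e index_ne_two

end Cfsg.Agent.GH.L2FourAlt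
end
end

-- part: GH/L2Quad
section
set_option linter.all false
open scoped Cfsg.Agent.FastGrp

/-!
# GH-L2: existence of `Quad`

* `f4_psl2`: `F4` for `PSL₂(F)`, `|F|` odd.
* `f4_lift`: from `F4 (L / O(L))` to four-groups of `L`.
* `exists_quad`: a `VPair X V L` with `F4 (Bar L)` and a four-group `U ≤ L` extend to a `Quad X V L U ρ`.
* `exists_quad_top`: the same from `IsL2odd (STop (KK v))` or `IsAlt 7 (STop (KK v))`.
-/

set_option autoImplicit false

open Cfsg Subgroup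
open Cfsg.Agent.SignalizersComponents Cfsg.Agent.Lib
open Cfsg.Agent.SignalizersComponents.IntrinsicBasic
open Cfsg.Agent.Intrinsic.Basic Cfsg.Agent.Intrinsic.Cen
open Cfsg.Agent.GH.Defs Cfsg.Agent.GH.Comp Cfsg.Agent.GH.L2Tri
open Cfsg.Agent.GH.XSet Cfsg.Agent.GH.L2Pair Cfsg.Agent.GH.L2FourFact
open scoped commutatorElement Pointwise

namespace Cfsg.Agent.GH.L2Quad

/-! ### `PSL₂(F)` -/

theorem f4_psl2 {F : Type*} [Field F] [Fintype F] (hodd : Odd (Fintype.card F)) {X : Type*}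
    [Group X] (e : X ≃* Matrix.ProjectiveSpecialLinearGroup (Fin 2) F) : F4 X := by
  have h2 : (2 : F) ≠ 0 := L2Aut.two_ne_zero_of_odd hodd
  let R : L2Aut.Rep F X := L2Aut.Rep.ofEquiv h2 e
  intro U hU
  obtain ⟨a, ha, ha1⟩ := hU.exists_ne
  obtain ⟨b, hb, hb1, hba⟩ := hU.exists_ne' a
  have hF : L2Aut.Four a b :=
    ⟨hU.sq a ha, hU.sq b hb, ha1, hb1, Ne.symm hba, hU.comm a ha b hb⟩
  constructor
  · intro c hc n _
    have h3 := R.fix_four hF (α := MulAut.conj c) (R.conj_mem_PGL c)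
      (by rw [MulAut.conj_apply, hc a ha, mul_inv_cancel_right])
      (by rw [MulAut.conj_apply, hc b hb, mul_inv_cancel_right])
    rcases h3 with h3 | h3 | h3 | h3
    · rw [R.conj_injective (h3.trans (map_one _).symm)]
      exact U.one_mem
    · rw [R.conj_injective h3]; exact ha
    · rw [R.conj_injective h3]; exact hb
    · rw [R.conj_injective h3]; exact mul_mem ha hb
  · obtain ⟨Φ, y, δ, -, -, -, -, -, -, hya, hyb, -⟩ := R.exists_frame hF
    have hyab : y * (a * b) * y⁻¹ = a := by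
      have e1 : y * (a * b) * y⁻¹ = (y * a * y⁻¹) * (y * b * y⁻¹) := by group
      rw [e1, hya, hyb, hU.comm a ha b hb, ← mul_assoc, hU.sq b hb, one_mul]
    refine ⟨y, ?_, ?_⟩
    · intro u hu
      rcases hU.cases ha hb ha1 hb1 (Ne.symm hba) hu with rfl | rfl | rfl | rfl
      · have e1 : y * 1 * y⁻¹ = 1 := by group
        rw [e1]; exact U.one_mem
      · rw [hya]; exact hb
      · rw [hyb]; exact mul_mem ha hb
      · rw [hyab]; exact ha
    · intro u hu hu1
      rcases hU.cases ha hb ha1 hb1 (Ne.symm hba) hu with rfl | rfl | rfl | rfl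
      · exact absurd rfl hu1
      · rw [hya]; exact hba
      · rw [hyb]; exact fun h => ha1 (mul_eq_right.mp h)
      · rw [hyab]; exact fun h => hb1 (mul_eq_left.mp h.symm)

theorem f4_of_isL2odd {X : Type*} [Group X] (h : IsL2odd X) : F4 X := by
  obtain ⟨F, i, j, h1, -, ⟨e⟩⟩ := h
  exact f4_psl2 h1 e

theorem f4_of_isAlt {X : Type*} [Group X] (h : IsAlt 7 X) : F4 X := by
  obtain ⟨e⟩ := h
  exact F4.congr e.symm L2FourAlt.f4_alt

/-! ### lifting -/

variable {G : Type*} [Group G] [Finite G]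

/-- `U` a subgroup, `C` an odd order subgroup normalized by `U`: `|UC : U|` is odd. -/
theorem odd_relIndex_sup {U C : Subgroup G} (hn : U ≤ normalizer (C : Set G))
    (hodd : Odd (Nat.card C)) : Odd (U.relIndex (U ⊔ C)) := by
  have h1 := ProductSet.card_mul_card_inf U C
  have h2 : ((U : Set G) * (C : Set G)) = ((U ⊔ C : Subgroup G) : Set G) :=
    (coe_mul_of_left_le_normalizer_right U C hn).symm
  have h3 : Nat.card ((U : Set G) * (C : Set G) : Set G) = Nat.card (U ⊔ C : Subgroup G) := by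
    rw [h2]; rfl
  rw [h3] at h1
  have h4 : Nat.card U * U.relIndex (U ⊔ C) = Nat.card (U ⊔ C : Subgroup G) := by
    have h5 := Subgroup.card_mul_index (U.subgroupOf (U ⊔ C))
    rwa [Nat.card_congr (subgroupOfEquivOfLe le_sup_left).toEquiv] at h5
  rw [← h4] at h1
  have h5 : U.relIndex (U ⊔ C) * Nat.card (U ⊓ C : Subgroup G) = Nat.card C := by
    apply Nat.eq_of_mul_eq_mul_left (Nat.card_pos (α := U))
    rw [← h1]
    ring
  exact hodd.of_dvd_nat (Dvd.intro _ h5)

/-- Lifting of `F4` from `L / O(L)`. -/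
theorem f4_lift {L : Subgroup G} (h : F4 (Bar L)) {U : Subgroup G} (hU : Four U) (hUL : U ≤ L) :
    (∀ a ∈ L, (∀ u ∈ U, a * u = u * a) → ∀ n : ℕ, a ^ 2 ^ n = 1 → a ∈ U) ∧
      ∃ ρ ∈ L, (∀ u ∈ U, ρ * u * ρ⁻¹ ∈ U) ∧ ∀ u ∈ U, u ≠ 1 → ρ * u * ρ⁻¹ ≠ u := by
  have : Fact (Nat.Prime 2) := ⟨Nat.prime_two⟩
  let π : L →* Bar L := QuotientGroup.mk' (oddCore ↥L)
  have hπ : ∀ {x y : L}, π x = π y ↔ (x : G)⁻¹ * y ∈ core L := by
    intro x y
    exact mk_eq_mk_iff
  let φ : U →* Bar L := π.comp (inclusion hUL)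
  have hφ : Function.Injective φ := by
    rw [injective_iff_map_eq_one]
    intro u hu
    have h1 : π (inclusion hUL u) = π 1 := by rw [map_one]; exact hu
    have h2 := hπ.mp h1
    have h3 : (u : G)⁻¹ ∈ core L := by
      have e : ((inclusion hUL u : L) : G)⁻¹ * ((1 : L) : G) = (u : G)⁻¹ := by
        rw [OneMemClass.coe_one, mul_one]; rfl
      rwa [e] at h2
    have h4 := eq_one_of_mem_core_sq h3 (by
      rw [hU.inv u.2]; exact hU.sq u u.2)
    exact Subtype.ext (inv_eq_one.mp h4)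
  have hUbar : Four φ.range := by
    refine ⟨?_, ?_, ?_⟩
    · rintro _ ⟨a, rfl⟩ _ ⟨b, rfl⟩
      rw [← map_mul, ← map_mul]
      congr 1
      exact Subtype.ext (hU.comm a a.2 b b.2)
    · rintro _ ⟨a, rfl⟩
      rw [← map_mul, ← map_one φ]
      congr 1
      exact Subtype.ext (hU.sq a a.2)
    · rw [← Nat.card_congr (MonoidHom.ofInjective hφ).toEquiv, hU.card]
  obtain ⟨h1, y, hy, hy'⟩ := h φ.range hUbar
  constructor
  · intro a ha hc n hn
    have h2 := h1 (π ⟨a, ha⟩) (by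
      rintro _ ⟨u, rfl⟩
      change π ⟨a, ha⟩ * π (inclusion hUL u) = π (inclusion hUL u) * π ⟨a, ha⟩
      rw [← map_mul, ← map_mul]
      congr 1
      exact Subtype.ext (hc u u.2)) n (by
      rw [← map_pow, ← map_one π]
      congr 1
      exact Subtype.ext hn)
    obtain ⟨u, hu⟩ := h2
    have h3 : π (inclusion hUL u) = π ⟨a, ha⟩ := hu
    have h4 : (u : G)⁻¹ * a ∈ core L := hπ.mp h3
    have h5 : ((u : G)⁻¹ * a) ^ 2 ^ (n + 1) = 1 := by
      have h6 : Commute (u : G)⁻¹ a := (hc _ (inv_mem u.2)).symm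
      have h7 : (u : G)⁻¹ * (u : G)⁻¹ = 1 := hU.sq _ (inv_mem u.2)
      rw [h6.mul_pow, pow_succ 2 n, pow_mul a, hn, one_pow, mul_one, mul_comm (2 ^ n) 2, pow_mul,
        pow_two, h7, one_pow]
    have h6 := eq_one_of_mem_core h4 h5
    have h7 : a = u := (inv_mul_eq_one.mp h6).symm
    rw [h7]
    exact u.2
  · obtain ⟨y₀, rfl⟩ := QuotientGroup.mk'_surjective _ y
    -- `y₀ U y₀⁻¹ ≤ U O(L)`
    have hN : U ≤ normalizer (core L : Set G) := hUL.trans (le_normalizer_core L)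
    have hle : cj (y₀ : G) U ≤ U ⊔ core L := by
      rintro _ ⟨u, hu, rfl⟩
      change (y₀ : G) * u * (y₀ : G)⁻¹ ∈ U ⊔ core L
      obtain ⟨u', hu'⟩ := hy (φ ⟨u, hu⟩) ⟨_, rfl⟩
      have h2 : π (inclusion hUL u') = π (y₀ * ⟨u, hUL hu⟩ * y₀⁻¹) := by
        rw [map_mul, map_mul, map_inv]
        exact hu'
      have h3 : (u' : G)⁻¹ * ((y₀ : G) * u * (y₀ : G)⁻¹) ∈ core L := hπ.mp h2
      have e : (y₀ : G) * u * (y₀ : G)⁻¹ = u' * ((u' : G)⁻¹ * ((y₀ : G) * u * (y₀ : G)⁻¹)) := by group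
      rw [e]
      exact mul_mem (mem_sup_left u'.2) (mem_sup_right h3)
    obtain ⟨c, hc, hcU⟩ := Quad.conj_into_odd (odd_relIndex_sup hN (odd_card_core L))
      ((isPGroup_four hU).map _ : IsPGroup 2 (cj (y₀ : G) U)) hle
    have hcL : c ∈ L := (sup_le hUL (core_le L)) hc
    have hmem : ∀ u ∈ U, c⁻¹ * y₀ * u * (c⁻¹ * y₀)⁻¹ ∈ U := by
      intro u hu
      have h2 := hcU _ (conj_mem_cj (g := (y₀ : G)) hu)
      have e : c⁻¹ * ((y₀ : G) * u * (y₀ : G)⁻¹) * c = c⁻¹ * y₀ * u * (c⁻¹ * y₀)⁻¹ := by group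
      rwa [e] at h2
    refine ⟨c⁻¹ * y₀, mul_mem (inv_mem hcL) y₀.2, hmem, ?_⟩
    intro u hu hu1 h2
    -- the image of `c` is in `φ.range`
    have hcr : π ⟨c, hcL⟩ ∈ φ.range := by
      have h3 : c ∈ ((U : Set G) * (core L : Set G)) := by
        rw [← coe_mul_of_left_le_normalizer_right U (core L) hN]
        exact hc
      obtain ⟨w, hw, d, hd, rfl⟩ := Set.mem_mul.mp h3
      refine ⟨⟨w, hw⟩, ?_⟩
      apply hπ.mpr
      change w⁻¹ * (w * d) ∈ core L
      rwa [inv_mul_cancel_left]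
    have h3 : π (y₀ * ⟨u, hUL hu⟩ * y₀⁻¹) = π (⟨c, hcL⟩ * ⟨u, hUL hu⟩ * (⟨c, hcL⟩ : L)⁻¹) := by
      congr 1
      apply Subtype.ext
      change (y₀ : G) * u * (y₀ : G)⁻¹ = c * u * c⁻¹
      have e : (y₀ : G) * u * (y₀ : G)⁻¹ = c * (c⁻¹ * y₀ * u * (c⁻¹ * y₀)⁻¹) * c⁻¹ := by group
      rw [e, h2]
    have h4 : π (⟨c, hcL⟩ * ⟨u, hUL hu⟩ * (⟨c, hcL⟩ : L)⁻¹) = π ⟨u, hUL hu⟩ := by
      rw [map_mul, map_mul, map_inv, hUbar.comm _ hcr (π ⟨u, hUL hu⟩) ⟨⟨u, hu⟩, rfl⟩,
        mul_inv_cancel_right]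
    rw [h4, map_mul, map_mul, map_inv] at h3
    refine hy' (φ ⟨u, hu⟩) ⟨_, rfl⟩ ?_ h3
    intro h5
    exact hu1 (congrArg Subtype.val (hφ (h5.trans (map_one φ).symm)))

/-- **Existence of a `Quad`.** -/
theorem exists_quad {X : Set G} {V L : Subgroup G} (p : VPair X V L)
    (hodd : ∀ y ∈ X, ¬ EvenCenter (KK y)) (hF : F4 (Bar L)) {U : Subgroup G} (hU : Four U)
    (hUL : U ≤ L) : ∃ ρ, Quad X V L U ρ := by
  obtain ⟨h1, ρ, hρ, h2, h3⟩ := f4_lift hF hU hUL
  exact ⟨ρ, p, hodd, hU, hUL, hρ, h2, h3, h1⟩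

/-- The tops of 2-components in GH-L2. -/
def IsTop (X : Type*) [Group X] : Prop := IsL2odd X ∨ IsAlt 7 X

theorem f4_of_top {X : Type*} [Group X] (h : IsTop X) : F4 X := by
  rcases h with h | h
  · exact f4_of_isL2odd h
  · exact f4_of_isAlt h

theorem f4_bar {L : Subgroup G} (hodd : ¬ EvenCenter L) (h : IsTop (STop L)) : F4 (Bar L) :=
  F4.congr (L2FourOC.topEquiv hodd) (f4_of_top h)

theorem VPair.f4 {X : Set G} {V L : Subgroup G} (p : VPair X V L) {v : G} (hv : v ∈ V)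
    (hv1 : v ≠ 1) (hF : F4 (Bar (KK v))) : F4 (Bar L) := by
  obtain ⟨e, -⟩ := exists_quotEquiv (p.sup v hv hv1)
  exact F4.congr e.symm hF

theorem exists_quad_top {X : Set G} {V L : Subgroup G} (p : VPair X V L)
    (hodd : ∀ y ∈ X, ¬ EvenCenter (KK y)) (hT : ∀ y ∈ X, IsTop (STop (KK y))) {U : Subgroup G}
    (hU : Four U) (hUL : U ≤ L) : ∃ ρ, Quad X V L U ρ := by
  obtain ⟨v, hv, hv1⟩ := p.four.exists_ne
  have hvX := p.mem v hv hv1
  exact exists_quad p hodd (VPair.f4 p hv hv1 (f4_bar (hodd v hvX) (hT v hvX))) hU hUL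

end Cfsg.Agent.GH.L2Quad
end

-- part: GH/L2/Tool
section
set_option linter.all false
open scoped Cfsg.Agent.FastGrp

/-!
# Project GH, branch GH-L2: Sylow tools

Small conjugation lemmas used in the exclusion of small Sylow 2-subgroups.
-/

set_option autoImplicit false

namespace Cfsg.Agent.GH.L2.Tool

open Subgroup

variable {G : Type*} [Group G] [Finite G]

/-- Sylow's theorem in a subgroup `H` containing a Sylow subgroup `S` of `G`. -/
theorem conj_into {p : ℕ} [Fact p.Prime] (S : Sylow p G) {H P : Subgroup G} (hSH : (S : Subgroup G) ≤ H)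
    (hP : IsPGroup p P) (hPH : P ≤ H) : ∃ h ∈ H, ∀ x ∈ P, h * x * h⁻¹ ∈ (S : Subgroup G) := by
  have hP' : IsPGroup p (P.subgroupOf H) := hP.comap_subtype
  obtain ⟨S2, hS2⟩ := hP'.exists_le_sylow
  obtain ⟨c, hc⟩ := MulAction.exists_smul_eq H S2 (S.subtype hSH)
  refine ⟨c, c.2, fun x hx => ?_⟩
  have h1 : (⟨x, hPH hx⟩ : H) ∈ (S2 : Subgroup H) := hS2 (mem_subgroupOf.mpr hx)
  have h2 : c * ⟨x, hPH hx⟩ * c⁻¹ ∈ ((S.subtype hSH : Sylow p H) : Subgroup H) := by
    rw [← hc, Sylow.coe_subgroup_smul]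
    exact smul_mem_pointwise_smul _ (MulAut.conj c) _ h1
  rw [Sylow.coe_subtype] at h2
  exact h2

/-- A `p`-subgroup is conjugate into a Sylow subgroup. -/
theorem conj_sylow {p : ℕ} [Fact p.Prime] (S : Sylow p G) {P : Subgroup G} (hP : IsPGroup p P) :
    ∃ h : G, ∀ x ∈ P, h * x * h⁻¹ ∈ (S : Subgroup G) := by
  obtain ⟨h, -, hh⟩ := conj_into S (H := ⊤) le_top hP le_top
  exact ⟨h, hh⟩

/-- Two `p`-subgroups `A`, `P` of `H`: after conjugating `P` in `H`, both are conjugate into `S` by the same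
element. -/
theorem conj_two {p : ℕ} [Fact p.Prime] (S : Sylow p G) {H A P : Subgroup G} (hA : IsPGroup p A) (hAH : A ≤ H)
    (hP : IsPGroup p P) (hPH : P ≤ H) : ∃ h ∈ H, ∃ k : G, (∀ a ∈ A, k * a * k⁻¹ ∈ (S : Subgroup G)) ∧
      ∀ x ∈ P, (k * h) * x * (k * h)⁻¹ ∈ (S : Subgroup G) := by
  have hA' : IsPGroup p (A.subgroupOf H) := hA.comap_subtype
  have hP' : IsPGroup p (P.subgroupOf H) := hP.comap_subtype
  obtain ⟨S1, hS1⟩ := hA'.exists_le_sylow
  obtain ⟨S2, hS2⟩ := hP'.exists_le_sylow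
  obtain ⟨c, hc⟩ := MulAction.exists_smul_eq H S2 S1
  have hT : IsPGroup p ((S1 : Subgroup H).map H.subtype) := S1.isPGroup'.map _
  obtain ⟨k, hk⟩ := conj_sylow S hT
  refine ⟨c, c.2, k, fun a ha => hk a ⟨⟨a, hAH ha⟩, hS1 (mem_subgroupOf.mpr ha), rfl⟩, fun x hx => ?_⟩
  have h1 : (⟨x, hPH hx⟩ : H) ∈ (S2 : Subgroup H) := hS2 (mem_subgroupOf.mpr hx)
  have h2 : c * ⟨x, hPH hx⟩ * c⁻¹ ∈ (S1 : Subgroup H) := by
    rw [← hc, Sylow.coe_subgroup_smul]
    exact smul_mem_pointwise_smul _ (MulAut.conj c) _ h1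
  have h3 := hk _ ⟨_, h2, rfl⟩
  have e : k * ((c * ⟨x, hPH hx⟩ * c⁻¹ : H) : G) * k⁻¹ = (k * c) * x * (k * c)⁻¹ := by
    push_cast
    group
  rw [← e]
  exact h3

/-- Sylow's theorem in `D`: `M ≤ D` a `p`-subgroup of maximal order among those containing it. -/
theorem conj_into_max {p : ℕ} [Fact p.Prime] {D M P : Subgroup G} (hMD : M ≤ D) (hM : IsPGroup p M)
    (hmax : ∀ T : Subgroup G, IsPGroup p T → M ≤ T → T ≤ D → Nat.card T ≤ Nat.card M)
    (hP : IsPGroup p P) (hPD : P ≤ D) : ∃ h ∈ D, ∀ x ∈ P, h * x * h⁻¹ ∈ M := by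
  have hM' : IsPGroup p (M.subgroupOf D) := hM.comap_subtype
  have hP' : IsPGroup p (P.subgroupOf D) := hP.comap_subtype
  obtain ⟨S1, hS1⟩ := hM'.exists_le_sylow
  obtain ⟨S2, hS2⟩ := hP'.exists_le_sylow
  obtain ⟨c, hc⟩ := MulAction.exists_smul_eq D S2 S1
  have hle : M ≤ (S1 : Subgroup D).map D.subtype := fun x hx =>
    ⟨⟨x, hMD hx⟩, hS1 (mem_subgroupOf.mpr hx), rfl⟩
  have heq : M = (S1 : Subgroup D).map D.subtype := by
    apply Subgroup.eq_of_le_of_card_ge hle
    refine hmax _ (S1.isPGroup'.map _) hle ?_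
    rintro _ ⟨y, -, rfl⟩
    exact y.2
  refine ⟨c, c.2, fun x hx => ?_⟩
  have h1 : (⟨x, hPD hx⟩ : D) ∈ (S2 : Subgroup D) := hS2 (mem_subgroupOf.mpr hx)
  have h2 : c * ⟨x, hPD hx⟩ * c⁻¹ ∈ (S1 : Subgroup D) := by
    rw [← hc, Sylow.coe_subgroup_smul]
    exact smul_mem_pointwise_smul _ (MulAut.conj c) _ h1
  rw [heq]
  exact ⟨_, h2, rfl⟩

omit [Finite G] in
theorem isPGroup_conj {p : ℕ} {P : Subgroup G} (hP : IsPGroup p P) (g : G) :
    IsPGroup p (P.map (MulAut.conj g).toMonoidHom) := hP.map _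

omit [Finite G] in
theorem mem_map_conj {P : Subgroup G} {g x : G} :
    x ∈ P.map (MulAut.conj g).toMonoidHom ↔ g⁻¹ * x * g ∈ P := by
  constructor
  · rintro ⟨y, hy, rfl⟩
    simpa [mul_assoc] using hy
  · intro h
    exact ⟨_, h, by simp [mul_assoc]⟩

end Cfsg.Agent.GH.L2.Tool
end

-- part: GH/L2/WrFour
section
prune_inst 0x424603444592202000018051270003e46da000502006b8401fde10f02068eff62ad022761cce01f135802aa4400300068129800504018000000200000411901a0802a52069348a10427000f80b087180c00000000000000000000000000041000000000000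
set_option linter.all false
open scoped Cfsg.Agent.FastGrp

/-!
# Project GH, branch GH-L2: Sylow 2-subgroups `V₄ wr 2`

`S` is a Sylow 2-subgroup of the finite group `G`, `S = E⟨d⟩` with `E` elementary abelian of order 16 and `d` an
involution acting freely on `E`.  Then `d` is not conjugate to an element of `E`; in particular (transfer) `G` has a
subgroup of index two.
-/

set_option autoImplicit false

namespace Cfsg.Agent.GH.L2.WrFour

open Subgroup Tool

variable {G : Type*} [Group G]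

/-- `S = E⟨d⟩`, `E` elementary abelian of order 16, `d` an involution with `|C_E(d)| = 4`. -/
structure Cfg (S E : Subgroup G) (d : G) : Prop where
  le : E ≤ S
  card : Nat.card E = 16
  sq : ∀ e ∈ E, e * e = 1
  mem : d ∈ S
  nmem : d ∉ E
  dd : d * d = 1
  cent : Nat.card (E ⊓ centralizer ({d} : Set G) : Subgroup G) = 4
  cov : ∀ s ∈ S, s ∈ E ∨ d * s ∈ E

namespace Cfg

variable {S E : Subgroup G} {d : G} (C : Cfg S E d)
include C

theorem inv_eq {e : G} (he : e ∈ E) : e⁻¹ = e := inv_eq_iff_mul_eq_one.mpr (C.sq e he)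

theorem d_inv : d⁻¹ = d := inv_eq_iff_mul_eq_one.mpr C.dd

theorem comm {a b : G} (ha : a ∈ E) (hb : b ∈ E) : a * b = b * a := by
  have h := C.sq _ (mul_mem ha hb)
  calc a * b = a * b * (b * a * (b * a)) := by rw [C.sq _ (mul_mem hb ha), mul_one]
    _ = (a * (b * b) * a) * (b * a) := by group
    _ = b * a := by rw [C.sq b hb, mul_one, C.sq a ha, one_mul]

theorem conj_d {e : G} (he : e ∈ E) : d * e * d ∈ E := by
  have h1 : d * e * d ∈ S := mul_mem (mul_mem C.mem (C.le he)) C.mem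
  rcases C.cov _ h1 with h | h
  · exact h
  · exfalso
    have h2 : d * (d * e * d) = e * d := by
      rw [← mul_assoc, ← mul_assoc, C.dd, one_mul]
    rw [h2] at h
    exact C.nmem ((mul_mem_cancel_left he).1 h)

theorem mem_Z {e : G} : e ∈ E ⊓ centralizer ({d} : Set G) ↔ e ∈ E ∧ e * d = d * e := by
  rw [mem_inf, mem_centralizer_singleton_iff]

theorem d_mul {s : G} (hs : s ∈ S) (h : s ∉ E) : ∃ e ∈ E, s = d * e := by
  refine ⟨d * s, (C.cov s hs).resolve_left h, ?_⟩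
  rw [← mul_assoc, C.dd, one_mul]

/-- involutions outside `E` -/
theorem inv_out {s : G} (hs : s ∈ S) (h : s ∉ E) (h1 : s * s = 1) :
    ∃ z, z ∈ E ∧ z * d = d * z ∧ s = d * z := by
  obtain ⟨e, he, rfl⟩ := C.d_mul hs h
  refine ⟨e, he, ?_, rfl⟩
  have h2 : d * e * d = e⁻¹ := by
    rw [eq_inv_iff_mul_eq_one]
    rw [← h1]
    group
  rw [C.inv_eq he] at h2
  calc e * d = (d * d) * (e * d) := by rw [C.dd, one_mul]
    _ = d * (d * e * d) := by group
    _ = d * e := by rw [h2]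

theorem exists_n [Finite G] {z : G} (hz : z ∈ E) (hzd : z * d = d * z) : ∃ e ∈ E, e * (d * e * d) = z := by
  classical
  have : Finite E := Subtype.finite
  let Z : Subgroup G := E ⊓ centralizer ({d} : Set G)
  let f : E →* E :=
    { toFun := fun e => ⟨e * (d * e * d), mul_mem e.2 (C.conj_d e.2)⟩
      map_one' := by
        apply Subtype.ext
        simp [C.dd]
      map_mul' := by
        intro a b
        apply Subtype.ext
        change (a * b : G) * (d * (a * b) * d) = (a * (d * a * d)) * (b * (d * b * d))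
        have e1 : d * ((a : G) * b) * d = (d * a * d) * (d * b * d) := by
          calc d * ((a : G) * b) * d = d * a * (1 : G) * b * d := by group
            _ = d * a * (d * d) * b * d := by rw [C.dd]
            _ = (d * a * d) * (d * b * d) := by group
        rw [e1]
        calc (a : G) * b * (d * a * d * (d * b * d)) = a * (b * (d * a * d)) * (d * b * d) := by group
          _ = a * ((d * a * d) * b) * (d * b * d) := by rw [C.comm b.2 (C.conj_d a.2)]
          _ = _ := by group }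
  have hker : ∀ e : E, e ∈ f.ker ↔ (e : G) * d = d * e := by
    intro e
    rw [MonoidHom.mem_ker]
    constructor
    · intro h
      have h1 : (e : G) * (d * e * d) = 1 := congrArg Subtype.val h
      have h2 : d * (e : G) * d = e := by
        rw [← C.inv_eq e.2, ← mul_eq_one_iff_eq_inv'] at *
        first
          | exact h1
          | simpa [C.inv_eq e.2] using h1
      calc (e : G) * d = (d * e * d) * d := by rw [h2]
        _ = d * e * (d * d) := by group
        _ = d * e := by rw [C.dd, mul_one]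
    · intro h
      apply Subtype.ext
      change (e : G) * (d * e * d) = 1
      rw [← h]
      calc (e : G) * (e * d * d) = (e * e) * (d * d) := by group
        _ = 1 := by rw [C.sq _ e.2, C.dd, mul_one]
  have hk4 : Nat.card f.ker = 4 := by
    rw [← C.cent]
    refine Nat.card_congr
      { toFun := fun x => ⟨x.1.1, C.mem_Z.2 ⟨x.1.2, (hker x.1).1 x.2⟩⟩
        invFun := fun y => ⟨⟨y.1, (C.mem_Z.1 y.2).1⟩, (hker _).2 (C.mem_Z.1 y.2).2⟩
        left_inv := fun x => rfl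
        right_inv := fun y => rfl }
  have hr4 : Nat.card f.range = 4 := by
    have h1 := Subgroup.card_mul_index f.ker
    rw [Subgroup.index_ker, hk4, C.card] at h1
    omega
  have hle : f.range ≤ Z.subgroupOf E := by
    rintro _ ⟨e, rfl⟩
    rw [mem_subgroupOf]
    refine C.mem_Z.2 ⟨(f e).2, ?_⟩
    change (e : G) * (d * e * d) * d = d * (e * (d * e * d))
    calc (e : G) * (d * e * d) * d = e * (d * e) * (d * d) := by group
      _ = e * (d * e * 1) := by rw [C.dd]; group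
      _ = e * (d * e * (d * d)) := by rw [C.dd]
      _ = (e * (d * e * d)) * d := by group
      _ = ((d * e * d) * e) * d := by rw [C.comm e.2 (C.conj_d e.2)]
      _ = d * (e * (d * e * d)) := by group
  have hZ4 : Nat.card (Z.subgroupOf E) = 4 := by
    rw [← C.cent]
    exact Nat.card_congr (subgroupOfEquivOfLe (inf_le_left : Z ≤ E)).toEquiv
  have heq : f.range = Z.subgroupOf E := by
    apply Subgroup.eq_of_le_of_card_ge hle
    rw [hr4, hZ4]
  have h1 : (⟨z, hz⟩ : E) ∈ f.range := by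
    rw [heq, mem_subgroupOf]
    exact C.mem_Z.2 ⟨hz, hzd⟩
  obtain ⟨e, he⟩ := h1
  exact ⟨e, e.2, congrArg Subtype.val he⟩

theorem cent_dz {x z : G} (hx : x ∈ S) (hz : z ∈ E) (hzd : z * d = d * z)
    (h : x * (d * z) = d * z * x) : x * d = d * x := by
  by_cases hxE : x ∈ E
  · have h1 : x * d * z = d * x * z := by
      calc x * d * z = x * (d * z) := by group
        _ = d * (z * x) := by rw [h]; group
        _ = d * (x * z) := by rw [C.comm hz hxE]
        _ = d * x * z := by group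
    exact mul_right_cancel h1
  · obtain ⟨e, he, rfl⟩ := C.d_mul hx hxE
    have h1 : e * d * z = d * e * z := by
      have h2 : d * (e * d * z) = d * (d * e * z) := by
        calc d * (e * d * z) = d * e * (d * z) := by group
          _ = d * z * (d * e) := h
          _ = d * (z * d) * e := by group
          _ = d * (d * z) * e := by rw [hzd]
          _ = d * d * (z * e) := by group
          _ = d * d * (e * z) := by rw [C.comm hz he]
          _ = d * (d * e * z) := by group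
      exact mul_left_cancel h2
    have h3 : e * d = d * e := mul_right_cancel h1
    calc d * e * d = d * (e * d) := by group
      _ = d * (d * e) := by rw [h3]

/-- the elements of `C_S(d)` -/
theorem F_cases {x : G} (hx : x ∈ S) (h : x * d = d * x) :
    (x ∈ E ∧ x * d = d * x) ∨ ∃ z ∈ E, z * d = d * z ∧ x = d * z := by
  by_cases hxE : x ∈ E
  · exact Or.inl ⟨hxE, h⟩
  · obtain ⟨e, he, rfl⟩ := C.d_mul hx hxE
    refine Or.inr ⟨e, he, ?_, rfl⟩
    have h1 : d * (e * d) = d * (d * e) := by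
      calc d * (e * d) = d * e * d := by group
        _ = d * (d * e) := h
    exact mul_left_cancel h1

theorem F_sq {x : G} (hx : x ∈ S) (h : x * d = d * x) : x * x = 1 := by
  rcases C.F_cases hx h with ⟨h1, -⟩ | ⟨z, hz, hzd, rfl⟩
  · exact C.sq x h1
  · calc d * z * (d * z) = d * (z * d) * z := by group
      _ = d * (d * z) * z := by rw [hzd]
      _ = (d * d) * (z * z) := by group
      _ = 1 := by rw [C.dd, C.sq z hz, mul_one]

theorem F_comm {x y : G} (hx : x ∈ S) (h : x * d = d * x) (hy : y ∈ S)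
    (h' : y * d = d * y) : x * y = y * x := by
  have hxy : x * y * d = d * (x * y) := by
    calc x * y * d = x * (y * d) := by group
      _ = x * d * y := by rw [h']; group
      _ = d * (x * y) := by rw [h]; group
  have h1 := C.F_sq (mul_mem hx hy) hxy
  have h2 := C.F_sq hx h
  have h3 := C.F_sq hy h'
  calc x * y = x * y * (x * y) * (y * x) := by
        rw [show x * y * (x * y) * (y * x) = x * y * (x * (y * y) * x) by group, h3, mul_one, h2, mul_one]
    _ = y * x := by rw [h1, one_mul]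

open scoped Classical in
/-- a subset of `C_S(d)` has at most 8 elements -/
theorem card_le [Finite G] (A : Subgroup G) (hA : ∀ a ∈ A, a ∈ S ∧ a * d = d * a) :
    Nat.card A ≤ 8 := by
  let Z : Subgroup G := E ⊓ centralizer ({d} : Set G)
  have hZ : Nat.card Z = 4 := C.cent
  have : Finite (Z × Bool) := inferInstance
  have h8 : Nat.card (Z × Bool) = 8 := by
    rw [Nat.card_prod, hZ, Nat.card_eq_fintype_card, Fintype.card_bool]
  rw [← h8]
  have hd : ∀ a : A, (a : G) ∉ E → d * (a : G) ∈ Z := by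
    intro a ha
    rcases C.F_cases (hA a a.2).1 (hA a a.2).2 with ⟨h, -⟩ | ⟨z, hz, hzd, h⟩
    · exact absurd h ha
    · rw [h, ← mul_assoc, C.dd, one_mul]
      exact C.mem_Z.2 ⟨hz, hzd⟩
  let f : A → Z × Bool := fun a =>
    if h : (a : G) ∈ E then (⟨a, C.mem_Z.2 ⟨h, (hA a a.2).2⟩⟩, true) else (⟨d * a, hd a h⟩, false)
  refine Nat.card_le_card_of_injective f ?_
  intro a b hab
  by_cases ha : (a : G) ∈ E <;> by_cases hb : (b : G) ∈ E <;> simp only [f, ha, hb, dite_true, dite_false,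
    Prod.mk.injEq, Subtype.mk.injEq, reduceCtorEq, and_false, and_true] at hab
  · exact Subtype.ext hab
  · exact Subtype.ext (mul_left_cancel hab)

/-- `E` is the only elementary abelian subgroup of order 16 of `S`. -/
theorem unique [Finite G] {k : G} (hk : ∀ e ∈ E, k * e * k⁻¹ ∈ S) :
    ∀ e ∈ E, k * e * k⁻¹ ∈ E := by
  by_contra hcon
  push Not at hcon
  obtain ⟨e1, he1, h1⟩ := hcon
  have hinv : k * e1 * k⁻¹ * (k * e1 * k⁻¹) = 1 := by
    rw [show k * e1 * k⁻¹ * (k * e1 * k⁻¹) = k * (e1 * e1) * k⁻¹ by group, C.sq e1 he1]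
    group
  obtain ⟨z, hz, hzd, hx⟩ := C.inv_out (hk e1 he1) h1 hinv
  have h2 := C.card_le (E.map (MulAut.conj k).toMonoidHom) (by
    rintro _ ⟨e, he, rfl⟩
    have e0 : (MulAut.conj k).toMonoidHom e = k * e * k⁻¹ := rfl
    rw [e0]
    refine ⟨hk e he, C.cent_dz (hk e he) hz hzd ?_⟩
    rw [← hx]
    rw [show k * e * k⁻¹ * (k * e1 * k⁻¹) = k * (e * e1) * k⁻¹ by group, C.comm he he1]
    group)
  rw [Nat.card_congr (E.equivMapOfInjective _ (MulAut.conj k).injective).toEquiv.symm, C.card] at h2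
  omega

theorem mem_F {x : G} : x ∈ S ⊓ centralizer ({d} : Set G) ↔ x ∈ S ∧ x * d = d * x := by
  rw [mem_inf, mem_centralizer_singleton_iff]

/-- the elements of `S` normalise `C_S(d)` -/
theorem F_normal {s x : G} (hs : s ∈ S) (hx : x ∈ S) (h : x * d = d * x) :
    s * x * s⁻¹ * d = d * (s * x * s⁻¹) := by
  -- it is enough that `s` maps `d` to an element `d z`
  have key : ∃ z ∈ E, z * d = d * z ∧ s⁻¹ * d * s = d * z := by
    refine C.inv_out (mul_mem (mul_mem (inv_mem hs) C.mem) hs) ?_ ?_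
    · intro h1
      have h2 : s * (s⁻¹ * d * s) * s⁻¹ ∈ E := by
        by_cases hsE : s ∈ E
        · exact mul_mem (mul_mem hsE h1) (inv_mem hsE)
        · obtain ⟨e, he, rfl⟩ := C.d_mul hs hsE
          have e1 : d * e * ((d * e)⁻¹ * d * (d * e)) * (d * e)⁻¹ =
              d * (e * ((d * e)⁻¹ * d * (d * e)) * e⁻¹) * d := by
            rw [mul_inv_rev, C.d_inv]
            group
          rw [e1]
          exact C.conj_d (mul_mem (mul_mem he h1) (inv_mem he))
      rw [show s * (s⁻¹ * d * s) * s⁻¹ = d by group] at h2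
      exact C.nmem h2
    · rw [show s⁻¹ * d * s * (s⁻¹ * d * s) = s⁻¹ * (d * d) * s by group, C.dd]
      group
  obtain ⟨z, hz, hzd, hdz⟩ := key
  have h3 : x * (d * z) = d * z * x := by
    have hz' : z * x = x * z := C.F_comm (C.le hz) hzd hx h
    calc x * (d * z) = x * d * z := by group
      _ = d * (x * z) := by rw [h]; group
      _ = d * z * x := by rw [← hz']; group
  rw [← hdz] at h3
  calc s * x * s⁻¹ * d = s * (x * (s⁻¹ * d * s)) * s⁻¹ := by group
    _ = s * ((s⁻¹ * d * s) * x) * s⁻¹ := by rw [h3]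
    _ = d * (s * x * s⁻¹) := by group

theorem S_cent_Z {s z : G} (hs : s ∈ S) (hz : z ∈ E) (hzd : z * d = d * z) : s * z = z * s := by
  by_cases hsE : s ∈ E
  · exact C.comm hsE hz
  · obtain ⟨e, he, rfl⟩ := C.d_mul hs hsE
    calc d * e * z = d * (e * z) := by group
      _ = d * (z * e) := by rw [C.comm he hz]
      _ = d * z * e := by group
      _ = z * (d * e) := by rw [← hzd]; group

/-- conjugation into `S`, extremal form -/
theorem exists_ext [Finite G] (P : Sylow 2 G) (hPS : (P : Subgroup G) = S) {g : G} (h0 : g * d * g⁻¹ ∈ E) :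
    ∃ h : G, (∀ x ∈ S, x * d = d * x → h * x * h⁻¹ ∈ S) ∧ h * d * h⁻¹ ∈ E := by
  have : Fact (Nat.Prime 2) := ⟨Nat.prime_two⟩
  subst hPS
  have hE2 : IsPGroup 2 E := P.isPGroup'.to_le C.le
  have hF2 : IsPGroup 2 ((P : Subgroup G) ⊓ centralizer ({d} : Set G) : Subgroup G) :=
    P.isPGroup'.to_le inf_le_left
  obtain ⟨c, hc, k, hk1, hk2⟩ := conj_two P (H := centralizer ({g * d * g⁻¹} : Set G)) (A := E)
    (P := ((P : Subgroup G) ⊓ centralizer ({d} : Set G) : Subgroup G).map (MulAut.conj g).toMonoidHom) hE2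
    (fun e he => by
      rw [mem_centralizer_singleton_iff]
      exact C.comm he h0) (hF2.map _) (by
      rintro _ ⟨x, hx, rfl⟩
      have e0 : (MulAut.conj g).toMonoidHom x = g * x * g⁻¹ := rfl
      rw [e0, mem_centralizer_singleton_iff]
      have h1 : x * d = d * x := (C.mem_F.1 hx).2
      calc g * x * g⁻¹ * (g * d * g⁻¹) = g * (x * d) * g⁻¹ := by group
        _ = g * (d * x) * g⁻¹ := by rw [h1]
        _ = _ := by group)
  rw [mem_centralizer_singleton_iff] at hc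
  refine ⟨k * c * g, fun x hx hxd => ?_, ?_⟩
  · have h1 := hk2 (g * x * g⁻¹) ⟨x, C.mem_F.2 ⟨hx, hxd⟩, rfl⟩
    rw [show k * c * g * x * (k * c * g)⁻¹ = k * c * (g * x * g⁻¹) * (k * c)⁻¹ by group]
    exact h1
  · have h1 := C.unique hk1 _ h0
    have e1 : k * c * g * d * (k * c * g)⁻¹ = k * (c * (g * d * g⁻¹) * c⁻¹) * k⁻¹ := by group
    have e2 : c * (g * d * g⁻¹) * c⁻¹ = g * d * g⁻¹ := by
      rw [hc]
      group
    rw [e1, e2]
    exact h1

/-- **[SX1]** `d` is not conjugate to an element of `E`. -/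
theorem not_conj [Finite G] (P : Sylow 2 G) (hPS : (P : Subgroup G) = S) (g : G) : g * d * g⁻¹ ∉ E := by
  intro h0
  have : Fact (Nat.Prime 2) := ⟨Nat.prime_two⟩
  obtain ⟨h, hF, hdE⟩ := C.exists_ext P hPS h0
  set F : Subgroup G := S ⊓ centralizer ({d} : Set G) with hFdef
  have hS2 : IsPGroup 2 S := hPS ▸ P.isPGroup'
  have mF : ∀ {x : G}, x ∈ F ↔ x ∈ S ∧ x * d = d * x := fun {x} => C.mem_F
  have hE2 : IsPGroup 2 E := hS2.to_le C.le
  have hF8 : Nat.card F ≤ 8 := C.card_le F (fun a ha => mF.1 ha)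
  -- `S` normalises `F`
  have hSN : S ≤ normalizer (F : Set G) := by
    intro s hs
    rw [mem_normalizer_iff]
    intro x
    constructor
    · intro hx
      have h1 := mF.1 hx
      exact mF.2 ⟨mul_mem (mul_mem hs h1.1) (inv_mem hs), C.F_normal hs h1.1 h1.2⟩
    · intro hx
      have h1 := mF.1 hx
      have h2 := C.F_normal (inv_mem hs) h1.1 h1.2
      have e1 : s⁻¹ * (s * x * s⁻¹) * s⁻¹⁻¹ = x := by group
      rw [e1] at h2
      refine mF.2 ⟨?_, h2⟩
      have h3 := mul_mem (mul_mem (inv_mem hs) h1.1) hs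
      rwa [show s⁻¹ * (s * x * s⁻¹) * s = x by group] at h3
  -- some element of `F` is moved out of `E`
  have hout : ∃ x ∈ F, h * x * h⁻¹ ∉ E := by
    by_contra hcon
    push Not at hcon
    have hcen : ∀ e ∈ E, ∀ x ∈ F, h⁻¹ * e * h * x = x * (h⁻¹ * e * h) := by
      intro e he x hx
      have h1 := C.comm he (hcon x hx)
      calc h⁻¹ * e * h * x = h⁻¹ * (e * (h * x * h⁻¹)) * h := by group
        _ = h⁻¹ * ((h * x * h⁻¹) * e) * h := by rw [h1]
        _ = x * (h⁻¹ * e * h) := by group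
    obtain ⟨n, hn, hn'⟩ := conj_into P (H := normalizer (F : Set G))
      (P := E.map (MulAut.conj h⁻¹).toMonoidHom) (hPS ▸ hSN) (hE2.map _) (by
        rintro _ ⟨e, he, rfl⟩
        have e0 : (MulAut.conj h⁻¹).toMonoidHom e = h⁻¹ * e * h := by
          change h⁻¹ * e * h⁻¹⁻¹ = _
          rw [inv_inv]
        rw [e0, mem_normalizer_iff]
        intro x
        constructor
        · intro hx
          have h1 := hcen e he x hx
          rw [h1]
          rw [show x * (h⁻¹ * e * h) * (h⁻¹ * e * h)⁻¹ = x by group]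
          exact hx
        · intro hx
          have h1 := hcen e⁻¹ (inv_mem he) _ hx
          have e2 : h⁻¹ * e⁻¹ * h = (h⁻¹ * e * h)⁻¹ := by group
          rw [e2] at h1
          have h3 : (h⁻¹ * e * h)⁻¹ * (h⁻¹ * e * h * x * (h⁻¹ * e * h)⁻¹) * (h⁻¹ * e * h) = x := by group
          rw [h1] at h3
          rw [← h3]
          rw [show h⁻¹ * e * h * x * (h⁻¹ * e * h)⁻¹ * (h⁻¹ * e * h)⁻¹ * (h⁻¹ * e * h) =
            h⁻¹ * e * h * x * (h⁻¹ * e * h)⁻¹ by group]
          exact hx)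
    rw [hPS] at hn'
    rw [mem_normalizer_iff] at hn
    have hdF : d ∈ F := mF.2 ⟨C.mem, rfl⟩
    have hle : (E.map (MulAut.conj h⁻¹).toMonoidHom).map (MulAut.conj n).toMonoidHom ≤ F := by
      rintro _ ⟨_, ⟨e, he, rfl⟩, rfl⟩
      have e0 : (MulAut.conj n).toMonoidHom ((MulAut.conj h⁻¹).toMonoidHom e) = n * (h⁻¹ * e * h) * n⁻¹ := by
        change n * (h⁻¹ * e * h⁻¹⁻¹) * n⁻¹ = _
        rw [inv_inv]
      rw [e0]
      have h1 : n * (h⁻¹ * e * h) * n⁻¹ ∈ S := by
        have := hn' _ ⟨e, he, rfl⟩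
        change n * (h⁻¹ * e * h⁻¹⁻¹) * n⁻¹ ∈ _ at this
        rwa [inv_inv] at this
      refine mF.2 ⟨h1, ?_⟩
      have h2 : n⁻¹ * d * n ∈ F := by
        rw [hn]
        rwa [show n * (n⁻¹ * d * n) * n⁻¹ = d by group]
      have h3 := hcen e he _ h2
      calc n * (h⁻¹ * e * h) * n⁻¹ * d = n * ((h⁻¹ * e * h) * (n⁻¹ * d * n)) * n⁻¹ := by group
        _ = n * ((n⁻¹ * d * n) * (h⁻¹ * e * h)) * n⁻¹ := by rw [h3]
        _ = d * (n * (h⁻¹ * e * h) * n⁻¹) := by group
    have h4 := Nat.card_le_card_of_injective _ (Subgroup.inclusion_injective hle)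
    rw [Nat.card_congr ((E.map (MulAut.conj h⁻¹).toMonoidHom).equivMapOfInjective _
      (MulAut.conj n).injective).toEquiv.symm,
      Nat.card_congr (E.equivMapOfInjective _ (MulAut.conj h⁻¹).injective).toEquiv.symm, C.card] at h4
    omega
  obtain ⟨x1, hx1, hx1E⟩ := hout
  have hx1' := mF.1 hx1
  obtain ⟨z1, hz1, hz1d, hy⟩ := C.inv_out (hF x1 hx1'.1 hx1'.2) hx1E (by
    rw [show h * x1 * h⁻¹ * (h * x1 * h⁻¹) = h * (x1 * x1) * h⁻¹ by group, C.F_sq hx1'.1 hx1'.2]
    group)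
  -- `h` maps `F` into `F`
  have hFF : ∀ x ∈ F, h * x * h⁻¹ ∈ F := by
    intro x hx
    have hx' := mF.1 hx
    refine mF.2 ⟨hF x hx'.1 hx'.2, C.cent_dz (hF x hx'.1 hx'.2) hz1 hz1d ?_⟩
    rw [← hy]
    calc h * x * h⁻¹ * (h * x1 * h⁻¹) = h * (x * x1) * h⁻¹ := by group
      _ = h * (x1 * x) * h⁻¹ := by rw [C.F_comm hx'.1 hx'.2 hx1'.1 hx1'.2]
      _ = _ := by group
  have hFmap : F.map (MulAut.conj h).toMonoidHom = F := by
    apply Subgroup.eq_of_le_of_card_ge
    · rintro _ ⟨x, hx, rfl⟩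
      exact hFF x hx
    · rw [Nat.card_congr (F.equivMapOfInjective _ (MulAut.conj h).injective).toEquiv.symm]
  have hFF' : ∀ x ∈ F, h⁻¹ * x * h ∈ F := by
    intro x hx
    rw [← hFmap] at hx
    exact mem_map_conj.1 hx
  -- `e = h d h⁻¹` is in `Z`
  have hdF : d ∈ F := mF.2 ⟨C.mem, rfl⟩
  have hed : h * d * h⁻¹ * d = d * (h * d * h⁻¹) := (mF.1 (hFF d hdF)).2
  -- an element `a ≠ 1` of `Z ∩ h Z h⁻¹`
  set Z : Subgroup G := E ⊓ centralizer ({d} : Set G) with hZdef
  have mZ : ∀ {x : G}, x ∈ Z ↔ x ∈ E ∧ x * d = d * x := fun {x} => C.mem_Z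
  have hZF : Z ≤ F := fun x hx => mF.2 ⟨C.le (mZ.1 hx).1, (mZ.1 hx).2⟩
  have ha : ∃ a, a ∈ Z ∧ a ∈ Z.map (MulAut.conj h).toMonoidHom ∧ a ≠ 1 := by
    by_contra hcon
    push Not at hcon
    have hdis : Disjoint Z (Z.map (MulAut.conj h).toMonoidHom) := by
      rw [disjoint_iff_inf_le]
      intro a ha
      exact mem_bot.2 (hcon a ha.1 ha.2)
    have hinj := mul_injective_of_disjoint hdis
    let f : Z × (Z.map (MulAut.conj h).toMonoidHom : Subgroup G) → F := fun p =>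
      ⟨p.1 * p.2, mul_mem (hZF p.1.2) (by
        obtain ⟨q, ⟨y, hy1, hy2⟩⟩ := p.2
        change q ∈ F
        rw [← hy2]
        exact hFF y (hZF hy1))⟩
    have hf : Function.Injective f := by
      intro p q hpq
      exact hinj (congrArg Subtype.val hpq)
    have h5 := Nat.card_le_card_of_injective f hf
    rw [Nat.card_prod, Nat.card_congr (Z.equivMapOfInjective _ (MulAut.conj h).injective).toEquiv.symm,
      C.cent] at h5
    omega
  obtain ⟨a, haZ, ⟨z', hz'Z, hz'a⟩, ha1⟩ := ha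
  change h * z' * h⁻¹ = a at hz'a
  obtain ⟨e2, he2, hn2⟩ := C.exists_n (mZ.1 hz'Z).1 (mZ.1 hz'Z).2
  have he2i := C.inv_eq he2
  -- `x = h e₂ h⁻¹`
  have hxx : (h * e2 * h⁻¹) * (h * e2 * h⁻¹) = 1 := by
    rw [show (h * e2 * h⁻¹) * (h * e2 * h⁻¹) = h * (e2 * e2) * h⁻¹ by group, C.sq e2 he2]
    group
  have hxinv : (h * e2 * h⁻¹)⁻¹ = h * e2 * h⁻¹ := inv_eq_iff_mul_eq_one.mpr hxx
  have hact : ∀ z ∈ Z, (h * e2 * h⁻¹) * z * (h * e2 * h⁻¹)⁻¹ ∈ Z := by
    intro z hz
    have h1 := mF.1 (hFF' z (hZF hz))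
    rcases C.F_cases h1.1 h1.2 with ⟨h2, -⟩ | ⟨z2, hz2, hz2d, h2⟩
    · have e1 : (h * e2 * h⁻¹) * z * (h * e2 * h⁻¹)⁻¹ = h * (e2 * (h⁻¹ * z * h)) * e2⁻¹ * h⁻¹ := by group
      rw [e1, C.comm he2 h2]
      rw [show h * (h⁻¹ * z * h * e2) * e2⁻¹ * h⁻¹ = z by group]
      exact hz
    · have e1 : (h * e2 * h⁻¹) * z * (h * e2 * h⁻¹)⁻¹ = h * (e2 * (h⁻¹ * z * h) * e2⁻¹) * h⁻¹ := by group
      have e2' : e2 * (d * z2) * e2⁻¹ = z' * (d * z2) := by
        rw [he2i]
        calc e2 * (d * z2) * e2 = e2 * d * (z2 * e2) := by group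
          _ = e2 * d * (e2 * z2) := by rw [C.comm hz2 he2]
          _ = e2 * (d * e2 * 1) * z2 := by group
          _ = e2 * (d * e2 * (d * d)) * z2 := by rw [C.dd]
          _ = e2 * (d * e2 * d) * (d * z2) := by group
          _ = z' * (d * z2) := by rw [hn2]
      have e3 : (h * e2 * h⁻¹) * z * (h * e2 * h⁻¹)⁻¹ = a * z := by
        rw [e1, h2, e2', ← h2, ← hz'a]
        group
      rw [e3]
      exact mul_mem haZ hz
  have hxN : h * e2 * h⁻¹ ∈ normalizer (Z : Set G) := by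
    rw [mem_normalizer_iff]
    intro z
    refine ⟨hact z, fun hz => ?_⟩
    have h1 := hact _ hz
    have e1 : h * e2 * h⁻¹ * (h * e2 * h⁻¹ * z * (h * e2 * h⁻¹)⁻¹) * (h * e2 * h⁻¹)⁻¹ =
        ((h * e2 * h⁻¹) * (h * e2 * h⁻¹)) * z * ((h * e2 * h⁻¹) * (h * e2 * h⁻¹))⁻¹ := by group
    rw [e1, hxx, one_mul, inv_one, mul_one] at h1
    exact h1
  have hSZ : S ≤ normalizer (Z : Set G) := by
    intro s hs
    rw [mem_normalizer_iff]
    intro z
    constructor
    · intro hz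
      rw [C.S_cent_Z hs (mZ.1 hz).1 (mZ.1 hz).2]
      rw [show z * s * s⁻¹ = z by group]
      exact hz
    · intro hz
      have h1 := C.S_cent_Z (inv_mem hs) (mZ.1 hz).1 (mZ.1 hz).2
      have h2 : s⁻¹ * (s * z * s⁻¹) * s = z := by group
      rw [h1] at h2
      rw [show s * z * s⁻¹ * s⁻¹ * s = s * z * s⁻¹ by group] at h2
      rw [h2] at hz
      exact hz
  obtain ⟨n, hn, hn'⟩ := conj_into P (H := normalizer (Z : Set G)) (P := zpowers (h * e2 * h⁻¹)) (hPS ▸ hSZ)
    (by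
      refine IsPGroup.of_card (n := (Nat.log 2 (Nat.card (zpowers (h * e2 * h⁻¹))))) ?_
      have h1 : orderOf (h * e2 * h⁻¹) ∣ 2 := orderOf_dvd_of_pow_eq_one (by rw [pow_two, hxx])
      rw [Nat.card_zpowers]
      rcases (Nat.dvd_prime Nat.prime_two).1 h1 with h2 | h2 <;> rw [h2] <;> norm_num)
    (by
      rw [zpowers_le]
      exact hxN)
  rw [hPS] at hn'
  have h6 := hn' _ (mem_zpowers _)
  have heZ : h * d * h⁻¹ ∈ Z := mZ.2 ⟨hdE, hed⟩
  have h7 : n * (h * d * h⁻¹) * n⁻¹ ∈ Z := by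
    rw [mem_normalizer_iff] at hn
    exact (hn _).1 heZ
  have h8 := C.S_cent_Z h6 (mZ.1 h7).1 (mZ.1 h7).2
  have h9 : (h * e2 * h⁻¹) * (h * d * h⁻¹) = (h * d * h⁻¹) * (h * e2 * h⁻¹) := by
    calc (h * e2 * h⁻¹) * (h * d * h⁻¹) = n⁻¹ * ((n * (h * e2 * h⁻¹) * n⁻¹) * (n * (h * d * h⁻¹) * n⁻¹)) * n := by
          group
      _ = n⁻¹ * ((n * (h * d * h⁻¹) * n⁻¹) * (n * (h * e2 * h⁻¹) * n⁻¹)) * n := by rw [h8]
      _ = _ := by group
  have h10 : e2 * d = d * e2 := by
    have : h⁻¹ * ((h * e2 * h⁻¹) * (h * d * h⁻¹)) * h = h⁻¹ * ((h * d * h⁻¹) * (h * e2 * h⁻¹)) * h := by rw [h9]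
    calc e2 * d = h⁻¹ * ((h * e2 * h⁻¹) * (h * d * h⁻¹)) * h := by group
      _ = h⁻¹ * ((h * d * h⁻¹) * (h * e2 * h⁻¹)) * h := this
      _ = d * e2 := by group
  apply ha1
  rw [← hz'a, ← hn2]
  rw [show d * e2 * d = e2 * d * d by rw [h10], show e2 * (e2 * d * d) = (e2 * e2) * (d * d) by group, C.sq e2 he2,
    C.dd]
  group

/-- A finite group with Sylow 2-subgroup `V₄ wr 2` has a subgroup of index two. -/
theorem false_of_no_index_two [Finite G] (P : Sylow 2 G) (hPS : (P : Subgroup G) = S)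
    (hG : ∀ H : Subgroup G, H.index ≠ 2) : False := by
  have hrel : E.relIndex S = 2 := by
    have h1 : (E.subgroupOf S).index = 2 := by
      rw [Subgroup.index_eq_two_iff]
      refine ⟨⟨d, C.mem⟩, fun s => ?_⟩
      rw [mem_subgroupOf, mem_subgroupOf]
      change Xor (((s : G) * d) ∈ E) ((s : G) ∈ E)
      by_cases hs : (s : G) ∈ E
      · refine Or.inr ⟨hs, fun h => C.nmem ((mul_mem_cancel_left hs).1 h)⟩
      · refine Or.inl ⟨?_, hs⟩
        obtain ⟨e, he, h⟩ := C.d_mul s.2 hs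
        rw [h]
        exact C.conj_d he
    exact h1
  rcases Cfsg.Agent.Transfer.ThompsonTransfer.thompson_transfer P E (hPS ▸ C.le) (hPS ▸ hrel) d
    (by rw [pow_two, C.dd]) with
    ⟨M, -, hM, -⟩ | ⟨g, hg⟩
  · exact hG M hM
  · exact C.not_conj P hPS g hg

/-- relative form: `M` is a Sylow 2-subgroup of the subgroup `D` -/
theorem not_conj_rel [Finite G] {D : Subgroup G} (hSD : S ≤ D) (hS2 : IsPGroup 2 S)
    (hmax : ∀ T : Subgroup G, IsPGroup 2 T → S ≤ T → T ≤ D → Nat.card T ≤ Nat.card S) {g : G} (hg : g ∈ D) :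
    g * d * g⁻¹ ∉ E := by
  have : Fact (Nat.Prime 2) := ⟨Nat.prime_two⟩
  intro hgd
  have hS' : IsPGroup 2 (S.subgroupOf D) := hS2.comap_subtype
  obtain ⟨P, hP⟩ := hS'.exists_le_sylow
  have hle : S ≤ (P : Subgroup D).map D.subtype := fun x hx =>
    ⟨⟨x, hSD hx⟩, hP (mem_subgroupOf.mpr hx), rfl⟩
  have heq : S = (P : Subgroup D).map D.subtype := by
    apply Subgroup.eq_of_le_of_card_ge hle
    refine hmax _ (P.isPGroup'.map _) hle ?_
    rintro _ ⟨y, -, rfl⟩
    exact y.2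
  have hPS : (P : Subgroup D) = S.subgroupOf D := by
    ext x
    rw [mem_subgroupOf]
    constructor
    · intro hx
      rw [heq]
      exact ⟨x, hx, rfl⟩
    · intro hx
      rw [heq] at hx
      obtain ⟨y, hy, hyx⟩ := hx
      rw [← Subtype.ext hyx]
      exact hy
  have hED : E ≤ D := C.le.trans hSD
  have hdD : d ∈ D := hSD C.mem
  have C' : Cfg (S.subgroupOf D) (E.subgroupOf D) (⟨d, hdD⟩ : D) :=
    { le := fun x hx => mem_subgroupOf.2 (C.le (mem_subgroupOf.1 hx))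
      card := by rw [Nat.card_congr (subgroupOfEquivOfLe hED).toEquiv, C.card]
      sq := fun e he => Subtype.ext (C.sq _ (mem_subgroupOf.1 he))
      mem := mem_subgroupOf.2 C.mem
      nmem := fun h => C.nmem (mem_subgroupOf.1 h)
      dd := Subtype.ext C.dd
      cent := by
        rw [← C.cent]
        refine Nat.card_congr
          { toFun := fun x => ⟨x.1.1, C.mem_Z.2 ⟨mem_subgroupOf.1 (mem_inf.1 x.2).1,
              congrArg Subtype.val (mem_centralizer_singleton_iff.1 (mem_inf.1 x.2).2)⟩⟩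
            invFun := fun y => ⟨⟨y.1, hED (C.mem_Z.1 y.2).1⟩, mem_inf.2 ⟨mem_subgroupOf.2 (C.mem_Z.1 y.2).1,
              mem_centralizer_singleton_iff.2 (Subtype.ext (C.mem_Z.1 y.2).2)⟩⟩
            left_inv := fun x => rfl
            right_inv := fun y => rfl }
      cov := fun s hs => by
        rcases C.cov _ (mem_subgroupOf.1 hs) with h | h
        · exact Or.inl (mem_subgroupOf.2 h)
        · exact Or.inr (mem_subgroupOf.2 h) }
  exact C'.not_conj P hPS ⟨g, hg⟩ (mem_subgroupOf.2 hgd)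

end Cfg

end Cfsg.Agent.GH.L2.WrFour
end

-- part: GH/L2One/DihD
section
set_option linter.all false
open scoped Cfsg.Agent.FastGrp

/-!
# Dihedral subgroups `{r^i, r^i c}` of order `2^(n+1)`, `n ≥ 2`
-/

set_option autoImplicit false

open Subgroup

namespace Cfsg.Agent.GH.L2One.DihD

variable {G : Type*} [Group G]

/-- `D` is dihedral of order `2^(n+1) ≥ 8` with rotation `r` and reflection `c`. -/
structure Dih (D : Subgroup G) (r c : G) (n : ℕ) : Prop where
  two_le : 2 ≤ n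
  ord : orderOf r = 2 ^ n
  cc : c * c = 1
  crc : c * r * c = r⁻¹
  ncz : c ∉ zpowers r
  mem : ∀ g, g ∈ D ↔ (∃ i : ℤ, g = r ^ i) ∨ ∃ i : ℤ, g = r ^ i * c

/-- the central involution -/
def zz (r : G) (n : ℕ) : G := r ^ 2 ^ (n - 1)

namespace Dih

variable {D : Subgroup G} {r c : G} {n : ℕ}

theorem r_mem (h : Dih D r c n) : r ∈ D := (h.mem r).2 (Or.inl ⟨1, (zpow_one r).symm⟩)

theorem c_mem (h : Dih D r c n) : c ∈ D := (h.mem c).2 (Or.inr ⟨0, by simp⟩)

theorem rpow_mem (h : Dih D r c n) (i : ℤ) : r ^ i ∈ D := zpow_mem h.r_mem i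

theorem c_inv (h : Dih D r c n) : c⁻¹ = c := inv_eq_of_mul_eq_one_left h.cc

theorem c_rpow (h : Dih D r c n) (i : ℤ) : c * r ^ i = r ^ (-i) * c := by
  have h1 : c * r * c⁻¹ = r⁻¹ := by rw [h.c_inv]; exact h.crc
  have h2 : c * r ^ i * c⁻¹ = r ^ (-i) := by
    rw [← conj_zpow, h1, inv_zpow, zpow_neg]
  rw [← h2]; group

theorem refl_sq (h : Dih D r c n) (i : ℤ) : (r ^ i * c) * (r ^ i * c) = 1 := by
  rw [mul_assoc, ← mul_assoc c, h.c_rpow, mul_assoc, h.cc, mul_one, ← zpow_add]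
  simp

theorem rpow_eq_one (h : Dih D r c n) {i : ℤ} : r ^ i = 1 ↔ (2 : ℤ) ^ n ∣ i := by
  rw [← orderOf_dvd_iff_zpow_eq_one, h.ord]
  push_cast
  rfl

theorem rpow_eq (h : Dih D r c n) {i j : ℤ} : r ^ i = r ^ j ↔ (2 : ℤ) ^ n ∣ i - j := by
  rw [← h.rpow_eq_one, zpow_sub, mul_inv_eq_one]

theorem zz_eq (r : G) (n : ℕ) : zz r n = r ^ ((2 : ℤ) ^ (n - 1)) := by
  rw [zz, ← zpow_natCast]
  push_cast
  rfl

theorem two_pow (h : Dih D r c n) : (2 : ℤ) ^ n = 2 * 2 ^ (n - 1) := by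
  obtain ⟨m, rfl⟩ : ∃ m, n = m + 1 := ⟨n - 1, by have := h.two_le; omega⟩
  rw [Nat.add_sub_cancel, pow_succ]; ring

theorem two_pow' (h : Dih D r c n) : (2 : ℤ) ^ (n - 1) = 2 * 2 ^ (n - 2) := by
  obtain ⟨m, rfl⟩ : ∃ m, n = m + 2 := ⟨n - 2, by have := h.two_le; omega⟩
  have : m + 2 - 1 = m + 1 := by omega
  rw [this, Nat.add_sub_cancel, pow_succ]; ring

theorem z_mem (h : Dih D r c n) : zz r n ∈ D := by rw [zz_eq]; exact h.rpow_mem _

theorem z_ne_one (h : Dih D r c n) : zz r n ≠ 1 := by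
  rw [zz_eq, ne_eq, h.rpow_eq_one, h.two_pow]
  intro h1
  have h2 : (0 : ℤ) < 2 ^ (n - 1) := by positivity
  have h3 := Int.le_of_dvd h2 h1
  omega

theorem z_sq (h : Dih D r c n) : zz r n * zz r n = 1 := by
  rw [zz_eq, ← zpow_add, h.rpow_eq_one, h.two_pow]
  exact ⟨1, by ring⟩

theorem z_inv (h : Dih D r c n) : (zz r n)⁻¹ = zz r n := inv_eq_of_mul_eq_one_left h.z_sq

theorem z_comm_r (_h : Dih D r c n) (i : ℤ) : r ^ i * zz r n = zz r n * r ^ i := by
  rw [zz_eq, ← zpow_add, ← zpow_add, add_comm]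

theorem z_comm_c (h : Dih D r c n) : c * zz r n = zz r n * c := by
  have h1 : c * zz r n = (zz r n)⁻¹ * c := by
    rw [zz_eq, h.c_rpow, zpow_neg]
  rw [h1, h.z_inv]

theorem z_comm (h : Dih D r c n) {g : G} (hg : g ∈ D) : g * zz r n = zz r n * g := by
  rcases (h.mem g).1 hg with ⟨i, rfl⟩ | ⟨i, rfl⟩
  · exact h.z_comm_r i
  · rw [mul_assoc, h.z_comm_c, ← mul_assoc, h.z_comm_r, mul_assoc]

/-- A rotation with square one is `1` or `z`. -/
theorem rot_sq (h : Dih D r c n) {i : ℤ} (hi : r ^ i * r ^ i = 1) : r ^ i = 1 ∨ r ^ i = zz r n := by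
  rw [← zpow_add, h.rpow_eq_one, h.two_pow] at hi
  have h1 : (2 : ℤ) ^ (n - 1) ∣ i := by
    obtain ⟨k, hk⟩ := hi
    exact ⟨k, by
      have : 2 * i = 2 * (2 ^ (n - 1) * k) := by linarith
      linarith⟩
  obtain ⟨k, rfl⟩ := h1
  rcases Int.even_or_odd' k with ⟨m, rfl | rfl⟩
  · left
    rw [h.rpow_eq_one, h.two_pow]
    exact ⟨m, by ring⟩
  · right
    rw [zz_eq, h.rpow_eq, h.two_pow]
    exact ⟨m, by ring⟩

theorem ne_refl (h : Dih D r c n) (i j : ℤ) : r ^ i ≠ r ^ j * c := by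
  intro h1
  apply h.ncz
  have : c = r ^ (-j + i) := by
    rw [zpow_add, h1, ← mul_assoc, ← zpow_add]; simp
  rw [this]
  exact zpow_mem (mem_zpowers r) _

/-- An element of `D` is a rotation or a reflection. -/
theorem cases (h : Dih D r c n) {g : G} (hg : g ∈ D) :
    (∃ i : ℤ, g = r ^ i) ∨ (∃ i : ℤ, g = r ^ i * c) := (h.mem g).1 hg

/-- An element of `D` of square one is `1`, `z` or a reflection. -/
theorem sq_one (h : Dih D r c n) {g : G} (hg : g ∈ D) (hgg : g * g = 1) :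
    g = 1 ∨ g = zz r n ∨ ∃ i : ℤ, g = r ^ i * c := by
  rcases h.cases hg with ⟨i, rfl⟩ | ⟨i, rfl⟩
  · rcases h.rot_sq hgg with h1 | h1
    · exact Or.inl h1
    · exact Or.inr (Or.inl h1)
  · exact Or.inr (Or.inr ⟨i, rfl⟩)

/-- odd powers of `r` are not `1`, `z`; moreover their squares are not `1`. -/
theorem odd_sq (h : Dih D r c n) {k : ℤ} (hk : Odd k) : r ^ k * r ^ k ≠ 1 := by
  rw [← zpow_add, ne_eq, h.rpow_eq_one, h.two_pow, h.two_pow']
  rintro ⟨m, hm⟩
  obtain ⟨l, rfl⟩ := hk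
  have : 2 * l + 1 = 2 * (2 ^ (n - 2) * m) := by linarith
  omega

theorem odd_ne_one (h : Dih D r c n) {k : ℤ} (hk : Odd k) : r ^ k ≠ 1 := by
  intro h1
  exact h.odd_sq hk (by rw [h1, mul_one])

theorem r_ne_one (h : Dih D r c n) : r ≠ 1 := by
  have := h.odd_ne_one (k := 1) (by decide)
  simpa using this

theorem c_ne_one (h : Dih D r c n) : c ≠ 1 := by
  intro h1
  exact h.ncz (h1 ▸ one_mem _)

theorem c_ne_z (h : Dih D r c n) : c ≠ zz r n := by
  intro h1
  apply h.ncz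
  rw [h1, zz_eq]
  exact zpow_mem (mem_zpowers r) _

theorem refl_ne_z (h : Dih D r c n) (i : ℤ) : r ^ i * c ≠ zz r n := by
  intro h1
  rw [zz_eq] at h1
  exact h.ne_refl _ _ h1.symm

theorem refl_ne_one (h : Dih D r c n) (i : ℤ) : r ^ i * c ≠ 1 := by
  intro h1
  exact h.ne_refl 0 i (by rw [zpow_zero]; exact h1.symm)

/-- the centre of `D` -/
theorem center (h : Dih D r c n) {g : G} (hg : g ∈ D) (h1 : g * r = r * g) (h2 : g * c = c * g) :
    g = 1 ∨ g = zz r n := by
  rcases h.cases hg with ⟨i, rfl⟩ | ⟨i, rfl⟩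
  · apply h.rot_sq
    rw [h.c_rpow, mul_left_inj] at h2
    calc r ^ i * r ^ i = r ^ (-i) * r ^ i := by rw [← h2]
      _ = 1 := by rw [← zpow_add]; simp
  · exfalso
    have h3 : r ^ i * c * r = r ^ (i - 1) * c := by
      have := h.c_rpow 1
      rw [zpow_one] at this
      rw [mul_assoc, this, ← mul_assoc, ← zpow_add]
      rfl
    have h4 : r * (r ^ i * c) = r ^ (i + 1) * c := by
      rw [← mul_assoc, add_comm, zpow_add, zpow_one]
    rw [h3, h4, mul_left_inj, h.rpow_eq, h.two_pow, h.two_pow'] at h1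
    obtain ⟨m, hm⟩ := h1
    have h5 : (-1 : ℤ) = 2 * (2 ^ (n - 2) * m) := by linarith
    omega

theorem center_of_comm (h : Dih D r c n) {g : G} (hg : g ∈ D) (h1 : ∀ d ∈ D, g * d = d * g) :
    g = 1 ∨ g = zz r n := h.center hg (h1 r h.r_mem) (h1 c h.c_mem)

/-- `2^(n-1)`-th powers lie in `⟨z⟩` -/
theorem pow_mem (h : Dih D r c n) {g : G} (hg : g ∈ D) :
    g ^ 2 ^ (n - 1) = 1 ∨ g ^ 2 ^ (n - 1) = zz r n := by
  rcases h.cases hg with ⟨i, rfl⟩ | ⟨i, rfl⟩
  · have h1 : (r ^ i) ^ 2 ^ (n - 1) = r ^ (i * 2 ^ (n - 1)) := by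
      rw [← zpow_natCast, ← zpow_mul]
      push_cast
      rfl
    rw [h1]
    apply h.rot_sq
    rw [← zpow_add, h.rpow_eq_one, h.two_pow]
    exact ⟨i, by ring⟩
  · left
    obtain ⟨m, hm⟩ : ∃ m, 2 ^ (n - 1) = 2 * m := by
      refine ⟨2 ^ (n - 2), ?_⟩
      have := h.two_le
      obtain ⟨m, rfl⟩ : ∃ m, n = m + 2 := ⟨n - 2, by omega⟩
      have : m + 2 - 1 = m + 1 := by omega
      rw [this, Nat.add_sub_cancel, pow_succ]; ring
    rw [hm, pow_mul, pow_two, h.refl_sq, one_pow]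

/-- `2^n`-th powers are trivial -/
theorem pow_eq_one (h : Dih D r c n) {g : G} (hg : g ∈ D) : g ^ 2 ^ n = 1 := by
  have h1 : 2 ^ n = 2 ^ (n - 1) * 2 := by
    have := h.two_le
    obtain ⟨m, rfl⟩ : ∃ m, n = m + 1 := ⟨n - 1, by omega⟩
    rw [Nat.add_sub_cancel, pow_succ]
  rw [h1, pow_mul]
  rcases h.pow_mem hg with h2 | h2
  · rw [h2, one_pow]
  · rw [h2, pow_two, h.z_sq]

/-- squares are rotations by an even power -/
theorem sq_eq (h : Dih D r c n) {g : G} (hg : g ∈ D) : ∃ i : ℤ, g * g = r ^ (2 * i) := by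
  rcases h.cases hg with ⟨i, rfl⟩ | ⟨i, rfl⟩
  · exact ⟨i, by rw [← zpow_add, two_mul]⟩
  · exact ⟨0, by rw [h.refl_sq]; simp⟩

theorem refl_mul (h : Dih D r c n) (a b : ℤ) : (r ^ a * c) * (r ^ b * c) = r ^ (a - b) := by
  rw [mul_assoc, ← mul_assoc c, h.c_rpow, mul_assoc, h.cc, mul_one, ← zpow_add]
  rfl

theorem conj_refl (h : Dih D r c n) (a b : ℤ) :
    (r ^ a * c) * r ^ b * (r ^ a * c)⁻¹ = r ^ (-b) := by
  have h1 : (r ^ a * c)⁻¹ = r ^ a * c := inv_eq_of_mul_eq_one_left (h.refl_sq a)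
  rw [h1]
  calc r ^ a * c * r ^ b * (r ^ a * c) = r ^ a * (c * r ^ b) * (r ^ a * c) := by group
    _ = r ^ a * (r ^ (-b) * c) * (r ^ a * c) := by rw [h.c_rpow]
    _ = r ^ (a - b) * c * (r ^ a * c) := by
      rw [← mul_assoc (r ^ a) (r ^ (-b)), ← zpow_add]; rfl
    _ = r ^ (-b) := by rw [h.refl_mul]; congr 1; ring

end Dih

end Cfsg.Agent.GH.L2One.DihD

private theorem dce_fcf75738fc55 : _root_.True := by
  try have : _root_.True := by simp only [_root_.Cfsg.Agent.GH.L2One.DihD.zz.eq_1]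
  exact _root_.True.intro
end

-- part: GH/L2/CaseISitu
section
prune_inst 0x404703444592202000018051270003a06da000502006b8401fde10f0207ceff62ad4727614ca01d135812a2542830006813980050421800000a200000011d01a0802852049348a10426000f803087180c00000000000000000000000000041000000000000
set_option linter.all false
open scoped Cfsg.Agent.FastGrp

-- part: GH/L2/CaseIDih
section
/-!
# Automorphisms `a ↦ a^{±1}`, `b ↦ a^k b` of a dihedral group: parity

`Act a b p`: conjugation by `p` maps `a` to `a^{±1}` and `b` to `a ^ k * b`; `Ev a b p`: `k` is even.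
-/

set_option autoImplicit false

open Subgroup
open Cfsg.Agent.GH.L2One.DihD

namespace Cfsg.Agent.GH.L2.CaseIDih

variable {G : Type*} [Group G]

/-- conjugation by `p` maps `a` to `a^{±1}` and `b` to `a ^ k * b` -/
structure Act (a b p : G) : Prop where
  rot : p * a * p⁻¹ = a ∨ p * a * p⁻¹ = a⁻¹
  refl : ∃ k : ℤ, p * b * p⁻¹ = a ^ k * b

/-- even on the reflections -/
def Ev (a b p : G) : Prop := ∃ k : ℤ, p * b * p⁻¹ = a ^ (2 * k) * b

section one

variable {D : Subgroup G} {a b : G} {m : ℕ}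

theorem Act.exists_zpow {p : G} (hp : Act a b p) (i : ℤ) :
    ∃ j : ℤ, Even (i - j) ∧ p * a ^ i * p⁻¹ = a ^ j := by
  rcases hp.rot with h | h
  · exact ⟨i, ⟨0, by ring⟩, by rw [← conj_zpow, h]⟩
  · exact ⟨-i, ⟨i, by ring⟩, by rw [← conj_zpow, h, inv_zpow, zpow_neg]⟩

theorem even_sub_of_eq (h : Dih D a b m) {i j : ℤ} (he : a ^ i = a ^ j) : Even (i - j) := by
  have h1 := h.rpow_eq.1 he
  rw [h.two_pow] at h1
  obtain ⟨k, hk⟩ := h1
  exact ⟨2 ^ (m - 1) * k, by rw [hk]; ring⟩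

theorem even_sub_of_eq' (h : Dih D a b m) {i j : ℤ} (he : a ^ i * b = a ^ j * b) : Even (i - j) :=
  even_sub_of_eq h (mul_right_cancel he)

/-- `Ev` can be read off from any exponent -/
theorem ev_iff (h : Dih D a b m) {p : G} {k : ℤ} (hk : p * b * p⁻¹ = a ^ k * b) :
    Ev a b p ↔ Even k := by
  constructor
  · rintro ⟨l, hl⟩
    have h1 : Even (k - 2 * l) := even_sub_of_eq' h (hk ▸ hl)
    have h2 : Even (2 * l) := even_two_mul l
    have := h1.add h2
    simpa only [_root_.sub_add_cancel] using this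
  · rintro ⟨l, rfl⟩
    exact ⟨l, by rw [hk, two_mul]⟩

theorem Act.mul {p q : G} (hp : Act a b p) (hq : Act a b q) : Act a b (p * q) := by
  constructor
  · have e : p * q * a * (p * q)⁻¹ = p * (q * a * q⁻¹) * p⁻¹ := by group
    rw [e]
    rcases hq.rot with h1 | h1
    · rw [h1]; exact hp.rot
    · rw [h1]
      have e2 : p * a⁻¹ * p⁻¹ = (p * a * p⁻¹)⁻¹ := by group
      rw [e2]
      rcases hp.rot with h2 | h2
      · rw [h2]; exact Or.inr rfl
      · rw [h2, inv_inv]; exact Or.inl rfl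
  · obtain ⟨k, hk⟩ := hq.refl
    obtain ⟨l, hl⟩ := hp.refl
    obtain ⟨j, -, hj⟩ := hp.exists_zpow k
    refine ⟨j + l, ?_⟩
    calc p * q * b * (p * q)⁻¹ = p * (q * b * q⁻¹) * p⁻¹ := by group
      _ = (p * a ^ k * p⁻¹) * (p * b * p⁻¹) := by rw [hk]; group
      _ = a ^ (j + l) * b := by rw [hj, hl, zpow_add, mul_assoc]

theorem ev_mul (h : Dih D a b m) {p q : G} (hp : Act a b p) (hq : Act a b q) :
    Ev a b (p * q) ↔ (Ev a b p ↔ Ev a b q) := by
  obtain ⟨k, hk⟩ := hq.refl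
  obtain ⟨l, hl⟩ := hp.refl
  obtain ⟨j, hkj, hj⟩ := hp.exists_zpow k
  have h1 : p * q * b * (p * q)⁻¹ = a ^ (j + l) * b := by
    calc p * q * b * (p * q)⁻¹ = p * (q * b * q⁻¹) * p⁻¹ := by group
      _ = (p * a ^ k * p⁻¹) * (p * b * p⁻¹) := by rw [hk]; group
      _ = a ^ (j + l) * b := by rw [hj, hl, zpow_add, mul_assoc]
  rw [ev_iff h h1, ev_iff h hk, ev_iff h hl]
  rw [Int.even_sub] at hkj
  rw [Int.even_add, hkj]
  (clear * -; tauto)

theorem ev_of_comm {p : G} (hp : p * b = b * p) : Ev a b p :=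
  ⟨0, by rw [mul_zero, zpow_zero, one_mul, hp]; group⟩

theorem conj_a_b (h : Dih D a b m) (i : ℤ) : a ^ i * b * (a ^ i)⁻¹ = a ^ (2 * i) * b := by
  have h1 := h.c_rpow (-i)
  rw [← zpow_neg, mul_assoc, h1, neg_neg, ← mul_assoc, ← zpow_add, two_mul]

theorem conj_ab_b (h : Dih D a b m) (i : ℤ) :
    (a ^ i * b) * b * (a ^ i * b)⁻¹ = a ^ (2 * i) * b := by
  have h1 : (a ^ i * b) * b * (a ^ i * b)⁻¹ = a ^ i * b * (a ^ i)⁻¹ := by group
  rw [h1, conj_a_b h]

theorem act_of_mem (h : Dih D a b m) {d : G} (hd : d ∈ D) : Act a b d := by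
  rcases h.cases hd with ⟨i, rfl⟩ | ⟨i, rfl⟩
  · exact ⟨Or.inl (by group), ⟨2 * i, conj_a_b h i⟩⟩
  · refine ⟨Or.inr ?_, ⟨2 * i, conj_ab_b h i⟩⟩
    have := h.conj_refl i 1
    rwa [zpow_one, zpow_neg, zpow_one] at this

theorem ev_of_mem (h : Dih D a b m) {d : G} (hd : d ∈ D) : Ev a b d := by
  rcases h.cases hd with ⟨i, rfl⟩ | ⟨i, rfl⟩
  · exact ⟨i, conj_a_b h i⟩
  · exact ⟨i, conj_ab_b h i⟩

/-- an even element acts on `D` as an element of `D` -/
theorem exists_inner (h : Dih D a b m) {p : G} (hp : Act a b p) (he : Ev a b p) :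
    ∃ d ∈ D, ∀ g ∈ D, p * g * p⁻¹ = d * g * d⁻¹ := by
  obtain ⟨k, hk⟩ := he
  have key : ∀ d ∈ D, p * a * p⁻¹ = d * a * d⁻¹ → p * b * p⁻¹ = d * b * d⁻¹ →
      ∀ g ∈ D, p * g * p⁻¹ = d * g * d⁻¹ := by
    intro d _ h1 h2 g hg
    have h3 : ∀ i : ℤ, p * a ^ i * p⁻¹ = d * a ^ i * d⁻¹ := by
      intro i; rw [← conj_zpow, h1, conj_zpow]
    rcases h.cases hg with ⟨i, rfl⟩ | ⟨i, rfl⟩
    · exact h3 i
    · calc p * (a ^ i * b) * p⁻¹ = (p * a ^ i * p⁻¹) * (p * b * p⁻¹) := by group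
        _ = d * (a ^ i * b) * d⁻¹ := by rw [h3, h2]; group
  rcases hp.rot with h1 | h1
  · refine ⟨a ^ k, h.rpow_mem k, key _ (h.rpow_mem k) ?_ ?_⟩
    · rw [h1]; group
    · rw [hk, conj_a_b h]
  · have hm : a ^ k * b ∈ D := mul_mem (h.rpow_mem k) h.c_mem
    refine ⟨a ^ k * b, hm, key _ hm ?_ ?_⟩
    · have := h.conj_refl k 1
      rw [zpow_one, zpow_neg, zpow_one] at this
      rw [h1, this]
    · rw [hk, conj_ab_b h]

/-- the elements of `D` acting on all reflections: `p` of square one, odd: inverts `a` -/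
theorem inv_of_odd (h : Dih D a b m) {t : G} (ht : Act a b t) (ho : ¬ Ev a b t) (htt : t * t = 1) :
    t * a * t⁻¹ = a⁻¹ := by
  rcases ht.rot with h1 | h1
  · exfalso
    obtain ⟨k, hk⟩ := ht.refl
    have hkk : Odd k := by
      rw [← Int.not_even_iff_odd, ← ev_iff h hk]; exact ho
    have h2 : t * (t * b * t⁻¹) * t⁻¹ = b := by
      calc t * (t * b * t⁻¹) * t⁻¹ = (t * t) * b * (t * t)⁻¹ := by group
        _ = b := by rw [htt]; group
    have h3 : t * (t * b * t⁻¹) * t⁻¹ = a ^ k * a ^ k * b := by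
      calc t * (t * b * t⁻¹) * t⁻¹ = (t * a ^ k * t⁻¹) * (t * b * t⁻¹) := by
            rw [hk]
            calc t * (a ^ k * b) * t⁻¹ = (t * a ^ k * t⁻¹) * (t * b * t⁻¹) := by group
              _ = _ := by rw [hk]
        _ = a ^ k * a ^ k * b := by rw [← conj_zpow, h1, hk, mul_assoc]
    rw [h2] at h3
    exact h.odd_sq hkk (mul_right_cancel (h3.symm.trans (one_mul b).symm))
  · exact h1

/-- an odd element inverting `a` fixes in `D` only the centre -/
theorem cent_of_odd (h : Dih D a b m) {t : G} (ht : Act a b t) (ho : ¬ Ev a b t)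
    (hi : t * a * t⁻¹ = a⁻¹) {d : G} (hd : d ∈ D) (hc : t * d = d * t) : d = 1 ∨ d = zz a m := by
  have hc' : t * d * t⁻¹ = d := by rw [hc]; group
  have hz : ∀ i : ℤ, t * a ^ i * t⁻¹ = a ^ (-i) := by
    intro i; rw [← conj_zpow, hi, inv_zpow, zpow_neg]
  rcases h.cases hd with ⟨i, rfl⟩ | ⟨i, rfl⟩
  · apply h.rot_sq
    rw [hz] at hc'
    calc a ^ i * a ^ i = a ^ (-i) * a ^ i := by rw [hc']
      _ = 1 := by rw [← zpow_add]; simp
  · exfalso
    obtain ⟨k, hk⟩ := ht.refl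
    have h1 : t * (a ^ i * b) * t⁻¹ = a ^ (-i + k) * b := by
      calc t * (a ^ i * b) * t⁻¹ = (t * a ^ i * t⁻¹) * (t * b * t⁻¹) := by group
        _ = a ^ (-i + k) * b := by rw [hz, hk, zpow_add, mul_assoc]
    rw [hc'] at h1
    have h2 : Even (i - (-i + k)) := even_sub_of_eq' h h1
    apply ho
    rw [ev_iff h hk]
    have h3 : Even (2 * i) := even_two_mul i
    have h4 : k = 2 * i - (i - (-i + k)) := by ring
    rw [h4]
    exact h3.sub h2

/-- an odd element of square one inverting `d ∈ D`: all of `t d` is conjugate to `t` under `D` -/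
theorem exists_conj_of_odd (h : Dih D a b m) {t : G} (ht : Act a b t) (ho : ¬ Ev a b t)
    (htt : t * t = 1) {d : G} (hd : d ∈ D) (hc : t * d * t⁻¹ = d⁻¹) :
    ∃ c ∈ D, c * t * c⁻¹ = t * d := by
  have hi := inv_of_odd h ht ho htt
  have ti : t⁻¹ = t := inv_eq_of_mul_eq_one_left htt
  have hz : ∀ i : ℤ, t * a ^ i * t⁻¹ = a ^ (-i) := by
    intro i; rw [← conj_zpow, hi, inv_zpow, zpow_neg]
  have hz' : ∀ i : ℤ, a ^ i * t = t * a ^ (-i) := by
    intro i
    have := hz (-i)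
    rw [neg_neg] at this
    rw [← this]; group
  rcases h.cases hd with ⟨i, rfl⟩ | ⟨i, rfl⟩
  · obtain ⟨k, hk⟩ := ht.refl
    have hkk : Odd k := by
      rw [← Int.not_even_iff_odd, ← ev_iff h hk]; exact ho
    have hb : b * t * b⁻¹ = t * a ^ k := by
      have h1 : t * b * t⁻¹ * b⁻¹ = a ^ k := by rw [hk]; group
      rw [← h1, ti]
      calc b * t * b⁻¹ = (t * t) * b * t * b⁻¹ := by rw [htt, one_mul]
        _ = _ := by group
    have hconj : ∀ l : ℤ, a ^ l * t * (a ^ l)⁻¹ = t * a ^ (-(2 * l)) := by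
      intro l
      rw [hz', mul_assoc, ← zpow_neg, ← zpow_add]
      congr 2; ring
    rcases Int.even_or_odd i with ⟨l, hl⟩ | hio
    · refine ⟨a ^ (-l), h.rpow_mem _, ?_⟩
      rw [hconj]
      congr 2; omega
    · obtain ⟨l, hl⟩ := hio.sub_odd hkk
      refine ⟨a ^ (-l) * b, mul_mem (h.rpow_mem _) h.c_mem, ?_⟩
      calc a ^ (-l) * b * t * (a ^ (-l) * b)⁻¹ = a ^ (-l) * (b * t * b⁻¹) * (a ^ (-l))⁻¹ := by group
        _ = (a ^ (-l) * t * (a ^ (-l))⁻¹) * a ^ k := by rw [hb]; group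
        _ = t * a ^ i := by
          rw [hconj, mul_assoc, ← zpow_add]
          congr 2; omega
  · exfalso
    have h1 : (a ^ i * b)⁻¹ = a ^ i * b := inv_eq_of_mul_eq_one_left (h.refl_sq i)
    rw [h1] at hc
    have h2 : t * (a ^ i * b) = a ^ i * b * t := by
      calc t * (a ^ i * b) = t * (a ^ i * b) * t⁻¹ * t := by group
        _ = _ := by rw [hc]
    rcases cent_of_odd h ht ho hi hd h2 with h3 | h3
    · exact h.refl_ne_one i h3
    · exact h.refl_ne_z i h3

/-- a rotation commuting with `a` only -/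
theorem rot_of_comm (h : Dih D a b m) {d : G} (hd : d ∈ D) (hc : d * a = a * d) :
    ∃ i : ℤ, d = a ^ i := by
  rcases h.cases hd with ⟨i, rfl⟩ | ⟨i, rfl⟩
  · exact ⟨i, rfl⟩
  · exfalso
    have h1 := h.conj_refl i 1
    rw [zpow_one, hc, zpow_neg, zpow_one] at h1
    have h2 : a * (a ^ i * b) * (a ^ i * b)⁻¹ = a := by group
    rw [h2] at h1
    have h3 := h.odd_sq (k := 1) (by decide)
    rw [zpow_one] at h3
    apply h3
    calc a * a = a⁻¹ * a := by rw [← h1]
      _ = 1 := by group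

end one

section two

variable {D D' : Subgroup G} {a b a' b' : G} {m : ℕ}

/-- conjugation mapping one dihedral group into another maps rotations to rotations -/
theorem conj_data (h : Dih D a b m) (h' : Dih D' a' b' m) {y : G}
    (hy : ∀ d ∈ D, y * d * y⁻¹ ∈ D') :
    ∃ l j : ℤ, Odd l ∧ y * a * y⁻¹ = a' ^ l ∧ y * b * y⁻¹ = a' ^ j * b' := by
  have haa : y * a * y⁻¹ * (y * a * y⁻¹) ≠ 1 := by
    intro h1
    have h2 : a * a = 1 := by
      calc a * a = y⁻¹ * (y * a * y⁻¹ * (y * a * y⁻¹)) * y := by group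
        _ = 1 := by rw [h1]; group
    have h3 := h.odd_sq (k := 1) (by decide)
    rw [zpow_one] at h3
    exact h3 h2
  obtain ⟨l, hl⟩ : ∃ l : ℤ, y * a * y⁻¹ = a' ^ l := by
    rcases h'.cases (hy a h.r_mem) with h1 | ⟨i, hi⟩
    · exact h1
    · exact absurd (by rw [hi]; exact h'.refl_sq i) haa
  have hlo : Odd l := by
    rw [← Int.not_even_iff_odd]
    rintro ⟨k, hk⟩
    apply h.z_ne_one
    have h1 : y * zz a m * y⁻¹ = 1 := by
      rw [zz, ← conj_pow, hl, hk, ← zpow_natCast, ← zpow_mul, h'.rpow_eq_one, h'.two_pow]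
      exact ⟨k, by push_cast; ring⟩
    calc zz a m = y⁻¹ * (y * zz a m * y⁻¹) * y := by group
      _ = 1 := by rw [h1]; group
  obtain ⟨j, hj⟩ : ∃ j : ℤ, y * b * y⁻¹ = a' ^ j * b' := by
    rcases h'.cases (hy b h.c_mem) with ⟨i, hi⟩ | h1
    · exfalso
      have h2 : a * b = b * a := by
        have h3 : (y * a * y⁻¹) * (y * b * y⁻¹) = (y * b * y⁻¹) * (y * a * y⁻¹) := by
          rw [hl, hi, ← zpow_add, ← zpow_add, add_comm]
        calc a * b = y⁻¹ * ((y * a * y⁻¹) * (y * b * y⁻¹)) * y := by group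
          _ = b * a := by rw [h3]; group
      have h3 : a⁻¹ = a := by
        rw [← h.crc]
        calc b * a * b = a * b * b := by rw [h2]
          _ = a := by rw [mul_assoc, h.cc, mul_one]
      have h4 := h.odd_sq (k := 1) (by decide)
      rw [zpow_one] at h4
      apply h4
      calc a * a = a⁻¹ * a := by rw [h3]
        _ = 1 := by group
    · exact h1
  exact ⟨l, j, hlo, hl, hj⟩

/-- transport of parity -/
theorem ev_conj_iff (h : Dih D a b m) (h' : Dih D' a' b' m) {y p : G}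
    (hy : ∀ d ∈ D, y * d * y⁻¹ ∈ D') (hp : Act a b p) (hq : Act a' b' (y * p * y⁻¹)) :
    Ev a' b' (y * p * y⁻¹) ↔ Ev a b p := by
  obtain ⟨l, j, hl, h1, h2⟩ := conj_data h h' hy
  obtain ⟨k, hk⟩ := hp.refl
  obtain ⟨k', hk'⟩ := hq.refl
  obtain ⟨j', hj', hj2⟩ := hq.exists_zpow j
  rw [ev_iff h hk, ev_iff h' hk']
  have e1 : (y * p * y⁻¹) * (a' ^ j * b') * (y * p * y⁻¹)⁻¹ = a' ^ (j' + k') * b' := by
    calc (y * p * y⁻¹) * (a' ^ j * b') * (y * p * y⁻¹)⁻¹
        = ((y * p * y⁻¹) * a' ^ j * (y * p * y⁻¹)⁻¹) * ((y * p * y⁻¹) * b' * (y * p * y⁻¹)⁻¹) := by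
          group
      _ = a' ^ (j' + k') * b' := by rw [hj2, hk', zpow_add, mul_assoc]
  have e2 : (y * p * y⁻¹) * (a' ^ j * b') * (y * p * y⁻¹)⁻¹ = a' ^ (l * k + j) * b' := by
    calc (y * p * y⁻¹) * (a' ^ j * b') * (y * p * y⁻¹)⁻¹ = y * (p * b * p⁻¹) * y⁻¹ := by
          rw [← h2]; group
      _ = (y * a ^ k * y⁻¹) * (y * b * y⁻¹) := by rw [hk]; group
      _ = a' ^ (l * k + j) * b' := by
        rw [← conj_zpow, h1, h2, ← zpow_mul, zpow_add, mul_assoc]
  rw [e1] at e2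
  have h3 := even_sub_of_eq' h' e2
  have h4 : Even (l * k) ↔ Even k := by
    rw [Int.even_mul]
    constructor
    · rintro (h5 | h5)
      · exact absurd h5 (Int.not_even_iff_odd.2 hl)
      · exact h5
    · exact Or.inr
  rw [Int.even_sub, Int.even_add, Int.even_add, h4] at h3
  rw [Int.even_sub] at hj'
  (clear * - hj' h3; tauto)

end two

end Cfsg.Agent.GH.L2.CaseIDih
end

-- part: GH/L2/CaseISitu
section
/-!
# GH-L2, Case I after section 3 (blueprints/GH-L2-CaseI-helper153.md): the 2-group `S`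

`Situ S P D₁ D₂ a₁ b₁ a₂ b₂ m`: `|S : P| = 2`, `D₁, D₂ ⊴ P` dihedral of order `2^(m+1) ≥ 8`, commuting, interchanged
by the elements of `S - P`; `P` acts on `⟨aᵢ⟩` as `±1`; `C_S(D₁ D₂) ≤ D₁ D₂`.
-/

set_option autoImplicit false

open Subgroup
open Cfsg.Agent.GH.L2One.DihD
open Cfsg.Agent.GH.L2.CaseIDih

namespace Cfsg.Agent.GH.L2.CaseISitu

variable {G : Type*} [Group G]

/-- membership in `B₀ = D₁ D₂` -/
def InB (D₁ D₂ : Subgroup G) (g : G) : Prop := ∃ d ∈ D₁, ∃ e ∈ D₂, g = d * e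

/-- The situation of Case I after section 3. -/
structure Situ (S P D₁ D₂ : Subgroup G) (a₁ b₁ a₂ b₂ : G) (m : ℕ) : Prop where
  dih₁ : Dih D₁ a₁ b₁ m
  dih₂ : Dih D₂ a₂ b₂ m
  P_le : P ≤ S
  D₁_le : D₁ ≤ P
  D₂_le : D₂ ≤ P
  /-- index (at most) 2 -/
  idx : ∀ g ∈ S, g ∉ P → ∀ k ∈ S, k ∉ P → g * k ∈ P
  comm : ∀ d ∈ D₁, ∀ e ∈ D₂, d * e = e * d
  disj : ∀ d ∈ D₁, d ∈ D₂ → d = 1
  n₁ : ∀ p ∈ P, ∀ d ∈ D₁, p * d * p⁻¹ ∈ D₁
  n₂ : ∀ p ∈ P, ∀ d ∈ D₂, p * d * p⁻¹ ∈ D₂
  s₁ : ∀ y ∈ S, y ∉ P → ∀ d ∈ D₁, y * d * y⁻¹ ∈ D₂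
  s₂ : ∀ y ∈ S, y ∉ P → ∀ d ∈ D₂, y * d * y⁻¹ ∈ D₁
  act₁ : ∀ p ∈ P, p * a₁ * p⁻¹ = a₁ ∨ p * a₁ * p⁻¹ = a₁⁻¹
  act₂ : ∀ p ∈ P, p * a₂ * p⁻¹ = a₂ ∨ p * a₂ * p⁻¹ = a₂⁻¹
  cent : ∀ y ∈ S, (∀ d ∈ D₁, y * d = d * y) → (∀ d ∈ D₂, y * d = d * y) → InB D₁ D₂ y

namespace Situ

variable {S P D₁ D₂ : Subgroup G} {a₁ b₁ a₂ b₂ : G} {m : ℕ}

theorem conj_notMem (h : Situ S P D₁ D₂ a₁ b₁ a₂ b₂ m) {y p : G} (hy : y ∈ S) (hp : p ∈ S) (hpP : p ∉ P) :
    y * p * y⁻¹ ∉ P := by
  intro h1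
  by_cases hyP : y ∈ P
  · apply hpP
    have : p = y⁻¹ * (y * p * y⁻¹) * y := by group
    rw [this]
    exact mul_mem (mul_mem (inv_mem hyP) h1) hyP
  · have h2 := h.idx y hy hyP p hp hpP
    have h3 : y⁻¹ ∈ P := by
      have : y⁻¹ = (y * p)⁻¹ * (y * p * y⁻¹) := by group
      rw [this]
      exact mul_mem (inv_mem h2) h1
    exact hyP (inv_mem_iff.1 h3)

theorem nP (h : Situ S P D₁ D₂ a₁ b₁ a₂ b₂ m) {y p : G} (hy : y ∈ S) (hp : p ∈ P) :
    y * p * y⁻¹ ∈ P := by
  by_contra h1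
  have hyS : y * p * y⁻¹ ∈ S := mul_mem (mul_mem hy (h.P_le hp)) (inv_mem hy)
  have h2 := h.conj_notMem (inv_mem hy) hyS h1
  apply h2
  have : y⁻¹ * (y * p * y⁻¹) * y⁻¹⁻¹ = p := by group
  rw [this]; exact hp

theorem mul_notMem (_h : Situ S P D₁ D₂ a₁ b₁ a₂ b₂ m) {y p : G} (hy : y ∉ P) (hp : p ∈ P) :
    y * p ∉ P := fun h1 => hy (by
      have : y = y * p * p⁻¹ := by group
      rw [this]; exact mul_mem h1 (inv_mem hp))

theorem mul_notMem' (_h : Situ S P D₁ D₂ a₁ b₁ a₂ b₂ m) {y p : G} (hy : y ∉ P) (hp : p ∈ P) :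
    p * y ∉ P := fun h1 => hy (by
      have : y = p⁻¹ * (p * y) := by group
      rw [this]; exact mul_mem (inv_mem hp) h1)

/-- the situation is symmetric -/
theorem symm (h : Situ S P D₁ D₂ a₁ b₁ a₂ b₂ m) : Situ S P D₂ D₁ a₂ b₂ a₁ b₁ m where
  dih₁ := h.dih₂
  dih₂ := h.dih₁
  P_le := h.P_le
  D₁_le := h.D₂_le
  D₂_le := h.D₁_le
  idx := h.idx
  comm := fun d hd e he => (h.comm e he d hd).symm
  disj := fun d hd hd' => h.disj d hd' hd
  n₁ := h.n₂
  n₂ := h.n₁
  s₁ := h.s₂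
  s₂ := h.s₁
  act₁ := h.act₂
  act₂ := h.act₁
  cent := fun y hy h1 h2 => by
    obtain ⟨d, hd, e, he, rfl⟩ := h.cent y hy h2 h1
    exact ⟨e, he, d, hd, h.comm d hd e he⟩

theorem A₁ (h : Situ S P D₁ D₂ a₁ b₁ a₂ b₂ m) {p : G} (hp : p ∈ P) : Act a₁ b₁ p := by
  refine ⟨h.act₁ p hp, ?_⟩
  rcases h.dih₁.cases (h.n₁ p hp b₁ h.dih₁.c_mem) with ⟨i, hi⟩ | h1
  · exfalso
    have h2 : b₁ = p⁻¹ * a₁ ^ i * p := by rw [← hi]; group
    apply h.dih₁.ncz
    have h3 := h.act₁ p⁻¹ (inv_mem hp)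
    rw [inv_inv] at h3
    rw [h2]
    have h4 : p⁻¹ * a₁ ^ i * p = (p⁻¹ * a₁ * p) ^ i := by
      have := conj_zpow (a := p⁻¹) (b := a₁) (i := i)
      rw [inv_inv] at this
      exact this.symm
    rw [h4]
    rcases h3 with h3 | h3
    · rw [h3]; exact zpow_mem (mem_zpowers _) _
    · rw [h3]; exact zpow_mem (inv_mem (mem_zpowers _)) _
  · exact h1

theorem A₂ (h : Situ S P D₁ D₂ a₁ b₁ a₂ b₂ m) {p : G} (hp : p ∈ P) : Act a₂ b₂ p := h.symm.A₁ hp

/-- parity of `p ∈ P` on `D₁` -/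
theorem ev₁_mul (h : Situ S P D₁ D₂ a₁ b₁ a₂ b₂ m) {p q : G} (hp : p ∈ P) (hq : q ∈ P) :
    Ev a₁ b₁ (p * q) ↔ (Ev a₁ b₁ p ↔ Ev a₁ b₁ q) := ev_mul h.dih₁ (h.A₁ hp) (h.A₁ hq)

theorem ev₂_mul (h : Situ S P D₁ D₂ a₁ b₁ a₂ b₂ m) {p q : G} (hp : p ∈ P) (hq : q ∈ P) :
    Ev a₂ b₂ (p * q) ↔ (Ev a₂ b₂ p ↔ Ev a₂ b₂ q) := ev_mul h.dih₂ (h.A₂ hp) (h.A₂ hq)

theorem ev_conj (h : Situ S P D₁ D₂ a₁ b₁ a₂ b₂ m) {y p : G} (hy : y ∈ S) (hyP : y ∉ P) (hp : p ∈ P) :
    Ev a₂ b₂ (y * p * y⁻¹) ↔ Ev a₁ b₁ p :=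
  ev_conj_iff h.dih₁ h.dih₂ (h.s₁ y hy hyP) (h.A₁ hp) (h.A₂ (h.nP hy hp))

theorem ev_conj' (h : Situ S P D₁ D₂ a₁ b₁ a₂ b₂ m) {y p : G} (hy : y ∈ S) (hyP : y ∉ P) (hp : p ∈ P) :
    Ev a₁ b₁ (y * p * y⁻¹) ↔ Ev a₂ b₂ p := h.symm.ev_conj hy hyP hp

theorem inB_P (h : Situ S P D₁ D₂ a₁ b₁ a₂ b₂ m) {g : G} (hg : InB D₁ D₂ g) : g ∈ P := by
  obtain ⟨d, hd, e, he, rfl⟩ := hg
  exact mul_mem (h.D₁_le hd) (h.D₂_le he)

theorem inB_mul (h : Situ S P D₁ D₂ a₁ b₁ a₂ b₂ m) {g k : G} (hg : InB D₁ D₂ g) (hk : InB D₁ D₂ k) :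
    InB D₁ D₂ (g * k) := by
  obtain ⟨d, hd, e, he, rfl⟩ := hg
  obtain ⟨d', hd', e', he', rfl⟩ := hk
  refine ⟨d * d', mul_mem hd hd', e * e', mul_mem he he', ?_⟩
  calc d * e * (d' * e') = d * (e * d') * e' := by group
    _ = d * (d' * e) * e' := by rw [h.comm d' hd' e he]
    _ = d * d' * (e * e') := by group

theorem inB_inv (h : Situ S P D₁ D₂ a₁ b₁ a₂ b₂ m) {g : G} (hg : InB D₁ D₂ g) : InB D₁ D₂ g⁻¹ := by
  obtain ⟨d, hd, e, he, rfl⟩ := hg
  refine ⟨d⁻¹, inv_mem hd, e⁻¹, inv_mem he, ?_⟩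
  rw [h.comm d hd e he, mul_inv_rev]

theorem inB_d (_h : Situ S P D₁ D₂ a₁ b₁ a₂ b₂ m) {d : G} (hd : d ∈ D₁) : InB D₁ D₂ d :=
  ⟨d, hd, 1, one_mem _, (mul_one d).symm⟩

theorem inB_e (_h : Situ S P D₁ D₂ a₁ b₁ a₂ b₂ m) {e : G} (he : e ∈ D₂) : InB D₁ D₂ e :=
  ⟨1, one_mem _, e, he, (one_mul e).symm⟩

/-- uniqueness of the decomposition -/
theorem unique (h : Situ S P D₁ D₂ a₁ b₁ a₂ b₂ m) {d e d' e' : G} (hd : d ∈ D₁) (he : e ∈ D₂)
    (hd' : d' ∈ D₁) (he' : e' ∈ D₂) (heq : d * e = d' * e') : d = d' ∧ e = e' := by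
  have h1 : d'⁻¹ * d = e' * e⁻¹ := by
    calc d'⁻¹ * d = d'⁻¹ * (d * e) * e⁻¹ := by group
      _ = e' * e⁻¹ := by rw [heq]; group
  have h2 : d'⁻¹ * d = 1 := h.disj _ (mul_mem (inv_mem hd') hd) (h1 ▸ mul_mem he' (inv_mem he))
  have h3 : d = d' := (inv_mul_eq_one.1 h2).symm
  subst h3
  exact ⟨rfl, mul_left_cancel heq⟩

theorem ev₁_of_inB (h : Situ S P D₁ D₂ a₁ b₁ a₂ b₂ m) {g : G} (hg : InB D₁ D₂ g) : Ev a₁ b₁ g := by
  obtain ⟨d, hd, e, he, rfl⟩ := hg
  rw [h.ev₁_mul (h.D₁_le hd) (h.D₂_le he)]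
  exact iff_of_true (ev_of_mem h.dih₁ hd) (ev_of_comm (h.comm b₁ h.dih₁.c_mem e he).symm)

theorem ev₂_of_inB (h : Situ S P D₁ D₂ a₁ b₁ a₂ b₂ m) {g : G} (hg : InB D₁ D₂ g) : Ev a₂ b₂ g := by
  obtain ⟨d, hd, e, he, rfl⟩ := hg
  rw [h.ev₂_mul (h.D₁_le hd) (h.D₂_le he)]
  exact iff_of_true (ev_of_comm (h.comm d hd b₂ h.dih₂.c_mem)) (ev_of_mem h.dih₂ he)

/-- an element of `P` even on both factors lies in `B₀` -/
theorem inB_of_ev (h : Situ S P D₁ D₂ a₁ b₁ a₂ b₂ m) {p : G} (hp : p ∈ P) (h1 : Ev a₁ b₁ p)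
    (h2 : Ev a₂ b₂ p) : InB D₁ D₂ p := by
  obtain ⟨d, hd, hd1⟩ := exists_inner h.dih₁ (h.A₁ hp) h1
  obtain ⟨e, he, he1⟩ := exists_inner h.dih₂ (h.A₂ hp) h2
  have hB : InB D₁ D₂ (d * e) := ⟨d, hd, e, he, rfl⟩
  have hc := h.comm d hd e he
  have hy : InB D₁ D₂ ((d * e)⁻¹ * p) := by
    apply h.cent _ (mul_mem (inv_mem (h.P_le (h.inB_P hB))) (h.P_le hp))
    · intro g hg
      have h3 := hd1 g hg
      have h4 := h.comm g hg e he
      have h6 : p * g = d * g * d⁻¹ * p := by rw [← h3]; group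
      calc (d * e)⁻¹ * p * g = (d * e)⁻¹ * (p * g) := by group
        _ = (e * d)⁻¹ * (d * g * d⁻¹ * p) := by rw [h6, hc]
        _ = d⁻¹ * e⁻¹ * d * g * d⁻¹ * p := by group
        _ = d⁻¹ * (e⁻¹ * (d * g)) * d⁻¹ * p := by group
        _ = d⁻¹ * ((d * g) * e⁻¹) * d⁻¹ * p := by
          have h7 := h.comm (d * g) (mul_mem hd hg) e⁻¹ (inv_mem he)
          rw [h7]
        _ = g * (d * e)⁻¹ * p := by group
        _ = g * ((d * e)⁻¹ * p) := by group
    · intro g hg
      have h3 := he1 g hg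
      have h6 : p * g = e * g * e⁻¹ * p := by rw [← h3]; group
      have h7 := h.comm d⁻¹ (inv_mem hd) (g * e⁻¹) (mul_mem hg (inv_mem he))
      calc (d * e)⁻¹ * p * g = (d * e)⁻¹ * (p * g) := by group
        _ = (d * e)⁻¹ * (e * g * e⁻¹ * p) := by rw [h6]
        _ = e⁻¹ * (d⁻¹ * e) * g * e⁻¹ * p := by group
        _ = e⁻¹ * (e * d⁻¹) * g * e⁻¹ * p := by
          rw [h.comm d⁻¹ (inv_mem hd) e he]
        _ = (d⁻¹ * (g * e⁻¹)) * p := by group
        _ = (g * e⁻¹ * d⁻¹) * p := by rw [h7]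
        _ = g * ((d * e)⁻¹ * p) := by group
  have : p = (d * e) * ((d * e)⁻¹ * p) := by group
  rw [this]
  exact h.inB_mul hB hy

theorem inB_iff (h : Situ S P D₁ D₂ a₁ b₁ a₂ b₂ m) {p : G} (hp : p ∈ P) :
    InB D₁ D₂ p ↔ Ev a₁ b₁ p ∧ Ev a₂ b₂ p :=
  ⟨fun h1 => ⟨h.ev₁_of_inB h1, h.ev₂_of_inB h1⟩, fun h1 => h.inB_of_ev hp h1.1 h1.2⟩

theorem rot₁_comm_D₂ (h : Situ S P D₁ D₂ a₁ b₁ a₂ b₂ m) {d : G} (hd : d ∈ D₂) : a₁ * d = d * a₁ :=
  h.comm a₁ h.dih₁.r_mem d hd

theorem sq_comm_a₁ (h : Situ S P D₁ D₂ a₁ b₁ a₂ b₂ m) {p : G} (hp : p ∈ P) :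
    p * p * a₁ = a₁ * (p * p) := by
  have h1 : p * p * a₁ * (p * p)⁻¹ = a₁ := by
    have e : p * p * a₁ * (p * p)⁻¹ = p * (p * a₁ * p⁻¹) * p⁻¹ := by group
    rw [e]
    rcases h.act₁ p hp with h2 | h2
    · rw [h2, h2]
    · rw [h2]
      have : p * a₁⁻¹ * p⁻¹ = (p * a₁ * p⁻¹)⁻¹ := by group
      rw [this, h2, inv_inv]
  calc p * p * a₁ = (p * p * a₁ * (p * p)⁻¹) * (p * p) := by group
    _ = _ := by rw [h1]

/-- (5.0): squares of elements of `P` lie in `⟨a₁⟩⟨a₂⟩` -/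
theorem sq_form (h : Situ S P D₁ D₂ a₁ b₁ a₂ b₂ m) {p : G} (hp : p ∈ P) :
    ∃ i j : ℤ, p * p = a₁ ^ i * a₂ ^ j := by
  have h1 : InB D₁ D₂ (p * p) := by
    rw [h.inB_iff (mul_mem hp hp), h.ev₁_mul hp hp, h.ev₂_mul hp hp]
    exact ⟨Iff.rfl, Iff.rfl⟩
  obtain ⟨d, hd, e, he, hde⟩ := h1
  have h2 := h.sq_comm_a₁ hp
  have h3 := h.symm.sq_comm_a₁ hp
  rw [hde] at h2 h3
  have h4 : d * a₁ = a₁ * d := by
    have h5 := h.rot₁_comm_D₂ he
    have h6 : d * a₁ * e = a₁ * d * e := by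
      calc d * a₁ * e = d * (a₁ * e) := by group
        _ = d * e * a₁ := by rw [h5]; group
        _ = a₁ * d * e := by rw [h2]; group
    exact mul_right_cancel h6
  have h5 : e * a₂ = a₂ * e := by
    have h6 := h.comm d hd a₂ h.dih₂.r_mem
    have h7 : d * (e * a₂) = d * (a₂ * e) := by
      calc d * (e * a₂) = d * e * a₂ := by group
        _ = a₂ * (d * e) := h3
        _ = (d * a₂) * e := by rw [h6]; group
        _ = d * (a₂ * e) := by group
    exact mul_left_cancel h7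
  obtain ⟨i, rfl⟩ := rot_of_comm h.dih₁ hd h4
  obtain ⟨j, rfl⟩ := rot_of_comm h.dih₂ he h5
  exact ⟨i, j, hde⟩

/-- an element of `S - P` with square in `B₀` gives an involution of `S - P` -/
theorem exists_invol (h : Situ S P D₁ D₂ a₁ b₁ a₂ b₂ m) {y : G} (hy : y ∈ S) (hyP : y ∉ P)
    (hB : InB D₁ D₂ (y * y)) : ∃ d ∈ D₁, d⁻¹ * y ∈ S ∧ d⁻¹ * y ∉ P ∧ d⁻¹ * y * (d⁻¹ * y) = 1 := by
  obtain ⟨d, hd, e, he, hde⟩ := hB
  have h1 : (y * e * y⁻¹) * (y * d * y⁻¹) = d * e := by
    have h2 := h.comm d hd e he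
    calc (y * e * y⁻¹) * (y * d * y⁻¹) = y * (e * d) * y⁻¹ := by group
      _ = y * (y * y) * y⁻¹ := by rw [← h2, hde]
      _ = y * y := by group
      _ = d * e := hde
  obtain ⟨h3, h4⟩ := h.unique (h.s₂ y hy hyP e he) (h.s₁ y hy hyP d hd) hd he h1
  refine ⟨d, hd, mul_mem (inv_mem (h.P_le (h.D₁_le hd))) hy,
    h.mul_notMem' hyP (inv_mem (h.D₁_le hd)), ?_⟩
  calc d⁻¹ * y * (d⁻¹ * y) = d⁻¹ * (y * d * y⁻¹)⁻¹ * (y * y) := by group
    _ = d⁻¹ * e⁻¹ * (d * e) := by rw [h4, hde]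
    _ = d⁻¹ * (e⁻¹ * d) * e := by group
    _ = d⁻¹ * (d * e⁻¹) * e := by rw [h.comm d hd e⁻¹ (inv_mem he)]
    _ = 1 := by group

end Situ

end Cfsg.Agent.GH.L2.CaseISitu
end
end

-- part: GH/Models/PSp43
section
set_option linter.all false
open scoped Cfsg.Agent.FastGrp

/-!
# The group `W24` is a Sylow 2-subgroup of `PSp₄(3)`
-/

set_option autoImplicit false

namespace Cfsg.Agent.GH.Models.PSp43

open Cfsg.Agent.GH.Pc Cfsg.Agent.GH.PcTypes Cfsg.Agent.GH.Models.Proj Matrix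
open Cfsg.Agent.LieClassical

section psp

variable {m : ℕ} {F : Type*} [Field F]

/-- Inclusion of `Sp` in the matrices. -/
def inc : symplecticGroup (Fin m) F →* Matrix (Fin m ⊕ Fin m) (Fin m ⊕ Fin m) F where
  toFun A := A.1
  map_one' := rfl
  map_mul' _ _ := rfl

theorem mk_eq [NeZero m] {X Y : symplecticGroup (Fin m) F} {c : F} (h : X.1 = c • Y.1) :
    (QuotientGroup.mk X : Cfsg.PSp m F) = QuotientGroup.mk Y := by
  have : Nonempty (Fin m ⊕ Fin m) := ⟨Sum.inl 0⟩
  have hZ : c • (X⁻¹ * Y).1 = 1 := by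
    have h1 : (X⁻¹ * X).1 = 1 := by rw [inv_mul_cancel]; rfl
    rw [← h1]
    change c • ((X⁻¹).1 * Y.1) = (X⁻¹).1 * X.1
    rw [h, Matrix.mul_smul]
  have hc : c ≠ 0 := by
    rintro rfl
    rw [zero_smul] at hZ
    exact zero_ne_one hZ
  refine QuotientGroup.eq.2 ((SympCenter.mem_center_iff m _).2 ⟨c⁻¹, ?_⟩)
  rw [← hZ, smul_smul, inv_mul_cancel₀ hc, one_smul]

theorem scalar_of_mk {X : symplecticGroup (Fin m) F}
    (h : (QuotientGroup.mk X : Cfsg.PSp m F) = 1) : ∃ c : F, X.1 = c • 1 :=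
  (SympCenter.mem_center_iff m X).1 ((QuotientGroup.eq_one_iff X).1 h)

/-- No normal word is scalar. -/
def chk [Fintype F] [DecidableEq F] {n : ℕ} (A : Fin n → Matrix (Fin m ⊕ Fin m) (Fin m ⊕ Fin m) F)
    (e : Fin n → Bool) : Bool :=
  isZ e || !(decide (∃ c : F, wd A ((List.finRange n).filter fun i => e i) =
    c • (1 : Matrix (Fin m ⊕ Fin m) (Fin m ⊕ Fin m) F)))

theorem sylOf_psp [NeZero m] [Fintype F] [DecidableEq F] {n : ℕ} {P : Pres n} (hP : P.Ok) {G : Type*}
    [Group G] {x : Fin n → G} (hx : Sat P x) (htop : Subgroup.closure (Set.range x) = ⊤)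
    (hc : Nat.card G = 2 ^ n) (A : Fin n → Matrix (Fin m ⊕ Fin m) (Fin m ⊕ Fin m) F)
    (hdet : ∀ i, A i ∈ symplecticGroup (Fin m) F)
    (hsq : ∀ i, ∃ c : F, A i * A i = c • wd A (P.sq i))
    (hcj : ∀ i j, i < j → ∃ c : F, A i * A j = c • (wd A (P.cj i j) * A i))
    (hn : allB n (chk A) = true)
    (hH : ¬ 2 ^ (n + 1) ∣ Nat.card (Cfsg.PSp m F)) :
    ∃ S : Sylow 2 (Cfsg.PSp m F),
      Nonempty (G ≃* ↥(S : Subgroup (Cfsg.PSp m F))) := by
  have : Finite (Cfsg.PSp m F) := Quotient.finite _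
  let Y : Fin n → symplecticGroup (Fin m) F := fun i => ⟨A i, hdet i⟩
  let pr : symplecticGroup (Fin m) F →* Cfsg.PSp m F := QuotientGroup.mk' _
  have hw : ∀ l, (word Y l).1 = wd A l := fun l => map_wd inc Y l
  have hwp : ∀ l, word (fun i => pr (Y i)) l = pr (word Y l) := fun l => (map_word pr Y l).symm
  have hy : Sat P (fun i => pr (Y i)) := by
    constructor
    · intro i
      rw [hwp, ← map_mul]
      obtain ⟨c, hc⟩ := hsq i
      refine mk_eq (c := c) ?_
      rw [hw]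
      exact hc
    · intro i j hij
      rw [hwp, ← map_mul, ← map_mul]
      obtain ⟨c, hc⟩ := hcj i j hij
      refine mk_eq (c := c) ?_
      change A i * A j = c • ((word Y (P.cj i j)).1 * A i)
      rw [hw]
      exact hc
  refine exists_sylow hP hx hy htop hc (fun e he => ?_) hH
  have h1 := allB_spec hn e
  rw [chk, Bool.or_eq_true] at h1
  rcases h1 with h1 | h1
  · exact isZ_spec h1
  · exfalso
    rw [Bool.not_eq_true', decide_eq_false_iff_not] at h1
    apply h1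
    unfold nf at he
    rw [hwp] at he
    obtain ⟨c, hc⟩ := scalar_of_mk he
    exact ⟨c, by rw [← hw]; exact hc⟩

end psp

instance : Fact (Nat.Prime 3) := ⟨by norm_num⟩

abbrev F := ZMod 3

/-- `a b e e_a e_b e_ab` -/
def A : Fin 6 → Matrix (Fin 2 ⊕ Fin 2) (Fin 2 ⊕ Fin 2) F := ![
  fromBlocks !![0,0; 0,1] !![1,0; 0,1] !![2,0; 0,1] !![0,0; 0,2],
  fromBlocks !![1,0; 0,0] !![2,0; 0,1] !![2,0; 0,2] !![2,0; 0,0],
  fromBlocks !![0,0; 0,0] !![0,1; 1,0] !![0,2; 2,0] !![0,0; 0,0],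
  fromBlocks !![0,1; 1,0] !![0,1; 1,0] !![0,1; 1,0] !![0,2; 2,0],
  fromBlocks !![0,1; 1,0] !![0,2; 2,0] !![0,2; 2,0] !![0,2; 2,0],
  fromBlocks !![0,1; 2,0] !![0,0; 0,0] !![0,0; 0,0] !![0,1; 2,0]]

theorem mem_A : ∀ i, A i * J (Fin 2) F * (A i)ᵀ = J (Fin 2) F := by decide +kernel

theorem sq_A : ∀ i, ∃ c : F, A i * A i = c • wd A (W24.sq i) := by decide +kernel

theorem cj_A : ∀ i j, i < j → ∃ c : F, A i * A j = c • (wd A (W24.cj i j) * A i) := by
  decide +kernel

theorem nf_A : allB 6 (chk A) = true := by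
  have h1 : ∀ {n : ℕ} {p : (Fin n → Bool) → Bool}, (∀ e, p e = true) → allB n p = true := by
    intro n
    induction n with
    | zero => exact fun h => h _
    | succ n ih => exact fun h => Bool.and_eq_true_iff.2 ⟨ih fun _ => h _, ih fun _ => h _⟩
  have h2 : ∀ (e : Fin 6 → Bool) (l : List (Fin 6)), wd A (l.filter fun i => e i) = (l.map fun i => cond (e i) (A i) 1).prod := by
    intro e l
    induction l with
    | nil => rfl
    | cons i l ih =>
      rw [List.filter_cons, List.map_cons, List.prod_cons, ← ih]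
      cases e i
      exacts [(one_mul _).symm, rfl]
  have h3 : ∀ a b c d e f : Bool, (!a && (!b && (!c && (!d && (!e && (!f && true)))))) = true ∨ ¬∃ x : (ZMod 3), cond a (A 0) 1 * (cond b (A 1) 1 * (cond c (A 2) 1 * (cond d (A 3) 1 * (cond e (A 4) 1 * (cond f (A 5) 1 * 1))))) = x • (1 : Matrix (Fin 2 ⊕ Fin 2) (Fin 2 ⊕ Fin 2) (ZMod 3)) := by
    set_option synthInstance.maxSize 20000 in open scoped Cfsg.Agent.Lib.MatDec in decide +kernel
  refine h1 fun e => ?_
  delta chk isZ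
  rw [h2, show List.finRange 6 = [0, 1, 2, 3, 4, 5] from rfl]
  rcases h3 (e 0) (e 1) (e 2) (e 3) (e 4) (e 5) with h | h
  · exact Bool.or_eq_true_iff.2 (.inl h)
  · exact Bool.or_eq_true_iff.2 (.inr (congrArg (!·) (decide_eq_false h)))

theorem card_PSp : Nat.card (Cfsg.PSp 2 F) = 2 ^ 6 * 405 := by
  have h := Subgroup.card_eq_card_quotient_mul_card_subgroup
    (Subgroup.center (symplecticGroup (Fin 2) F))
  rw [SympCenter.card_center (by norm_num : 1 ≤ 2), SympCount.card_symplecticGroup,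
    Finset.prod_range_succ, Finset.prod_range_succ, Finset.prod_range_zero, ZMod.card] at h
  have h2 : Nat.gcd 2 (3 - 1) = 2 := by norm_num
  rw [h2, show (3 : ℕ) ^ 2 ^ 2 * (1 * (3 ^ (2 * (0 + 1)) - 1) * (3 ^ (2 * (1 + 1)) - 1)) = 51840 by
    norm_num] at h
  change 51840 = Nat.card (Cfsg.PSp 2 F) * 2 at h
  norm_num
  omega

theorem not_dvd : ¬ 2 ^ (6 + 1) ∣ Nat.card (Cfsg.PSp 2 F) := by
  rw [card_PSp]
  norm_num

theorem sylOf {T : Type*} [Group T] (h : IsType W24 T) : Defs.SylOf T (Cfsg.PSp 2 F) := by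
  obtain ⟨h1, x, h2, h3⟩ := h
  exact sylOf_psp W24_ok h2 h3 h1 A (fun i => SymplecticGroup.mem_iff.2 (mem_A i)) sq_A cj_A nf_A
    not_dvd

/-- `W24` is of type `PSp₄(3)`. -/
theorem typeSp4 {T : Type*} [Group T] (h : IsType W24 T) : Defs.TypeSp4 T :=
  ⟨F, inferInstance, inferInstance, by rw [ZMod.card]; decide, sylOf h⟩

end Cfsg.Agent.GH.Models.PSp43

private theorem dce_fca9ecf472f0 : _root_.True := by
  try have : _root_.True := by simp only [_root_.Cfsg.Agent.GH.Models.PSp43.chk.eq_1]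
  exact _root_.True.intro
end

-- part: GH/L2Q
section
set_option linter.all false
open scoped Cfsg.Agent.FastGrp

-- part: GH/LemmaS
section
/-!
# GH-L2, LEMMA S (helper299)

`G` simple, not commutative, `X ≠ ∅` an `XBase` set of involutions (see `GH/XSet.lean`).  Then there are
commuting `y, t ∈ X` such that `t` does not fix `KK y`.

Proof.  Otherwise let `S` be a Sylow 2-subgroup.  `Good X R L`: `L` is a 2-component of `C(W)`,
`W = ⟨X ∩ R⟩ ≠ 1`, covering `KK u / O` for all `u ∈ X ∩ R`, and the involutions of `R` fixing `L` are in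
`X`.  A maximal good `R ≤ S` is `S`; then `{s ∈ S | Fixes s L}` is strongly closed in `S` and S1173 gives a
contradiction.
-/

set_option autoImplicit false

open Cfsg Subgroup
open Cfsg.Agent.SignalizersComponents Cfsg.Agent.Lib
open Cfsg.Agent.SignalizersComponents.IntrinsicBasic
open Cfsg.Agent.Intrinsic.Basic Cfsg.Agent.Intrinsic.Cen
open Cfsg.Agent.GH.Defs Cfsg.Agent.GH.XSet
open scoped commutatorElement

namespace Cfsg.Agent.GH.LemmaS

variable {G : Type*} [Group G]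

/-- `⟨X ∩ R⟩` -/
def cl (X : Set G) (R : Subgroup G) : Subgroup G := closure (X ∩ (R : Set G))

theorem cl_le (X : Set G) (R : Subgroup G) : cl X R ≤ R := (closure_le _).mpr fun _ h => h.2

theorem mem_cl {X : Set G} {R : Subgroup G} {y : G} (hy : y ∈ X) (hyR : y ∈ R) : y ∈ cl X R :=
  subset_closure ⟨hy, hyR⟩

theorem cl_mono {X : Set G} {R R' : Subgroup G} (h : R ≤ R') : cl X R ≤ cl X R' :=
  closure_mono fun _ hx => ⟨hx.1, h hx.2⟩

theorem normalizer_le_normalizer_cl {X : Set G} (hX : ∀ y ∈ X, ∀ g : G, g * y * g⁻¹ ∈ X)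
    (R : Subgroup G) : normalizer (R : Set G) ≤ normalizer (cl X R : Set G) := by
  have key : ∀ g ∈ normalizer (R : Set G), cj g (cl X R) ≤ cl X R := by
    intro g hg
    rw [cj_def, cl, MonoidHom.map_closure]
    refine closure_mono ?_
    rintro _ ⟨y, ⟨hy, hyR⟩, rfl⟩
    exact ⟨hX y hy g, (mem_normalizer_iff.mp hg y).mp hyR⟩
  intro g hg
  rw [mem_normalizer_iff_cj]
  apply le_antisymm (key g hg)
  have h1 := cj_mono (g := g) (key g⁻¹ (inv_mem hg))
  rwa [cj_cj_inv] at h1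

/-- The inductive hypothesis. -/
structure Good (X : Set G) (R L : Subgroup G) : Prop where
  ne : ∃ y ∈ X, y ∈ R
  comp : IsComp (centralizer (cl X R : Set G)) L
  cov : ∀ u ∈ X, u ∈ R → L ⊔ core (KK u) = KK u
  mem : ∀ s ∈ R, orderOf s = 2 → Fixes s L → s ∈ X

variable [Finite G] {X : Set G}

/-- Construction of good pairs. -/
theorem good_of_central (h : XBase X) (hp : ∀ y ∈ X, ∀ t ∈ X, Commute y t → Fixes t (KK y))
    {R H L : Subgroup G} (hR : IsPGroup 2 R) {u : G} (hu : u ∈ X) (huR : u ∈ R)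
    (hc : ∀ s ∈ R, Commute s u) (hL : IsComp H L) (hH : centralizer (cl X R : Set G) ≤ H)
    (hN : R ≤ normalizer (L : Set G)) (hcov : L ⊔ core (KK u) = KK u) :
    Good X R (cenW L (cl X R)) := by
  have hW : IsPGroup 2 (cl X R) := hR.to_le (cl_le X R)
  have hiff : ∀ s ∈ R, Fixes s L ↔ Fixes s (KK u) := fun s hs =>
    fixes_iff_of_sup hcov (hN hs) (h.mem_normalizer hu (hc s hs))
  have hf : ∀ w ∈ cl X R, Fixes w L := by
    have h1 : cl X R ≤ fixer L := by
      refine (closure_le _).mpr ?_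
      rintro t ⟨ht, htR⟩
      exact (hiff t htR).mpr (hp u hu t ht (hc t htR).symm)
    exact fun w hw => h1 hw
  obtain ⟨h1, h2⟩ := isComp_cenW hL hW hf
  rw [inf_of_le_right hH] at h1
  refine ⟨⟨u, hu, huR⟩, h1, ?_, ?_⟩
  · intro t ht htR
    refine h.sup_of_commute hu ht (hc t htR).symm (hp u hu t ht (hc t htR).symm)
      (hp t ht u hu (hc t htR)) (pElem_pElem _) (sup_trans h2 hcov) ?_
    exact (cenW_le_centralizer _ _).trans (XBase.centralizer_le (mem_cl ht htR))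
  · intro s hs hs2 hfix
    have h3 : Fixes s L := (fixes_iff_of_sup h2 hfix.1 (hN hs)).mp hfix
    exact h.closed u hu s hs2 (hc s hs) ((hiff s hs).mp h3)

omit [Finite G] in
theorem cj_sup (g : G) (A B : Subgroup G) : cj g (A ⊔ B) = cj g A ⊔ cj g B := by
  rw [cj_def, Subgroup.map_sup]
  rfl

omit [Finite G] in
theorem cj_centralizer_sub (g : G) (W : Subgroup G) :
    cj g (centralizer (W : Set G)) = centralizer (cj g W : Set G) := by
  ext x
  rw [mem_cj, mem_centralizer_iff, mem_centralizer_iff]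
  constructor
  · intro h w hw
    have h1 := h _ (mem_cj.mp hw)
    calc w * x = g * ((g⁻¹ * w * g) * (g⁻¹ * x * g)) * g⁻¹ := by group
      _ = g * ((g⁻¹ * x * g) * (g⁻¹ * w * g)) * g⁻¹ := by rw [h1]
      _ = x * w := by group
  · intro h w hw
    have h1 := h _ (conj_mem_cj (g := g) hw)
    calc w * (g⁻¹ * x * g) = g⁻¹ * ((g * w * g⁻¹) * x) * g := by group
      _ = g⁻¹ * (x * (g * w * g⁻¹)) * g := by rw [h1]
      _ = g⁻¹ * x * g * w := by group

/-- The elements normalizing `⟨X ∩ R⟩` normalize `L`. -/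
theorem Good.le_normalizer (h : XBase X) {R L : Subgroup G} (hg : Good X R L) :
    normalizer (cl X R : Set G) ≤ normalizer (L : Set G) := by
  intro s hs
  obtain ⟨y, hy, hyR⟩ := hg.ne
  have hu : s * y * s⁻¹ ∈ X := h.conj y hy s
  have huR : s * y * s⁻¹ ∈ R := cl_le X R ((mem_normalizer_iff.mp hs y).mp (mem_cl hy hyR))
  have h1 := hg.cov _ hu huR
  have h2 : cj s L ⊔ core (KK (s * y * s⁻¹)) = KK (s * y * s⁻¹) := by
    rw [← h.cj_KK hy, core_cj, ← cj_sup, hg.cov y hy hyR]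
  have h3 : IsComp (centralizer (cl X R : Set G)) (cj s L) := by
    have h4 := hg.comp.cj s
    have h5 : cj s (centralizer (cl X R : Set G)) = centralizer (cl X R : Set G) := by
      rw [cj_centralizer_sub, mem_normalizer_iff_cj.mp hs]
    rwa [h5] at h4
  rw [mem_normalizer_iff_cj]
  exact eq_of_sup (h.comp _ hu) h3 hg.comp h2 h1

/-- The step: from `R` to `N_S(⟨X ∩ R⟩)`. -/
theorem Good.step (h : XBase X) (hp : ∀ y ∈ X, ∀ t ∈ X, Commute y t → Fixes t (KK y))
    {S R L : Subgroup G} (hS : IsPGroup 2 S) (hRS : R ≤ S) (hg : Good X R L) :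
    ∃ L', Good X (S ⊓ normalizer (cl X R : Set G)) L' := by
  have : Fact (Nat.Prime 2) := ⟨Nat.prime_two⟩
  obtain ⟨P, hP⟩ : ∃ P, P = S ⊓ normalizer (cl X R : Set G) := ⟨_, rfl⟩
  rw [← hP]
  have hPp : IsPGroup 2 P := hS.to_le (hP ▸ inf_le_left)
  have hPN : P ≤ normalizer (cl X R : Set G) := hP ▸ inf_le_right
  have hRP : R ≤ P := by
    rw [hP]
    exact le_inf hRS (Subgroup.le_normalizer.trans (normalizer_le_normalizer_cl h.conj R))
  -- the central involution of `W`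
  obtain ⟨u, huW, hu2, huc⟩ : ∃ u ∈ cl X R, orderOf u = 2 ∧ ∀ s ∈ P, Commute s u := by
    have h1 : ((cl X R).subgroupOf P).Normal := normal_subgroupOf_of_le_normalizer hPN
    have h2 : (cl X R).subgroupOf P ≠ ⊥ := by
      obtain ⟨y, hy, hyR⟩ := hg.ne
      intro h3
      have h4 : (⟨y, hRP hyR⟩ : P) ∈ (cl X R).subgroupOf P := mem_cl hy hyR
      rw [h3, mem_bot] at h4
      exact h.ne_one hy (congrArg Subtype.val h4)
    obtain ⟨z, hz, hzc, hz2⟩ := Transfer.PGroupNormal.exists_mem_inf_center_orderOf hPp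
      ((cl X R).subgroupOf P) h2
    refine ⟨z, hz, ?_, fun s hs => ?_⟩
    · rw [← hz2]
      exact Subgroup.orderOf_coe z
    · exact congrArg Subtype.val (mem_center_iff.mp hzc ⟨s, hs⟩)
  have huR : u ∈ R := cl_le X R huW
  have huL : Fixes u L := fixes_of_comm fun k hk =>
    (mem_centralizer_iff.mp (hg.comp.le hk) u huW)
  have hu : u ∈ X := hg.mem u huR hu2 huL
  refine ⟨_, good_of_central h hp hPp hu (hRP huR) huc hg.comp ?_ (hPN.trans (hg.le_normalizer h))
    (hg.cov u hu huR)⟩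
  exact Subgroup.centralizer_le (cl_mono hRP)

/-- The beginning of the chain. -/
theorem exists_good (h : XBase X) (hp : ∀ y ∈ X, ∀ t ∈ X, Commute y t → Fixes t (KK y))
    {S : Subgroup G} (hS : IsPGroup 2 S) {x : G} (hx : x ∈ X) (hxS : x ∈ S) :
    ∃ L, Good X (S ⊓ centralizer ({x} : Set G)) L := by
  have hxR : x ∈ S ⊓ centralizer ({x} : Set G) := ⟨hxS, mem_centralizer_singleton_iff.mpr rfl⟩
  refine ⟨_, good_of_central h hp (hS.to_le inf_le_left) hx hxR (fun s hs =>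
    mem_centralizer_singleton_iff.mp hs.2) (h.comp x hx)
    (XBase.centralizer_le (mem_cl hx hxR)) ?_ ?_⟩
  · intro s hs
    exact h.mem_normalizer hx (mem_centralizer_singleton_iff.mp hs.2)
  · exact sup_eq_left.mpr (core_le _)

/-- A good pair `(S, L)`. -/
theorem exists_good_top (h : XBase X) (hp : ∀ y ∈ X, ∀ t ∈ X, Commute y t → Fixes t (KK y))
    {S : Subgroup G} (hS : IsPGroup 2 S) {x : G} (hx : x ∈ X) (hxS : x ∈ S) :
    ∃ L, Good X S L := by
  have : Fact (Nat.Prime 2) := ⟨Nat.prime_two⟩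
  obtain ⟨R, ⟨hRS, L, hg⟩, hmax⟩ := Set.Finite.exists_maximal (s := {R : Subgroup G | R ≤ S ∧ ∃ L, Good X R L})
    (Set.toFinite _) ⟨_, inf_le_left, exists_good h hp hS hx hxS⟩
  by_cases hRS' : R = S
  · exact ⟨L, hRS' ▸ hg⟩
  exfalso
  have h1 : R < S := lt_of_le_of_ne hRS hRS'
  have h2 := SmallSimple.SylowMaxInter.lt_inf_normalizer hS h1
  have h3 : R < S ⊓ normalizer (cl X R : Set G) :=
    lt_of_lt_of_le h2 (inf_le_inf_left _ (normalizer_le_normalizer_cl h.conj R))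
  obtain ⟨L', hg'⟩ := hg.step h hp hS hRS
  exact absurd (hmax ⟨inf_le_left, L', hg'⟩ h3.le) (not_le_of_gt h3)

/-- **LEMMA S.** -/
theorem lemmaS [IsSimpleGroup G] (hna : ∃ a b : G, a * b ≠ b * a)
    (h1173 : oddCore G = ⊥ → ∀ (S : Sylow 2 G) (T : Subgroup G),
      IsStronglyClosed T (S : Subgroup G) →
      ((⨅ n : ℕ, derivedSeries ↥(centralizer (T : Set G)) n).map
        (centralizer (T : Set G)).subtype).Normal)
    (h : XBase X) (hne : X.Nonempty) :
    ∃ y ∈ X, ∃ t ∈ X, Commute y t ∧ ¬ Fixes t (KK y) := by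
  have hp2 : Fact (Nat.Prime 2) := ⟨Nat.prime_two⟩
  by_contra hcon
  have hp : ∀ y ∈ X, ∀ t ∈ X, Commute y t → Fixes t (KK y) := by
    intro y hy t ht hyt
    by_contra hno
    exact hcon ⟨y, hy, t, ht, hyt, hno⟩
  obtain ⟨x, hx⟩ := hne
  -- a Sylow 2-subgroup containing `x`
  have hxp : IsPGroup 2 (zpowers x) := by
    apply IsPGroup.of_card (n := 1)
    rw [Nat.card_zpowers, h.inv x hx, pow_one]
  obtain ⟨S, hS⟩ := hxp.exists_le_sylow
  have hxS : x ∈ (S : Subgroup G) := hS (mem_zpowers x)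
  obtain ⟨L, hg⟩ := exists_good_top h hp S.2 hx hxS
  have hSN : (S : Subgroup G) ≤ normalizer (L : Set G) :=
    (Subgroup.le_normalizer.trans (normalizer_le_normalizer_cl h.conj _)).trans
      (hg.le_normalizer h)
  -- odd core
  have hO : oddCore G = ⊥ := by
    rcases (inferInstance : (oddCore G).Normal).eq_bot_or_eq_top with h1 | h1
    · exact h1
    · exfalso
      have h2 : core (⊤ : Subgroup G) = ⊤ := by
        rw [eq_top_iff]
        intro g _
        rw [mem_core_iff (mem_top g)]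
        have h3 := Cores.map_equiv_pPrimeCore (Subgroup.topEquiv (G := G)).symm 2
        have h4 : (⟨g, mem_top g⟩ : (⊤ : Subgroup G)) ∈ (pPrimeCore 2 G).map
            (Subgroup.topEquiv (G := G)).symm.toMonoidHom := by
          refine ⟨g, ?_, rfl⟩
          have h5 : oddCore G = pPrimeCore 2 G := rfl
          rw [← h5, h1]
          exact mem_top g
        rw [h3] at h4
        exact h4
      have h3 : x ∈ core (⊤ : Subgroup G) := by rw [h2]; exact mem_top x
      exact h.ne_one hx (eq_one_of_mem_core_sq h3 (h.sq hx))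
  -- the strongly closed subgroup
  obtain ⟨T, hT⟩ : ∃ T, T = (S : Subgroup G) ⊓ fixer L := ⟨_, rfl⟩
  have hWT : cl X S ≤ T := by
    rw [hT]
    refine le_inf (cl_le _ _) fun w hw => ?_
    exact fixes_of_comm fun k hk => mem_centralizer_iff.mp (hg.comp.le hk) w hw
  have hxT : x ∈ T := hWT (mem_cl hx hxS)
  have hcl : IsStronglyClosed T (S : Subgroup G) := by
    refine ⟨hT ▸ inf_le_left, ?_⟩
    intro a ha g hgS
    by_cases ha1 : a = 1
    · subst ha1
      have : g * 1 * g⁻¹ = (1 : G) := by group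
      rw [this]
      exact one_mem _
    rw [hT] at ha ⊢
    refine ⟨hgS, ?_⟩
    -- the involution `u` of `⟨a⟩`
    obtain ⟨n, hn⟩ := S.2 ⟨a, ha.1⟩
    obtain ⟨k, hk⟩ := (Nat.dvd_prime_pow Nat.prime_two).mp
      (orderOf_dvd_of_pow_eq_one (show a ^ 2 ^ n = 1 from congrArg Subtype.val hn))
    have hk2 : orderOf a = 2 ^ k := hk.2
    have hk0 : k ≠ 0 := by
      rintro rfl
      rw [pow_zero, orderOf_eq_one_iff] at hk2
      exact ha1 hk2
    obtain ⟨j, rfl⟩ := Nat.exists_eq_succ_of_ne_zero hk0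
    obtain ⟨u, hu⟩ : ∃ u, u = a ^ 2 ^ j := ⟨_, rfl⟩
    have hu2 : orderOf u = 2 := by
      rw [hu, orderOf_pow' a (by positivity), hk2, Nat.succ_eq_add_one, pow_succ]
      rw [Nat.gcd_eq_right (Dvd.intro _ rfl), Nat.mul_div_cancel_left _ (by positivity)]
    have huS : u ∈ (S : Subgroup G) := hu ▸ pow_mem ha.1 _
    have huf : Fixes u L := by
      have : u ∈ fixer L := hu ▸ pow_mem ha.2 _
      exact this
    have huX : u ∈ X := hg.mem u huS hu2 huf
    have hau : Commute a u := hu ▸ (Commute.refl a).pow_right _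
    have haK : Fixes a (KK u) :=
      (fixes_iff_of_sup (hg.cov u huX huS) (hSN ha.1) (h.mem_normalizer huX hau)).mp ha.2
    have h1 := haK.cj g
    rw [h.cj_KK huX] at h1
    have hgu : g * u * g⁻¹ ∈ X := h.conj u huX g
    have hguS : g * u * g⁻¹ ∈ (S : Subgroup G) := by
      have h2 : g * u * g⁻¹ = (g * a * g⁻¹) ^ 2 ^ j := by rw [hu, conj_pow]
      rw [h2]
      exact pow_mem hgS _
    exact (fixes_iff_of_sup (hg.cov _ hgu hguS) (hSN hgS) h1.1).mpr h1
  have hnorm := h1173 hO S T hcl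
  rw [TwoFusion.CentResidual.map_iInf_derivedSeries] at hnorm
  have hTp : IsPGroup 2 T := S.2.to_le (hT ▸ inf_le_left)
  obtain ⟨h1, h2⟩ := isComp_cenW hg.comp hTp (fun w hw => by
    rw [hT] at hw
    exact hw.2)
  have hle : cenW L T ≤ TwoFusion.CentResidual.PR (centralizer (T : Set G)) :=
    TwoFusion.CentResidual.le_PR (cenW_le_centralizer _ _) (le_of_eq h1.perfect.symm)
  rcases hnorm.eq_bot_or_eq_top with h3 | h3
  · rw [h3, le_bot_iff] at hle
    exact h1.ne_bot hle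
  · have h4 : centralizer (T : Set G) = ⊤ := by
      rw [eq_top_iff, ← h3]
      exact TwoFusion.CentResidual.PR_le _
    have h5 : x ∈ center G := by
      rw [mem_center_iff]
      intro g
      have h6 : g ∈ centralizer (T : Set G) := by rw [h4]; exact mem_top g
      exact (mem_centralizer_iff.mp h6 x hxT).symm
    rcases (inferInstance : (center G).Normal).eq_bot_or_eq_top with h6 | h6
    · rw [h6, mem_bot] at h5
      exact h.ne_one hx h5
    · obtain ⟨a, b, hab⟩ := hna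
      apply hab
      have h7 : b ∈ center G := by rw [h6]; exact mem_top b
      exact mem_center_iff.mp h7 a

end Cfsg.Agent.GH.LemmaS
end

-- part: GH/L2Q
section
/-!
# GH-L2: the subgroup `Q` (helper153 #5286 (0), (1), (2))

`X` an `XSet` of involutions.  `LG X Q L`: `Q ≠ 1` is a 2-group all whose involutions are in `X`, `L` is a
2-component of `C(Q)` (hence the only one) covering `KK u / O(KK u)` for all involutions `u` of `Q`.
`LGM X Q L`: moreover `|Q|` is maximal.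

* `LG.conj`, `LG.unique`, `LG.le_normalizer`, `LG.mono`, `LG.disjoint`, `exists_lgm`;
* `LGM.le_of_fixes`: a 2-group `A ≤ N(Q)` fixing `L` is in `Q`;
* `LGM.ti` (0): `A ≤ Q'`, `LG X Q' L'`, `A ≤ N(Q)`, `A ∩ Q ≠ 1` imply `A ≤ Q`;
* `caseOne`, `LGM.caseOne_conj` (1): if `Q` is not normal in `S`: `s ∈ N_S(N_S(Q)) - N(Q)`, `Q ∩ Q^s = 1`, `[Q, Q^s] = 1`;
* `LGM.exists_outside` (2): if `Q` is normal in the Sylow group `S`, `x ∈ Q ∩ Z(S)` an involution: some
  conjugate of `x` is in `S - Q`.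
-/

set_option autoImplicit false

open Cfsg Subgroup
open Cfsg.Agent.SignalizersComponents Cfsg.Agent.Lib
open Cfsg.Agent.SignalizersComponents.IntrinsicBasic
open Cfsg.Agent.Intrinsic.Basic Cfsg.Agent.Intrinsic.Cen
open Cfsg.Agent.GH.Defs Cfsg.Agent.GH.XSet
open Cfsg.Agent.GH.LemmaS (cj_sup cj_centralizer_sub)
open scoped commutatorElement

namespace Cfsg.Agent.GH.L2Q

variable {G : Type*} [Group G]

/-- Central involutions of normal subgroups of 2-groups. -/
theorem exists_central [Finite G] {P R : Subgroup G} (hP : IsPGroup 2 P) (hRP : R ≤ P)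
    (hN : P ≤ normalizer (R : Set G)) (hne : R ≠ ⊥) :
    ∃ u ∈ R, orderOf u = 2 ∧ ∀ s ∈ P, Commute s u := by
  have : Fact (Nat.Prime 2) := ⟨Nat.prime_two⟩
  have h1 : (R.subgroupOf P).Normal := normal_subgroupOf_of_le_normalizer hN
  have h2 : R.subgroupOf P ≠ ⊥ := by
    intro h3
    apply hne
    rw [eq_bot_iff]
    intro y hy
    have h4 : (⟨y, hRP hy⟩ : P) ∈ R.subgroupOf P := hy
    rw [h3, mem_bot] at h4
    exact mem_bot.2 (congrArg Subtype.val h4)
  obtain ⟨z, hz, hzc, hz2⟩ := Transfer.PGroupNormal.exists_mem_inf_center_orderOf hP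
    (R.subgroupOf P) h2
  refine ⟨z, hz, ?_, fun s hs => ?_⟩
  · rw [← hz2]
    exact Subgroup.orderOf_coe z
  · exact congrArg Subtype.val (mem_center_iff.mp hzc ⟨s, hs⟩)

/-- Involutions of nontrivial 2-groups. -/
theorem exists_inv [Finite G] {R : Subgroup G} (hR : IsPGroup 2 R) (hne : R ≠ ⊥) :
    ∃ u ∈ R, orderOf u = 2 ∧ ∀ s ∈ R, Commute s u :=
  exists_central hR le_rfl Subgroup.le_normalizer hne

/-- `L` is a 2-component of `C(Q)` covering `KK u / O(KK u)` for all involutions `u` of the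
2-group `Q ≠ 1`, which are all in `X`. -/
structure LG (X : Set G) (Q L : Subgroup G) : Prop where
  pg : IsPGroup 2 Q
  ne : Q ≠ ⊥
  comp : IsComp (centralizer (Q : Set G)) L
  mem : ∀ u ∈ Q, orderOf u = 2 → u ∈ X
  cov : ∀ u ∈ Q, orderOf u = 2 → L ⊔ core (KK u) = KK u

/-- Moreover `|Q|` is maximal. -/
structure LGM (X : Set G) (Q L : Subgroup G) : Prop extends LG X Q L where
  max : ∀ Q' L' : Subgroup G, LG X Q' L' → Nat.card Q' ≤ Nat.card Q

variable {X : Set G} {Q L : Subgroup G}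

theorem LG.commute (hL : LG X Q L) {w l : G} (hw : w ∈ Q) (hl : l ∈ L) : Commute w l :=
  mem_centralizer_iff.mp (hL.comp.le hl) w hw

theorem LG.fixes_of_mem (hL : LG X Q L) {w : G} (hw : w ∈ Q) : Fixes w L :=
  fixes_of_comm fun _ hk => hL.commute hw hk

theorem LG.le_KK (hL : LG X Q L) {u : G} (hu : u ∈ Q) (hu2 : orderOf u = 2) : L ≤ KK u := by
  rw [← hL.cov u hu hu2]
  exact le_sup_left

theorem LG.ne_bot (hL : LG X Q L) [Finite G] : L ≠ ⊥ := hL.comp.ne_bot

section finite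

variable [Finite G] {N : ℕ}

theorem LG.fixes_iff (h : XBase X) (hL : LG X Q L) {y g : G} (hy : y ∈ Q) (hy2 : orderOf y = 2)
    (hg : g ∈ normalizer (L : Set G)) (hgy : Commute g y) : Fixes g L ↔ Fixes g (KK y) :=
  fixes_iff_of_sup (hL.cov y hy hy2) hg (h.mem_normalizer (hL.mem y hy hy2) hgy)

/-- `y ∈ Q` an involution, `w ∈ C_Q(y)`: `w` fixes `KK y`. -/
theorem LG.fixes_KK (h : XBase X) (hL : LG X Q L) {y w : G} (hy : y ∈ Q) (hy2 : orderOf y = 2)
    (hw : w ∈ Q) (hwy : Commute w y) : Fixes w (KK y) :=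
  (hL.fixes_iff h hy hy2 (hL.fixes_of_mem hw).1 hwy).mp (hL.fixes_of_mem hw)

/-- `L` is the only 2-component of `C(Q)`. -/
theorem LG.unique (h : XBase X) (hL : LG X Q L) {M : Subgroup G}
    (hM : IsComp (centralizer (Q : Set G)) M) : M = L := by
  obtain ⟨y, hy, hy2, hc⟩ := exists_inv hL.pg hL.ne
  have hf : ∀ w ∈ Q, Fixes w (KK y) := fun w hw => hL.fixes_KK h hy hy2 hw (hc w hw)
  rw [h.eq_cenW (hL.mem y hy hy2) hL.pg hy hc hf hM,
    h.eq_cenW (hL.mem y hy hy2) hL.pg hy hc hf hL.comp]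

theorem LG.conj (h : XBase X) (hL : LG X Q L) (g : G) : LG X (cj g Q) (cj g L) := by
  refine ⟨hL.pg.map _, ?_, ?_, ?_, ?_⟩
  · intro h1
    apply hL.ne
    rw [← cj_inv_cj g Q, h1, cj_def, Subgroup.map_bot]
  · rw [← cj_centralizer_sub]
    exact hL.comp.cj g
  · intro u hu hu2
    have h1 := mem_cj.mp hu
    have h2 : orderOf (g⁻¹ * u * g) = 2 := by
      have e : orderOf (MulAut.conj g⁻¹ u) = orderOf u :=
        orderOf_injective (MulAut.conj g⁻¹).toMonoidHom (MulAut.conj g⁻¹).injective u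
      rw [MulAut.conj_apply, inv_inv] at e
      rw [e, hu2]
    have h3 := h.conj _ (hL.mem _ h1 h2) g
    have h4 : g * (g⁻¹ * u * g) * g⁻¹ = u := by group
    rwa [h4] at h3
  · intro u hu hu2
    have h1 := mem_cj.mp hu
    have h2 : orderOf (g⁻¹ * u * g) = 2 := by
      have e : orderOf (MulAut.conj g⁻¹ u) = orderOf u :=
        orderOf_injective (MulAut.conj g⁻¹).toMonoidHom (MulAut.conj g⁻¹).injective u
      rw [MulAut.conj_apply, inv_inv] at e
      rw [e, hu2]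
    have h3 := hL.cov _ h1 h2
    have h4 : g * (g⁻¹ * u * g) * g⁻¹ = u := by group
    have h5 := h.cj_KK (hL.mem _ h1 h2) g
    rw [h4] at h5
    rw [← h5, core_cj, ← cj_sup, h3]

theorem LG.le_normalizer (h : XBase X) (hL : LG X Q L) :
    normalizer (Q : Set G) ≤ normalizer (L : Set G) := by
  intro g hg
  rw [mem_normalizer_iff_cj]
  have h1 := (hL.conj h g).comp
  rw [mem_normalizer_iff_cj.mp hg] at h1
  exact hL.unique h h1

/-- Construction of `LG` pairs. -/
theorem lg_of_central (h : XSet X N) {Q : Subgroup G} (hQ : IsPGroup 2 Q) {y : G} (hy : y ∈ X)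
    (hyQ : y ∈ Q) (hc : ∀ w ∈ Q, Commute w y) (hf : ∀ w ∈ Q, Fixes w (KK y)) :
    LG X Q (cenW (KK y) Q) := by
  have hmem : ∀ u ∈ Q, orderOf u = 2 → u ∈ X := fun u hu hu2 =>
    h.closed y hy u hu2 (hc u hu) (hf u hu)
  refine ⟨hQ, ?_, (h.toXBase.isComp_cenW hy hQ hyQ hf).1, hmem, ?_⟩
  · intro h1
    rw [h1, mem_bot] at hyQ
    exact h.toXBase.ne_one hy hyQ
  · intro u hu hu2
    exact h.toXBase.cenW_sup hy hQ hf (hmem u hu hu2) hu (hc u hu).symm
      (h.fixes_symm hy (hmem u hu hu2) (hc u hu).symm (hf u hu))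

/-- Subgroups. -/
theorem LG.mono (h : XSet X N) (hL : LG X Q L) {R : Subgroup G} (hRQ : R ≤ Q) (hR : R ≠ ⊥) :
    ∃ L', LG X R L' ∧ L ≤ L' ∧ L ⊔ core L' = L' := by
  have hp := hL.pg.to_le hRQ
  obtain ⟨y, hy, hy2, hc⟩ := exists_inv hp hR
  have hyX := hL.mem y (hRQ hy) hy2
  have hf : ∀ w ∈ R, Fixes w (KK y) := fun w hw =>
    hL.fixes_KK h.toXBase (hRQ hy) hy2 (hRQ hw) (hc w hw)
  refine ⟨_, lg_of_central h hp hyX hy hc hf, ?_⟩
  have h1 : L ≤ cenW (KK y) R := by
    have h2 : L ≤ KK y ⊓ centralizer (R : Set G) :=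
      le_inf (hL.le_KK (hRQ hy) hy2) (hL.comp.le.trans (Subgroup.centralizer_le hRQ))
    rw [← hL.comp.pElem_eq]
    exact PComponents.pElem_mono h2
  exact ⟨h1, sup_mid h1 (hL.cov y (hRQ hy) hy2) (h.toXBase.isComp_cenW hyX hp hy hf).2⟩

/-- `|Q|` is at least the order of every 2-group `R ∋ x` centralizing `x ∈ X` and fixing `KK x`. -/
theorem LGM.card_le (h : XSet X N) (hM : LGM X Q L) {R : Subgroup G} (hR : IsPGroup 2 R) {y : G}
    (hy : y ∈ X) (hyR : y ∈ R) (hc : ∀ w ∈ R, Commute w y) (hf : ∀ w ∈ R, Fixes w (KK y)) :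
    Nat.card R ≤ Nat.card Q :=
  hM.max _ _ (lg_of_central h hR hy hyR hc hf)

theorem LGM.conj (h : XBase X) (hM : LGM X Q L) (g : G) : LGM X (cj g Q) (cj g L) := by
  refine ⟨hM.toLG.conj h g, fun Q' L' h' => ?_⟩
  have h1 : Nat.card (cj g Q) = Nat.card Q := card_map_of_injective (MulAut.conj g).injective
  rw [h1]
  exact hM.max Q' L' h'

/-- A 2-group `A ≤ N(Q)` fixing `L` is in `Q`. -/
theorem LGM.le_of_fixes (h : XSet X N) (hM : LGM X Q L) {A : Subgroup G} (hA : IsPGroup 2 A)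
    (hAN : A ≤ normalizer (Q : Set G)) (hf : ∀ a ∈ A, Fixes a L) : A ≤ Q := by
  obtain ⟨P, hP⟩ : ∃ P, P = A ⊔ Q := ⟨_, rfl⟩
  have hPp : IsPGroup 2 P := hP ▸ hA.to_sup_of_normal_right' hM.pg hAN
  have hPN : P ≤ normalizer (Q : Set G) := hP ▸ sup_le hAN Subgroup.le_normalizer
  have hQP : Q ≤ P := hP ▸ le_sup_right
  have hPf : P ≤ fixer L := hP ▸ sup_le (fun a ha => hf a ha) fun a ha => hM.fixes_of_mem ha
  obtain ⟨y, hy, hy2, hc⟩ := exists_central hPp hQP hPN hM.ne
  have h1 : ∀ w ∈ P, Fixes w (KK y) := fun w hw =>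
    (hM.fixes_iff h.toXBase hy hy2 (hM.le_normalizer h.toXBase (hPN hw)) (hc w hw)).mp (hPf hw)
  have h2 := hM.card_le h hPp (hM.mem y hy hy2) (hQP hy) hc h1
  have h3 : Q = P := eq_of_le_of_card_ge hQP h2
  rw [h3, hP]
  exact le_sup_left

/-- **(0)** TI. -/
theorem LGM.ti (h : XSet X N) (hM : LGM X Q L) {Q' L' A : Subgroup G} (hL' : LG X Q' L')
    (hAQ' : A ≤ Q') (hAN : A ≤ normalizer (Q : Set G)) (hne : A ⊓ Q ≠ ⊥) : A ≤ Q := by
  have hA : IsPGroup 2 A := hL'.pg.to_le hAQ'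
  have key : ∀ y ∈ A, y ∈ Q → orderOf y = 2 → A ⊓ centralizer ({y} : Set G) ≤ Q := by
    intro y hyA hyQ hy2
    refine hM.le_of_fixes h (hA.to_le inf_le_left) (inf_le_left.trans hAN) ?_
    rintro b ⟨hb, hby⟩
    have hby' : Commute b y := mem_centralizer_singleton_iff.mp hby
    have h1 : Fixes b (KK y) := hL'.fixes_KK h.toXBase (hAQ' hyA) hy2 (hAQ' hb) hby'
    exact (hM.fixes_iff h.toXBase hyQ hy2 (hM.le_normalizer h.toXBase (hAN hb)) hby').mpr h1
  obtain ⟨y, hy, hy2, -⟩ := exists_inv (hA.to_le inf_le_left) hne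
  have hAne : A ≠ ⊥ := by
    rintro rfl
    exact hne (bot_inf_eq _)
  obtain ⟨z, hz, hz2, hzc⟩ := exists_inv hA hAne
  have hzQ : z ∈ Q := key y hy.1 hy.2 hy2 ⟨hz, mem_centralizer_singleton_iff.mpr (hzc y hy.1).symm⟩
  exact fun a ha => key z hz hzQ hz2 ⟨ha, mem_centralizer_singleton_iff.mpr (hzc a ha)⟩

/-- `Q ∩ L = 1` -/
theorem LG.disjoint (h : XBase X) (ho : ∀ y ∈ X, ¬ EvenCenter (KK y)) (hL : LG X Q L) :
    Q ⊓ L = ⊥ := by
  by_contra hne
  obtain ⟨y, hy, hy2, -⟩ := exists_inv (hL.pg.to_le inf_le_left) hne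
  have hyX := hL.mem y hy.1 hy2
  have hyK : y ∈ KK y := hL.le_KK hy.1 hy2 hy.2
  apply ho y hyX
  have h1 : (QuotientGroup.mk' (oddCore ↥(KK y))) ⟨y, hyK⟩ ∈ center (Bar (KK y)) := by
    rw [mem_center_iff]
    intro b
    obtain ⟨b, rfl⟩ := QuotientGroup.mk'_surjective _ b
    rw [← map_mul, ← map_mul]
    congr 1
    exact Subtype.ext (h.comm_of_mem hyX b.2).eq
  have h2 : orderOf ((QuotientGroup.mk' (oddCore ↥(KK y))) ⟨y, hyK⟩) = 2 := by
    have h3 : Fact (Nat.Prime 2) := ⟨Nat.prime_two⟩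
    apply orderOf_eq_prime
    · rw [← map_pow]
      have h4 : (⟨y, hyK⟩ : KK y) ^ 2 = 1 := by
        apply Subtype.ext
        change y ^ 2 = 1
        rw [← hy2, pow_orderOf_eq_one]
      rw [h4, map_one]
    · intro h4
      have h5 := (QuotientGroup.eq_one_iff _).mp h4
      have h6 : y ∈ core (KK y) := (mem_core_iff hyK).mpr h5
      exact h.ne_one hyX (eq_one_of_mem_core_sq h6 (h.sq hyX))
  rw [EvenCenter, even_iff_two_dvd, ← h2]
  have h3 : orderOf (⟨_, h1⟩ : center (Bar (KK y))) =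
      orderOf ((QuotientGroup.mk' (oddCore ↥(KK y))) ⟨y, hyK⟩) :=
    (Subgroup.orderOf_coe (⟨_, h1⟩ : center (Bar (KK y)))).symm
  rw [← h3]
  exact orderOf_dvd_natCard _

/-- `Q` is not strongly closed in a Sylow 2-subgroup. -/
theorem LG.false_of_closed [IsSimpleGroup G] (hna : ∃ a b : G, a * b ≠ b * a)
    (h1173 : oddCore G = ⊥ → ∀ (S : Sylow 2 G) (T : Subgroup G),
      IsStronglyClosed T (S : Subgroup G) →
      ((⨅ n : ℕ, derivedSeries ↥(centralizer (T : Set G)) n).map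
        (centralizer (T : Set G)).subtype).Normal)
    (hL : LG X Q L) (S : Sylow 2 G) (hcl : IsStronglyClosed Q (S : Subgroup G)) : False := by
  have hp2 : Fact (Nat.Prime 2) := ⟨Nat.prime_two⟩
  obtain ⟨x, hx, hx2, -⟩ := exists_inv hL.pg hL.ne
  have hxx : x * x = 1 := by rw [← pow_two, ← hx2, pow_orderOf_eq_one]
  have hx1 : x ≠ 1 := by
    rintro rfl
    simp at hx2
  -- odd core
  have hO : oddCore G = ⊥ := by
    rcases (inferInstance : (oddCore G).Normal).eq_bot_or_eq_top with h1 | h1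
    · exact h1
    · exfalso
      have h2 : core (⊤ : Subgroup G) = ⊤ := by
        rw [eq_top_iff]
        intro g _
        rw [mem_core_iff (mem_top g)]
        have h3 := Cores.map_equiv_pPrimeCore (Subgroup.topEquiv (G := G)).symm 2
        have h4 : (⟨g, mem_top g⟩ : (⊤ : Subgroup G)) ∈ (pPrimeCore 2 G).map
            (Subgroup.topEquiv (G := G)).symm.toMonoidHom := by
          refine ⟨g, ?_, rfl⟩
          have h5 : oddCore G = pPrimeCore 2 G := rfl
          rw [← h5, h1]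
          exact mem_top g
        rw [h3] at h4
        exact h4
      have h3 : x ∈ core (⊤ : Subgroup G) := by rw [h2]; exact mem_top x
      exact hx1 (eq_one_of_mem_core_sq h3 hxx)
  have hnorm := h1173 hO S Q hcl
  rw [TwoFusion.CentResidual.map_iInf_derivedSeries] at hnorm
  have hle : L ≤ TwoFusion.CentResidual.PR (centralizer (Q : Set G)) :=
    TwoFusion.CentResidual.le_PR hL.comp.le (le_of_eq hL.comp.perfect.symm)
  rcases hnorm.eq_bot_or_eq_top with h3 | h3
  · rw [h3, le_bot_iff] at hle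
    exact hL.comp.ne_bot hle
  · have h4 : centralizer (Q : Set G) = ⊤ := by
      rw [eq_top_iff, ← h3]
      exact TwoFusion.CentResidual.PR_le _
    have h5 : x ∈ center G := by
      rw [mem_center_iff]
      intro g
      have h6 : g ∈ centralizer (Q : Set G) := by rw [h4]; exact mem_top g
      exact (mem_centralizer_iff.mp h6 x hx).symm
    rcases (inferInstance : (center G).Normal).eq_bot_or_eq_top with h6 | h6
    · rw [h6, mem_bot] at h5
      exact hx1 h5
    · obtain ⟨a, b, hab⟩ := hna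
      apply hab
      have h7 : b ∈ center G := by rw [h6]; exact mem_top b
      exact mem_center_iff.mp h7 a

end finite

end Cfsg.Agent.GH.L2Q
end

private theorem dce_3f335593368b : _root_.True := by
  try have : _root_.True := by simp only [_root_.Cfsg.Agent.GH.Defs.EvenCenter.eq_1]
  try have : _root_.True := by simp only [_root_.Cfsg.Agent.GH.LemmaS.cl.eq_1]
  exact _root_.True.intro
end

-- part: GH/Q2/Rank
section
set_option linter.all false
open scoped Cfsg.Agent.FastGrp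

/-!
# GH-Q, case (II): section (1.1), the rank argument
-/

set_option autoImplicit false

namespace Cfsg.Agent.GH.Q2

open Subgroup Cfsg Cfsg.Agent.TwoFusion.SectionalRank

variable {G : Type*} [Group G]

theorem le_normalizer_of [Finite G] {T : Set G} {N : Subgroup G}
    (hN : ∀ t ∈ T, ∀ n ∈ N, cj t n ∈ N) : closure T ≤ normalizer (N : Set G) := by
  rw [closure_le]
  intro t ht
  exact mem_normalizer_fintype (fun n hn => hN t ht n hn)

/-- Elementary abelian sections from generators. -/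
theorem elem_closure [Finite G] {T : Set G} {N : Subgroup G} (hNT : N ≤ closure T)
    (hN : ∀ t ∈ T, ∀ n ∈ N, cj t n ∈ N) (hc : ∀ a ∈ T, ∀ b ∈ T, a * b * a⁻¹ * b⁻¹ ∈ N)
    (hs : ∀ a ∈ T, a * a ∈ N) : ElemSection 2 (closure T) N := by
  have hn := le_normalizer_of hN
  have hcm : ∀ x ∈ normalizer (N : Set G), ∀ n ∈ N, x * n * x⁻¹ ∈ N := fun x hx n hn =>
    (mem_normalizer_iff.1 hx n).1 hn
  have hcm' : ∀ x ∈ normalizer (N : Set G), ∀ n ∈ N, x⁻¹ * n * x ∈ N := fun x hx n hn => by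
    have := hcm x⁻¹ (inv_mem hx) n hn
    rwa [inv_inv] at this
  -- commutators
  let L : G → Subgroup G := fun b =>
    { carrier := {x | x ∈ normalizer (N : Set G) ∧ x * b * x⁻¹ * b⁻¹ ∈ N}
      mul_mem' := by
        rintro x y ⟨hx, hx'⟩ ⟨hy, hy'⟩
        refine ⟨mul_mem hx hy, ?_⟩
        have e : x * y * b * (x * y)⁻¹ * b⁻¹ =
            (x * (y * b * y⁻¹ * b⁻¹) * x⁻¹) * (x * b * x⁻¹ * b⁻¹) := by group
        rw [e]
        exact mul_mem (hcm x hx _ hy') hx'
      one_mem' := ⟨one_mem _, by simp⟩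
      inv_mem' := by
        rintro x ⟨hx, hx'⟩
        refine ⟨inv_mem hx, ?_⟩
        have e : x⁻¹ * b * x⁻¹⁻¹ * b⁻¹ = x⁻¹ * (x * b * x⁻¹ * b⁻¹)⁻¹ * x := by group
        rw [e]
        exact hcm' x hx _ (inv_mem hx') }
  have h1 : ∀ b ∈ T, closure T ≤ L b := by
    intro b hb
    rw [closure_le]
    intro a ha
    exact ⟨hn (_root_.Subgroup.subset_closure ha), hc a ha b hb⟩
  have hcomm : ∀ a ∈ closure T, ∀ b ∈ closure T, a * b * a⁻¹ * b⁻¹ ∈ N := by
    intro a ha
    let M : Subgroup G :=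
      { carrier := {b | b ∈ normalizer (N : Set G) ∧ a * b * a⁻¹ * b⁻¹ ∈ N}
        mul_mem' := by
          rintro x y ⟨hx, hx'⟩ ⟨hy, hy'⟩
          refine ⟨mul_mem hx hy, ?_⟩
          have e : a * (x * y) * a⁻¹ * (x * y)⁻¹ =
              (a * x * a⁻¹ * x⁻¹) * (x * (a * y * a⁻¹ * y⁻¹) * x⁻¹) := by group
          rw [e]
          exact mul_mem hx' (hcm x hx _ hy')
        one_mem' := ⟨one_mem _, by simp⟩
        inv_mem' := by
          rintro x ⟨hx, hx'⟩
          refine ⟨inv_mem hx, ?_⟩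
          have e : a * x⁻¹ * a⁻¹ * x⁻¹⁻¹ = x⁻¹ * (a * x * a⁻¹ * x⁻¹)⁻¹ * x := by group
          rw [e]
          exact hcm' x hx _ (inv_mem hx') }
    have h2 : closure T ≤ M := by
      rw [closure_le]
      intro b hb
      exact ⟨hn (_root_.Subgroup.subset_closure hb), (h1 b hb ha).2⟩
    intro b hb
    exact (h2 hb).2
  refine ⟨hNT, hcomm, ?_⟩
  intro a ha
  rw [pow_two]
  induction ha using closure_induction with
  | mem x hx => exact hs x hx
  | one => simp
  | mul x y hx hy h3 h4 =>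
    have e : x * y * (x * y) = (x * x) * (x⁻¹ * y * x⁻¹⁻¹ * y⁻¹) * (y * y) := by
      group
    have h5 := hcomm x⁻¹ (inv_mem hx) y hy
    rw [e]
    exact mul_mem (mul_mem h3 h5) h4
  | inv x hx h3 =>
    have : x⁻¹ * x⁻¹ = (x * x)⁻¹ := by group
    rw [this]
    exact inv_mem h3

theorem two_mul_card_le [Finite G] {H K : Subgroup G} (hHK : H ≤ K) {x : G} (hx : x ∈ K)
    (hx' : x ∉ H) : 2 * Nat.card H ≤ Nat.card K := by
  obtain ⟨c, hc⟩ := card_dvd_of_le hHK
  have h1 : c ≠ 0 := by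
    rintro rfl
    have := Nat.card_pos (α := K)
    omega
  have h2 : c ≠ 1 := by
    rintro rfl
    have := eq_of_le_of_card_ge hHK (by omega)
    rw [← this] at hx
    exact hx' hx
  rw [hc, mul_comm]
  exact Nat.mul_le_mul_left _ (by omega)

/-- `{g | cj g r = r, cj g y ∈ ⟨r⁴⟩ y}`. -/
def KK (r y : G) : Subgroup G where
  carrier := {g | cj g r = r ∧ ∃ k : ℤ, cj g y = r ^ (4 * k) * y}
  mul_mem' := by
    rintro a b ⟨ha, k, hk⟩ ⟨hb, l, hl⟩
    refine ⟨by rw [cj_mul_left, hb, ha], l + k, ?_⟩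
    rw [cj_mul_left, hl, cj_mul, cj_zpow, ha, hk, ← mul_assoc, ← zpow_add]
    congr 2
    ring
  one_mem' := ⟨by simp, 0, by simp⟩
  inv_mem' := by
    rintro a ⟨ha, k, hk⟩
    have ha' : cj a⁻¹ r = r := by
      have := cj_inv_cj a r
      rwa [ha] at this
    refine ⟨ha', -k, ?_⟩
    have h1 : y = cj a⁻¹ (r ^ (4 * k) * y) := by rw [← hk, cj_inv_cj]
    rw [cj_mul, cj_zpow, ha'] at h1
    rw [mul_neg, zpow_neg, eq_inv_mul_iff_mul_eq]
    exact h1.symm

theorem Qn.notin_KK {z r y : G} {n : ℕ} (h : Qn z r y n) : r ∉ KK r y := by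
  rintro ⟨_, k, hk⟩
  have h1 := h.cj_rz_y 1
  rw [zpow_one] at h1
  rw [h1] at hk
  have h2 := mul_right_cancel hk
  rw [h.zpow_eq] at h2
  have h3 : (4 : ℤ) ∣ 2 * 1 - 4 * k := dvd_trans ⟨2 ^ n, by ring⟩ h2
  omega

/-- An element `s ∉ R` inducing on `R / Φ(R)` the identity, with square in `Φ(R)`, gives rank 5. -/
theorem rank_five [Finite G] (hr : SectionalPRankLE 2 4 G) {z r1 y1 r2 y2 s : G} {n1 n2 : ℕ}
    (h : Co z r1 y1 r2 y2 n1 n2) {a b c d : ℤ} (N : Ns r1 y1 r2 y2 s (1 + 2 * a) (2 * b) (1 + 2 * c) (2 * d))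
    (hss : s * s = 1 ∨ s * s = z) (hs : s ∉ RR r1 y1 r2 y2) : False := by
  have hr' := sectionalPRankLE_iff.1 hr
  set N0 : Subgroup G := _root_.Subgroup.closure {r1 ^ (2 : ℤ), r2 ^ (2 : ℤ)} with hN0
  have g1 : r1 ^ (2 : ℤ) ∈ N0 := _root_.Subgroup.subset_closure (by simp)
  have g2 : r2 ^ (2 : ℤ) ∈ N0 := _root_.Subgroup.subset_closure (by simp)
  have g1' : ∀ k : ℤ, r1 ^ (2 * k) ∈ N0 := fun k => by
    rw [zpow_mul]; exact Subgroup.zpow_mem _ g1 k
  have g2' : ∀ k : ℤ, r2 ^ (2 * k) ∈ N0 := fun k => by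
    rw [zpow_mul]; exact Subgroup.zpow_mem _ g2 k
  have gz : z ∈ N0 := by
    rw [← h.q1.rzp, show (2 : ℤ) ^ (n1 + 1) = 2 * 2 ^ n1 by ring]
    exact g1' _
  set T : Set G := {s, y2, r2, y1, r1} with hT
  have hN0T : N0 ≤ closure T := by
    rw [hN0, closure_le]
    rintro x (rfl | rfl)
    · exact Subgroup.zpow_mem _ (_root_.Subgroup.subset_closure (by simp [hT])) _
    · exact Subgroup.zpow_mem _ (_root_.Subgroup.subset_closure (by simp [hT])) _
  have hr1 := h.ns_r1 1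
  have hr2 := h.ns_r2 1
  rw [zpow_one] at hr1 hr2
  have hnorm : ∀ t ∈ T, ∀ n ∈ N0, cj t n ∈ N0 := by
    have key : ∀ t : G, cj t (r1 ^ (2 : ℤ)) ∈ N0 → cj t (r2 ^ (2 : ℤ)) ∈ N0 → ∀ n ∈ N0, cj t n ∈ N0 := by
      intro t h1 h2 n hn
      have : N0 ≤ N0.comap (MulAut.conj t).toMonoidHom := by
        rw [hN0, closure_le]
        rintro x (rfl | rfl)
        · exact h1
        · exact h2
      exact this hn
    rintro t (rfl | rfl | rfl | rfl | rfl)
    · apply key
      · rw [cj_zpow, N.a1, ← zpow_mul, mul_comm]; exact g1' _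
      · rw [cj_zpow, N.a2, ← zpow_mul, mul_comm]; exact g2' _
    · apply key
      · rw [cj_zpow, h.ns_y2.a1, ← zpow_mul, mul_comm]; exact g1' _
      · rw [cj_zpow, h.ns_y2.a2, ← zpow_mul, mul_comm]; exact g2' _
    · apply key
      · rw [cj_zpow, hr2.a1, ← zpow_mul, mul_comm]; exact g1' _
      · rw [cj_zpow, hr2.a2, ← zpow_mul, mul_comm]; exact g2' _
    · apply key
      · rw [cj_zpow, h.ns_y1.a1, ← zpow_mul, mul_comm]; exact g1' _
      · rw [cj_zpow, h.ns_y1.a2, ← zpow_mul, mul_comm]; exact g2' _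
    · apply key
      · rw [cj_zpow, hr1.a1, ← zpow_mul, mul_comm]; exact g1' _
      · rw [cj_zpow, hr1.a2, ← zpow_mul, mul_comm]; exact g2' _
  have hnT : closure T ≤ normalizer (N0 : Set G) := le_normalizer_of hnorm
  have hsec : ElemSection 2 (closure T) N0 := by
    apply elem_closure hN0T hnorm
    · -- commutators with the elements of the list
      have com : ∀ t : G, ∀ a b c d : ℤ, Ns r1 y1 r2 y2 t (1 + 2 * a) (2 * b) (1 + 2 * c) (2 * d) →
          (t * r1 * t⁻¹ * r1⁻¹ ∈ N0 ∧ t * y1 * t⁻¹ * y1⁻¹ ∈ N0 ∧ t * r2 * t⁻¹ * r2⁻¹ ∈ N0 ∧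
            t * y2 * t⁻¹ * y2⁻¹ ∈ N0) := by
        intro t a b c d M
        refine ⟨?_, ?_, ?_, ?_⟩
        · have := M.a1
          rw [cj_def] at this
          rw [this, zpow_add, zpow_one, mul_assoc]
          have e : r1 * (r1 ^ (2 * a) * r1⁻¹) = r1 ^ (2 * a) := by group
          rw [e]; exact g1' _
        · have := M.b1
          rw [cj_def] at this
          rw [this, mul_inv_cancel_right]; exact g1' _
        · have := M.a2
          rw [cj_def] at this
          rw [this, zpow_add, zpow_one, mul_assoc]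
          have e : r2 * (r2 ^ (2 * c) * r2⁻¹) = r2 ^ (2 * c) := by group
          rw [e]; exact g2' _
        · have := M.b2
          rw [cj_def] at this
          rw [this, mul_inv_cancel_right]; exact g2' _
      have inv' : ∀ x y : G, x ∈ _root_.Subgroup.closure T → y ∈ closure T → x * y * x⁻¹ * y⁻¹ ∈ N0 →
          y * x * y⁻¹ * x⁻¹ ∈ N0 := by
        intro x y _ _ hxy
        have : y * x * y⁻¹ * x⁻¹ = (x * y * x⁻¹ * y⁻¹)⁻¹ := by group
        rw [this]; exact inv_mem hxy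
      have cs := com s a b c d N
      have cr1 := com r1 0 1 0 0 (by simpa using hr1)
      have cr2 := com r2 0 0 0 1 (by simpa using hr2)
      have cy1 := com y1 (-1) 0 0 0 (by simpa using h.ns_y1)
      have cy2 := com y2 0 0 (-1) 0 (by simpa using h.ns_y2)
      have ms : s ∈ _root_.Subgroup.closure T := _root_.Subgroup.subset_closure (by simp [hT])
      have mr1 : r1 ∈ closure T := _root_.Subgroup.subset_closure (by simp [hT])
      have mr2 : r2 ∈ closure T := _root_.Subgroup.subset_closure (by simp [hT])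
      have my1 : y1 ∈ closure T := _root_.Subgroup.subset_closure (by simp [hT])
      have my2 : y2 ∈ closure T := _root_.Subgroup.subset_closure (by simp [hT])
      rintro p (rfl | rfl | rfl | rfl | rfl) q (rfl | rfl | rfl | rfl | rfl)
      · simp
      · exact cs.2.2.2
      · exact cs.2.2.1
      · exact cs.2.1
      · exact cs.1
      · exact inv' _ _ ms my2 cs.2.2.2
      · exact cy2.2.2.2
      · exact cy2.2.2.1
      · exact cy2.2.1
      · exact cy2.1
      · exact inv' _ _ ms mr2 cs.2.2.1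
      · exact cr2.2.2.2
      · exact cr2.2.2.1
      · exact cr2.2.1
      · exact cr2.1
      · exact inv' _ _ ms my1 cs.2.1
      · exact cy1.2.2.2
      · exact cy1.2.2.1
      · exact cy1.2.1
      · exact cy1.1
      · exact inv' _ _ ms mr1 cs.1
      · exact cr1.2.2.2
      · exact cr1.2.2.1
      · exact cr1.2.1
      · exact cr1.1
    · rintro p (rfl | rfl | rfl | rfl | rfl)
      · rcases hss with e | e <;> rw [e]
        · exact one_mem _
        · exact gz
      · rw [h.q2.ys]; exact gz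
      · rw [← zpow_two]; exact g2
      · rw [h.q1.ys]; exact gz
      · rw [← zpow_two]; exact g1
  have hcard := hr' _ _ hsec
  -- a chain of subgroups
  set N1 : Subgroup G := _root_.Subgroup.closure {r1, r2 ^ (2 : ℤ)} with hN1
  set N2 : Subgroup G := closure {y1, r1, r2 ^ (2 : ℤ)} with hN2
  set N3 : Subgroup G := closure {r2, y1, r1} with hN3
  have le01 : N0 ≤ N1 := by
    rw [hN0, closure_le]
    rintro x (rfl | rfl)
    · exact Subgroup.zpow_mem _ (_root_.Subgroup.subset_closure (by simp)) _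
    · exact _root_.Subgroup.subset_closure (by simp)
  have le12 : N1 ≤ N2 := _root_.Subgroup.closure_mono (by intro x hx; simp at hx ⊢; (clear * - hx; tauto))
  have le23 : N2 ≤ N3 := by
    rw [hN2, closure_le]
    rintro x (rfl | rfl | rfl)
    · exact _root_.Subgroup.subset_closure (by simp)
    · exact _root_.Subgroup.subset_closure (by simp)
    · exact Subgroup.zpow_mem _ (_root_.Subgroup.subset_closure (by simp)) _
  have le34 : N3 ≤ RR r1 y1 r2 y2 := by
    rw [hN3, closure_le]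
    rintro x (rfl | rfl | rfl)
    · exact h.m3
    · exact h.m2
    · exact h.m1
  have le45 : RR r1 y1 r2 y2 ≤ closure T := by
    unfold RR
    rw [sup_le_iff, closure_le, closure_le]
    constructor
    · rintro x (rfl | rfl) <;> exact _root_.Subgroup.subset_closure (by simp [hT])
    · rintro x (rfl | rfl) <;> exact _root_.Subgroup.subset_closure (by simp [hT])
  have n01 : r1 ∉ N0 := by
    intro hc
    have : N0 ≤ KK r1 y1 := by
      rw [hN0, closure_le]
      rintro x (rfl | rfl)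
      · refine ⟨?_, 1, ?_⟩
        · have := (h.ns_r1 2).a1; rwa [zpow_one] at this
        · have := (h.ns_r1 2).b1; norm_num at this ⊢; exact this
      · refine ⟨?_, 0, ?_⟩
        · have := (h.ns_r2 2).a1; rwa [zpow_one] at this
        · have := (h.ns_r2 2).b1; simpa using this
    exact h.q1.notin_KK (this hc)
  have n12 : y1 ∉ N1 := by
    intro hc
    have : N1 ≤ centralizer {r1} := by
      rw [hN1, closure_le]
      rintro x (rfl | rfl)
      · rw [SetLike.mem_coe, mem_centralizer_singleton_iff]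
      · rw [SetLike.mem_coe, mem_centralizer_singleton_iff]
        exact (Commute.zpow_left (show Commute r2 r1 from h.rr.symm) 2)
    have h1 := mem_centralizer_singleton_iff.1 (this hc)
    have h2 := cj_eq_self (s := y1) (x := r1) h1
    rw [h.q1.inv] at h2
    exact h.q1.r_ne_inv h2.symm
  have n23 : r2 ∉ N2 := by
    intro hc
    have : N2 ≤ KK r2 y2 := by
      rw [hN2, closure_le]
      rintro x (rfl | rfl | rfl)
      · refine ⟨?_, 0, ?_⟩
        · have := h.ns_y1.a2; rwa [zpow_one] at this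
        · have := h.ns_y1.b2; simpa using this
      · refine ⟨?_, 0, ?_⟩
        · have := hr1.a2; rwa [zpow_one] at this
        · have := hr1.b2; simpa using this
      · refine ⟨?_, 1, ?_⟩
        · have := (h.ns_r2 2).a2; rwa [zpow_one] at this
        · have := (h.ns_r2 2).b2; norm_num at this ⊢; exact this
    exact h.q2.notin_KK (this hc)
  have n34 : y2 ∉ N3 := by
    intro hc
    have : N3 ≤ centralizer {r2} := by
      rw [hN3, closure_le]
      rintro x (rfl | rfl | rfl)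
      · rw [SetLike.mem_coe, mem_centralizer_singleton_iff]
      · rw [SetLike.mem_coe, mem_centralizer_singleton_iff]; exact h.yr
      · rw [SetLike.mem_coe, mem_centralizer_singleton_iff]; exact h.rr
    have h1 := mem_centralizer_singleton_iff.1 (this hc)
    have h2 := cj_eq_self (s := y2) (x := r2) h1
    rw [h.q2.inv] at h2
    exact h.q2.r_ne_inv h2.symm
  have c1 := two_mul_card_le le01 (_root_.Subgroup.subset_closure (by simp) : r1 ∈ N1) n01
  have c2 := two_mul_card_le le12 (_root_.Subgroup.subset_closure (by simp) : y1 ∈ N2) n12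
  have c3 := two_mul_card_le le23 (_root_.Subgroup.subset_closure (by simp) : r2 ∈ N3) n23
  have c4 := two_mul_card_le le34 h.m4 n34
  have c5 := two_mul_card_le le45 (_root_.Subgroup.subset_closure (by simp [hT]) : s ∈ closure T) hs
  have c0 := Nat.card_pos (α := N0)
  omega

/-- An element of `R` with `j`-exponents zero and signs `+` is `1` or `z`. -/
theorem eq_one_or_z {z r1 y1 r2 y2 s : G} {n1 n2 : ℕ} (h : Co z r1 y1 r2 y2 n1 n2) {u1 u2 : ℤ}
    (N : Ns r1 y1 r2 y2 s u1 0 u2 0) (h1 : (4 : ℤ) ∣ u1 - 1) (h2 : (4 : ℤ) ∣ u2 - 1)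
    (hs : s ∈ RR r1 y1 r2 y2) : s = 1 ∨ s = z := by
  obtain ⟨i, j, hc⟩ := h.ns_of_mem hs
  have key : ∀ v1 v2 : ℤ, Ns r1 y1 r2 y2 s v1 (2 * i) v2 (2 * j) →
      v1 ≠ -1 ∧ v2 ≠ -1 ∧ (r1 ^ i = 1 ∨ r1 ^ i = z) ∧ (r2 ^ j = 1 ∨ r2 ^ j = z) := by
    intro v1 v2 M
    refine ⟨?_, ?_, ?_, ?_⟩
    · rintro rfl
      have := N.a1.symm.trans M.a1
      rw [h.q1.zpow_eq] at this
      have h3 : (4 : ℤ) ∣ u1 - -1 := dvd_trans ⟨2 ^ n1, by ring⟩ this
      omega
    · rintro rfl
      have := N.a2.symm.trans M.a2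
      rw [h.q2.zpow_eq] at this
      have h3 : (4 : ℤ) ∣ u2 - -1 := dvd_trans ⟨2 ^ n2, by ring⟩ this
      omega
    · have h1 := mul_right_cancel (M.b1.symm.trans N.b1)
      rw [h.q1.zpow_eq, sub_zero, show (2 : ℤ) ^ (n1 + 2) = 2 * 2 ^ (n1 + 1) by ring] at h1
      rw [h.q1.zpow_mem]
      exact Int.dvd_of_mul_dvd_mul_left (by norm_num) h1
    · have h1 := mul_right_cancel (M.b2.symm.trans N.b2)
      rw [h.q2.zpow_eq, sub_zero, show (2 : ℤ) ^ (n2 + 2) = 2 * 2 ^ (n2 + 1) by ring] at h1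
      rw [h.q2.zpow_mem]
      exact Int.dvd_of_mul_dvd_mul_left (by norm_num) h1
  rcases hc with ⟨e, M⟩ | ⟨_, M⟩ | ⟨_, M⟩ | ⟨_, M⟩
  · obtain ⟨_, _, h5, h6⟩ := key _ _ M
    rw [e]
    rcases h5 with h5 | h5 <;> rcases h6 with h6 | h6 <;> rw [h5, h6]
    · left; simp
    · right; simp
    · right; simp
    · left; exact h.q1.z_sq
  · exact absurd rfl (key _ _ M).1
  · exact absurd rfl (key _ _ M).2.1
  · exact absurd rfl (key _ _ M).1

/-- Section (1.1). -/
theorem inR_of_rank [Finite G] (hr : SectionalPRankLE 2 4 G) {S : Subgroup G} (hS : IsPGroup 2 S)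
    {z r1 y1 r2 y2 : G} {n1 n2 : ℕ} (h : Co z r1 y1 r2 y2 n1 n2) (h1 : r1 ∈ S) (h2 : y1 ∈ S)
    (h3 : r2 ∈ S) (h4 : y2 ∈ S) {s : G} (hs : s ∈ S) {u1 j1 u2 j2 : ℤ}
    (N : Ns r1 y1 r2 y2 s u1 j1 u2 j2) (e1 : Even j1) (e2 : Even j2) : s ∈ RR r1 y1 r2 y2 := by
  -- the normalized case
  have key : ∀ (k : ℕ) (s : G) (u1 u2 : ℤ), s ∈ S → Ns r1 y1 r2 y2 s u1 0 u2 0 →
      (4 : ℤ) ∣ u1 - 1 → (4 : ℤ) ∣ u2 - 1 → s ^ (2 ^ k) = 1 → s ∈ RR r1 y1 r2 y2 := by
    intro k
    induction k with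
    | zero =>
      intro s u1 u2 _ _ _ _ he
      rw [pow_zero, pow_one] at he
      rw [he]; exact one_mem _
    | succ k ih =>
      intro s u1 u2 hs N h4 h4' he
      have NN := N.mul N
      simp only [mul_zero, add_zero] at NN
      have d1 : (4 : ℤ) ∣ u1 * u1 - 1 := by
        obtain ⟨m, hm⟩ := h4
        refine ⟨m * (4 * m + 2), ?_⟩
        have : u1 = 4 * m + 1 := by linarith
        rw [this]; ring
      have d2 : (4 : ℤ) ∣ u2 * u2 - 1 := by
        obtain ⟨m, hm⟩ := h4'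
        refine ⟨m * (4 * m + 2), ?_⟩
        have : u2 = 4 * m + 1 := by linarith
        rw [this]; ring
      have hmem := ih (s * s) _ _ (mul_mem hs hs) NN d1 d2 (by
        rw [← pow_two, ← pow_mul, ← pow_succ']; exact he)
      have hss := eq_one_or_z h NN d1 d2 hmem
      by_contra hcon
      have o1 : u1 = 1 + 2 * ((u1 - 1) / 2) := by omega
      have o2 : u2 = 1 + 2 * ((u2 - 1) / 2) := by omega
      have N' : Ns r1 y1 r2 y2 s (1 + 2 * ((u1 - 1) / 2)) (2 * 0) (1 + 2 * ((u2 - 1) / 2)) (2 * 0) := by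
        rw [← o1, ← o2]; simpa using N
      exact rank_five hr h N' hss hcon
  have hpow : ∀ s ∈ S, ∃ k : ℕ, s ^ (2 ^ k) = 1 := by
    intro s hs
    obtain ⟨k, hk⟩ := hS ⟨s, hs⟩
    exact ⟨k, by simpa only [_root_.SubmonoidClass.mk_pow, _root_.OneMemClass.coe_one] using congrArg Subtype.val hk⟩
  -- signs
  have step2 : ∀ (s : G) (u1 u2 : ℤ), s ∈ S → Ns r1 y1 r2 y2 s u1 0 u2 0 →
      s ∈ RR r1 y1 r2 y2 := by
    intro s u1 u2 hs N
    have o1 := N.odd1 h
    have o2 := N.odd2 h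
    have c1 : (4 : ℤ) ∣ u1 - 1 ∨ (4 : ℤ) ∣ -1 * u1 - 1 := by
      obtain ⟨m, hm⟩ := o1
      omega
    have c2 : (4 : ℤ) ∣ u2 - 1 ∨ (4 : ℤ) ∣ -1 * u2 - 1 := by
      obtain ⟨m, hm⟩ := o2
      omega
    have N1 := h.ns_y1.mul N
    have N2 := h.ns_y2.mul N
    have N12 := h.ns_y1.mul (h.ns_y2.mul N)
    simp only [mul_zero, add_zero, one_mul] at N1 N2 N12
    rcases c1 with c1 | c1 <;> rcases c2 with c2 | c2
    · obtain ⟨k, hk⟩ := hpow s hs
      exact key k s _ _ hs N c1 c2 hk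
    · obtain ⟨k, hk⟩ := hpow _ (mul_mem h4 hs)
      have := key k _ _ _ (mul_mem h4 hs) N2 c1 c2 hk
      exact (mul_mem_cancel_left h.m4).1 this
    · obtain ⟨k, hk⟩ := hpow _ (mul_mem h2 hs)
      have := key k _ _ _ (mul_mem h2 hs) N1 c1 c2 hk
      exact (mul_mem_cancel_left h.m2).1 this
    · obtain ⟨k, hk⟩ := hpow _ (mul_mem h2 (mul_mem h4 hs))
      have := key k _ _ _ (mul_mem h2 (mul_mem h4 hs)) N12 c1 c2 hk
      exact (mul_mem_cancel_left h.m4).1 ((mul_mem_cancel_left h.m2).1 this)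
  obtain ⟨k1, rfl⟩ := e1
  obtain ⟨k2, rfl⟩ := e2
  have N' := (h.ns_r1 (-k1)).mul ((h.ns_r2 (-k2)).mul N)
  have z1 : 1 * (1 * (k1 + k1) + 0) + 2 * -k1 = 0 := by ring
  have z2 : 1 * (1 * (k2 + k2) + 2 * -k2) + 0 = 0 := by ring
  rw [z1, z2] at N'
  have := step2 _ _ _ (mul_mem (Subgroup.zpow_mem _ h1 _) (mul_mem (Subgroup.zpow_mem _ h3 _) hs)) N'
  exact (mul_mem_cancel_left (Subgroup.zpow_mem _ h.m3 _)).1
    ((mul_mem_cancel_left (Subgroup.zpow_mem _ h.m1 _)).1 this)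

end Cfsg.Agent.GH.Q2
end

-- part: GH/ETowerN
section
prune_inst 0x4246034447922020000180512700022244800050000608401fda10f02020ff362ad0321414e801d035802a2000000002813980050001000000020000000010120802a52041340010426000f803087180c00000000000000000000000000041000000000000
set_option linter.all false
open scoped Cfsg.Agent.FastGrp

-- part: GH/ETowerBasic
section
/-!
# GH-E: basic facts on levels
-/

set_option autoImplicit false

namespace Cfsg.Agent.GH.E

variable {G : Type*} [Group G] {x h : G} {E U : Subgroup G}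

theorem Base.inv_x (B : Base x E) : x⁻¹ = x := inv_eq_iff_mul_eq_one.mpr B.hx

theorem Base.x_ne_one (B : Base x E) : x ≠ 1 := fun h1 => B.hxE (h1 ▸ E.one_mem)

theorem Base.inv_eq (B : Base x E) {e : G} (he : e ∈ E) : e⁻¹ = e := inv_eq_iff_mul_eq_one.mpr (B.sq e he)

theorem Base.mul_comm (B : Base x E) {u v : G} (hu : u ∈ E) (hv : v ∈ E) : u * v = v * u := by
  have h1 := B.inv_eq (E.mul_mem hu hv)
  rw [mul_inv_rev, B.inv_eq hu, B.inv_eq hv] at h1
  exact h1.symm

/-- `x u x = u⁻¹`. -/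
theorem Level.inv' (B : Base x E) (L : Level x E U h) {u : G} (hu : u ∈ U) : x * u * x = u⁻¹ := by
  have h1 := L.inv u hu
  rwa [B.inv_x] at h1

theorem Level.x_mul (B : Base x E) (L : Level x E U h) {u : G} (hu : u ∈ U) : x * u = u⁻¹ * x := by
  rw [← L.inv' B hu, mul_assoc, B.hx, mul_one]

theorem Level.mul_x (B : Base x E) (L : Level x E U h) {u : G} (hu : u ∈ U) : u * x = x * u⁻¹ := by
  rw [L.x_mul B (U.inv_mem hu), inv_inv]

theorem Level.x_notMem (B : Base x E) (L : Level x E U h) : x ∉ U := fun hx =>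
  B.hxE (L.omega x hx B.hx)

/-- every element `xu` is an involution -/
theorem Level.xu_sq (B : Base x E) (L : Level x E U h) {u : G} (hu : u ∈ U) : x * u * (x * u) = 1 := by
  rw [← mul_assoc, L.inv' B hu, inv_mul_cancel]

theorem Level.mul_pow (L : Level x E U h) {u v : G} (hu : u ∈ U) (hv : v ∈ U) (n : ℕ) :
    (u * v) ^ n = u ^ n * v ^ n :=
  (show Commute u v from L.comm u hu v hv).mul_pow n

theorem Level.hU_pow (L : Level x E U h) (n : ℕ) {u : G} (hu : u ∈ U) : h ^ n * u * (h ^ n)⁻¹ ∈ U := by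
  induction n with
  | zero => simpa using hu
  | succ n ih =>
    have h1 := L.hU _ ih
    have h2 : h * (h ^ n * u * (h ^ n)⁻¹) * h⁻¹ = h ^ (n + 1) * u * (h ^ (n + 1))⁻¹ := by
      rw [pow_succ' h n]; group
    rwa [h2] at h1

theorem conj_pow' (g u : G) (n : ℕ) : (g * u * g⁻¹) ^ n = g * u ^ n * g⁻¹ := conj_pow

theorem Level.hE (B : Base x E) (L : Level x E U h) {e : G} (he : e ∈ E) : h * e * h⁻¹ ∈ E := by
  apply L.omega _ (L.hU e (L.le he))
  calc h * e * h⁻¹ * (h * e * h⁻¹) = h * (e * e) * h⁻¹ := by group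
    _ = 1 := by rw [B.sq e he]; group

theorem Level.hE_pow (B : Base x E) (L : Level x E U h) (n : ℕ) {e : G} (he : e ∈ E) :
    h ^ n * e * (h ^ n)⁻¹ ∈ E := by
  apply L.omega _ (L.hU_pow n (L.le he))
  calc h ^ n * e * (h ^ n)⁻¹ * (h ^ n * e * (h ^ n)⁻¹) = h ^ n * (e * e) * (h ^ n)⁻¹ := by group
    _ = 1 := by rw [B.sq e he]; group

theorem Base.exists_ne_one (B : Base x E) : ∃ e ∈ E, e ≠ 1 := by
  by_contra hcon
  push Not at hcon
  have h1 : E = ⊥ := (Subgroup.eq_bot_iff_forall E).2 hcon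
  have h2 := B.card
  rw [h1, Subgroup.card_bot] at h2
  omega

/-- `E` is normalised by anything that normalises `U`. -/
theorem Level.E_of_U (B : Base x E) (L : Level x E U h) {g : G} (hg : ∀ u ∈ U, g * u * g⁻¹ ∈ U) {e : G}
    (he : e ∈ E) : g * e * g⁻¹ ∈ E := by
  apply L.omega _ (hg e (L.le he))
  calc g * e * g⁻¹ * (g * e * g⁻¹) = g * (e * e) * g⁻¹ := by group
    _ = 1 := by rw [B.sq e he]; group

/-- The exponent of `U` is exactly `2 ^ (k + 1)`. -/
structure Expo (U : Subgroup G) (k : ℕ) : Prop where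
  all : ∀ u ∈ U, u ^ 2 ^ (k + 1) = 1
  ex : ∃ u ∈ U, u ^ 2 ^ k ≠ 1

theorem Level.exists_expo [Finite G] (B : Base x E) (L : Level x E U h) : ∃ k, Expo U k := by
  classical
  have h1 : ∃ m : ℕ, ∀ u ∈ U, u ^ 2 ^ m = 1 := by
    have : Fact (Nat.Prime 2) := ⟨Nat.prime_two⟩
    obtain ⟨m, hm⟩ := IsPGroup.iff_card.mp L.pgroup
    refine ⟨m, fun u hu => ?_⟩
    rw [← hm]
    have h2 : (⟨u, hu⟩ : U) ^ Nat.card U = 1 := pow_card_eq_one'
    have h3 := congrArg Subtype.val h2
    rwa [Subgroup.coe_pow, Subgroup.coe_one] at h3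
  have h2 := Nat.find_spec h1
  set m := Nat.find h1 with hm
  have hm0 : m ≠ 0 := by
    intro h0
    obtain ⟨e, he, he1⟩ := B.exists_ne_one
    have h3 := h2 e (L.le he)
    rw [h0] at h3
    exact he1 (by simpa using h3)
  obtain ⟨k, hk⟩ := Nat.exists_eq_succ_of_ne_zero hm0
  refine ⟨k, ?_, ?_⟩
  · rw [hk] at h2; exact h2
  · by_contra hcon
    push Not at hcon
    have h4 : m ≤ k := Nat.find_min' h1 hcon
    omega

theorem pow_two_pow_succ (u : G) (k : ℕ) : u ^ 2 ^ (k + 1) = u ^ 2 ^ k * u ^ 2 ^ k := by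
  rw [pow_succ, pow_mul, pow_two]

theorem pow_two_pow_succ' (u : G) (k : ℕ) : u ^ 2 ^ (k + 1) = (u * u) ^ 2 ^ k := by
  rw [pow_succ', pow_mul, pow_two]

variable {k : ℕ}

theorem Level.pi_mem (L : Level x E U h) (X : Expo U k) {u : G} (hu : u ∈ U) : u ^ 2 ^ k ∈ E := by
  apply L.omega _ (U.pow_mem hu _)
  rw [← pow_two_pow_succ]
  exact X.all u hu

theorem Level.pi_surj (L : Level x E U h) (X : Expo U k) {e : G} (he : e ∈ E) : ∃ u ∈ U, u ^ 2 ^ k = e := by
  by_cases he1 : e = 1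
  · exact ⟨1, U.one_mem, by rw [one_pow, he1]⟩
  obtain ⟨u, hu, hu1⟩ := X.ex
  obtain ⟨n, hn⟩ := L.trans _ (L.pi_mem X hu) e he hu1 he1
  exact ⟨h ^ n * u * (h ^ n)⁻¹, L.hU_pow n hu, by rw [conj_pow', hn]⟩

/-- `u ^ 2 ^ k = 1` implies that `u` is the square of an element of `U`. -/
theorem Level.exists_sq (L : Level x E U h) (X : Expo U k) {u : G} (hu : u ∈ U) (hu1 : u ^ 2 ^ k = 1) :
    ∃ w ∈ U, w * w = u := by
  have key : ∀ i : ℕ, i ≤ k → ∀ u ∈ U, u ^ 2 ^ i = 1 → ∃ w ∈ U, w * w = u := by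
    intro i
    induction i with
    | zero =>
      intro _ u _ h1
      exact ⟨1, U.one_mem, by simpa using h1.symm⟩
    | succ i ih =>
      intro hi u hu h1
      have h2 : u ^ 2 ^ i ∈ E := L.omega _ (U.pow_mem hu _) (by rw [← pow_two_pow_succ]; exact h1)
      obtain ⟨w, hw, hw1⟩ := L.pi_surj X h2
      -- w ^ 2 ^ k = (w ^ 2 ^ (k - i)) ^ 2 ^ i
      obtain ⟨j, hj⟩ : ∃ j, k = i + 1 + j := ⟨k - (i + 1), by omega⟩
      have h3 : (w ^ 2 ^ (j + 1)) ^ 2 ^ i = u ^ 2 ^ i := by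
        rw [← hw1, ← pow_mul, ← pow_add]
        congr 2
        omega
      have h4 : (u * (w ^ 2 ^ (j + 1))⁻¹) ^ 2 ^ i = 1 := by
        rw [L.mul_pow hu (U.inv_mem (U.pow_mem hw _)), inv_pow, h3, mul_inv_cancel]
      obtain ⟨v, hv, hv1⟩ := ih (by omega) _ (U.mul_mem hu (U.inv_mem (U.pow_mem hw _))) h4
      refine ⟨v * w ^ 2 ^ j, U.mul_mem hv (U.pow_mem hw _), ?_⟩
      have h5 : v * w ^ 2 ^ j * (v * w ^ 2 ^ j) = v * v * (w ^ 2 ^ j * w ^ 2 ^ j) := by
        have := L.comm _ (U.pow_mem hw (2 ^ j)) v hv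
        calc v * w ^ 2 ^ j * (v * w ^ 2 ^ j) = v * (w ^ 2 ^ j * v) * w ^ 2 ^ j := by group
          _ = v * (v * w ^ 2 ^ j) * w ^ 2 ^ j := by rw [this]
          _ = v * v * (w ^ 2 ^ j * w ^ 2 ^ j) := by group
      rw [h5, hv1, ← pow_two_pow_succ, inv_mul_cancel_right]
  exact key k le_rfl u hu hu1

theorem sq_pow_eq_one (X : Expo U k) {w : G} (hw : w ∈ U) : (w * w) ^ 2 ^ k = 1 := by
  rw [← pow_two_pow_succ']; exact X.all w hw

/-- if `u, v` have the same image then they differ by a square -/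
theorem Level.exists_sq_mul (L : Level x E U h) (X : Expo U k) {u v : G} (hu : u ∈ U) (hv : v ∈ U)
    (huv : u ^ 2 ^ k = v ^ 2 ^ k) : ∃ w ∈ U, u = v * (w * w) := by
  have h1 : (v⁻¹ * u) ^ 2 ^ k = 1 := by
    rw [L.mul_pow (U.inv_mem hv) hu, inv_pow, huv, inv_mul_cancel]
  obtain ⟨w, hw, hw1⟩ := L.exists_sq X (U.mul_mem (U.inv_mem hv) hu) h1
  exact ⟨w, hw, by rw [hw1, mul_inv_cancel_left]⟩

/-- `w (x u) w⁻¹ = x (u w⁻²)`. -/
theorem Level.conj_xu (B : Base x E) (L : Level x E U h) {u w : G} (hu : u ∈ U) (hw : w ∈ U) :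
    w * (x * u) * w⁻¹ = x * (u * (w⁻¹ * w⁻¹)) := by
  have h1 : w * x = x * w⁻¹ := L.mul_x B hw
  have h2 : w⁻¹ * u = u * w⁻¹ := L.comm _ (U.inv_mem hw) _ hu
  calc w * (x * u) * w⁻¹ = (w * x) * u * w⁻¹ := by group
    _ = x * (w⁻¹ * u) * w⁻¹ := by rw [h1]; group
    _ = x * (u * (w⁻¹ * w⁻¹)) := by rw [h2]; group

/-- `U` conjugates `xu` to `xv` if `u, v` have the same image in `E`. -/
theorem Level.exists_conj (B : Base x E) (L : Level x E U h) (X : Expo U k) {u v : G} (hu : u ∈ U)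
    (hv : v ∈ U) (huv : u ^ 2 ^ k = v ^ 2 ^ k) : ∃ w ∈ U, w * (x * u) * w⁻¹ = x * v := by
  obtain ⟨w, hw, hw1⟩ := L.exists_sq_mul X hv hu huv.symm
  refine ⟨w⁻¹, U.inv_mem hw, ?_⟩
  rw [L.conj_xu B hu (U.inv_mem hw), inv_inv, hw1]

/-! ### Sizes -/

theorem Level.le_normalizer (B : Base x E) (L : Level x E U h) : ∀ g ∈ rr x U, ∀ u ∈ U, g * u * g⁻¹ ∈ U := by
  intro g hg u hu
  rcases (L.mem_rr B).1 hg with hg | hg
  · exact U.mul_mem (U.mul_mem hg hu) (U.inv_mem hg)
  · have h1 : x * ((x * g) * u * (x * g)⁻¹) * x⁻¹ = g * u * g⁻¹ := by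
      rw [mul_inv_rev, B.inv_x]
      calc x * (x * g * u * (g⁻¹ * x)) * x = (x * x) * (g * u * g⁻¹) * (x * x) := by group
        _ = g * u * g⁻¹ := by rw [B.hx]; group
    have h2 : (x * g) * u * (x * g)⁻¹ ∈ U := U.mul_mem (U.mul_mem hg hu) (U.inv_mem hg)
    rw [← h1, L.inv _ h2]
    exact U.inv_mem h2

theorem relIndex_rr (hx : x * x = 1) (hU : ∀ u ∈ U, x * u * x⁻¹ ∈ U) (hxU : x ∉ U) :
    U.relIndex (rr x U) = 2 := by
  have hxi : x⁻¹ = x := inv_eq_iff_mul_eq_one.mpr hx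
  rw [Subgroup.relIndex, Subgroup.index_eq_two_iff]
  refine ⟨⟨x, self_mem_rr x U⟩, ?_⟩
  rintro ⟨g, hg⟩
  simp only [Subgroup.mem_subgroupOf, Subgroup.coe_mul]
  rcases (mem_rr hx hU).1 hg with hgU | hgU
  · refine Or.inr ⟨hgU, fun hc => hxU ?_⟩
    have := U.mul_mem (U.inv_mem hgU) hc
    rwa [inv_mul_cancel_left] at this
  · refine Or.inl ⟨?_, fun hgU' => hxU ?_⟩
    · have h1 := hU _ hgU
      have h2 : x * (x * g) * x⁻¹ = g * x := by
        rw [← mul_assoc, hx, one_mul, hxi]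
      rwa [h2] at h1
    · have := U.mul_mem hgU (U.inv_mem hgU')
      rwa [mul_inv_cancel_right] at this

theorem card_rr (hx : x * x = 1) (hU : ∀ u ∈ U, x * u * x⁻¹ ∈ U) (hxU : x ∉ U) :
    Nat.card (rr x U) = 2 * Nat.card U := by
  have h1 := Subgroup.relIndex_mul_relIndex ⊥ U (rr x U) bot_le (le_rr x U)
  rw [relIndex_rr hx hU hxU, Subgroup.relIndex_bot_left, Subgroup.relIndex_bot_left] at h1
  omega

theorem Level.conj_mem (L : Level x E U h) {u : G} (hu : u ∈ U) : x * u * x⁻¹ ∈ U := by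
  rw [L.inv u hu]; exact U.inv_mem hu

theorem Level.relIndex_rr (B : Base x E) (L : Level x E U h) : U.relIndex (rr x U) = 2 :=
  Cfsg.Agent.GH.E.relIndex_rr B.hx (fun _ hu => L.conj_mem hu) (L.x_notMem B)

theorem Level.card_rr (B : Base x E) (L : Level x E U h) : Nat.card (rr x U) = 2 * Nat.card U :=
  Cfsg.Agent.GH.E.card_rr B.hx (fun _ hu => L.conj_mem hu) (L.x_notMem B)

theorem Base.conj_mem (B : Base x E) {u : G} (hu : u ∈ E) : x * u * x⁻¹ ∈ E := by
  rw [B.comm u hu, mul_inv_cancel_right]; exact hu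

theorem Base.mem_rr (B : Base x E) {g : G} : g ∈ rr x E ↔ g ∈ E ∨ x * g ∈ E :=
  Cfsg.Agent.GH.E.mem_rr B.hx (fun _ hu => B.conj_mem hu)

theorem Base.card_rr (B : Base x E) : Nat.card (rr x E) = 16 := by
  rw [Cfsg.Agent.GH.E.card_rr B.hx (fun _ hu => B.conj_mem hu) B.hxE, B.card]

/-- `E⟨x⟩` centralises `x`. -/
theorem Base.rr_comm (B : Base x E) {g : G} (hg : g ∈ rr x E) : x * g = g * x := by
  rcases B.mem_rr.1 hg with hg | hg
  · exact B.comm g hg
  · have h1 := B.comm _ hg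
    rw [← mul_assoc, B.hx, one_mul] at h1
    -- g = x * g * x
    calc x * g = x * (x * g * x) := by rw [← h1]
      _ = (x * x) * g * x := by group
      _ = g * x := by rw [B.hx, one_mul]

theorem rr_mono {V : Subgroup G} (hUV : U ≤ V) : rr x U ≤ rr x V := sup_le_sup hUV le_rfl

/-- In a 2-group containing `E⟨x⟩`, the centraliser of `x` is `E⟨x⟩`. -/
theorem Base.mem_of_comm [Finite G] (B : Base x E) {Q : Subgroup G} (hQ : IsPGroup 2 Q)
    (hEQ : rr x E ≤ Q) {q : G} (hq : q ∈ Q) (hc : x * q = q * x) : q ∈ rr x E := by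
  have h1 : IsPGroup 2 (Q ⊓ Subgroup.centralizer {x} : Subgroup G) := hQ.to_le inf_le_left
  have h2 : ∀ c ∈ (Q ⊓ Subgroup.centralizer {x} : Subgroup G), x * c = c * x := fun c hc =>
    (Subgroup.mem_centralizer_singleton_iff.1 hc.2).symm
  have h3 := B.cent_card _ h1 h2
  have h4 : rr x E ≤ (Q ⊓ Subgroup.centralizer {x} : Subgroup G) :=
    le_inf hEQ (fun g hg => Subgroup.mem_centralizer_singleton_iff.2 (B.rr_comm hg).symm)
  have h5 : rr x E = (Q ⊓ Subgroup.centralizer {x} : Subgroup G) :=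
    Subgroup.eq_of_le_of_card_ge h4 (by rw [B.card_rr]; exact h3)
  rw [h5]
  exact ⟨hq, Subgroup.mem_centralizer_singleton_iff.2 hc.symm⟩

end Cfsg.Agent.GH.E
end

-- part: GH/ETowerN
section
/-!
# GH-E: the normaliser of `U⟨x⟩`
-/

set_option autoImplicit false

namespace Cfsg.Agent.GH.E

variable {G : Type*} [Group G] {x h : G} {E U : Subgroup G} {k : ℕ}

theorem ncard_orbit {G : Type*} [Group G] (K : Subgroup G) (x : G) :
    ({y | ∃ k ∈ K, k * x * k⁻¹ = y} : Set G).ncard = (Subgroup.centralizer {x}).relIndex K := by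
  let _ : MulAction K G := MulAction.compHom G ((MulAut.conj (G := G)).comp K.subtype)
  have hsm : ∀ (k : K) (y : G), k • y = (k : G) * y * (k : G)⁻¹ := fun k y => rfl
  have h1 : ({y | ∃ k ∈ K, k * x * k⁻¹ = y} : Set G) = MulAction.orbit K x := by
    ext y
    constructor
    · rintro ⟨k, hk, rfl⟩
      exact ⟨⟨k, hk⟩, rfl⟩
    · rintro ⟨k, rfl⟩
      exact ⟨k, k.2, rfl⟩
  have h2 : MulAction.stabilizer K x = (Subgroup.centralizer {x}).subgroupOf K := by
    ext k
    rw [MulAction.mem_stabilizer_iff, hsm, Subgroup.mem_subgroupOf, Subgroup.mem_centralizer_singleton_iff,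
      mul_inv_eq_iff_eq_mul]
  rw [h1, ← MulAction.index_stabilizer, h2]
  rfl

theorem card_eq_ncard_orbit_mul (K : Subgroup G) (x : G) :
    Nat.card K = ({y | ∃ k ∈ K, k * x * k⁻¹ = y} : Set G).ncard *
      Nat.card (K ⊓ Subgroup.centralizer {x} : Subgroup G) := by
  have h1 := Subgroup.relIndex_mul_relIndex ⊥ (K ⊓ Subgroup.centralizer {x}) K bot_le inf_le_left
  rw [Subgroup.relIndex_bot_left, Subgroup.relIndex_bot_left, Subgroup.inf_relIndex_left] at h1
  rw [ncard_orbit, ← h1, mul_comm]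

/-- `Y` is transitive on `xU` (up to leaving `xU`). -/
def TransOn (x : G) (U Y : Subgroup G) : Prop := ∀ u ∈ U, ∃ g ∈ Y, g * x * g⁻¹ = x * u

theorem Level.dd_mem (B : Base x E) (L : Level x E U h) (hN : NormU x U) {g : G}
    (hg : g ∈ Subgroup.normalizer (rr x U : Set G)) : x * (g * x * g⁻¹) ∈ U := by
  have h1 : g * x * g⁻¹ ∈ rr x U := (Subgroup.mem_normalizer_iff.1 hg x).1 (self_mem_rr x U)
  rcases (L.mem_rr B).1 h1 with h2 | h2
  · exfalso
    have h3 := hN g⁻¹ (Subgroup.inv_mem _ hg) _ h2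
    have h4 : g⁻¹ * (g * x * g⁻¹) * g⁻¹⁻¹ = x := by group
    rw [h4] at h3
    exact L.x_notMem B h3
  · exact h2

theorem Level.ncard_xU (U : Subgroup G) (x : G) :
    ((fun u => x * u) '' (U : Set G)).ncard = Nat.card U := by
  rw [Set.ncard_image_of_injective _ (mul_right_injective x)]
  rfl

theorem Level.orbit_subset (B : Base x E) (L : Level x E U h) (hN : NormU x U) {Q : Subgroup G}
    (hQN : Q ≤ Subgroup.normalizer (rr x U : Set G)) :
    ({y | ∃ k ∈ Q, k * x * k⁻¹ = y} : Set G) ⊆ (fun u => x * u) '' (U : Set G) := by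
  rintro _ ⟨g, hg, rfl⟩
  exact ⟨x * (g * x * g⁻¹), L.dd_mem B hN (hQN hg), by
    show x * (x * (g * x * g⁻¹)) = _
    rw [← mul_assoc, B.hx, one_mul]⟩

theorem Level.card_le [Finite G] (B : Base x E) (L : Level x E U h) (hN : NormU x U) {Q : Subgroup G}
    (hQ : IsPGroup 2 Q) (hQN : Q ≤ Subgroup.normalizer (rr x U : Set G)) :
    Nat.card Q ≤ 16 * Nat.card U := by
  rw [card_eq_ncard_orbit_mul Q x, mul_comm]
  apply Nat.mul_le_mul
  · apply B.cent_card _ (hQ.to_le inf_le_left)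
    intro c hc
    exact (Subgroup.mem_centralizer_singleton_iff.1 hc.2).symm
  · rw [← Level.ncard_xU U x]
    exact Set.ncard_le_ncard (L.orbit_subset B hN hQN) (Set.toFinite _)

theorem Level.rr_pgroup [Finite G] (B : Base x E) (L : Level x E U h) : IsPGroup 2 (rr x U) := by
  have : Fact (Nat.Prime 2) := ⟨Nat.prime_two⟩
  obtain ⟨n, hn⟩ := IsPGroup.iff_card.mp L.pgroup
  apply IsPGroup.of_card (n := n + 1)
  rw [L.card_rr B, hn, pow_succ']

/-- Construction of a Sylow 2-subgroup of `N_G(R)` inside a subgroup which is transitive on `xU`. -/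
theorem Level.exists_top [Finite G] (B : Base x E) (L : Level x E U h) (hN : NormU x U) {Y : Subgroup G}
    (hRY : rr x U ≤ Y) (hYN : Y ≤ Subgroup.normalizer (rr x U : Set G)) (htr : TransOn x U Y) :
    ∃ P : Subgroup G, Top x U P ∧ P ≤ Y := by
  have : Fact (Nat.Prime 2) := ⟨Nat.prime_two⟩
  obtain ⟨n, hn⟩ := IsPGroup.iff_card.mp L.pgroup
  -- the orbit of `Y` is `xU`
  have horb : ({y | ∃ k ∈ Y, k * x * k⁻¹ = y} : Set G) = (fun u => x * u) '' (U : Set G) := by
    apply Set.Subset.antisymm (L.orbit_subset B hN hYN)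
    rintro _ ⟨u, hu, rfl⟩
    exact htr u hu
  have hcY : Nat.card Y = Nat.card U * Nat.card (Y ⊓ Subgroup.centralizer {x} : Subgroup G) := by
    rw [card_eq_ncard_orbit_mul Y x, horb, Level.ncard_xU]
  have h16 : 16 ∣ Nat.card (Y ⊓ Subgroup.centralizer {x} : Subgroup G) := by
    rw [← B.card_rr]
    apply Subgroup.card_dvd_of_le
    exact le_inf ((rr_mono L.le).trans hRY)
      (fun g hg => Subgroup.mem_centralizer_singleton_iff.2 (B.rr_comm hg).symm)
  have hdvd : 2 ^ (n + 4) ∣ Nat.card Y := by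
    rw [hcY, pow_add, hn]
    exact Nat.mul_dvd_mul_left _ h16
  have hR : Nat.card ((rr x U).subgroupOf Y) = 2 ^ (n + 1) := by
    rw [Nat.card_congr (Subgroup.subgroupOfEquivOfLe hRY).toEquiv, L.card_rr B, hn, pow_succ']
  obtain ⟨K, hK, hRK⟩ := Sylow.exists_subgroup_card_pow_prime_le 2 hdvd ((rr x U).subgroupOf Y) hR
    (by omega)
  have hcK : Nat.card (K.map Y.subtype) = 2 ^ (n + 4) := by
    rw [← hK]
    exact Nat.card_congr (K.equivMapOfInjective _ Y.subtype_injective).symm.toEquiv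
  have hKY : K.map Y.subtype ≤ Y := by
    rintro _ ⟨g, _, rfl⟩; exact g.2
  have hle : rr x U ≤ K.map Y.subtype := by
    intro g hg
    exact ⟨⟨g, hRY hg⟩, hRK (Subgroup.mem_subgroupOf.2 hg), rfl⟩
  have hpg : IsPGroup 2 (K.map Y.subtype) := IsPGroup.of_card hcK
  have hKN : K.map Y.subtype ≤ Subgroup.normalizer (rr x U : Set G) := hKY.trans hYN
  have hcK' : Nat.card (K.map Y.subtype) = 16 * Nat.card U := by
    rw [hcK, hn, pow_add]; ring
  refine ⟨K.map Y.subtype, ?_, hKY⟩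
  refine ⟨hN, hpg, hle, hKN, ?_, ?_, ?_⟩
  · intro Q hQ hle hQN
    symm
    apply Subgroup.eq_of_le_of_card_ge hle
    rw [hcK']
    exact L.card_le B hN hQ hQN
  · rw [hcK', L.card_rr B]; ring
  · have h1 : ({y | ∃ k ∈ K.map Y.subtype, k * x * k⁻¹ = y} : Set G) = (fun u => x * u) '' (U : Set G) := by
      apply Set.eq_of_subset_of_ncard_le (L.orbit_subset B hN hKN) _ (Set.toFinite _)
      rw [Level.ncard_xU]
      have h2 := card_eq_ncard_orbit_mul (K.map Y.subtype) x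
      have h3 : Nat.card (K.map Y.subtype ⊓ Subgroup.centralizer {x} : Subgroup G) ≤ 16 := by
        apply B.cent_card _ (hpg.to_le inf_le_left)
        intro c hc
        exact (Subgroup.mem_centralizer_singleton_iff.1 hc.2).symm
      rw [hcK'] at h2
      by_contra hcon
      push Not at hcon
      have h4 := Nat.mul_le_mul (Nat.le_of_lt_succ (Nat.lt_succ_of_lt hcon)) h3
      have h5 : 0 < Nat.card (K.map Y.subtype ⊓ Subgroup.centralizer {x} : Subgroup G) := Nat.card_pos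
      nlinarith only [h2, h3, hcon]
    intro u hu
    have h2 : x * u ∈ ({y | ∃ k ∈ K.map Y.subtype, k * x * k⁻¹ = y} : Set G) := by
      rw [h1]; exact ⟨u, hu, rfl⟩
    exact h2

/-- For `U ≠ E` the normaliser of `U⟨x⟩` normalises `U`. -/
theorem Level.normU (B : Base x E) (L : Level x E U h) (hUE : ∃ w ∈ U, w ∉ E) : NormU x U := by
  intro g hg
  have key : ∀ u ∈ U, u ∉ E → g * u * g⁻¹ ∈ U := by
    intro u hu huE
    have h1 : g * u * g⁻¹ ∈ rr x U := (Subgroup.mem_normalizer_iff.1 hg u).1 (le_rr x U hu)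
    rcases (L.mem_rr B).1 h1 with h2 | h2
    · exact h2
    · exfalso
      apply huE
      apply L.omega u hu
      have h3 := L.xu_sq B h2
      rw [← mul_assoc x x, B.hx, one_mul] at h3
      have h4 : g * u * g⁻¹ * (g * u * g⁻¹) = g * (u * u) * g⁻¹ := by group
      rw [h4] at h3
      have h5 := mul_inv_eq_one.1 h3
      exact mul_eq_left.1 h5
  obtain ⟨w, hw, hwE⟩ := hUE
  intro u hu
  by_cases huE : u ∈ E
  · have h1 : w * u ∉ E := fun hc => hwE (by
      have := E.mul_mem hc (E.inv_mem huE)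
      rwa [mul_inv_cancel_right] at this)
    have h2 := key w hw hwE
    have h3 := key _ (U.mul_mem hw hu) h1
    have h4 : g * u * g⁻¹ = (g * w * g⁻¹)⁻¹ * (g * (w * u) * g⁻¹) := by group
    rw [h4]
    exact U.mul_mem (U.inv_mem h2) h3
  · exact key u hu huE

theorem Level.le_normalizer' (B : Base x E) (L : Level x E U h) :
    rr x U ≤ Subgroup.normalizer (rr x U : Set G) := Subgroup.le_normalizer

theorem Level.h_mem_normalizer [Finite G] (B : Base x E) (L : Level x E U h) :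
    h ∈ Subgroup.normalizer (rr x U : Set G) := by
  have h1 : ∀ g ∈ rr x U, h * g * h⁻¹ ∈ rr x U := by
    intro g hg
    rcases (L.mem_rr B).1 hg with hg | hg
    · exact le_rr x U (L.hU g hg)
    · apply (L.mem_rr B).2
      right
      have h2 : x * (h * g * h⁻¹) = h * (x * g) * h⁻¹ := by
        rw [← mul_assoc, ← mul_assoc, ← L.hx]; group
      rw [h2]
      exact L.hU _ hg
  rw [Subgroup.mem_normalizer_iff]
  intro g
  refine ⟨h1 g, fun hg => ?_⟩
  -- finite: conjugation by `h` is a bijection of `rr x U`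
  have h2 : Function.Injective (fun r : rr x U => (⟨h * r * h⁻¹, h1 r r.2⟩ : rr x U)) := by
    intro a b hab
    have := congrArg Subtype.val hab
    simp only at this
    exact Subtype.ext (mul_left_cancel (mul_right_cancel this))
  obtain ⟨⟨r, hr⟩, hr1⟩ := (Finite.injective_iff_surjective.1 h2) ⟨h * g * h⁻¹, hg⟩
  have h3 := congrArg Subtype.val hr1
  simp only at h3
  have h4 : r = g := mul_left_cancel (mul_right_cancel h3)
  rwa [← h4]

/-- If some element of `Y` (`h`-invariant) moves the class of `x` then `Y` is transitive on `xU`. -/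
theorem Level.transOn (B : Base x E) (L : Level x E U h) (X : Expo U k) (hN : NormU x U) {Y : Subgroup G}
    (hUY : U ≤ Y) (hYN : Y ≤ Subgroup.normalizer (rr x U : Set G)) (hh : ∀ y ∈ Y, h * y * h⁻¹ ∈ Y)
    {g : G} (hg : g ∈ Y) (hg1 : (x * (g * x * g⁻¹)) ^ 2 ^ k ≠ 1) : TransOn x U Y := by
  intro u hu
  have hhn : ∀ (n : ℕ), ∀ y ∈ Y, h ^ n * y * (h ^ n)⁻¹ ∈ Y := by
    intro n
    induction n with
    | zero => intro y hy; simpa using hy
    | succ n ih =>
      intro y hy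
      have h2 : h * (h ^ n * y * (h ^ n)⁻¹) * h⁻¹ = h ^ (n + 1) * y * (h ^ (n + 1))⁻¹ := by
        rw [pow_succ' h n]; group
      rw [← h2]
      exact hh _ (ih y hy)
  have hxn : ∀ n : ℕ, h ^ n * x = x * h ^ n := fun n => (show Commute h x from L.hx).pow_left n
  have hc : ∀ n : ℕ, (h ^ n) * x * (h ^ n)⁻¹ = x := fun n => by rw [hxn, mul_inv_cancel_right]
  have hdU := L.dd_mem B hN (hYN hg)
  -- first: some element of `Y` maps `x` to `x u'` with `u'` in the class of `u`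
  have hex : ∃ g' ∈ Y, ∃ u' ∈ U, g' * x * g'⁻¹ = x * u' ∧ u' ^ 2 ^ k = u ^ 2 ^ k := by
    by_cases hu1 : u ^ 2 ^ k = 1
    · exact ⟨1, Y.one_mem, 1, U.one_mem, by group, by rw [one_pow, hu1]⟩
    · obtain ⟨n, hn⟩ := L.trans _ (L.pi_mem X hdU) _ (L.pi_mem X hu) hg1 hu1
      refine ⟨h ^ n * g * (h ^ n)⁻¹, hhn n g hg, h ^ n * (x * (g * x * g⁻¹)) * (h ^ n)⁻¹,
        L.hU_pow n hdU, ?_, ?_⟩
      · calc h ^ n * g * (h ^ n)⁻¹ * x * (h ^ n * g * (h ^ n)⁻¹)⁻¹
            = h ^ n * g * ((h ^ n)⁻¹ * x * h ^ n) * g⁻¹ * (h ^ n)⁻¹ := by group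
          _ = h ^ n * g * x * g⁻¹ * (h ^ n)⁻¹ := by
              rw [show (h ^ n)⁻¹ * x * h ^ n = x by rw [mul_assoc, ← hxn, inv_mul_cancel_left]]
          _ = h ^ n * (x * x) * g * x * g⁻¹ * (h ^ n)⁻¹ := by rw [B.hx]; group
          _ = (h ^ n * x) * (x * (g * x * g⁻¹)) * (h ^ n)⁻¹ := by group
          _ = x * (h ^ n * (x * (g * x * g⁻¹)) * (h ^ n)⁻¹) := by rw [hxn]; group
      · rw [conj_pow', hn]
  obtain ⟨g', hg', u', hu', hgu, huu⟩ := hex
  obtain ⟨w, hw, hw1⟩ := L.exists_conj B X hu' hu huu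
  refine ⟨w * g', Y.mul_mem (hUY hw) hg', ?_⟩
  calc w * g' * x * (w * g')⁻¹ = w * (g' * x * g'⁻¹) * w⁻¹ := by group
    _ = x * u := by rw [hgu, hw1]

/-- A 2-subgroup of `N(R)` containing `R`, whose elements fix the class of `x`, is `R`. -/
theorem Level.eq_rr [Finite G] (B : Base x E) (L : Level x E U h) (X : Expo U k) (hN : NormU x U)
    {Q : Subgroup G} (hQ : IsPGroup 2 Q) (hRQ : rr x U ≤ Q)
    (hQN : Q ≤ Subgroup.normalizer (rr x U : Set G)) {q : G} (hq : q ∈ Q)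
    (hq1 : (x * (q * x * q⁻¹)) ^ 2 ^ k = 1) : q ∈ rr x U := by
  have hd := L.dd_mem B hN (hQN hq)
  obtain ⟨w, hw, hw1⟩ := L.exists_conj B X hd U.one_mem (by rw [hq1, one_pow])
  have h1 : w * q ∈ Q := Q.mul_mem (hRQ (le_rr x U hw)) hq
  have h2 : x * (w * q) = (w * q) * x := by
    have h3 : w * (q * x * q⁻¹) * w⁻¹ = x := by
      rw [← mul_assoc x x, B.hx, one_mul, mul_one] at hw1
      exact hw1
    calc x * (w * q) = (w * (q * x * q⁻¹) * w⁻¹) * (w * q) := by rw [h3]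
      _ = (w * q) * x := by group
  have h3 := B.mem_of_comm hQ ((rr_mono L.le).trans hRQ) h1 h2
  have h4 := (rr x U).mul_mem ((rr x U).inv_mem (le_rr x U hw)) (rr_mono L.le h3)
  rwa [inv_mul_cancel_left] at h4

end Cfsg.Agent.GH.E
end
end

-- part: GH/ETowerA
section
prune_inst 0x424701440690002000000051270003e66da000500002b8401fde10f02068fff628d022760ce801d035802a20400300028139800504000000000200000011d01a0802a52069348a10426000f803087180c00000000000000000000000000041000000000000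
set_option linter.all false
open scoped Cfsg.Agent.FastGrp

-- part: GH/ETowerS
section
/-!
# GH-E: Sylow subgroups and transfer
-/

set_option autoImplicit false

namespace Cfsg.Agent.GH.E

variable {G : Type*} [Group G] {x h : G} {E U : Subgroup G} {k : ℕ}

/-- Normalizers grow in 2-groups. -/
theorem lt_inf_normalizer [Finite G] {P D : Subgroup G} (hP : IsPGroup 2 P) (hlt : D < P) :
    D < P ⊓ Subgroup.normalizer (D : Set G) := by
  have : Fact (Nat.Prime 2) := ⟨Nat.prime_two⟩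
  have : Group.IsNilpotent P := hP.isNilpotent
  have h1 : D.subgroupOf P < ⊤ := by
    rw [lt_top_iff_ne_top, Ne, Subgroup.subgroupOf_eq_top]
    exact not_le_of_gt hlt
  have h2 := Group.normalizerCondition_of_isNilpotent (G := P) _ h1
  obtain ⟨y, hy, hyD⟩ := SetLike.exists_of_lt h2
  refine lt_of_le_of_ne (le_inf hlt.le Subgroup.le_normalizer) ?_
  intro heq
  apply hyD
  rw [Subgroup.mem_subgroupOf, heq]
  refine ⟨y.2, ?_⟩
  show (y : G) ∈ Subgroup.normalizer (D : Set G)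
  rw [Subgroup.mem_normalizer_iff] at hy ⊢
  intro g
  constructor
  · intro hg
    have h3 := (hy ⟨g, hlt.le hg⟩).1 (by rw [Subgroup.mem_subgroupOf]; exact hg)
    rw [Subgroup.mem_subgroupOf] at h3
    exact h3
  · intro hg
    have h4 : g ∈ P := by
      have h5 : (y : G)⁻¹ * ((y : G) * g * (y : G)⁻¹) * (y : G) ∈ P :=
        P.mul_mem (P.mul_mem (P.inv_mem y.2) (hlt.le hg)) y.2
      have h6 : (y : G)⁻¹ * ((y : G) * g * (y : G)⁻¹) * (y : G) = g := by group
      rwa [h6] at h5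
    have h3 := (hy ⟨g, h4⟩).2 (by rw [Subgroup.mem_subgroupOf]; exact hg)
    rw [Subgroup.mem_subgroupOf] at h3
    exact h3

/-- A 2-subgroup which is maximal among the 2-subgroups of its normaliser is a Sylow 2-subgroup. -/
theorem exists_sylow_eq [Finite G] {P : Subgroup G} (hP : IsPGroup 2 P)
    (hmax : ∀ Q : Subgroup G, IsPGroup 2 Q → P ≤ Q → Q ≤ Subgroup.normalizer (P : Set G) → Q = P) :
    ∃ S : Sylow 2 G, (S : Subgroup G) = P := by
  obtain ⟨S, hS⟩ := hP.exists_le_sylow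
  refine ⟨S, ?_⟩
  by_contra hne
  have hlt : P < (S : Subgroup G) := lt_of_le_of_ne hS (Ne.symm hne)
  have h1 := lt_inf_normalizer S.isPGroup' hlt
  have h2 := hmax _ (S.isPGroup'.to_le inf_le_left) h1.le inf_le_right
  exact h1.ne h2.symm

/-- Transfer: `P` Sylow, `K` of index 2 in `P`, no conjugate of the involution `x` in `K`. -/
theorem false_of_transfer [Finite G] (hidx : ∀ K : Subgroup G, K.index ≠ 2) {P K : Subgroup G}
    (hP : ∃ S : Sylow 2 G, (S : Subgroup G) = P) (hKP : K ≤ P) (hK : K.relIndex P = 2) (hx : x * x = 1)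
    (hno : ∀ g : G, g * x * g⁻¹ ∉ K) : False := by
  obtain ⟨S, rfl⟩ := hP
  rcases Cfsg.Agent.Transfer.ThompsonTransfer.thompson_transfer S K hKP hK x (by rw [pow_two, hx]) with
    ⟨M, _, hM, _⟩ | ⟨g, hg⟩
  · exact hidx M hM
  · exact hno g hg

/-- `x` is not conjugate to an element centralised by a 2-group of order `> 16`. -/
theorem Base.not_conj_of_card (B : Base x E) {Q : Subgroup G} (hQ : IsPGroup 2 Q)
    (hc : 16 < Nat.card Q) {e : G} (he : ∀ q ∈ Q, e * q = q * e) (g : G) : g * x * g⁻¹ ≠ e := by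
  intro hge
  have h1 : IsPGroup 2 (Q.map (MulAut.conj g⁻¹).toMonoidHom) := hQ.map _
  have h2 : ∀ q ∈ Q.map (MulAut.conj g⁻¹).toMonoidHom, x * q = q * x := by
    rintro _ ⟨q, hq, rfl⟩
    have h3 := he q hq
    rw [← hge] at h3
    simp only [MulEquiv.coe_toMonoidHom, MulAut.conj_apply, inv_inv]
    calc x * (g⁻¹ * q * g) = g⁻¹ * (g * x * g⁻¹ * q) * g := by group
      _ = g⁻¹ * (q * (g * x * g⁻¹)) * g := by rw [h3]
      _ = g⁻¹ * q * g * x := by group
  have h4 := B.cent_card _ h1 h2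
  have h5 : Nat.card (Q.map (MulAut.conj g⁻¹).toMonoidHom) = Nat.card Q :=
    Nat.card_congr (Q.equivMapOfInjective _ (MulAut.conj g⁻¹).injective).symm.toEquiv
  omega

/-- `x` is not a square of a 2-element (and neither are its conjugates). -/
theorem Base.not_sq (B : Base x E) {q : G} (hq : ∃ n : ℕ, q ^ 2 ^ n = 1) (g : G) : q * q ≠ g * x * g⁻¹ := by
  intro hc
  have h1 : (g⁻¹ * q * g) * (g⁻¹ * q * g) = x := by
    calc (g⁻¹ * q * g) * (g⁻¹ * q * g) = g⁻¹ * (q * q) * g := by group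
      _ = x := by rw [hc]; group
  have h2 : x * (g⁻¹ * q * g) = (g⁻¹ * q * g) * x := by
    rw [← h1]; group
  obtain ⟨n, hn⟩ := hq
  have h3 : (g⁻¹ * q * g) ^ 2 ^ n = 1 := by
    have h4 : g⁻¹ * q * g = g⁻¹ * q * g⁻¹⁻¹ := by rw [inv_inv]
    rw [h4, conj_pow, hn]; group
  have h5 := B.cent_sq _ h2 ⟨n, h3⟩
  exact B.x_ne_one (by rw [← h1, h5])

theorem IsPGroup.exists_pow {Q : Subgroup G} (hQ : IsPGroup 2 Q) {q : G} (hq : q ∈ Q) :
    ∃ n : ℕ, q ^ 2 ^ n = 1 := by
  obtain ⟨n, hn⟩ := hQ ⟨q, hq⟩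
  refine ⟨n, ?_⟩
  have := congrArg Subtype.val hn
  rwa [Subgroup.coe_pow, Subgroup.coe_one] at this

theorem Level.E_comm (B : Base x E) (L : Level x E U h) {e r : G} (he : e ∈ E) (hr : r ∈ rr x U) :
    e * r = r * e := by
  rcases (L.mem_rr B).1 hr with hr | hr
  · exact L.comm e (L.le he) r hr
  · have h1 := L.comm e (L.le he) _ hr
    have h2 := B.comm e he
    calc e * r = (x * x) * e * r := by rw [B.hx, one_mul]
      _ = x * (x * e) * r := by group
      _ = x * (e * x) * r := by rw [h2]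
      _ = x * (e * (x * r)) := by group
      _ = x * (x * r * e) := by rw [h1]
      _ = (x * x) * r * e := by group
      _ = r * e := by rw [B.hx, one_mul]

theorem Level.card_gt [Finite G] (B : Base x E) (L : Level x E U h) (hUE : ∃ w ∈ U, w ∉ E) :
    16 < Nat.card (rr x U) := by
  rw [L.card_rr B]
  have h1 : E < U := by
    obtain ⟨w, hw, hwE⟩ := hUE
    exact lt_of_le_of_ne L.le (fun hc => hwE (hc ▸ hw))
  have h2 : Nat.card E < Nat.card U := by
    by_contra hcon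
    push Not at hcon
    exact h1.ne (Subgroup.eq_of_le_of_card_ge h1.le hcon)
  rw [B.card] at h2
  omega

theorem conj_sq_one (B : Base x E) (g : G) : g * x * g⁻¹ * (g * x * g⁻¹) = 1 := by
  calc g * x * g⁻¹ * (g * x * g⁻¹) = g * (x * x) * g⁻¹ := by group
    _ = 1 := by rw [B.hx]; group

/-- Level `k ≥ 2`: if `N(R)` fixes the class of `x` then there is a subgroup of index 2. -/
theorem Level.false_of_fixed [Finite G] (hidx : ∀ K : Subgroup G, K.index ≠ 2) (B : Base x E)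
    (L : Level x E U h) (X : Expo U k) (hUE : ∃ w ∈ U, w ∉ E)
    (hfix : ∀ g ∈ Subgroup.normalizer (rr x U : Set G), (x * (g * x * g⁻¹)) ^ 2 ^ k = 1) : False := by
  have hN := L.normU B hUE
  have hS : ∃ S : Sylow 2 G, (S : Subgroup G) = rr x U := by
    apply exists_sylow_eq (L.rr_pgroup B)
    intro Q hQ hle hQN
    apply le_antisymm _ hle
    intro q hq
    exact L.eq_rr B X hN hQ hle hQN hq (hfix q (hQN hq))
  refine false_of_transfer hidx hS (le_rr x U) (L.relIndex_rr B) B.hx ?_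
  intro g hg
  have h1 : g * x * g⁻¹ ∈ E := L.omega _ hg (conj_sq_one B g)
  exact B.not_conj_of_card (L.rr_pgroup B) (L.card_gt B hUE) (fun q hq => L.E_comm B h1 hq) g rfl

/-- Elements of `E` are not conjugate to `x`, as soon as there is a `Top`. -/
theorem Top.not_conj_E [Finite G] (B : Base x E) (L : Level x E U h) {P : Subgroup G} (T : Top x U P)
    {e : G} (he : e ∈ E) (g : G) : g * x * g⁻¹ ≠ e := by
  have : Fact (Nat.Prime 2) := ⟨Nat.prime_two⟩
  intro hge
  have hcP : 16 < Nat.card P := by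
    rw [T.card, L.card_rr B]
    have h1 : Nat.card E ≤ Nat.card U := Subgroup.card_le_of_le L.le
    rw [B.card] at h1
    omega
  -- a fixed point of `P` in `E`
  have hPE : ∀ p ∈ P, ∀ e ∈ E, p * e * p⁻¹ ∈ E := fun p hp e he =>
    L.E_of_U B (T.normU p (T.norm hp)) he
  obtain ⟨e0, he0, he01, hfix⟩ : ∃ e0 ∈ E, e0 ≠ 1 ∧ ∀ p ∈ P, p * e0 * p⁻¹ = e0 := by
    let act : MulAction P E :=
      { smul := fun p e => ⟨p * e * (p : G)⁻¹, hPE p p.2 e e.2⟩
        one_smul := fun e => Subtype.ext (by show (1 : G) * e * (1 : G)⁻¹ = e; group)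
        mul_smul := fun p q e => Subtype.ext (by
          show ((p * q : P) : G) * e * ((p * q : P) : G)⁻¹ = p * (q * e * (q : G)⁻¹) * (p : G)⁻¹
          rw [Subgroup.coe_mul]; group) }
    have hfinE : Finite E := Nat.finite_of_card_ne_zero (by rw [B.card]; norm_num)
    have h1 := T.pgroup.card_modEq_card_fixedPoints E
    rw [B.card] at h1
    have h2 : 2 ∣ Nat.card (MulAction.fixedPoints P E) := by
      have : (8 : ℕ) ≡ 0 [MOD 2] := by decide
      exact (Nat.modEq_zero_iff_dvd).1 (h1.symm.trans this)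
    have h3 : (1 : E) ∈ MulAction.fixedPoints P E := by
      intro p
      exact Subtype.ext (by show (p : G) * 1 * (p : G)⁻¹ = 1; group)
    have hne : Nonempty (MulAction.fixedPoints P E) := ⟨⟨1, h3⟩⟩
    have h4 : 1 < Nat.card (MulAction.fixedPoints P E) := by
      have h5 : 0 < Nat.card (MulAction.fixedPoints P E) := Nat.card_pos
      omega
    obtain ⟨y, hy⟩ : ∃ y : MulAction.fixedPoints P E, y ≠ ⟨1, h3⟩ := by
      by_contra hcon
      push Not at hcon
      have : Nat.card (MulAction.fixedPoints P E) ≤ 1 := by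
        have : Subsingleton (MulAction.fixedPoints P E) := ⟨fun a b => by rw [hcon a, hcon b]⟩
        exact Finite.card_le_one_iff_subsingleton.2 this
      omega
    refine ⟨y.1.1, y.1.2, ?_, ?_⟩
    · intro hc
      exact hy (Subtype.ext (Subtype.ext hc))
    · intro p hp
      exact congrArg Subtype.val (y.2 ⟨p, hp⟩)
  have he1 : e ≠ 1 := by
    intro hc
    rw [hc, mul_inv_eq_one, mul_eq_left] at hge
    exact B.x_ne_one hge
  obtain ⟨n, hn⟩ := L.trans e he e0 he0 he1 he01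
  have h6 : (h ^ n * g) * x * (h ^ n * g)⁻¹ = e0 := by
    rw [← hn, ← hge]; group
  refine B.not_conj_of_card T.pgroup hcP (e := e0) (fun p hp => ?_) _ h6
  have h7 := hfix p hp
  rw [mul_inv_eq_iff_eq_mul] at h7
  exact h7.symm

/-- If all conjugates of `x` in `P` lie in `xU` then `P` is a Sylow 2-subgroup of `G`. -/
theorem Top.sylow [Finite G] (B : Base x E) (L : Level x E U h) {P : Subgroup G} (T : Top x U P)
    (hc : ∀ g : G, g * x * g⁻¹ ∈ P → x * (g * x * g⁻¹) ∈ U) : ∃ S : Sylow 2 G, (S : Subgroup G) = P := by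
  apply exists_sylow_eq T.pgroup
  intro Q hQ hPQ hQN
  apply T.syl Q hQ hPQ
  have hxP : x ∈ P := T.le (self_mem_rr x U)
  have key : ∀ g ∈ Q, ∀ r ∈ rr x U, g * r * g⁻¹ ∈ rr x U := by
    intro g hg
    have hgP : ∀ p ∈ P, g * p * g⁻¹ ∈ P := fun p hp => (Subgroup.mem_normalizer_iff.1 (hQN hg) p).1 hp
    have h1 : ∀ u ∈ U, g * (x * u) * g⁻¹ ∈ rr x U := by
      intro u hu
      obtain ⟨p, hp, hpu⟩ := T.trans u hu
      have h2 : g * (x * u) * g⁻¹ = (g * p) * x * (g * p)⁻¹ := by rw [← hpu]; group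
      have h3 : (g * p) * x * (g * p)⁻¹ ∈ P := by
        rw [← h2]
        exact hgP _ (T.le ((rr x U).mul_mem (self_mem_rr x U) (le_rr x U hu)))
      rw [h2]
      exact (L.mem_rr B).2 (Or.inr (hc _ h3))
    intro r hr
    rcases (L.mem_rr B).1 hr with hr | hr
    · have h2 := h1 1 U.one_mem
      have h3 := h1 r hr
      rw [mul_one] at h2
      have h4 : g * r * g⁻¹ = (g * x * g⁻¹)⁻¹ * (g * (x * r) * g⁻¹) := by group
      rw [h4]
      exact (rr x U).mul_mem ((rr x U).inv_mem h2) h3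
    · have h3 := h1 _ hr
      rwa [← mul_assoc x x, B.hx, one_mul] at h3
  intro g hg
  rw [Subgroup.mem_normalizer_iff]
  intro r
  refine ⟨key g hg r, fun hr => ?_⟩
  have h5 := key g⁻¹ (Q.inv_mem hg) _ hr
  have h6 : g⁻¹ * (g * r * g⁻¹) * g⁻¹⁻¹ = r := by group
  rwa [h6] at h5

/-- Case (b), `k ≥ 2`: an involution of `P - R` is not conjugate to `x`. -/
theorem Top.no_conj [Finite G] (B : Base x E) (L : Level x E U h) (X : Expo U k)
    (hUE : ∃ w ∈ U, w ∉ E) {P : Subgroup G} (T : Top x U P)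
    (hf : ∀ p ∈ P, (∀ e ∈ E, p * e = e * p) → p ∈ rr x U) {t : G} (ht : t ∈ P) (htR : t ∉ rr x U)
    (ht2 : t * t = 1) (g : G) : g * x * g⁻¹ ≠ t := by
  intro hgt
  have hti : t⁻¹ = t := inv_eq_iff_mul_eq_one.mpr ht2
  have htU : ∀ u ∈ U, t * u * t⁻¹ ∈ U := T.normU t (T.norm ht)
  -- some `e ∈ E` is moved by `t`
  obtain ⟨e, he, hte⟩ : ∃ e ∈ E, t * e ≠ e * t := by
    by_contra hcon
    push Not at hcon
    exact htR (hf t ht hcon)
  obtain ⟨u, hu, hue⟩ := L.pi_surj X he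
  have hk : k ≠ 0 := by
    rintro rfl
    obtain ⟨w, hw, hwE⟩ := hUE
    apply hwE
    apply L.omega w hw
    have := X.all w hw
    rwa [zero_add, pow_one, pow_two] at this
  -- `w = u u^t` is centralised by `t` and has order `2 ^ (k + 1)`
  set w := u * (t * u * t⁻¹) with hw
  have hwU : w ∈ U := U.mul_mem hu (htU u hu)
  have hwt : t * w = w * t := by
    have h1 : t * u * t⁻¹ * u = u * (t * u * t⁻¹) := L.comm _ (htU u hu) u hu
    calc t * w = t * (u * (t * u * t⁻¹)) := rfl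
      _ = (t * u * t⁻¹) * (t * t) * u * t⁻¹ := by group
      _ = (t * u * t⁻¹) * u * t⁻¹ := by rw [ht2, mul_one]
      _ = u * (t * u * t⁻¹) * t := by rw [h1, hti]
      _ = w * t := rfl
  have hwk : w ^ 2 ^ k ≠ 1 := by
    rw [hw, L.mul_pow hu (htU u hu), conj_pow', hue]
    intro hc
    apply hte
    rw [mul_eq_one_iff_inv_eq, B.inv_eq he] at hc
    -- e = t * e * t⁻¹
    have h2 : e * t = t * e := by
      conv_lhs => rw [hc]
      group
    exact h2.symm
  -- transport to `C(x)`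
  have h3 : x * (g⁻¹ * w * g) = (g⁻¹ * w * g) * x := by
    rw [← hgt] at hwt
    calc x * (g⁻¹ * w * g) = g⁻¹ * (g * x * g⁻¹ * w) * g := by group
      _ = g⁻¹ * (w * (g * x * g⁻¹)) * g := by rw [hwt]
      _ = (g⁻¹ * w * g) * x := by group
  obtain ⟨n, hn⟩ := IsPGroup.exists_pow L.pgroup hwU
  have h4 : g⁻¹ * w * g = g⁻¹ * w * g⁻¹⁻¹ := by rw [inv_inv]
  have h5 := B.cent_sq _ h3 ⟨n, by rw [h4, conj_pow, hn]; group⟩
  have h6 : w * w = 1 := by
    have h7 : g * ((g⁻¹ * w * g) * (g⁻¹ * w * g)) * g⁻¹ = w * w := by group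
    rw [← h7, h5]; group
  apply hwk
  obtain ⟨j, rfl⟩ := Nat.exists_eq_succ_of_ne_zero hk
  rw [Nat.succ_eq_add_one, pow_two_pow_succ', h6, one_pow]

/-- Case (b), `k ≥ 2`: conjugates of `x` in `P` lie in `xU`. -/
theorem Top.conj_mem [Finite G] (B : Base x E) (L : Level x E U h) (X : Expo U k)
    (hUE : ∃ w ∈ U, w ∉ E) {P : Subgroup G} (T : Top x U P)
    (hf : ∀ p ∈ P, (∀ e ∈ E, p * e = e * p) → p ∈ rr x U) (g : G) (hg : g * x * g⁻¹ ∈ P) :
    x * (g * x * g⁻¹) ∈ U := by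
  by_cases h1 : g * x * g⁻¹ ∈ rr x U
  · rcases (L.mem_rr B).1 h1 with h2 | h2
    · exact absurd rfl (T.not_conj_E B L (L.omega _ h2 (conj_sq_one B g)) g)
    · exact h2
  · exact absurd rfl (T.no_conj B L X hUE hf hg h1 (conj_sq_one B g) g)

end Cfsg.Agent.GH.E
end

-- part: GH/ETowerL
section
/-!
# GH-E: the relation of `h` on `E` and Lemma L

`h` satisfies `h³ = h^a + 1` on `E`, `a = 1` or `a = 2`.  Lemma L: an `h`-equivariant alternating
bimultiplicative map `V × V → E`, trivial on `U`, is trivial if `h³ = h^a + 1` on `V / U` as well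
(`Λ²(M) = M*` is not isomorphic to `M`).
-/

set_option autoImplicit false

namespace Cfsg.Agent.GH.E

variable {G : Type*} [Group G] {x h : G} {E U : Subgroup G} {k : ℕ}

/-- conjugation by a power of `h` -/
def cj (h : G) (n : ℕ) (g : G) : G := h ^ n * g * (h ^ n)⁻¹

theorem cj_mul (h : G) (n : ℕ) (a b : G) : cj h n (a * b) = cj h n a * cj h n b := by
  unfold cj; group

theorem cj_inv (h : G) (n : ℕ) (a : G) : cj h n a⁻¹ = (cj h n a)⁻¹ := by
  unfold cj; group

theorem cj_one (h : G) (n : ℕ) : cj h n 1 = 1 := by unfold cj; group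

theorem cj_zero (h : G) (g : G) : cj h 0 g = g := by unfold cj; group

theorem cj_cj (h : G) (m n : ℕ) (g : G) : cj h m (cj h n g) = cj h (m + n) g := by
  unfold cj; rw [pow_add]; group

theorem cj_injective (h : G) (n : ℕ) {a b : G} (hab : cj h n a = cj h n b) : a = b :=
  mul_left_cancel (mul_right_cancel hab)

theorem cj_eq_one (h : G) (n : ℕ) {a : G} (ha : cj h n a = 1) : a = 1 :=
  cj_injective h n (by rw [ha, cj_one])

theorem cj_succ (h : G) (n : ℕ) (g : G) : cj h (n + 1) g = h * cj h n g * h⁻¹ := by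
  unfold cj; rw [pow_succ' h n]; group

theorem cj_mem {V : Subgroup G} (hV : ∀ v ∈ V, h * v * h⁻¹ ∈ V) (n : ℕ) {v : G} (hv : v ∈ V) :
    cj h n v ∈ V := by
  induction n with
  | zero => rwa [cj_zero]
  | succ n ih => rw [cj_succ]; exact hV _ ih

/-- The relation `h³ = h^a + 1` on `E`. -/
theorem exists_rel (B : Base x E) (hE : ∀ e ∈ E, h * e * h⁻¹ ∈ E)
    (htr : ∀ a ∈ E, ∀ b ∈ E, a ≠ 1 → b ≠ 1 → ∃ n : ℕ, h ^ n * a * (h ^ n)⁻¹ = b) :
    ∃ a : ℕ, (a = 1 ∨ a = 2) ∧ ∀ e ∈ E, cj h 3 e = cj h a e * e := by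
  classical
  obtain ⟨e, he, he1⟩ := B.exists_ne_one
  -- no small `h`-invariant set contains all of `E#`
  have hsmall : ∀ s : Finset G, e ∈ s → (∀ y ∈ s, h * y * h⁻¹ ∈ s) → 7 ≤ s.card := by
    intro s hes hs
    have h1 : ∀ b ∈ E, b ≠ 1 → b ∈ s := by
      intro b hb hb1
      obtain ⟨n, hn⟩ := htr e he b hb he1 hb1
      have h2 : ∀ n : ℕ, cj h n e ∈ s := by
        intro n
        induction n with
        | zero => rwa [cj_zero]
        | succ n ih => rw [cj_succ]; exact hs _ ih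
      rw [← hn]
      exact h2 n
    have hfin : (E : Set G).Finite := Nat.finite_of_card_ne_zero (by
      show Nat.card E ≠ 0
      rw [B.card]; norm_num)
    have h3 : (E : Set G).ncard = 8 := B.card
    have h4 : ((E : Set G) \ {1}).ncard = 7 := by
      have := Set.ncard_sdiff_singleton_of_mem (s := (E : Set G)) E.one_mem
      rw [h3] at this
      exact this
    have h5 : ((E : Set G) \ {1}) ⊆ (s : Set G) := fun b hb => h1 b hb.1 hb.2
    have h6 := Set.ncard_le_ncard h5 (Finset.finite_toSet s)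
    rw [h4, Set.ncard_coe_finset] at h6
    exact h6
  set e1 := cj h 1 e with he1d
  set e2 := cj h 2 e with he2d
  set e3 := cj h 3 e with he3d
  have m1 : e1 ∈ E := cj_mem hE 1 he
  have m2 : e2 ∈ E := cj_mem hE 2 he
  have m3 : e3 ∈ E := cj_mem hE 3 he
  have c0 : h * e * h⁻¹ = e1 := by rw [he1d, cj_succ, cj_zero]
  have c1 : h * e1 * h⁻¹ = e2 := by rw [he1d, he2d, ← cj_succ]
  have c2 : h * e2 * h⁻¹ = e3 := by rw [he2d, he3d, ← cj_succ]
  have cinj : ∀ y z : G, h * y * h⁻¹ = h * z * h⁻¹ → y = z := fun y z hyz =>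
    mul_left_cancel (mul_right_cancel hyz)
  have cm : ∀ y z : G, h * (y * z) * h⁻¹ = (h * y * h⁻¹) * (h * z * h⁻¹) := fun y z => by group
  have comm : ∀ y ∈ E, ∀ z ∈ E, y * z = z * y := fun y hy z hz => B.mul_comm hy hz
  have sq := B.sq
  -- distinctness
  have n01 : e1 ≠ e := by
    intro hc
    have := hsmall {e} (by simp) (by
      intro y hy
      rw [Finset.mem_singleton] at hy
      rw [hy, c0, hc]; simp)
    simp at this
  have n02 : e2 ≠ e := by
    intro hc
    have := hsmall {e, e1} (by simp) (by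
      intro y hy
      rw [Finset.mem_insert, Finset.mem_singleton] at hy
      rcases hy with rfl | rfl
      · rw [c0]; simp
      · rw [c1, hc]; simp)
    have h3 := Finset.card_le_two (a := e) (b := e1)
    omega
  have n012 : e2 ≠ e * e1 := by
    intro hc
    have := hsmall {e, e1, e * e1} (by simp) (by
      intro y hy
      simp only [Finset.mem_insert, Finset.mem_singleton] at hy
      rcases hy with rfl | rfl | rfl
      · rw [c0]; simp
      · rw [c1, hc]; simp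
      · rw [cm, c0, c1, hc, comm e he e1 m1, ← mul_assoc, sq e1 m1, one_mul]; simp)
    have h3 := Finset.card_le_three (a := e) (b := e1) (c := e * e1)
    omega
  have n12 : e2 ≠ e1 := fun hc => n01 (cinj _ _ (by rw [c0, c1, hc]))
  -- the closure `{1, e, e1, e e1, e2, e e2, e1 e2, e e1 e2}`
  have hne1 : e1 ≠ 1 := fun hc => he1 (by
    have : h * e * h⁻¹ = h * 1 * h⁻¹ := by rw [c0, hc]; group
    exact cinj _ _ this)
  have hne2 : e2 ≠ 1 := fun hc => hne1 (by
    have : h * e1 * h⁻¹ = h * 1 * h⁻¹ := by rw [c1, hc]; group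
    exact cinj _ _ this)
  have hne3 : e3 ≠ 1 := fun hc => hne2 (by
    have : h * e2 * h⁻¹ = h * 1 * h⁻¹ := by rw [c2, hc]; group
    exact cinj _ _ this)
  have hall : e3 ∈ ({1, e, e1, e * e1, e2, e * e2, e1 * e2, e * e1 * e2} : Finset G) := by
    -- the eight elements are distinct, and lie in `E`
    set s : Finset G := {1, e, e1, e * e1, e2, e * e2, e1 * e2, e * e1 * e2} with hs
    have hsE : (s : Set G) ⊆ (E : Set G) := by
      intro y hy
      rw [hs] at hy
      simp only [Finset.coe_insert, Finset.coe_singleton, Set.mem_insert_iff, Set.mem_singleton_iff] at hy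
      rcases hy with rfl | rfl | rfl | rfl | rfl | rfl | rfl | rfl
      · exact E.one_mem
      · exact he
      · exact m1
      · exact E.mul_mem he m1
      · exact m2
      · exact E.mul_mem he m2
      · exact E.mul_mem m1 m2
      · exact E.mul_mem (E.mul_mem he m1) m2
    have hcard : s.card = 8 := by
      have i1 : e⁻¹ = e := B.inv_eq he
      have i2 : e1⁻¹ = e1 := B.inv_eq m1
      have i3 : e2⁻¹ = e2 := B.inv_eq m2
      have e_e1 : e * e1 ≠ 1 := fun hc => n01 (by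
        rw [mul_eq_one_iff_inv_eq, i1] at hc; exact hc.symm)
      have e_e2 : e * e2 ≠ 1 := fun hc => n02 (by
        rw [mul_eq_one_iff_inv_eq, i1] at hc; exact hc.symm)
      have e1_e2 : e1 * e2 ≠ 1 := fun hc => n12 (by
        rw [mul_eq_one_iff_inv_eq, i2] at hc; exact hc.symm)
      have e_e1_e2 : e * e1 * e2 ≠ 1 := fun hc => n012 (by
        have h1 := (mul_eq_one_iff_inv_eq.1 hc)
        rw [B.inv_eq (E.mul_mem he m1)] at h1; exact h1.symm)
      have key : ∀ y ∈ E, ∀ z ∈ E, y * z ≠ 1 → y ≠ z := by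
        intro y hy z hz hyz hc
        exact hyz (by rw [hc]; exact sq z hz)
      have E3 : ∀ {y}, y ∈ E → y * y = 1 := fun {y} hy => sq y hy
      rw [hs]
      have p01 := E.mul_mem he m1
      have p02 := E.mul_mem he m2
      have p12 := E.mul_mem m1 m2
      have p012 := E.mul_mem (E.mul_mem he m1) m2
      -- products
      have q1 : e * (e * e1) = e1 := by rw [← mul_assoc, sq e he, one_mul]
      have q2 : e1 * (e * e1) = e := by rw [comm e he e1 m1, ← mul_assoc, sq e1 m1, one_mul]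
      have q3 : e * (e * e2) = e2 := by rw [← mul_assoc, sq e he, one_mul]
      have q4 : e2 * (e * e2) = e := by rw [comm e he e2 m2, ← mul_assoc, sq e2 m2, one_mul]
      have q5 : e1 * (e1 * e2) = e2 := by rw [← mul_assoc, sq e1 m1, one_mul]
      have q6 : e2 * (e1 * e2) = e1 := by rw [comm e1 m1 e2 m2, ← mul_assoc, sq e2 m2, one_mul]
      have q7 : e * (e * e1 * e2) = e1 * e2 := by
        rw [mul_assoc e e1 e2, ← mul_assoc, sq e he, one_mul]
      have q8 : e1 * (e * e1 * e2) = e * e2 := by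
        rw [← mul_assoc, q2]
      have q9 : e2 * (e * e1 * e2) = e * e1 := by
        rw [comm (e * e1) p01 e2 m2, ← mul_assoc, sq e2 m2, one_mul]
      have r1 : e * (e1 * e2) = e * e1 * e2 := by group
      have r2 : e1 * (e * e2) = e * e1 * e2 := by rw [← mul_assoc, comm e1 m1 e he]
      have r3 : e2 * (e * e1) = e * e1 * e2 := by rw [comm e2 m2 _ p01]
      have r4 : e * e1 * (e * e2) = e1 * e2 := by
        rw [comm e he e1 m1, mul_assoc, ← mul_assoc e e e2, sq e he, one_mul]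
      have r5 : e * e1 * (e1 * e2) = e * e2 := by
        rw [mul_assoc, ← mul_assoc e1 e1 e2, sq e1 m1, one_mul]
      have r6 : e * e1 * (e * e1 * e2) = e2 := by
        rw [← mul_assoc, sq _ p01, one_mul]
      have r7 : e * e2 * (e1 * e2) = e * e1 := by
        rw [comm e1 m1 e2 m2, mul_assoc, ← mul_assoc e2 e2 e1, sq e2 m2, one_mul]
      have r8 : e * e2 * (e * e1 * e2) = e1 := by
        rw [comm (e * e2) p02 _ p012]
        calc e * e1 * e2 * (e * e2) = (e * e1) * (e2 * (e * e2)) := by group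
          _ = e1 := by rw [q4, comm e he e1 m1, mul_assoc, sq e he, mul_one]
      have r9 : e1 * e2 * (e * e1 * e2) = e := by
        rw [comm (e1 * e2) p12 _ p012]
        calc e * e1 * e2 * (e1 * e2) = (e * e1) * (e2 * (e1 * e2)) := by group
          _ = e := by rw [q6, mul_assoc, sq e1 m1, mul_one]
      rw [Finset.card_insert_of_notMem, Finset.card_insert_of_notMem, Finset.card_insert_of_notMem,
        Finset.card_insert_of_notMem, Finset.card_insert_of_notMem, Finset.card_insert_of_notMem,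
        Finset.card_insert_of_notMem, Finset.card_singleton]
      · simp only [Finset.mem_singleton]
        exact key _ p12 _ p012 (by rw [r9]; exact he1)
      · simp only [Finset.mem_insert, Finset.mem_singleton, not_or]
        exact ⟨key _ p02 _ p12 (by rw [r7]; exact e_e1), key _ p02 _ p012 (by rw [r8]; exact hne1)⟩
      · simp only [Finset.mem_insert, Finset.mem_singleton, not_or]
        exact ⟨key _ m2 _ p02 (by rw [q4]; exact he1), key _ m2 _ p12 (by rw [q6]; exact hne1),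
          key _ m2 _ p012 (by rw [q9]; exact e_e1)⟩
      · simp only [Finset.mem_insert, Finset.mem_singleton, not_or]
        exact ⟨key _ p01 _ m2 e_e1_e2, key _ p01 _ p02 (by rw [r4]; exact e1_e2),
          key _ p01 _ p12 (by rw [r5]; exact e_e2), key _ p01 _ p012 (by rw [r6]; exact hne2)⟩
      · simp only [Finset.mem_insert, Finset.mem_singleton, not_or]
        exact ⟨key _ m1 _ p01 (by rw [q2]; exact he1), key _ m1 _ m2 e1_e2,
          key _ m1 _ p02 (by rw [r2]; exact e_e1_e2), key _ m1 _ p12 (by rw [q5]; exact hne2),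
          key _ m1 _ p012 (by rw [q8]; exact e_e2)⟩
      · simp only [Finset.mem_insert, Finset.mem_singleton, not_or]
        exact ⟨key _ he _ m1 e_e1, key _ he _ p01 (by rw [q1]; exact hne1), key _ he _ m2 e_e2,
          key _ he _ p02 (by rw [q3]; exact hne2), key _ he _ p12 (by rw [r1]; exact e_e1_e2),
          key _ he _ p012 (by rw [q7]; exact e1_e2)⟩
      · simp only [Finset.mem_insert, Finset.mem_singleton, not_or]
        exact ⟨he1.symm, hne1.symm, e_e1.symm, hne2.symm, e_e2.symm, e1_e2.symm, e_e1_e2.symm⟩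
    have hfin : (E : Set G).Finite := Nat.finite_of_card_ne_zero (by
      show Nat.card E ≠ 0
      rw [B.card]; norm_num)
    have h3 : (E : Set G).ncard = 8 := B.card
    have h7 : (s : Set G) = (E : Set G) := by
      apply Set.eq_of_subset_of_ncard_le hsE _ hfin
      rw [h3, Set.ncard_coe_finset, hcard]
    have h8 : e3 ∈ (s : Set G) := by rw [h7]; exact m3
    exact h8
  have hrel : ∃ a : ℕ, (a = 1 ∨ a = 2) ∧ cj h 3 e = cj h a e * e := by
    simp only [Finset.mem_insert, Finset.mem_singleton] at hall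
    rcases hall with hc | hc | hc | hc | hc | hc | hc | hc
    · exact absurd hc hne3
    · -- e3 = e
      exfalso
      have := hsmall {e, e1, e2} (by simp) (by
        intro y hy
        simp only [Finset.mem_insert, Finset.mem_singleton] at hy
        rcases hy with rfl | rfl | rfl
        · rw [c0]; simp
        · rw [c1]; simp
        · rw [c2, hc]; simp)
      have h3 := Finset.card_le_three (a := e) (b := e1) (c := e2)
      omega
    · exact absurd (cinj _ _ (by rw [c2, c0, hc])) n02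
    · exact ⟨1, Or.inl rfl, by rw [← he3d, ← he1d, hc]; exact comm e he e1 m1⟩
    · exact absurd (cinj _ _ (by rw [c2, c1, hc])) n12
    · exact ⟨2, Or.inr rfl, by rw [← he3d, ← he2d, hc]; exact comm e he e2 m2⟩
    · exfalso
      apply n012
      apply cinj
      rw [c2, cm, c0, c1, hc]
    · exfalso
      have := hsmall {e, e1, e2, e * e1 * e2} (by simp) (by
        intro y hy
        simp only [Finset.mem_insert, Finset.mem_singleton] at hy
        rcases hy with rfl | rfl | rfl | rfl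
        · rw [c0]; simp
        · rw [c1]; simp
        · rw [c2, hc]; simp
        · rw [cm, cm, c0, c1, c2, hc]
          have h1 : e1 * e2 * (e * e1 * e2) = e := by
            rw [comm (e1 * e2) (E.mul_mem m1 m2) _ (E.mul_mem (E.mul_mem he m1) m2)]
            calc e * e1 * e2 * (e1 * e2) = (e * e1) * (e2 * (e1 * e2)) := by group
              _ = e := by
                rw [comm e1 m1 e2 m2, ← mul_assoc e2 e2, sq e2 m2, one_mul, mul_assoc, sq e1 m1, mul_one]
          rw [h1]; simp)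
      have h3 := Finset.card_le_four (a := e) (b := e1) (c := e2) (d := e * e1 * e2)
      omega
  obtain ⟨a, ha, hae⟩ := hrel
  refine ⟨a, ha, fun b hb => ?_⟩
  by_cases hb1 : b = 1
  · rw [hb1, cj_one, cj_one, mul_one]
  obtain ⟨n, hn⟩ := htr e he b hb he1 hb1
  have hn' : cj h n e = b := hn
  rw [← hn', cj_cj, cj_cj, show 3 + n = n + 3 by ring, show a + n = n + a by ring, ← cj_cj, hae, cj_mul,
    cj_cj]

/-- The data for Lemma L: a subgroup `V` with `h³ = h^a + 1` on `V / U`, `h` transitive on `(V / U)#`. -/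
structure Ext (h : G) (U V : Subgroup G) (a : ℕ) : Prop where
  ha : a = 1 ∨ a = 2
  hV : ∀ v ∈ V, h * v * h⁻¹ ∈ V
  rel : ∀ v ∈ V, cj h 3 v * cj h a v * v ∈ U
  trans : ∀ v ∈ V, ∀ w ∈ V, v ∉ U → w ∉ U → ∃ n : ℕ, ∃ u ∈ U, w = cj h n v * u

/-- An alternating bimultiplicative `h`-equivariant map. -/
structure Form (h : G) (E U V : Subgroup G) (β : G → G → G) : Prop where
  mem : ∀ v ∈ V, ∀ w ∈ V, β v w ∈ E
  mul_left : ∀ v ∈ V, ∀ v' ∈ V, ∀ w ∈ V, β (v * v') w = β v w * β v' w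
  mul_right : ∀ v ∈ V, ∀ w ∈ V, ∀ w' ∈ V, β v (w * w') = β v w * β v w'
  alt : ∀ v ∈ V, β v v = 1
  zero_left : ∀ u ∈ U, ∀ v ∈ V, β u v = 1
  zero_right : ∀ v ∈ V, ∀ u ∈ U, β v u = 1
  equiv : ∀ v ∈ V, ∀ w ∈ V, β (h * v * h⁻¹) (h * w * h⁻¹) = h * β v w * h⁻¹

/-- Lemma L. -/
theorem Form.eq_one {a : ℕ} {V : Subgroup G} {β : G → G → G} (B : Base x E) (hE : ∀ e ∈ E, h * e * h⁻¹ ∈ E)
    (relE : ∀ e ∈ E, cj h 3 e = cj h a e * e) (hUV : U ≤ V) (X : Ext h U V a) (F : Form h E U V β) :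
    ∀ v ∈ V, ∀ w ∈ V, β v w = 1 := by
  have sq := B.sq
  have comm : ∀ y ∈ E, ∀ z ∈ E, y * z = z * y := fun y hy z hz => B.mul_comm hy hz
  -- symmetry
  have symm : ∀ v ∈ V, ∀ w ∈ V, β v w = β w v := by
    intro v hv w hw
    have h1 := F.alt _ (V.mul_mem hv hw)
    rw [F.mul_left v hv w hw _ (V.mul_mem hv hw), F.mul_right v hv v hv w hw,
      F.mul_right w hw v hv w hw, F.alt v hv, F.alt w hw, one_mul, mul_one] at h1
    rw [mul_eq_one_iff_inv_eq, B.inv_eq (F.mem v hv w hw)] at h1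
    exact h1
  have hcV : ∀ (n : ℕ), ∀ v ∈ V, cj h n v ∈ V := fun n v hv => cj_mem X.hV n hv
  have equiv : ∀ (n : ℕ), ∀ v ∈ V, ∀ w ∈ V, β (cj h n v) (cj h n w) = cj h n (β v w) := by
    intro n
    induction n with
    | zero => intro v _ w _; rw [cj_zero, cj_zero, cj_zero]
    | succ n ih =>
      intro v hv w hw
      rw [cj_succ, cj_succ, cj_succ, F.equiv _ (hcV n v hv) _ (hcV n w hw), ih v hv w hw]
  -- the relation
  have rel : ∀ v ∈ V, ∀ w ∈ V, ∀ n : ℕ, β w (cj h (n + 3) v) = β w (cj h (n + a) v) * β w (cj h n v) := by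
    intro v hv w hw n
    have h1 := X.rel _ (hcV n v hv)
    rw [cj_cj, cj_cj, show 3 + n = n + 3 by ring, show a + n = n + a by ring] at h1
    have h2 := F.zero_right w hw _ h1
    rw [F.mul_right w hw _ (V.mul_mem (hcV _ v hv) (hcV _ v hv)) _ (hcV _ v hv),
      F.mul_right w hw _ (hcV _ v hv) _ (hcV _ v hv), mul_assoc, mul_eq_one_iff_eq_inv] at h2
    rw [h2]
    exact B.inv_eq (E.mul_mem (F.mem w hw _ (hcV _ v hv)) (F.mem w hw _ (hcV _ v hv)))
  -- main computation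
  have main : ∀ v ∈ V, β v (cj h 1 v) = 1 ∧ β v (cj h 2 v) = 1 := by
    intro v hv
    set c := β v (cj h 1 v) with hc
    set d := β v (cj h 2 v) with hd
    have v1 := hcV 1 v hv
    have v2 := hcV 2 v hv
    have v3 := hcV 3 v hv
    have hcE : c ∈ E := F.mem v hv _ v1
    have hdE : d ∈ E := F.mem v hv _ v2
    have hcn : ∀ n, cj h n c ∈ E := fun n => cj_mem hE n hcE
    have b12 : β (cj h 1 v) (cj h 2 v) = cj h 1 c := by
      have := equiv 1 v hv _ v1
      rwa [cj_cj] at this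
    have b23 : β (cj h 2 v) (cj h 3 v) = cj h 2 c := by
      have := equiv 2 v hv _ v1
      rwa [cj_cj] at this
    have b13 : β (cj h 1 v) (cj h 3 v) = cj h 1 d := by
      have := equiv 1 v hv _ v2
      rwa [cj_cj] at this
    have b10 : β (cj h 1 v) v = c := (symm _ v1 v hv)
    have b20 : β (cj h 2 v) v = d := (symm _ v2 v hv)
    have r1 := rel v hv _ v1 0
    have r2 := rel v hv _ v2 0
    rw [zero_add, zero_add, cj_zero, b13, b10] at r1
    rw [zero_add, zero_add, cj_zero, b23, b20] at r2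
    have rc := relE c hcE
    rcases X.ha with rfl | rfl
    · -- a = 1
      rw [F.alt _ v1, one_mul] at r1
      rw [symm _ v2 _ v1, b12] at r2
      -- r1 : cj h 1 d = c, r2 : cj h 2 c = cj h 1 c * d, rc : cj h 3 c = cj h 1 c * c
      have h3 : cj h 3 c = cj h 2 c * c := by
        have := congrArg (cj h 1) r2
        rw [cj_cj, cj_mul, cj_cj, r1] at this
        exact this
      rw [rc] at h3
      have h4 : cj h 1 c = cj h 2 c := mul_right_cancel h3
      rw [← h4] at r2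
      have h5 : d = 1 := by simpa using r2.symm
      refine ⟨?_, h5⟩
      rw [← r1, h5, cj_one]
    · -- a = 2
      rw [b12] at r1
      rw [F.alt _ v2, one_mul] at r2
      -- r1 : cj h 1 d = cj h 1 c * c, r2 : cj h 2 c = d, rc : cj h 3 c = cj h 2 c * c
      rw [← r2, cj_cj] at r1
      rw [show 1 + 2 = 3 by norm_num, rc] at r1
      have h4 : cj h 2 c = cj h 1 c := mul_right_cancel r1
      have h5 : cj h 1 c = c := cj_injective h 1 (by rw [cj_cj]; exact h4)
      have h6 : cj h 3 c = 1 := by rw [rc, h4, h5, sq c hcE]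
      have h7 : c = 1 := cj_eq_one h 3 h6
      exact ⟨h7, by rw [← r2, h7, cj_one]⟩
  have all : ∀ v ∈ V, ∀ n : ℕ, β v (cj h n v) = 1 := by
    intro v hv n
    induction n using Nat.strong_induction_on with
    | _ n ih =>
      by_cases h0 : n < 3
      · interval_cases n
        · rw [cj_zero]; exact F.alt v hv
        · exact (main v hv).1
        · exact (main v hv).2
      · obtain ⟨m, rfl⟩ : ∃ m, n = m + 3 := ⟨n - 3, by omega⟩
        have ha3 : a < 3 := by rcases X.ha with rfl | rfl <;> norm_num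
        rw [rel v hv v hv m, ih (m + a) (by omega), ih m (by omega), one_mul]
  intro v hv w hw
  by_cases hvU : v ∈ U
  · exact F.zero_left v hvU w hw
  by_cases hwU : w ∈ U
  · exact F.zero_right v hv w hwU
  obtain ⟨n, u, hu, rfl⟩ := X.trans v hv w hw hvU hwU
  rw [F.mul_right v hv _ (hcV n v hv) u (hUV hu), all v hv n, F.zero_right v hv u hu, one_mul]

end Cfsg.Agent.GH.E
end

-- part: GH/ETowerA
section
/-!
# GH-E: case (a) of the tower, construction of `P` and of `V`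
-/

set_option autoImplicit false

namespace Cfsg.Agent.GH.E

variable {G : Type*} [Group G] {x h : G} {E U : Subgroup G} {k : ℕ}

/-- `P` is `h`-invariant and centralises `E`. -/
structure TopA (x : G) (E U P : Subgroup G) (h : G) : Prop where
  top : Top x U P
  level : Level x E U h
  hP : ∀ p ∈ P, h * p * h⁻¹ ∈ P
  cent : ∀ p ∈ P, ∀ e ∈ E, p * e = e * p

theorem exists_pow_eq_inv [Finite G] (h : G) : ∃ n : ℕ, h ^ n = h⁻¹ := by
  have h1 : h⁻¹ ∈ Submonoid.powers h := by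
    rw [mem_powers_iff_mem_zpowers]
    exact Subgroup.inv_mem _ (Subgroup.mem_zpowers h)
  exact Submonoid.mem_powers_iff _ _ |>.1 h1

theorem Level.hE_inv [Finite G] (B : Base x E) (L : Level x E U h) {e : G} (he : e ∈ E) :
    h⁻¹ * e * h ∈ E := by
  obtain ⟨n, hn⟩ := exists_pow_eq_inv h
  have h1 := L.hE_pow B n he
  rwa [hn, inv_inv] at h1

theorem exists_conj_le [Finite G] {Y P Q : Subgroup G} (hPY : P ≤ Y) (hQY : Q ≤ Y) (hP : IsPGroup 2 P)
    (hQ : IsPGroup 2 Q) (hmax : ∀ R : Subgroup G, IsPGroup 2 R → P ≤ R → R ≤ Y → R = P) :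
    ∃ y ∈ Y, ∀ q ∈ Q, y * q * y⁻¹ ∈ P := by
  have : Fact (Nat.Prime 2) := ⟨Nat.prime_two⟩
  have hP' : IsPGroup 2 (P.subgroupOf Y) := hP.comap_of_injective Y.subtype Y.subtype_injective
  have hQ' : IsPGroup 2 (Q.subgroupOf Y) := hQ.comap_of_injective Y.subtype Y.subtype_injective
  obtain ⟨S, hS⟩ := hP'.exists_le_sylow
  obtain ⟨S', hS'⟩ := hQ'.exists_le_sylow
  have h1 : (S : Subgroup Y).map Y.subtype = P := by
    apply hmax
    · exact S.isPGroup'.map _
    · intro p hp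
      exact ⟨⟨p, hPY hp⟩, hS (Subgroup.mem_subgroupOf.2 hp), rfl⟩
    · rintro _ ⟨g, _, rfl⟩; exact g.2
  obtain ⟨y, hy⟩ := MulAction.exists_smul_eq Y S' S
  refine ⟨y, y.2, fun q hq => ?_⟩
  have h2 : (⟨q, hQY hq⟩ : Y) ∈ (S' : Subgroup Y) := hS' (Subgroup.mem_subgroupOf.2 hq)
  have h3 : y * ⟨q, hQY hq⟩ * y⁻¹ ∈ ((y • S' : Sylow 2 Y) : Subgroup Y) := by
    rw [Sylow.coe_subgroup_smul]
    exact Subgroup.smul_mem_pointwise_smul _ (MulAut.conj y) _ h2
  rw [hy] at h3
  rw [← h1]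
  exact ⟨_, h3, rfl⟩

/-- Case (a): construction of `P` and of the new `h`. -/
theorem Level.exists_topA [Finite G] (B : Base x E) (L : Level x E U h) (X : Expo U k) (hN : NormU x U)
    {g : G} (hg : g ∈ Subgroup.normalizer (rr x U : Set G)) (hgE : ∀ e ∈ E, g * e = e * g)
    (hg1 : (x * (g * x * g⁻¹)) ^ 2 ^ k ≠ 1) : ∃ (P : Subgroup G) (h' : G), TopA x E U P h' := by
  set Y : Subgroup G := Subgroup.normalizer (rr x U : Set G) ⊓ Subgroup.centralizer (E : Set G) with hY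
  have hRY : rr x U ≤ Y := le_inf (L.le_normalizer' B) (fun r hr =>
    Subgroup.mem_centralizer_iff.2 (fun e he => L.E_comm B he hr))
  have hYN : Y ≤ Subgroup.normalizer (rr x U : Set G) := inf_le_left
  have hYE : ∀ y ∈ Y, ∀ e ∈ E, y * e = e * y := fun y hy e he =>
    (Subgroup.mem_centralizer_iff.1 hy.2 e he).symm
  have hhN := L.h_mem_normalizer B
  have hh : ∀ y ∈ Y, h * y * h⁻¹ ∈ Y := by
    intro y hy
    refine ⟨Subgroup.mul_mem _ (Subgroup.mul_mem _ hhN hy.1) (Subgroup.inv_mem _ hhN), ?_⟩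
    show h * y * h⁻¹ ∈ Subgroup.centralizer (E : Set G)
    rw [Subgroup.mem_centralizer_iff]
    intro e he
    have h1 := hYE y hy _ (L.hE_inv B he)
    calc e * (h * y * h⁻¹) = h * ((h⁻¹ * e * h) * y) * h⁻¹ := by group
      _ = h * (y * (h⁻¹ * e * h)) * h⁻¹ := by rw [h1]
      _ = h * y * h⁻¹ * e := by group
  have hgY : g ∈ Y := ⟨hg, Subgroup.mem_centralizer_iff.2 (fun e he => (hgE e he).symm)⟩
  have htr := L.transOn B X hN ((le_rr x U).trans hRY) hYN hh hgY hg1
  obtain ⟨P, T, hPY⟩ := L.exists_top B hN hRY hYN htr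
  -- conjugate `P` by `h`
  have hQ : IsPGroup 2 (P.map (MulAut.conj h).toMonoidHom) := T.pgroup.map _
  have hQY : P.map (MulAut.conj h).toMonoidHom ≤ Y := by
    rintro _ ⟨p, hp, rfl⟩
    simp only [MulEquiv.coe_toMonoidHom, MulAut.conj_apply]
    exact hh p (hPY hp)
  obtain ⟨y, hy, hyP⟩ := exists_conj_le hPY hQY T.pgroup hQ
    (fun R hR hPR hRY => T.syl R hR hPR (hRY.trans hYN))
  have hyP' : ∀ p ∈ P, (y * h) * p * (y * h)⁻¹ ∈ P := by
    intro p hp
    have h1 := hyP _ ⟨p, hp, rfl⟩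
    simp only [MulEquiv.coe_toMonoidHom, MulAut.conj_apply] at h1
    have h2 : y * (h * p * h⁻¹) * y⁻¹ = (y * h) * p * (y * h)⁻¹ := by group
    rwa [h2] at h1
  have hyN : y ∈ Subgroup.normalizer (rr x U : Set G) := hYN hy
  have hd := L.dd_mem B hN hyN
  obtain ⟨p0, hp0, hp0u⟩ := T.trans _ hd
  rw [← mul_assoc x x, B.hx, one_mul] at hp0u
  have hp0Y := hPY hp0
  have hp0N := hYN hp0Y
  -- the new element
  have hxy : (y * h) * x * (y * h)⁻¹ = y * x * y⁻¹ := by
    calc (y * h) * x * (y * h)⁻¹ = y * (h * x) * h⁻¹ * y⁻¹ := by group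
      _ = y * (x * h) * h⁻¹ * y⁻¹ := by rw [L.hx]
      _ = y * x * y⁻¹ := by group
  have hx' : (p0⁻¹ * y * h) * x = x * (p0⁻¹ * y * h) := by
    have h1 : (p0⁻¹ * y * h) * x * (p0⁻¹ * y * h)⁻¹ = x := by
      calc (p0⁻¹ * y * h) * x * (p0⁻¹ * y * h)⁻¹ = p0⁻¹ * ((y * h) * x * (y * h)⁻¹) * p0 := by group
        _ = p0⁻¹ * (p0 * x * p0⁻¹) * p0 := by rw [hxy, hp0u]
        _ = x := by group
    rwa [mul_inv_eq_iff_eq_mul] at h1
  have hact : ∀ e ∈ E, (p0⁻¹ * y * h) * e * (p0⁻¹ * y * h)⁻¹ = h * e * h⁻¹ := by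
    intro e he
    have h1 : h * e * h⁻¹ ∈ E := L.hE B he
    have h2 := hYE y hy _ h1
    have h3 := hYE p0 hp0Y _ h1
    calc (p0⁻¹ * y * h) * e * (p0⁻¹ * y * h)⁻¹ = p0⁻¹ * (y * (h * e * h⁻¹)) * y⁻¹ * p0 := by group
      _ = p0⁻¹ * ((h * e * h⁻¹) * y) * y⁻¹ * p0 := by rw [h2]
      _ = p0⁻¹ * ((h * e * h⁻¹) * p0) := by group
      _ = p0⁻¹ * (p0 * (h * e * h⁻¹)) := by rw [h3]
      _ = h * e * h⁻¹ := by group
  have hactn : ∀ n : ℕ, ∀ e ∈ E, cj (p0⁻¹ * y * h) n e = cj h n e := by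
    intro n
    induction n with
    | zero => intro e _; rw [cj_zero, cj_zero]
    | succ n ih =>
      intro e he
      rw [cj_succ, cj_succ, ih e he]
      exact hact _ (cj_mem (fun e he => L.hE B he) n he)
  refine ⟨P, p0⁻¹ * y * h, ⟨T, ?_, ?_, ?_⟩⟩
  · refine ⟨L.le, L.comm, L.pgroup, L.inv, L.omega, hx', ?_, ?_⟩
    · intro u hu
      have h1 : (p0⁻¹ * y * h) * u * (p0⁻¹ * y * h)⁻¹
          = (p0⁻¹ * y) * (h * u * h⁻¹) * (p0⁻¹ * y)⁻¹ := by group
      rw [h1]
      exact hN _ (Subgroup.mul_mem _ (Subgroup.inv_mem _ hp0N) hyN) _ (L.hU u hu)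
    · intro a ha b hb ha1 hb1
      obtain ⟨n, hn⟩ := L.trans a ha b hb ha1 hb1
      refine ⟨n, ?_⟩
      have := hactn n a ha
      unfold cj at this
      rw [this, hn]
  · intro p hp
    have h1 : (p0⁻¹ * y * h) * p * (p0⁻¹ * y * h)⁻¹ = p0⁻¹ * ((y * h) * p * (y * h)⁻¹) * p0 := by group
    rw [h1]
    exact P.mul_mem (P.mul_mem (P.inv_mem hp0) (hyP' p hp)) hp0
  · intro p hp e he
    exact hYE p (hPY hp) e he

/-! ### The map `φ : P → E` -/

/-- `φ(g) = [x, g] ^ 2 ^ k`. -/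
def phi (x : G) (k : ℕ) (g : G) : G := (x * (g * x * g⁻¹)) ^ 2 ^ k

section

variable {P : Subgroup G}

theorem TopA.normU (A : TopA x E U P h) {p : G} (hp : p ∈ P) {u : G} (hu : u ∈ U) : p * u * p⁻¹ ∈ U :=
  A.top.normU p (A.top.norm hp) u hu

theorem TopA.dd_mem (B : Base x E) (A : TopA x E U P h) {p : G} (hp : p ∈ P) :
    x * (p * x * p⁻¹) ∈ U := A.level.dd_mem B A.top.normU (A.top.norm hp)

theorem TopA.phi_mem (B : Base x E) (A : TopA x E U P h) (X : Expo U k) {p : G} (hp : p ∈ P) :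
    phi x k p ∈ E := A.level.pi_mem X (A.dd_mem B hp)

/-- `p` centralises `E`, hence acts trivially on `2 ^ k`-th powers. -/
theorem TopA.pow_conj (A : TopA x E U P h) (X : Expo U k) {p u : G} (hp : p ∈ P) (hu : u ∈ U) :
    (p * u * p⁻¹) ^ 2 ^ k = u ^ 2 ^ k := by
  rw [conj_pow', A.cent p hp _ (A.level.pi_mem X hu), mul_inv_cancel_right]

theorem TopA.phi_mul (B : Base x E) (A : TopA x E U P h) (X : Expo U k) {p q : G} (hp : p ∈ P)
    (hq : q ∈ P) : phi x k (p * q) = phi x k p * phi x k q := by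
  have h1 := A.dd_mem B hp
  have h2 := A.dd_mem B hq
  have h3 : x * (p * q * x * (p * q)⁻¹) = x * (p * x * p⁻¹) * (p * (x * (q * x * q⁻¹)) * p⁻¹) := by
    calc x * (p * q * x * (p * q)⁻¹) = x * (p * (q * x * q⁻¹) * p⁻¹) := by group
      _ = x * (p * (x * x * (q * x * q⁻¹)) * p⁻¹) := by rw [B.hx, one_mul]
      _ = x * (p * x * p⁻¹) * (p * (x * (q * x * q⁻¹)) * p⁻¹) := by group
  unfold phi
  rw [h3, A.level.mul_pow h1 (A.normU hp h2), A.pow_conj X hp h2]

theorem TopA.phi_x (B : Base x E) : phi x k x = 1 := by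
  unfold phi
  have h1 : x * (x * x * x⁻¹) = 1 := by rw [mul_inv_cancel_right, B.hx]
  rw [h1, one_pow]

theorem TopA.phi_U (B : Base x E) (L : Level x E U h) (X : Expo U k) {u : G} (hu : u ∈ U) :
    phi x k u = 1 := by
  unfold phi
  have h1 : x * (u * x * u⁻¹) = u⁻¹ * u⁻¹ := by
    rw [L.mul_x B hu]
    calc x * (x * u⁻¹ * u⁻¹) = (x * x) * (u⁻¹ * u⁻¹) := by group
      _ = u⁻¹ * u⁻¹ := by rw [B.hx, one_mul]
  rw [h1]
  exact sq_pow_eq_one X (U.inv_mem hu)

theorem TopA.U_le (A : TopA x E U P h) : U ≤ P := (le_rr x U).trans A.top.le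

theorem TopA.x_mem (A : TopA x E U P h) : x ∈ P := A.top.le (self_mem_rr x U)

theorem TopA.rr_of_phi [Finite G] (B : Base x E) (A : TopA x E U P h) (X : Expo U k) {p : G}
    (hp : p ∈ P) (h1 : phi x k p = 1) : p ∈ rr x U :=
  A.level.eq_rr B X A.top.normU A.top.pgroup A.top.le A.top.norm hp h1

theorem TopA.phi_surj (B : Base x E) (A : TopA x E U P h) (X : Expo U k) {e : G} (he : e ∈ E) :
    ∃ p ∈ P, phi x k p = e := by
  obtain ⟨u, hu, hue⟩ := A.level.pi_surj X he
  obtain ⟨p, hp, hpu⟩ := A.top.trans u hu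
  refine ⟨p, hp, ?_⟩
  unfold phi
  rw [hpu, ← mul_assoc, B.hx, one_mul, hue]

theorem TopA.phi_conj (A : TopA x E U P h) (p : G) : phi x k (h * p * h⁻¹) = h * phi x k p * h⁻¹ := by
  unfold phi
  rw [← conj_pow']
  congr 1
  have h1 := A.level.hx
  have h2 : h⁻¹ * x = x * h⁻¹ := by
    rw [inv_mul_eq_iff_eq_mul, ← mul_assoc, h1, mul_inv_cancel_right]
  calc x * (h * p * h⁻¹ * x * (h * p * h⁻¹)⁻¹) = x * h * p * (h⁻¹ * x) * h * p⁻¹ * h⁻¹ := by group
    _ = (x * h) * p * (x * h⁻¹) * h * p⁻¹ * h⁻¹ := by rw [h2]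
    _ = (h * x) * p * (x * h⁻¹) * h * p⁻¹ * h⁻¹ := by rw [h1]
    _ = h * (x * (p * x * p⁻¹)) * h⁻¹ := by group

theorem TopA.phi_cj (A : TopA x E U P h) (n : ℕ) (p : G) : phi x k (cj h n p) = cj h n (phi x k p) := by
  induction n with
  | zero => rw [cj_zero, cj_zero]
  | succ n ih => rw [cj_succ, cj_succ, A.phi_conj, ih]

/-- Squares of elements of `P` lie in `U`. -/
theorem TopA.sq_mem [Finite G] (B : Base x E) (A : TopA x E U P h) (X : Expo U k) {p : G} (hp : p ∈ P) :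
    p * p ∈ U := by
  have h1 : phi x k (p * p) = 1 := by
    rw [A.phi_mul B X hp hp]
    exact B.sq _ (A.phi_mem B X hp)
  have h2 := A.rr_of_phi B X (P.mul_mem hp hp) h1
  rcases (A.level.mem_rr B).1 h2 with h3 | h3
  · exact h3
  · exfalso
    obtain ⟨p0, _, hpu⟩ := A.top.trans _ h3
    rw [← mul_assoc x x, B.hx, one_mul] at hpu
    exact B.not_sq (IsPGroup.exists_pow A.top.pgroup hp) p0 hpu.symm

/-- Commutators of elements of `P` lie in `U`. -/
theorem TopA.comm_mem [Finite G] (B : Base x E) (A : TopA x E U P h) (X : Expo U k) {p q : G}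
    (hp : p ∈ P) (hq : q ∈ P) : p * q * p⁻¹ * q⁻¹ ∈ U := by
  have h1 := A.sq_mem B X (P.mul_mem hp hq)
  have h2 := A.sq_mem B X (P.inv_mem hp)
  have h3 := A.sq_mem B X (P.inv_mem hq)
  have h4 := A.normU (P.inv_mem hq) h2
  have h5 : p * q * p⁻¹ * q⁻¹ = (p * q) * (p * q) * (q⁻¹ * (p⁻¹ * p⁻¹) * q⁻¹⁻¹) * (q⁻¹ * q⁻¹) := by group
  rw [h5]
  exact U.mul_mem (U.mul_mem h1 h4) h3

end

end Cfsg.Agent.GH.E
end
end

-- part: GH/Cov/Basis
section
set_option linter.all false
open scoped Cfsg.Agent.FastGrp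

/-!
# `Good16` from four commuting involutions
-/

set_option autoImplicit false

open Subgroup

namespace Cfsg.Agent.GH.Cov.Basis

open Cfsg.Agent.GH.Cov.Sq

variable {X : Type*} [Group X]

/-- `x` or `1` -/
def opt (x : X) (b : Bool) : X := if b then x else 1

theorem opt_xor {x : X} (h : x * x = 1) (a b : Bool) : opt x (a ^^ b) = opt x a * opt x b := by
  cases a <;> cases b <;> simp [opt, h]

theorem opt_comm {x y : X} (h : x * y = y * x) (a b : Bool) : opt x a * opt y b = opt y b * opt x a := by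
  cases a <;> cases b <;> simp [opt, h]

/-- the product of the `e i`, `i` a bit of `m` -/
def word4 (e : Fin 4 → X) (m : ℕ) : X :=
  opt (e 0) (m.testBit 0) * opt (e 1) (m.testBit 1) * opt (e 2) (m.testBit 2) * opt (e 3) (m.testBit 3)

theorem word4_zero (e : Fin 4 → X) : word4 e 0 = 1 := by simp [word4, opt]

theorem word4_xor {e : Fin 4 → X} (h2 : ∀ i, e i * e i = 1) (hc : ∀ i j, e i * e j = e j * e i) (m n : ℕ) :
    word4 e (m ^^^ n) = word4 e m * word4 e n := by
  unfold word4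
  simp only [Nat.testBit_xor]
  rw [opt_xor (h2 0), opt_xor (h2 1), opt_xor (h2 2), opt_xor (h2 3)]
  generalize m.testBit 0 = a0
  generalize m.testBit 1 = a1
  generalize m.testBit 2 = a2
  generalize m.testBit 3 = a3
  generalize n.testBit 0 = b0
  generalize n.testBit 1 = b1
  generalize n.testBit 2 = b2
  generalize n.testBit 3 = b3
  have c01 : Commute (opt (e 0) b0) (opt (e 1) a1) := opt_comm (hc 0 1) _ _
  have c02 : Commute (opt (e 0) b0) (opt (e 2) a2) := opt_comm (hc 0 2) _ _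
  have c03 : Commute (opt (e 0) b0) (opt (e 3) a3) := opt_comm (hc 0 3) _ _
  have c12 : Commute (opt (e 1) b1) (opt (e 2) a2) := opt_comm (hc 1 2) _ _
  have c13 : Commute (opt (e 1) b1) (opt (e 3) a3) := opt_comm (hc 1 3) _ _
  have c23 : Commute (opt (e 2) b2) (opt (e 3) a3) := opt_comm (hc 2 3) _ _
  have h1 : opt (e 0) b0 * (opt (e 1) a1 * opt (e 2) a2 * opt (e 3) a3) =
      (opt (e 1) a1 * opt (e 2) a2 * opt (e 3) a3) * opt (e 0) b0 :=
    ((c01.mul_right c02).mul_right c03).eq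
  have h2' : opt (e 1) b1 * (opt (e 2) a2 * opt (e 3) a3) =
      (opt (e 2) a2 * opt (e 3) a3) * opt (e 1) b1 := (c12.mul_right c13).eq
  calc opt (e 0) a0 * opt (e 0) b0 * (opt (e 1) a1 * opt (e 1) b1) * (opt (e 2) a2 * opt (e 2) b2) *
        (opt (e 3) a3 * opt (e 3) b3)
      = opt (e 0) a0 * opt (e 0) b0 * opt (e 1) a1 * opt (e 1) b1 * opt (e 2) a2 *
          (opt (e 2) b2 * opt (e 3) a3) * opt (e 3) b3 := by group
    _ = opt (e 0) a0 * opt (e 0) b0 * opt (e 1) a1 * (opt (e 1) b1 * (opt (e 2) a2 * opt (e 3) a3)) *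
          opt (e 2) b2 * opt (e 3) b3 := by rw [c23.eq]; group
    _ = opt (e 0) a0 * (opt (e 0) b0 * (opt (e 1) a1 * opt (e 2) a2 * opt (e 3) a3)) *
          opt (e 1) b1 * opt (e 2) b2 * opt (e 3) b3 := by rw [h2']; group
    _ = _ := by rw [h1]; group

theorem Good16.of_basis (e : Fin 4 → X) (h2 : ∀ i, e i * e i = 1) (hc : ∀ i j, e i * e j = e j * e i)
    (h1 : e 0 ≠ 1) (hconj : ∀ m < 16, m ≠ 0 → ∃ g, g * e 0 * g⁻¹ = word4 e m) : Good16 X := by
  have hne : ∀ m < 16, m ≠ 0 → word4 e m ≠ 1 := by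
    intro m hm hm0 hw
    obtain ⟨g, hg⟩ := hconj m hm hm0
    rw [hw] at hg
    exact h1 (conj_eq_one_iff.1 hg)
  let E : Subgroup X :=
    { carrier := {x | ∃ m < 16, x = word4 e m}
      one_mem' := ⟨0, by norm_num, (word4_zero e).symm⟩
      mul_mem' := by
        rintro _ _ ⟨m, hm, rfl⟩ ⟨n, hn, rfl⟩
        exact ⟨m ^^^ n, Nat.xor_lt_two_pow (n := 4) hm hn, (word4_xor h2 hc m n).symm⟩
      inv_mem' := by
        rintro _ ⟨m, hm, rfl⟩
        refine ⟨m, hm, ?_⟩
        apply inv_eq_of_mul_eq_one_right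
        rw [← word4_xor h2 hc, Nat.xor_self, word4_zero] }
  have hinj : ∀ m n, m < 16 → n < 16 → word4 e m = word4 e n → m = n := by
    intro m n hm hn h
    by_contra hmn
    have h3 : m ^^^ n ≠ 0 := fun h0 => hmn (Nat.xor_eq_zero_iff.1 h0)
    apply hne (m ^^^ n) (Nat.xor_lt_two_pow (n := 4) hm hn) h3
    rw [word4_xor h2 hc, h, ← word4_xor h2 hc, Nat.xor_self, word4_zero]
  refine Good16.of_conj E ?_ ?_ ?_
  · have hb : Function.Bijective (fun m : Fin 16 => (⟨word4 e m, m, m.2, rfl⟩ : E)) := by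
      constructor
      · intro m n h
        exact Fin.ext (hinj m n m.2 n.2 (congrArg Subtype.val h))
      · rintro ⟨_, m, hm, rfl⟩
        exact ⟨⟨m, hm⟩, rfl⟩
    rw [← Nat.card_congr (Equiv.ofBijective _ hb), Nat.card_eq_fintype_card, Fintype.card_fin]
  · rintro _ ⟨m, -, rfl⟩
    rw [← word4_xor h2 hc, Nat.xor_self, word4_zero]
  · rintro _ ⟨m, hm, rfl⟩ _ ⟨n, hn, rfl⟩ ha hb
    have hm0 : m ≠ 0 := by rintro rfl; exact ha (word4_zero e)
    have hn0 : n ≠ 0 := by rintro rfl; exact hb (word4_zero e)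
    obtain ⟨g, hg⟩ := hconj m hm hm0
    obtain ⟨k, hk⟩ := hconj n hn hn0
    refine ⟨k * g⁻¹, ?_⟩
    rw [← hg, ← hk]
    group

end Cfsg.Agent.GH.Cov.Basis

private theorem dce_907f31886a9d : _root_.True := by
  try have : _root_.True := by simp only [_root_.Cfsg.Agent.GH.Cov.Basis.opt.eq_1]
  try have : _root_.True := by simp only [_root_.Cfsg.Agent.GH.Cov.Basis.word4.eq_1]
  exact _root_.True.intro
end

-- part: GH/Cov/InstJ3
section
set_option linter.all false
open scoped Cfsg.Agent.FastGrp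

/-!
# `Good16` for `J₃` (GH-COV, rank cut)

Four commuting involutions of `3·J₃`, all 15 products conjugate (words in the generators, checked on tables).
-/

set_option autoImplicit false

open Subgroup

namespace Cfsg.Agent.GH.Cov.InstJ3

open Cfsg.Spor Cfsg.Agent.J3.Core Cfsg.Agent.J3.Tab Cfsg.Agent.J3.Mono Cfsg.Agent.J3.Elts
open Cfsg.Agent.Lib.BitSet Cfsg.Agent.J3.Order Cfsg.Agent.GH.Cov.Sq Cfsg.Agent.GH.Cov.Basis

/-- tables of the letters -/
def ltT : List (List ℕ) := [tA (0, 1), tA (1, 0), tD (0, 1), tD (1, 0), tB (1, 1), tE, tC, tB (2, 0)]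

/-- table of a letter -/
def lT (k : ℕ) : List ℕ := get (tS 0) ltT k

/-- table of a word -/
def evT : List ℕ → List ℕ
  | [] => tS 0
  | k :: w => compT (lT k) (evT w)

/-- the words of the four involutions -/
def words : List (List ℕ) :=
  [[7],
   [4, 1, 6, 1, 7, 1, 1, 6, 1, 1, 4, 4, 4, 4, 4, 4, 4],
   [3, 0, 6, 3, 0, 7, 0, 0, 3, 3, 3, 3, 3, 3, 3, 3, 6, 0, 0, 3, 3, 3, 3, 3, 3, 3, 3],
   [5, 3, 0, 6, 3, 0, 7, 0, 0, 3, 3, 3, 3, 3, 3, 3, 3, 6, 0, 0, 3, 3, 3, 3, 3, 3, 3, 3, 5, 5]]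

/-- the words of the conjugating elements -/
def conjs : List (List ℕ) :=
  [[],
   [],
   [4, 1, 6, 1],
   [4, 0, 6, 0, 0],
   [3, 0, 6, 3, 0],
   [0, 6, 3, 6, 0, 0],
   [4, 0, 6, 4, 3, 6, 3, 1, 0],
   [3, 1, 0, 6, 3, 6, 4, 0],
   [5, 3, 0, 6, 3, 0],
   [0, 6, 5, 3, 6, 0, 0],
   [1, 6, 2, 6, 3, 6, 0],
   [3, 0, 6, 5, 3, 6, 4, 0],
   [0, 6, 3, 1, 6, 0, 0],
   [3, 1, 0, 6, 3, 1, 0],
   [0, 6, 1, 6, 3, 6, 3, 0],
   [3, 0, 6, 3, 4, 1, 6, 0]]

/-- table of `e i` -/
def eT (i : ℕ) : List ℕ := evT (get [] words i)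

/-- table of the conjugating element -/
def cT (m : ℕ) : List ℕ := evT (get [] conjs m)

/-- table or identity -/
def optT (l : List ℕ) (b : Bool) : List ℕ := if b then l else tS 0

/-- the table of `word4 e m` -/
def wT (m : ℕ) : List ℕ :=
  compT (compT (compT (optT (eT 0) (m.testBit 0)) (optT (eT 1) (m.testBit 1)))
    (optT (eT 2) (m.testBit 2))) (optT (eT 3) (m.testBit 3))

theorem chk_words : ∀ i : Fin 4, (get [] words i).all (fun k => Nat.blt k 8) = true := by decide +kernel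

theorem chk_conjs : ∀ m : Fin 16, (get [] conjs m).all (fun k => Nat.blt k 8) = true := by decide +kernel

theorem chk_sq : ∀ i : Fin 4, cols (compT (eT i) (eT i)) = cols (tS 0) := by decide +kernel

theorem chk_comm : ∀ i j : Fin 4, cols (compT (eT i) (eT j)) = cols (compT (eT j) (eT i)) := by
  decide +kernel

theorem chk_conj : ∀ m : Fin 16, m ≠ 0 → cols (compT (cT m) (eT 0)) = cols (compT (wT m) (cT m)) := by
  decide +kernel

theorem chk_ne : ∃ z : F9, (cols (compT (eT 0) (tA (1, 0)))).getD (idx z) 0 ≠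
    (cols (compT (tA (1, 0)) (eT 0))).getD (idx z) 0 := by
  decide +kernel

section

variable {F : Type*} [Field F] {ω : F} (G : Gens F ω)

/-- the letters -/
def lt (k : ℕ) : threeJ3 F ω :=
  [G.a (0, 1), G.a (1, 0), G.d (0, 1), G.d (1, 0), G.b (1, 1), G.e, G.c, G.b (2, 0)].getD k 1

/-- the value of a word -/
def ev : List ℕ → threeJ3 F ω
  | [] => 1
  | k :: w => lt G k * ev w

theorem rep_lt (H : Good ω) (k : ℕ) (hk : k < 8) : RepG ω (lT k) (lt G k) := by
  interval_cases k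
  · exact rA G H (0, 1)
  · exact rA G H (1, 0)
  · exact rD G H (0, 1)
  · exact rD G H (1, 0)
  · exact rB G H (1, 1) (by decide)
  · exact rE G H
  · exact rC G H
  · exact rB G H (2, 0) (by decide)

theorem rep_ev (H : Good ω) : ∀ w : List ℕ, w.all (fun k => Nat.blt k 8) = true → RepG ω (evT w) (ev G w)
  | [], _ => repG_one H
  | k :: w, h => by
    rw [List.all_cons, Bool.and_eq_true] at h
    exact (rep_lt G H k (Nat.le_of_ble_eq_true h.1)).mul (rep_ev H w h.2)

/-- the involutions -/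
def e (i : Fin 4) : threeJ3 F ω := ev G (get [] words i)

theorem rep_e (H : Good ω) (i : Fin 4) : RepG ω (eT i) (e G i) := rep_ev G H _ (chk_words i)

theorem rep_opt (H : Good ω) {g : threeJ3 F ω} {l : List ℕ} (h : RepG ω l g) (b : Bool) :
    RepG ω (optT l b) (opt g b) := by
  cases b
  · exact repG_one H
  · exact h

theorem rep_word (H : Good ω) (m : ℕ) : RepG ω (wT m) (word4 (e G) m) :=
  (((rep_opt H (rep_e G H 0) _).mul (rep_opt H (rep_e G H 1) _)).mul (rep_opt H (rep_e G H 2) _)).mul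
    (rep_opt H (rep_e G H 3) _)

theorem map_word4 {X Y : Type*} [Group X] [Group Y] (f : X →* Y) (e : Fin 4 → X) (m : ℕ) :
    f (word4 e m) = word4 (fun i => f (e i)) m := by
  have h : ∀ (x : X) (b : Bool), f (opt x b) = opt (f x) b := by
    intro x b
    cases b
    · exact map_one f
    · rfl
  unfold word4
  simp only [map_mul, h]

include G in
theorem good (H : Good ω) : Good16 (J3 F ω) := by
  refine Good16.of_basis (fun i => QuotientGroup.mk' (center (threeJ3 F ω)) (e G i)) ?_ ?_ ?_ ?_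
  · intro i
    have h : e G i * e G i = 1 := ((rep_e G H i).mul (rep_e G H i)).ext (repG_one H) (chk_sq i)
    rw [← map_mul, h, map_one]
  · intro i j
    have h : e G i * e G j = e G j * e G i :=
      ((rep_e G H i).mul (rep_e G H j)).ext ((rep_e G H j).mul (rep_e G H i)) (chk_comm i j)
    rw [← map_mul, h, map_mul]
  · intro h
    have h1 : e G 0 ∈ center (threeJ3 F ω) := (QuotientGroup.eq_one_iff _).1 h
    have h2 := mem_center_iff.1 h1 (G.a (1, 0))
    obtain ⟨z, hz⟩ := chk_ne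
    have r1 := (rA G H (1, 0)).mul (rep_e G H 0)
    have r2 := (rep_e G H 0).mul (rA G H (1, 0))
    rw [h2] at r1
    exact hz (r2.cols_eq H r1 z)
  · intro m hm hm0
    refine ⟨QuotientGroup.mk' _ (ev G (get [] conjs m)), ?_⟩
    have h1 := rep_ev G H _ (chk_conjs ⟨m, hm⟩)
    have h : ev G (get [] conjs m) * e G 0 = word4 (e G) m * ev G (get [] conjs m) :=
      (h1.mul (rep_e G H 0)).ext ((rep_word G H m).mul h1)
        (chk_conj ⟨m, hm⟩ (fun h => hm0 (congrArg Fin.val h)))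
    rw [← map_word4, ← map_inv, ← map_mul, ← map_mul, h, mul_inv_cancel_right]

end

theorem IsoJ3.good {X : Type*} [Group X] (h : Spor.IsoJ3 X) : Good16 X := by
  obtain ⟨F, _, _, ω, hF, hω, ⟨e⟩⟩ := h
  have H := good_of_card hF hω
  obtain ⟨G⟩ := exists_gens hF H
  exact (InstJ3.good G H).congr e.symm

end Cfsg.Agent.GH.Cov.InstJ3
end

-- part: GH/Cov/InstMathieu
section
set_option linter.all false
open scoped Cfsg.Agent.FastGrp

/-!
# `Good16` for `M₂₂` and `M₂₃` (GH-COV, rank cut)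

The pointwise stabiliser of a hexad in `M₂₂`.
-/

set_option autoImplicit false

open Cfsg Subgroup

namespace Cfsg.Agent.GH.Cov.InstMathieu

open Cfsg.Agent.GH.Cov.Sq Cfsg.Agent.GH.Cov.Basis Cfsg.Agent.GH.Defs Cfsg.Agent.Golay.Orbit

/-- product of tables -/
def mulT (l l' : List ℕ) : List ℕ := l'.map fun p => l.getD (Nat.log2 p) 0

/-- the table of the identity -/
def idT : List ℕ := (List.range 24).map fun i => 2 ^ i

theorem rep_mul {g h : Equiv.Perm GolayPt} {l l' : List ℕ} (hg : Rep g l) (hh : Rep h l') :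
    Rep (g * h) (mulT l l') := by
  refine ⟨by rw [mulT, List.length_map, hh.len], fun q => ?_⟩
  have hq : idx q < l'.length := by rw [hh.len]; exact idx_lt q
  have h1 := hh.eq q
  rw [List.getD_eq_getElem _ _ hq] at h1
  have hq' : idx q < (mulT l l').length := by rw [mulT, List.length_map]; exact hq
  rw [List.getD_eq_getElem _ _ hq']
  simp only [mulT, List.getElem_map, h1, Nat.log2_two_pow]
  rw [hg.eq, Equiv.Perm.mul_apply]

theorem rep_one : Rep 1 idT := by
  refine ⟨rfl, fun q => ?_⟩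
  have hq : idx q < idT.length := idx_lt q
  rw [List.getD_eq_getElem _ _ hq]
  simp [idT]

theorem rep_ext {g h : Equiv.Perm GolayPt} {l : List ℕ} (hg : Rep g l) (hh : Rep h l) : g = h := by
  apply Equiv.ext
  intro q
  have h1 := (hg.eq q).symm.trans (hh.eq q)
  exact idx_injective (Nat.pow_right_injective le_rfl h1)

/-- the table of an element of `M₂₂` -/
def ok22 (l : List ℕ) : Bool :=
  okTab l && m24Tab l && (Nat.beq (l.getD 23 0) (2 ^ 23)) && (Nat.beq (l.getD 0 0) 1)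

theorem exists_elt {l : List ℕ} (h : ok22 l = true) : ∃ g : Spor.M22, Rep (g : Equiv.Perm GolayPt) l := by
  simp only [ok22, Bool.and_eq_true] at h
  obtain ⟨⟨⟨h1, h2⟩, h3⟩, h4⟩ := h
  obtain ⟨g, hg⟩ := exists_rep l h1
  have e3 : g none = none := by
    have := hg.eq none
    rw [show idx none = 23 from rfl, Nat.eq_of_beq_eq_true h3] at this
    have h5 : 2 ^ idx none = 2 ^ idx (g none) := this
    exact (idx_injective (a₁ := none) (Nat.pow_right_injective le_rfl h5)).symm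
  have e4 : g (some 0) = some 0 := by
    have := hg.eq (some 0)
    rw [show idx (some 0) = 0 from rfl, Nat.eq_of_beq_eq_true h4] at this
    have h5 : 2 ^ 0 = 2 ^ idx (g (some 0)) := this
    exact (idx_injective (a₁ := some 0) (Nat.pow_right_injective le_rfl h5)).symm
  exact ⟨⟨g, ⟨⟨hg.mem_M24 h2, e3⟩, e4⟩⟩, hg⟩

/-- the element with a given table -/
noncomputable def elt (l : List ℕ) (h : ok22 l = true) : Spor.M22 := Classical.choose (exists_elt h)

theorem rep_elt (l : List ℕ) (h : ok22 l = true) : Rep (elt l h : Equiv.Perm GolayPt) l :=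
  Classical.choose_spec (exists_elt h)

/-- the four generators of `E` -/
def gT : List (List ℕ) := [
  [1, 2, 1024, 4194304, 256, 128, 65536, 32, 16, 1048576, 4, 16384, 2097152, 8192, 2048, 32768, 64, 131072, 262144, 524288, 512, 4096, 8, 8388608],
  [1, 2, 4194304, 1024, 65536, 2048, 256, 16384, 64, 2097152, 8, 32, 1048576, 8192, 128, 32768, 16, 131072, 262144, 524288, 4096, 512, 4, 8388608],
  [1, 2, 2048, 128, 2097152, 4194304, 1048576, 8, 4096, 65536, 16384, 4, 256, 8192, 1024, 32768, 512, 131072, 262144, 524288, 64, 16, 32, 8388608],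
  [1, 2, 64, 16, 8, 4096, 4, 2097152, 4194304, 16384, 65536, 1048576, 32, 8192, 512, 32768, 1024, 131072, 262144, 524288, 2048, 128, 256, 8388608]]

/-- the conjugating elements -/
def cT : List (List ℕ) := [
  [1, 2, 4, 8, 16, 32, 64, 128, 256, 512, 1024, 2048, 4096, 8192, 16384, 32768, 65536, 131072, 262144, 524288, 1048576, 2097152, 4194304, 8388608],
  [1, 2, 4, 8, 16, 32, 64, 128, 256, 512, 1024, 2048, 4096, 8192, 16384, 32768, 65536, 131072, 262144, 524288, 1048576, 2097152, 4194304, 8388608],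
  [1, 262144, 16, 4194304, 128, 2048, 4096, 32, 16384, 64, 65536, 2097152, 1024, 131072, 512, 524288, 1048576, 32768, 2, 8192, 256, 8, 4, 8388608],
  [1, 131072, 16384, 2048, 2097152, 256, 4096, 65536, 1048576, 4, 32, 64, 1024, 32768, 16, 2, 512, 8192, 524288, 262144, 8, 4194304, 128, 8388608],
  [1, 32768, 4, 4096, 4194304, 16384, 1048576, 1024, 32, 128, 2048, 2097152, 65536, 131072, 16, 8192, 64, 524288, 262144, 2, 8, 512, 256, 8388608],
  [1, 262144, 2097152, 1024, 8, 16, 512, 4096, 32, 128, 256, 4, 65536, 131072, 16384, 8192, 64, 2, 32768, 524288, 4194304, 1048576, 2048, 8388608],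
  [1, 8192, 1024, 2048, 32, 1048576, 8, 256, 4, 16, 128, 2097152, 4096, 32768, 65536, 524288, 16384, 262144, 131072, 2, 512, 64, 4194304, 8388608],
  [1, 2, 512, 4096, 8, 16, 4, 1048576, 2048, 16384, 256, 2097152, 32, 262144, 64, 524288, 128, 131072, 8192, 32768, 4194304, 1024, 65536, 8388608],
  [1, 2, 65536, 2048, 256, 16384, 128, 512, 4194304, 32, 1024, 4, 16, 131072, 64, 524288, 2097152, 32768, 8192, 262144, 4096, 8, 1048576, 8388608],
  [1, 2, 1024, 16384, 512, 2097152, 65536, 32, 2048, 8, 64, 4194304, 128, 32768, 16, 8192, 4, 262144, 131072, 524288, 256, 4096, 1048576, 8388608],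
  [1, 524288, 16384, 512, 2048, 4194304, 1048576, 64, 4096, 8, 2097152, 4, 16, 262144, 256, 8192, 32, 2, 32768, 131072, 65536, 1024, 128, 8388608],
  [1, 262144, 2048, 32, 16, 128, 65536, 1048576, 4, 64, 2097152, 4096, 256, 32768, 16384, 131072, 4194304, 524288, 2, 8192, 8, 1024, 512, 8388608],
  [1, 2, 4194304, 65536, 256, 16, 1024, 128, 32, 8, 4096, 1048576, 64, 524288, 4, 32768, 512, 8192, 262144, 131072, 2097152, 2048, 16384, 8388608],
  [1, 32768, 16384, 4, 2097152, 4096, 256, 8, 4194304, 2048, 64, 32, 1024, 131072, 16, 2, 128, 524288, 8192, 262144, 65536, 1048576, 512, 8388608],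
  [1, 262144, 65536, 64, 2097152, 16, 4096, 16384, 1024, 512, 128, 2048, 1048576, 32768, 256, 2, 4, 524288, 8192, 131072, 8, 4194304, 32, 8388608],
  [1, 131072, 16, 512, 32, 64, 4, 128, 65536, 16384, 2048, 1024, 8, 524288, 4096, 8192, 2097152, 2, 32768, 262144, 256, 1048576, 4194304, 8388608]]

/-- table or identity -/
def optT (l : List ℕ) (b : Bool) : List ℕ := if b then l else idT

/-- the table of `word4 e m` -/
def wT (m : ℕ) : List ℕ :=
  mulT (mulT (mulT (optT (gT.getD 0 []) (m.testBit 0)) (optT (gT.getD 1 []) (m.testBit 1)))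
    (optT (gT.getD 2 []) (m.testBit 2))) (optT (gT.getD 3 []) (m.testBit 3))

theorem ok_g : ∀ i : Fin 4, ok22 (gT.getD i []) = true := by decide +kernel

theorem ok_c : ∀ m : Fin 16, ok22 (cT.getD m []) = true := by decide +kernel

theorem sq_g : ∀ i : Fin 4, mulT (gT.getD i []) (gT.getD i []) = idT := by decide +kernel

theorem comm_g : ∀ i j : Fin 4, mulT (gT.getD i []) (gT.getD j []) = mulT (gT.getD j []) (gT.getD i []) := by
  decide +kernel

theorem ne_g : gT.getD 0 [] ≠ idT := by decide +kernel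

theorem conj_g : ∀ m : Fin 16, m ≠ 0 → mulT (cT.getD m []) (gT.getD 0 []) = mulT (wT m) (cT.getD m []) := by
  decide +kernel

/-- the four generators of `E` in `M₂₂` -/
noncomputable def e (i : Fin 4) : Spor.M22 := elt _ (ok_g i)

theorem rep_e (i : Fin 4) : Rep (e i : Equiv.Perm GolayPt) (gT.getD i []) := rep_elt _ _

theorem rep_opt {g : Spor.M22} {l : List ℕ} (h : Rep (g : Equiv.Perm GolayPt) l) (b : Bool) :
    Rep ((opt g b : Spor.M22) : Equiv.Perm GolayPt) (optT l b) := by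
  cases b
  · exact rep_one
  · exact h

theorem rep_word (m : ℕ) : Rep ((word4 e m : Spor.M22) : Equiv.Perm GolayPt) (wT m) :=
  rep_mul (rep_mul (rep_mul (rep_opt (rep_e 0) _) (rep_opt (rep_e 1) _)) (rep_opt (rep_e 2) _))
    (rep_opt (rep_e 3) _)

theorem eq_of_rep {g h : Spor.M22} {l l' : List ℕ} (hg : Rep (g : Equiv.Perm GolayPt) l)
    (hh : Rep (h : Equiv.Perm GolayPt) l') (hl : l = l') : g = h := by
  subst hl
  exact Subtype.ext (rep_ext hg hh)

theorem good22 : Good16 Spor.M22 := by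
  refine Good16.of_basis e ?_ ?_ ?_ ?_
  · intro i
    exact eq_of_rep (h := 1) (rep_mul (rep_e i) (rep_e i)) rep_one (sq_g i)
  · intro i j
    exact eq_of_rep (rep_mul (rep_e i) (rep_e j)) (rep_mul (rep_e j) (rep_e i)) (comm_g i j)
  · intro h
    have h1 := rep_e 0
    rw [h] at h1
    apply ne_g
    have h2 : Rep (1 : Equiv.Perm GolayPt) (gT.getD 0 []) := h1
    apply List.ext_getElem
    · rw [h2.len]; rfl
    · intro n hn hn'
      have hn24 : n < 24 := by rw [h2.len] at hn; exact hn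
      have e1 := h2.eq (pt n)
      have e2 := rep_one.eq (pt n)
      rw [idx_pt n hn24] at e1 e2
      rw [List.getD_eq_getElem _ _ hn] at e1
      rw [List.getD_eq_getElem _ _ hn'] at e2
      rw [e1, e2]
  · intro m hm hm0
    refine ⟨elt _ (ok_c ⟨m, hm⟩), ?_⟩
    have h1 := rep_elt _ (ok_c ⟨m, hm⟩)
    have h2 := eq_of_rep (g := elt _ (ok_c ⟨m, hm⟩) * e 0) (h := word4 e m * elt _ (ok_c ⟨m, hm⟩))
      (rep_mul h1 (rep_e 0)) (rep_mul (rep_word m) h1)
      (conj_g ⟨m, hm⟩ (fun h => hm0 (congrArg Fin.val h)))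
    rw [mul_inv_eq_iff_eq_mul]
    exact h2

theorem good23 : Good16 Spor.M23 :=
  good22.of_injective (Subgroup.inclusion (show Spor.M22 ≤ Spor.M23 from inf_le_left))
    (Subgroup.inclusion_injective _)

theorem IsoM22.good {X : Type*} [Group X] (h : Spor.IsoM22 X) : Good16 X := by
  obtain ⟨e⟩ := h
  exact good22.congr e.symm

theorem IsoM23.good {X : Type*} [Group X] (h : Spor.IsoM23 X) : Good16 X := by
  obtain ⟨e⟩ := h
  exact good23.congr e.symm

end Cfsg.Agent.GH.Cov.InstMathieu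

private theorem dce_0d3981d646f7 : _root_.True := by
  try have : _root_.True := by simp only [_root_.Cfsg.Agent.GH.Cov.InstMathieu.mulT.eq_1]
  try have : _root_.True := by simp only [_root_.Cfsg.Agent.GH.Cov.InstMathieu.ok22.eq_1]
  try have : _root_.True := by simp only [_root_.Cfsg.Agent.GH.Cov.InstMathieu.idT.eq_1]
  exact _root_.True.intro
end

-- part: GH/Cov/F5Uni
section
prune_inst 0x4301075047d2200000018051062001e22ba0004000008840024a10b0207c90c00a0420021ba301503508000444830006813980000420000000a200000011e01800000000000400000020006000080000000000000000000000000000000000000000000000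
set_option linter.all false
open scoped Cfsg.Agent.FastGrp

-- part: GH/Cov/F5Core
section
/-!
# GH-COV, fact (F5) for `PSL₄(q)`, `q ≡ 3 mod 4`, and `PSU₄(q)`, `q ≡ 1 mod 4`: normal forms

`P` = the matrices of the group (`GL₄` or `GU₄`), `N` = its scalars, `-1` is not a square in `N` and every
element of `N` is plus or minus a square.

* `typeA` : `g ∈ P`, `g² = l`, `det g` not a square in `N` ⟹ `g = c a D a⁻¹`, `D = diag(1,1,1,-1)`, `det a = 1`.
* `typeB` : `h ∈ P`, `hᵀ = l h`, `det h` not a square in `N` ⟹ `h = c a D aᵀ`, `det a = 1`.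
-/

set_option autoImplicit false

namespace Cfsg.Agent.GH.Cov.F5Core

open Matrix

variable {F : Type*} [Field F]

/-- `4 × 4` matrices. -/
abbrev M4 (F : Type*) := Matrix (Fin 4) (Fin 4) F

/-- `diag(1,1,1,-1)`. -/
def D1 (F : Type*) [Field F] : M4 F := diagonal ![1, 1, 1, -1]

/-- The matrix group and its scalars. -/
structure Good (P : M4 F → Prop) (N : F → Prop) : Prop where
  one : P 1
  mul : ∀ {A B : M4 F}, P A → P B → P (A * B)
  det_ne : ∀ {A : M4 F}, P A → A.det ≠ 0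
  inv : ∀ {A : M4 F}, P A → P A⁻¹
  tr : ∀ {A : M4 F}, P A → P Aᵀ
  det : ∀ {A : M4 F}, P A → N A.det
  diag : ∀ d : Fin 4 → F, P (diagonal d) ↔ ∀ i, N (d i)
  perm : ∀ σ : Equiv.Perm (Fin 4), P (σ.permMatrix F)
  n_one : N 1
  n_neg : N (-1)
  n_mul : ∀ {a b : F}, N a → N b → N (a * b)
  n_inv : ∀ {a : F}, N a → N a⁻¹
  n_ne : ∀ {a : F}, N a → a ≠ 0
  n_sq : ∀ {a : F}, N a → ∃ s, N s ∧ (a = s * s ∨ a = -(s * s))
  n_not : ∀ {s : F}, N s → s * s ≠ -1
  frameInv : ∀ g : M4 F, P g → g * g = 1 → ∃ (a : M4 F) (e : Fin 4 → F), P a ∧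
    (∀ i, e i = 1 ∨ e i = -1) ∧ g = a * diagonal e * a⁻¹
  frameSym : ∀ h : M4 F, P h → hᵀ = h → ∃ (a : M4 F) (e : Fin 4 → F), P a ∧
    (∀ i, N (e i)) ∧ h = a * diagonal e * aᵀ
  iSq : ∀ g : M4 F, P g → g * g = -1 → ∃ s, N s ∧ g.det = s * s
  skew : ∀ h : M4 F, P h → hᵀ = -h → ∃ s, N s ∧ h.det = s * s

theorem perm_diag (σ : Equiv.Perm (Fin 4)) (d : Fin 4 → F) :
    σ.permMatrix F * diagonal d * (σ.permMatrix F)ᵀ = diagonal (d ∘ σ) := by
  ext i j
  rw [mul_apply, Finset.sum_eq_single (σ i)]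
  · rw [mul_diagonal]
    simp only [Equiv.Perm.permMatrix, PEquiv.toMatrix_apply, transpose_apply, diagonal_apply,
      Equiv.toPEquiv_apply, Option.mem_def, Option.some.injEq, Function.comp]
    by_cases h : i = j
    · subst h; simp
    · have : ¬ (σ j = σ i) := fun h' => h (σ.injective h').symm
      simp [h, this]
  · intro k _ hk
    rw [mul_diagonal]
    simp only [Equiv.Perm.permMatrix, PEquiv.toMatrix_apply, Equiv.toPEquiv_apply, Option.mem_def,
      Option.some.injEq]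
    rw [if_neg (fun h => hk h.symm)]
    ring
  · intro h
    exact absurd (Finset.mem_univ _) h

theorem perm_inv (σ : Equiv.Perm (Fin 4)) : (σ.permMatrix F)⁻¹ = (σ.permMatrix F)ᵀ := by
  apply inv_eq_right_inv
  rw [transpose_permMatrix, ← permMatrix_mul, inv_mul_cancel, permMatrix_one]

/-- Sign patterns with product `-1`. -/
theorem pattern (e : Fin 4 → F) (he : ∀ i, e i = 1 ∨ e i = -1)
    (hp : ∏ i, e i ≠ 1) : ∃ (σ : Equiv.Perm (Fin 4)) (c : F), (c = 1 ∨ c = -1) ∧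
      diagonal e = c • diagonal ((![1, 1, 1, -1] : Fin 4 → F) ∘ σ) := by
  rw [Fin.prod_univ_four] at hp
  have key : ∀ (σ : Equiv.Perm (Fin 4)) (c : F), (c = 1 ∨ c = -1) →
      (∀ i, e i = c * (![1, 1, 1, -1] : Fin 4 → F) (σ i)) →
      ∃ (σ : Equiv.Perm (Fin 4)) (c : F), (c = 1 ∨ c = -1) ∧
      diagonal e = c • diagonal ((![1, 1, 1, -1] : Fin 4 → F) ∘ σ) := by
    intro σ c hc h
    refine ⟨σ, c, hc, ?_⟩
    rw [← diagonal_smul]
    congr 1
    funext i
    exact h i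
  rcases he 0 with e0 | e0 <;> rcases he 1 with e1 | e1 <;> rcases he 2 with e2 | e2 <;>
    rcases he 3 with e3 | e3 <;> simp only [e0, e1, e2, e3] at hp
  all_goals first
    | (exfalso; apply hp; ring1)
    | skip
  · exact key (Equiv.swap 3 3) 1 (Or.inl rfl) (by intro i; (revert i; simp only [e0, e1, e2, e3, _root_.Fin.forall_fin_succ, Fin.isValue, _root_.Equiv.swap_self, _root_.Equiv.refl_apply, _root_.one_mul, _root_.Matrix.cons_val_zero, _root_.Matrix.cons_val_succ, _root_.Fin.succ_zero_eq_one, _root_.Fin.succ_one_eq_two, _root_.Matrix.cons_val_fin_one, Fin.reduceSucc, _root_.IsEmpty.forall_iff, _root_.and_self]))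
  · exact key (Equiv.swap 2 3) 1 (Or.inl rfl)
      (by intro i; (revert i; simp only [e0, e1, e2, e3, Equiv.swap_apply_def, _root_.Fin.forall_fin_succ, Fin.isValue, _root_.one_mul, Fin.reduceEq, ↓reduceIte, _root_.Matrix.cons_val_zero, _root_.Fin.succ_zero_eq_one, _root_.Matrix.cons_val_one, _root_.Fin.succ_one_eq_two, _root_.Matrix.cons_val, Fin.reduceSucc, _root_.IsEmpty.forall_iff, _root_.and_self]))
  · exact key (Equiv.swap 1 3) 1 (Or.inl rfl)
      (by intro i; (revert i; simp only [e0, e1, e2, e3, Equiv.swap_apply_def, _root_.Fin.forall_fin_succ, Fin.isValue, _root_.one_mul, _root_.zero_ne_one, ↓reduceIte, Fin.reduceEq, _root_.Matrix.cons_val_zero, _root_.Fin.succ_zero_eq_one, _root_.Matrix.cons_val, _root_.Fin.succ_one_eq_two, Fin.reduceSucc, _root_.Matrix.cons_val_one, _root_.IsEmpty.forall_iff, _root_.and_self]))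
  · exact key (Equiv.swap 0 3) (-1) (Or.inr rfl)
      (by intro i; (revert i; simp only [e0, e1, e2, e3, Equiv.swap_apply_def, _root_.Fin.forall_fin_succ, Fin.isValue, _root_.neg_mul, _root_.one_mul, ↓reduceIte, _root_.Matrix.cons_val, _root_.neg_neg, _root_.Fin.succ_ne_zero, _root_.Fin.succ_zero_eq_one, Fin.reduceEq, _root_.Matrix.cons_val_one, _root_.Matrix.cons_val_zero, _root_.Fin.succ_one_eq_two, Fin.reduceSucc, _root_.IsEmpty.forall_iff, _root_.and_self]))
  · exact key (Equiv.swap 0 3) 1 (Or.inl rfl)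
      (by intro i; (revert i; simp only [e0, e1, e2, e3, Equiv.swap_apply_def, _root_.Fin.forall_fin_succ, Fin.isValue, _root_.one_mul, ↓reduceIte, _root_.Matrix.cons_val, _root_.Fin.succ_ne_zero, _root_.Fin.succ_zero_eq_one, Fin.reduceEq, _root_.Matrix.cons_val_one, _root_.Matrix.cons_val_zero, _root_.Fin.succ_one_eq_two, Fin.reduceSucc, _root_.IsEmpty.forall_iff, _root_.and_self]))
  · exact key (Equiv.swap 1 3) (-1) (Or.inr rfl)
      (by intro i; (revert i; simp only [e0, e1, e2, e3, Equiv.swap_apply_def, _root_.Fin.forall_fin_succ, Fin.isValue, _root_.neg_mul, _root_.one_mul, _root_.zero_ne_one, ↓reduceIte, Fin.reduceEq, _root_.Matrix.cons_val_zero, _root_.Fin.succ_zero_eq_one, _root_.Matrix.cons_val, _root_.neg_neg, _root_.Fin.succ_one_eq_two, Fin.reduceSucc, _root_.Matrix.cons_val_one, _root_.IsEmpty.forall_iff, _root_.and_self]))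
  · exact key (Equiv.swap 2 3) (-1) (Or.inr rfl)
      (by intro i; (revert i; simp only [e0, e1, e2, e3, Equiv.swap_apply_def, _root_.Fin.forall_fin_succ, Fin.isValue, _root_.neg_mul, _root_.one_mul, Fin.reduceEq, ↓reduceIte, _root_.Matrix.cons_val_zero, _root_.Fin.succ_zero_eq_one, _root_.Matrix.cons_val_one, _root_.Fin.succ_one_eq_two, _root_.Matrix.cons_val, _root_.neg_neg, Fin.reduceSucc, _root_.IsEmpty.forall_iff, _root_.and_self]))
  · exact key (Equiv.swap 3 3) (-1) (Or.inr rfl)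
      (by intro i; (revert i; simp only [e0, e1, e2, e3, Equiv.swap_apply_def, _root_.Fin.forall_fin_succ, Fin.isValue, _root_.Equiv.swap_self, _root_.Equiv.refl_apply, _root_.neg_mul, _root_.one_mul, _root_.Matrix.cons_val_zero, _root_.Matrix.cons_val_succ, _root_.Fin.succ_zero_eq_one, _root_.Fin.succ_one_eq_two, _root_.Matrix.cons_val_fin_one, _root_.neg_neg, Fin.reduceSucc, _root_.IsEmpty.forall_iff, _root_.and_self]))

namespace Good

variable {P : M4 F → Prop} {N : F → Prop} (H : Good P N)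

include H

theorem one_ne : (1 : F) ≠ -1 := by
  intro h
  exact H.n_not H.n_one (by rw [mul_one]; exact h)

theorem scal {c : F} : P (c • 1) ↔ N c := by
  have : (c • 1 : M4 F) = diagonal (fun _ => c) := by
    rw [← diagonal_one, ← diagonal_smul]
    congr 1
    funext i
    simp
  rw [this, H.diag]
  exact ⟨fun h => h 0, fun h _ => h⟩

theorem smul {c : F} (hc : N c) {A : M4 F} (hA : P A) : P (c • A) := by
  have : c • A = (c • 1 : M4 F) * A := by rw [smul_mul_assoc, one_mul]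
  rw [this]
  exact H.mul (H.scal.2 hc) hA

theorem isUnit {A : M4 F} (hA : P A) : IsUnit A.det := (H.det_ne hA).isUnit

theorem n_pm {c : F} (hc : c = 1 ∨ c = -1) : N c := by
  rcases hc with rfl | rfl
  · exact H.n_one
  · exact H.n_neg

/-- Every element of `N` is plus or minus a fourth power. -/
theorem fourth {u : F} (hu : N u) : ∃ r, N r ∧ ∃ e : F, (e = 1 ∨ e = -1) ∧ u = e * r ^ 4 := by
  obtain ⟨s, hs, h1⟩ := H.n_sq hu
  obtain ⟨r, hr, h2⟩ := H.n_sq hs
  have h3 : s * s = r ^ 4 := by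
    rcases h2 with h2 | h2 <;> rw [h2] <;> ring
  refine ⟨r, hr, ?_⟩
  rcases h1 with h1 | h1
  · exact ⟨1, Or.inl rfl, by rw [h1, h3]; ring⟩
  · exact ⟨-1, Or.inr rfl, by rw [h1, h3]; ring⟩

/-- `g ∈ P` with `g²` scalar and `det g` not a square. -/
theorem typeA {g : M4 F} (hg : P g) {l : F} (hl : g * g = l • 1)
    (hd : ∀ s, N s → g.det ≠ s * s) :
    ∃ (a : M4 F) (c : F), P a ∧ a.det = 1 ∧ N c ∧ g = c • (a * D1 F * a⁻¹) := by
  have hNl : N l := H.scal.1 (hl ▸ H.mul hg hg)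
  obtain ⟨s, hs, hls⟩ := H.n_sq hNl
  have hs0 := H.n_ne hs
  set g' : M4 F := s⁻¹ • g with hg'
  have hPg' : P g' := H.smul (H.n_inv hs) hg
  have hgg : g = s • g' := by rw [hg', smul_smul, mul_inv_cancel₀ hs0, one_smul]
  have hsq : g' * g' = (s⁻¹ * s⁻¹ * l) • 1 := by
    rw [hg', smul_mul_smul_comm, hl, smul_smul]
  have hdet : g.det = s ^ 4 * g'.det := by
    rw [hgg, det_smul, Fintype.card_fin]
  rcases hls with hls | hls
  · -- `g' ^ 2 = 1`
    have h1 : g' * g' = 1 := by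
      rw [hsq, hls]
      have : s⁻¹ * s⁻¹ * (s * s) = 1 := by field_simp
      rw [this, one_smul]
    obtain ⟨a, e, ha, he, hae⟩ := H.frameInv g' hPg' h1
    have hua := H.isUnit ha
    have hprod : ∏ i, e i ≠ 1 := by
      intro hp
      have h2 : g'.det = 1 := by
        rw [hae, det_mul, det_mul, det_diagonal, hp, mul_one, ← det_mul,
          mul_nonsing_inv _ hua, det_one]
      exact hd (s * s) (H.n_mul hs hs) (by rw [hdet, h2]; ring)
    obtain ⟨σ, c, hc, hec⟩ := pattern e he hprod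
    have hPσ := H.perm σ
    obtain ⟨b, hb⟩ : ∃ b : M4 F, b = a * σ.permMatrix F := ⟨_, rfl⟩
    have hPb : P b := hb ▸ H.mul ha hPσ
    have hub := H.isUnit hPb
    have hg'b : g' = c • (b * D1 F * b⁻¹) := by
      rw [hae, hec, ← perm_diag, hb, Matrix.mul_inv_rev, perm_inv]
      simp only [mul_smul_comm, smul_mul_assoc, D1, mul_assoc]
    set t : M4 F := diagonal ![b.det⁻¹, 1, 1, 1] with ht
    have hPt : P t := by
      rw [ht, H.diag]
      intro i
      fin_cases i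
      · exact H.n_inv (H.det hPb)
      · exact H.n_one
      · exact H.n_one
      · exact H.n_one
    have hut := H.isUnit hPt
    have htD : t * D1 F * t⁻¹ = D1 F := by
      have h2 : t * D1 F = D1 F * t := by
        rw [ht, D1, diagonal_mul_diagonal, diagonal_mul_diagonal]
        congr 1
        funext i
        ring
      rw [h2, mul_assoc, mul_nonsing_inv _ hut, mul_one]
    refine ⟨b * t, s * c, H.mul hPb hPt, ?_, H.n_mul hs (H.n_pm hc), ?_⟩
    · rw [det_mul, ht, det_diagonal, Fin.prod_univ_four]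
      simp [H.det_ne hPb]
    · rw [hgg, hg'b, smul_smul, Matrix.mul_inv_rev b t]
      congr 1
      calc b * D1 F * b⁻¹ = b * (t * D1 F * t⁻¹) * b⁻¹ := by rw [htD]
        _ = _ := by simp only [mul_assoc]
  · -- `g' ^ 2 = -1`
    exfalso
    have h1 : g' * g' = -1 := by
      rw [hsq, hls]
      have : s⁻¹ * s⁻¹ * (-(s * s)) = -1 := by field_simp
      rw [this, neg_smul, one_smul]
    obtain ⟨r, hr, hrr⟩ := H.iSq g' hPg' h1
    exact hd (s * s * r) (H.n_mul (H.n_mul hs hs) hr) (by rw [hdet, hrr]; ring)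

/-- `h ∈ P` with `hᵀ = l h` and `det h` not a square. -/
theorem typeB {h : M4 F} (hh : P h) {l : F} (hl : hᵀ = l • h)
    (hd : ∀ s, N s → h.det ≠ s * s) :
    ∃ (a : M4 F) (c : F), P a ∧ a.det = 1 ∧ N c ∧ h = c • (a * D1 F * aᵀ) := by
  have hl2 : l = 1 ∨ l = -1 := by
    have h1 : h = (l * l) • h := by
      calc h = hᵀᵀ := (transpose_transpose h).symm
        _ = (l * l) • h := by rw [hl, transpose_smul, hl, smul_smul]
    have h2 : h ≠ 0 := by
      rintro rfl
      exact H.det_ne hh (Matrix.det_zero)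
    have h3 : (1 - l * l) • h = 0 := by rw [sub_smul, one_smul, ← h1, sub_self]
    rcases smul_eq_zero.1 h3 with h4 | h4
    · have h5 : (l - 1) * (l + 1) = 0 := by linear_combination -h4
      rcases mul_eq_zero.1 h5 with h6 | h6
      · exact Or.inl (by linear_combination h6)
      · exact Or.inr (by linear_combination h6)
    · exact absurd h4 h2
  rcases hl2 with rfl | rfl
  · rw [one_smul] at hl
    obtain ⟨a, e, ha, he, hae⟩ := H.frameSym h hh hl
    choose s hs hse using fun i => H.n_sq (he i)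
    -- signs
    have hε : ∃ ε : Fin 4 → F, (∀ i, ε i = 1 ∨ ε i = -1) ∧ ∀ i, e i = s i * ε i * s i := by
      refine ⟨fun i => e i * (s i)⁻¹ * (s i)⁻¹, fun i => ?_, fun i => ?_⟩
      · have h0 := H.n_ne (hs i)
        rcases hse i with h1 | h1
        · left
          change e i * (s i)⁻¹ * (s i)⁻¹ = 1
          rw [h1]; field_simp
        · right
          change e i * (s i)⁻¹ * (s i)⁻¹ = -1
          rw [h1]; field_simp
      · have h0 := H.n_ne (hs i)
        change e i = s i * (e i * (s i)⁻¹ * (s i)⁻¹) * s i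
        field_simp
    obtain ⟨ε, hε1, hε2⟩ := hε
    obtain ⟨a', ha'⟩ : ∃ a' : M4 F, a' = a * diagonal s := ⟨_, rfl⟩
    have hPa' : P a' := ha' ▸ H.mul ha ((H.diag s).2 hs)
    have hh' : h = a' * diagonal ε * a'ᵀ := by
      rw [hae, ha', transpose_mul, diagonal_transpose]
      have h1 : diagonal e = diagonal s * diagonal ε * diagonal s := by
        rw [diagonal_mul_diagonal, diagonal_mul_diagonal]
        congr 1
        funext i
        exact hε2 i
      rw [h1]
      simp only [mul_assoc]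
    have hprod : ∏ i, ε i ≠ 1 := by
      intro hp
      exact hd a'.det (H.det hPa') (by
        rw [hh', det_mul, det_mul, det_diagonal, hp, mul_one, det_transpose])
    obtain ⟨σ, c, hc, hec⟩ := pattern ε hε1 hprod
    have hPσ := H.perm σ
    obtain ⟨b, hb⟩ : ∃ b : M4 F, b = a' * σ.permMatrix F := ⟨_, rfl⟩
    have hPb : P b := hb ▸ H.mul hPa' hPσ
    have hhb : h = c • (b * D1 F * bᵀ) := by
      rw [hh', hec, ← perm_diag, hb, transpose_mul]
      simp only [mul_smul_comm, smul_mul_assoc, D1, mul_assoc]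
    obtain ⟨r, hr, w, hw, hrw⟩ := H.fourth (H.n_inv (H.det hPb))
    have hr0 := H.n_ne hr
    set t : M4 F := diagonal ![w, 1, 1, 1] with ht
    have hPt : P t := by
      rw [ht, H.diag]
      intro i
      fin_cases i
      · exact H.n_pm hw
      · exact H.n_one
      · exact H.n_one
      · exact H.n_one
    have htD : t * D1 F * tᵀ = D1 F := by
      rw [ht, D1, diagonal_transpose, diagonal_mul_diagonal, diagonal_mul_diagonal]
      congr 1
      funext i
      fin_cases i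
      · rcases hw with rfl | rfl <;> simp
      · simp
      · simp
      · simp
    have hwdet : t.det = w := by
      rw [ht, det_diagonal, Fin.prod_univ_four]
      simp
    refine ⟨r • (b * t), c * (r⁻¹ * r⁻¹), H.smul hr (H.mul hPb hPt), ?_,
      H.n_mul (H.n_pm hc) (H.n_mul (H.n_inv hr) (H.n_inv hr)), ?_⟩
    · rw [det_smul, Fintype.card_fin, det_mul, hwdet]
      have h1 : b.det ≠ 0 := H.det_ne hPb
      calc r ^ 4 * (b.det * w) = b.det * (w * r ^ 4) := by ring
        _ = 1 := by rw [← hrw, mul_inv_cancel₀ h1]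
    · have h1 : c * (r⁻¹ * r⁻¹) * (r * r) = c := by field_simp
      rw [hhb, transpose_smul]
      simp only [smul_mul_assoc, mul_smul_comm, smul_smul]
      rw [h1, transpose_mul b t]
      congr 1
      calc b * D1 F * bᵀ = b * (t * D1 F * tᵀ) * bᵀ := by rw [htD]
        _ = _ := by simp only [mul_assoc]
  · exfalso
    rw [neg_smul, one_smul] at hl
    obtain ⟨s, hs, hss⟩ := H.skew h hh hl
    exact hd s hs hss

end Good

end Cfsg.Agent.GH.Cov.F5Core
end

-- part: GH/Cov/F5Uni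
section
/-!
# GH-COV, (F5) for `PSU₄(q)`, `q ≡ 1 mod 4`: the structure `Good` for the unitary matrices
-/

set_option autoImplicit false

namespace Cfsg.Agent.GH.Cov.F5Uni

open Cfsg Matrix Cfsg.Agent.LieClassical.HermBasic Cfsg.Agent.GH.Cov.F5Core

variable {F : Type*} [Field F] [Fintype F] {q : ℕ}

/-- Entrywise conjugation. -/
def cn (hF : Fintype.card F = q ^ 2) (A : M4 F) : M4 F := A.map (conj hF)

/-- Unitary matrices. -/
def Un (hF : Fintype.card F = q ^ 2) (A : M4 F) : Prop := Aᵀ * cn hF A = 1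

/-- Elements of norm one. -/
def No (F : Type*) [Field F] (q : ℕ) (a : F) : Prop := a * a ^ q = 1

variable (hF : Fintype.card F = q ^ 2)

theorem cn_mul (A B : M4 F) : cn hF (A * B) = cn hF A * cn hF B := by
  unfold cn
  exact Matrix.map_mul (f := (conj hF : F →+* F))

theorem cn_one : cn hF (1 : M4 F) = 1 := by
  unfold cn
  exact Matrix.map_one _ (map_zero _) (map_one _)

theorem cn_cn (A : M4 F) : cn hF (cn hF A) = A := by
  ext i j
  change conj hF (conj hF (A i j)) = A i j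
  rw [conj_apply, conj_apply, pow_q_pow_q hF]

theorem cn_tr (A : M4 F) : cn hF Aᵀ = (cn hF A)ᵀ := rfl

theorem cn_smul (c : F) (A : M4 F) : cn hF (c • A) = c ^ q • cn hF A := by
  ext i j
  change conj hF (c * A i j) = c ^ q * conj hF (A i j)
  rw [map_mul, conj_apply]

theorem cn_add (A B : M4 F) : cn hF (A + B) = cn hF A + cn hF B := by
  ext i j
  change conj hF (A i j + B i j) = _
  rw [map_add]
  rfl

theorem det_cn (A : M4 F) : (cn hF A).det = A.det ^ q := by
  have h := RingHom.map_det (conj hF : F →+* F) A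
  change conj hF A.det = _ at h
  rw [conj_apply] at h
  rw [h]
  rfl

theorem cn_diag (d : Fin 4 → F) : cn hF (diagonal d) = diagonal fun i => d i ^ q := by
  unfold cn
  rw [diagonal_map (map_zero _)]
  rfl

variable {hF}

theorem Un.inv_eq {A : M4 F} (h : Un hF A) : A⁻¹ = (cn hF A)ᵀ := by
  apply inv_eq_left_inv
  have := congrArg transpose h
  rwa [transpose_mul, transpose_transpose, transpose_one] at this

theorem Un.isUnit {A : M4 F} (h : Un hF A) : IsUnit A.det := by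
  have := congrArg Matrix.det h
  rw [det_mul, det_transpose, det_one] at this
  exact IsUnit.of_mul_eq_one _ this

theorem Un.left {A : M4 F} (h : Un hF A) : (cn hF A)ᵀ * A = 1 := by
  rw [← h.inv_eq, nonsing_inv_mul _ h.isUnit]

theorem Un.right {A : M4 F} (h : Un hF A) : A * (cn hF A)ᵀ = 1 := by
  rw [← h.inv_eq, mul_nonsing_inv _ h.isUnit]

theorem Un.right' {A : M4 F} (h : Un hF A) : cn hF A * Aᵀ = 1 := by
  have := congrArg transpose h.right
  rwa [transpose_mul, transpose_transpose, transpose_one] at this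

theorem Un.cn_inv {A : M4 F} (h : Un hF A) : (cn hF A)⁻¹ = Aᵀ := inv_eq_left_inv h

theorem un_one : Un hF 1 := by
  unfold Un
  rw [transpose_one, cn_one, mul_one]

theorem Un.mul {A B : M4 F} (hA : Un hF A) (hB : Un hF B) : Un hF (A * B) := by
  unfold Un
  rw [transpose_mul, cn_mul]
  calc Bᵀ * Aᵀ * (cn hF A * cn hF B) = Bᵀ * (Aᵀ * cn hF A) * cn hF B := by simp only [mul_assoc]
    _ = 1 := by rw [hA, mul_one, hB]

theorem Un.tr {A : M4 F} (hA : Un hF A) : Un hF Aᵀ := by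
  unfold Un
  rw [transpose_transpose, cn_tr, hA.right]

theorem Un.cn {A : M4 F} (hA : Un hF A) : Un hF (cn hF A) := by
  unfold Un
  rw [cn_cn, hA.left]

theorem Un.inv {A : M4 F} (hA : Un hF A) : Un hF A⁻¹ := by
  rw [hA.inv_eq]
  exact hA.cn.tr

theorem Un.det {A : M4 F} (hA : Un hF A) : No F q A.det := by
  have := congrArg Matrix.det hA
  rwa [det_mul, det_transpose, det_cn, det_one] at this

theorem un_diag (d : Fin 4 → F) : Un hF (diagonal d) ↔ ∀ i, No F q (d i) := by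
  unfold Un
  rw [diagonal_transpose, cn_diag, diagonal_mul_diagonal, ← diagonal_one, diagonal_eq_diagonal_iff]
  rfl

theorem un_perm (σ : Equiv.Perm (Fin 4)) : Un hF (σ.permMatrix F) := by
  unfold Un
  have h : cn hF (σ.permMatrix F) = σ.permMatrix F := by
    ext i j
    change conj hF (σ.permMatrix F i j) = _
    simp only [Equiv.Perm.permMatrix, PEquiv.toMatrix_apply]
    split_ifs
    · exact map_one _
    · exact map_zero _
  rw [h, transpose_permMatrix, ← permMatrix_mul, mul_inv_cancel, permMatrix_one]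

omit [Fintype F] in
theorem No.ne {a : F} (h : No F q a) : a ≠ 0 := by
  rintro rfl
  unfold No at h
  rw [zero_mul] at h
  exact zero_ne_one h

omit [Fintype F] in
theorem No.mul {a b : F} (ha : No F q a) (hb : No F q b) : No F q (a * b) := by
  unfold No at *
  rw [mul_pow]
  linear_combination b * b ^ q * ha + hb

omit [Fintype F] in
theorem No.inv {a : F} (ha : No F q a) : No F q a⁻¹ := by
  unfold No at *
  rw [inv_pow, ← mul_inv, ha, inv_one]

omit [Fintype F] in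
theorem No.pow {a : F} (ha : No F q a) (k : ℕ) : No F q (a ^ k) := by
  unfold No at *
  rw [← pow_mul, mul_comm k q, pow_mul, ← mul_pow, ha, one_pow]

omit [Fintype F] in
theorem no_one : No F q 1 := by
  unfold No
  rw [one_pow, one_mul]

theorem no_neg (hF : Fintype.card F = q ^ 2) : No F q (-1) := by
  unfold No
  rw [neg_pow_q hF, one_pow]
  ring

theorem two_ne (hF : Fintype.card F = q ^ 2) (hq : q % 4 = 1) : (2 : F) ≠ 0 := by
  have h1 : Fintype.card F % 2 = 1 := by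
    rw [hF, Nat.pow_mod]
    have : q % 2 = 1 := by omega
    rw [this]
  have h2 : ringChar F ≠ 2 := fun h => by
    have := FiniteField.even_card_of_char_two h
    omega
  exact Ring.two_ne_zero h2

omit [Fintype F] in
theorem pm_of_sq {x : F} (h : x ^ 2 = 1) : x = 1 ∨ x = -1 := by
  have : (x - 1) * (x + 1) = 0 := by linear_combination h
  rcases mul_eq_zero.1 this with h | h
  · exact Or.inl (by linear_combination h)
  · exact Or.inr (by linear_combination h)

omit [Fintype F] in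
theorem No.sq (hq : q % 4 = 1) {a : F} (ha : No F q a) :
    ∃ s, No F q s ∧ (a = s * s ∨ a = -(s * s)) := by
  obtain ⟨k, hk⟩ : ∃ k, q = 4 * k + 1 := ⟨q / 4, by omega⟩
  have h1 : a ^ (q + 1) = 1 := by rw [pow_succ']; exact ha
  have h2 : (a ^ (2 * k + 1)) ^ 2 = 1 := by
    rw [← pow_mul, ← h1]
    congr 1
    omega
  refine ⟨a ^ (k + 1), ha.pow _, ?_⟩
  have h3 : a ^ (k + 1) * a ^ (k + 1) = a * a ^ (2 * k + 1) := by ring
  rcases pm_of_sq h2 with h4 | h4
  · left; rw [h3, h4, mul_one]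
  · right; rw [h3, h4]; ring

theorem No.not (hF : Fintype.card F = q ^ 2) (hq : q % 4 = 1) {s : F} (hs : No F q s) :
    s * s ≠ -1 := by
  intro h
  obtain ⟨k, hk⟩ : ∃ k, q = 4 * k + 1 := ⟨q / 4, by omega⟩
  have h1 : s ^ (q + 1) = 1 := by rw [pow_succ']; exact hs
  have h2 : s ^ (q + 1) = (s * s) ^ (2 * k + 1) := by
    rw [← pow_two, ← pow_mul]
    congr 1
    omega
  rw [h1, h, Odd.neg_one_pow ⟨k, rfl⟩] at h2
  apply two_ne hF hq
  linear_combination h2

/-! ### frames -/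

section frame

/-- The Hermitian form as a sesquilinear map (semilinear in the first variable). -/
noncomputable def bil (hF : Fintype.card F = q ^ 2) :
    (Fin 4 → F) →ₛₗ[(conj hF : F →+* F)] (Fin 4 → F) →ₗ[F] F :=
  LinearMap.mk₂'ₛₗ (conj hF : F →+* F) (RingHom.id F) (fun x y => hermForm 4 F q y x)
    (fun x x' y => by rw [herm_add_right hF])
    (fun c x y => by rw [herm_smul_right]; rfl)
    (fun x y y' => by rw [herm_add_left])
    (fun c x y => by rw [herm_smul_left]; rfl)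

theorem bil_apply (hF : Fintype.card F = q ^ 2) (x y : Fin 4 → F) :
    bil hF x y = hermForm 4 F q y x := rfl

theorem bil_symm (hF : Fintype.card F = q ^ 2) : (bil hF).IsSymm := by
  refine ⟨fun x y => ?_⟩
  change conj hF (hermForm 4 F q y x) = hermForm 4 F q x y
  rw [conj_apply, ← herm_swap hF]

theorem bil_sep (hF : Fintype.card F = q ^ 2) : (bil hF).SeparatingLeft := by
  intro x hx
  apply herm_nondeg hF
  intro y
  rw [herm_swap hF, ← bil_apply hF, hx, zero_pow_q hF]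

theorem conj_ne_id (hF : Fintype.card F = q ^ 2) : (conj hF : F →+* F) ≠ RingHom.id F := by
  intro h
  obtain ⟨x, hx⟩ := exists_not_fixed hF
  exact hx (DFunLike.congr_fun h x)

variable {τ : F ≃+* F} {T : (Fin 4 → F) → (Fin 4 → F)}

theorem exists_family (hF : Fintype.card F = q ^ 2) (h2 : (2 : F) ≠ 0)
    (hadd : ∀ u v, T (u + v) = T u + T v) (hsmul : ∀ (c : F) v, T (c • v) = τ c • T v)
    (hTT : ∀ v, T (T v) = v)
    (hB : ∀ u v, hermForm 4 F q (T u) (T v) = τ (hermForm 4 F q u v)) (k : ℕ) (hk : k ≤ 4) :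
    ∃ (v : Fin k → Fin 4 → F) (c : Fin k → F),
      (∀ i j, hermForm 4 F q (v i) (v j) = if i = j then 1 else 0) ∧ ∀ i, T (v i) = c i • v i := by
  induction k with
  | zero => exact ⟨Fin.elim0, Fin.elim0, fun i => Fin.elim0 i, fun i => Fin.elim0 i⟩
  | succ k ih =>
    obtain ⟨v, c, hv, hc⟩ := ih (by omega)
    have hv' : ∀ i j, bil hF (v i) (v j) = if i = j then 1 else 0 := by
      intro i j
      rw [bil_apply, hv]
      by_cases h : i = j
      · subst h; rfl
      · rw [if_neg h, if_neg (Ne.symm h)]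
    obtain ⟨u, hu1, hu2⟩ := ClassicalGeometry.HermOrthonormal.exists_extend (conj_ne_id hF)
      (fun a => by change conj hF (conj hF a) = a; rw [conj_apply, conj_apply, pow_q_pow_q hF])
      (bil hF) (bil_symm hF) (bil_sep hF) (by simp; omega) hv'
    rw [bil_apply] at hu1
    have hu2' : ∀ i, hermForm 4 F q u (v i) = 0 := fun i => hu2 i
    have hc0 : ∀ i, c i * c i ^ q = 1 := by
      intro i
      have h1 := hB (v i) (v i)
      rw [hc, herm_smul_left, herm_smul_right, hv, if_pos rfl, map_one, mul_one] at h1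
      exact h1
    have hTu : ∀ i, hermForm 4 F q (T u) (v i) = 0 := by
      intro i
      have h1 := hB u (v i)
      rw [hu2', map_zero, hc, herm_smul_right] at h1
      rcases mul_eq_zero.1 h1 with h3 | h3
      · exfalso
        have h4 := hc0 i
        rw [h3, mul_zero] at h4
        exact zero_ne_one h4
      · exact h3
    have hTT' : hermForm 4 F q (T u) (T u) = 1 := by rw [hB, hu1, map_one]
    -- one of `u ± T u` is anisotropic
    obtain ⟨w, s, hs, hTw, hw0, hwv⟩ : ∃ (w : Fin 4 → F) (s : F), (s = 1 ∨ s = -1) ∧ T w = s • w ∧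
        hermForm 4 F q w w ≠ 0 ∧ ∀ i, hermForm 4 F q w (v i) = 0 := by
      by_cases h : hermForm 4 F q (u + T u) (u + T u) = 0
      · refine ⟨u - T u, -1, Or.inr rfl, ?_, ?_, ?_⟩
        · have h3 : T (u - T u) = T u - u := by
            have h4 : T (-(T u)) = - u := by
              have := hsmul (-1) (T u)
              rw [neg_one_smul, map_neg, map_one, neg_one_smul, hTT] at this
              exact this
            rw [sub_eq_add_neg, hadd, h4, ← sub_eq_add_neg]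
          rw [h3, neg_one_smul, neg_sub]
        · intro h5
          rw [herm_add_left, herm_add_right hF, herm_add_right hF, hu1, hTT'] at h
          rw [herm_sub_left, herm_sub_right hF, herm_sub_right hF, hu1, hTT'] at h5
          have h6 : (2 : F) * 2 = 0 := by linear_combination h + h5
          rcases mul_eq_zero.1 h6 with h7 | h7 <;> exact h2 h7
        · intro i
          rw [herm_sub_left, hu2', hTu, sub_zero]
      · refine ⟨u + T u, 1, Or.inl rfl, ?_, h, ?_⟩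
        · rw [hadd, hTT, one_smul, add_comm]
        · intro i
          rw [herm_add_left, hu2', hTu, add_zero]
    obtain ⟨e, he⟩ := _root_.Cfsg.Agent.LieClassical.HermBasic.exists_norm_eq hF (c := (hermForm 4 F q w w)⁻¹) (by
      rw [inv_pow, herm_self_pow hF])
    have he0 : e ≠ 0 := by
      rintro rfl
      rw [zero_mul] at he
      exact hw0 (inv_eq_zero.1 he.symm)
    refine ⟨Fin.cons (e • w) v, Fin.cons (τ e * s * e⁻¹) c, fun i j => ?_, fun i => ?_⟩
    · refine Fin.cases ?_ (fun i => ?_) i <;> refine Fin.cases ?_ (fun j => ?_) j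
      · rw [Fin.cons_zero, if_pos rfl, herm_smul_left, herm_smul_right]
        calc e * (e ^ q * hermForm 4 F q w w) = (e * e ^ q) * hermForm 4 F q w w := by ring
          _ = 1 := by rw [he, inv_mul_cancel₀ hw0]
      · rw [Fin.cons_zero, Fin.cons_succ, if_neg (Fin.succ_ne_zero j).symm, herm_smul_left, hwv,
          mul_zero]
      · rw [Fin.cons_zero, Fin.cons_succ, if_neg (Fin.succ_ne_zero i), herm_smul_right,
          herm_swap hF, hwv, zero_pow_q hF, mul_zero]
      · rw [Fin.cons_succ, Fin.cons_succ, hv]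
        simp
    · refine Fin.cases ?_ (fun i => ?_) i
      · rw [Fin.cons_zero, Fin.cons_zero, hsmul, hTw, smul_smul, smul_smul]
        congr 1
        field_simp
      · rw [Fin.cons_succ, Fin.cons_succ, hc]

end frame

/-! ### the structure `Good` -/

/-- Conjugate vector. -/
def cv (q : ℕ) (v : Fin 4 → F) : Fin 4 → F := fun i => v i ^ q

omit [Fintype F] in
theorem herm_eq (u v : Fin 4 → F) : hermForm 4 F q u v = u ⬝ᵥ cv q v := rfl

theorem cn_mulVec (hF : Fintype.card F = q ^ 2) (A : M4 F) (v : Fin 4 → F) :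
    cn hF A *ᵥ cv q v = cv q (A *ᵥ v) := by
  funext i
  change ∑ j, conj hF (A i j) * v j ^ q = (∑ j, A i j * v j) ^ q
  rw [sum_pow_q hF]
  exact Finset.sum_congr rfl fun j _ => by rw [conj_apply, mul_pow]

theorem cv_cv (hF : Fintype.card F = q ^ 2) (v : Fin 4 → F) : cv q (cv q v) = v := by
  funext i
  exact pow_q_pow_q hF _

theorem Un.herm {A : M4 F} (h : Un hF A) (u v : Fin 4 → F) :
    hermForm 4 F q (A *ᵥ u) (A *ᵥ v) = hermForm 4 F q u v := by
  rw [herm_eq, herm_eq, ← cn_mulVec hF, dotProduct_mulVec, ← mulVec_transpose, mulVec_mulVec,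
    h.left, one_mulVec]

/-- The matrix with given columns. -/
def cols (v : Fin 4 → Fin 4 → F) : M4 F := Matrix.of fun i j => v j i

theorem un_cols (hF : Fintype.card F = q ^ 2) {v : Fin 4 → Fin 4 → F}
    (h : ∀ i j, hermForm 4 F q (v i) (v j) = if i = j then 1 else 0) : Un hF (cols v) := by
  ext i j
  rw [one_apply, ← h i j]
  rfl

theorem frameInv (hF : Fintype.card F = q ^ 2) (h2 : (2 : F) ≠ 0) (g : M4 F) (hg : Un hF g)
    (hgg : g * g = 1) : ∃ (a : M4 F) (e : Fin 4 → F), Un hF a ∧ (∀ i, e i = 1 ∨ e i = -1) ∧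
      g = a * diagonal e * a⁻¹ := by
  obtain ⟨v, c, hv, hc⟩ := exists_family (τ := RingEquiv.refl F) (T := fun v => g *ᵥ v) hF h2
    (fun u v => mulVec_add _ _ _) (fun c v => mulVec_smul _ _ _)
    (fun v => by change g *ᵥ (g *ᵥ v) = v; rw [mulVec_mulVec, hgg, one_mulVec])
    (fun u v => hg.herm u v) 4 le_rfl
  have hu := un_cols hF hv
  refine ⟨cols v, c, hu, fun i => ?_, ?_⟩
  · have h1 : v i = (c i ^ 2) • v i := by
      have h2 : g *ᵥ (g *ᵥ v i) = v i := by rw [mulVec_mulVec, hgg, one_mulVec]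
      have h3 : g *ᵥ v i = c i • v i := hc i
      rw [h3, mulVec_smul, h3, smul_smul] at h2
      rw [pow_two]
      exact h2.symm
    have h2 : v i ≠ 0 := by
      intro h0
      have h3 := hv i i
      rw [h0, herm_zero_left, if_pos rfl] at h3
      exact zero_ne_one h3
    have h3 : (1 - c i ^ 2) • v i = 0 := by rw [sub_smul, one_smul, ← h1, sub_self]
    rcases smul_eq_zero.1 h3 with h4 | h4
    · exact pm_of_sq (by linear_combination -h4)
    · exact absurd h4 h2
  · have h1 : g * cols v = cols v * diagonal c := by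
      ext i j
      rw [mul_diagonal]
      have h2 := congrFun (hc j) i
      change (∑ k, g i k * v j k) = v j i * c j
      change (∑ k, g i k * v j k) = c j * v j i at h2
      rw [h2, mul_comm]
    rw [← h1, mul_assoc, mul_nonsing_inv _ hu.isUnit, mul_one]

theorem frameSym (hF : Fintype.card F = q ^ 2) (h2 : (2 : F) ≠ 0) (h : M4 F) (hh : Un hF h)
    (hhh : hᵀ = h) : ∃ (a : M4 F) (e : Fin 4 → F), Un hF a ∧ (∀ i, No F q (e i)) ∧
      h = a * diagonal e * aᵀ := by
  have hcc : ∀ v, h *ᵥ cv q (h *ᵥ cv q v) = v := by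
    intro v
    rw [← cn_mulVec hF, cv_cv hF, mulVec_mulVec]
    have : h * cn hF h = 1 := by
      have := hh
      unfold Un at this
      rwa [hhh] at this
    rw [this, one_mulVec]
  obtain ⟨v, c, hv, hc⟩ := exists_family (τ := conj hF) (T := fun v => h *ᵥ cv q v) hF h2
    (fun u v => by
      change h *ᵥ cv q (u + v) = _
      have : cv q (u + v) = cv q u + cv q v := by
        funext i
        exact add_pow_q hF _ _
      rw [this, mulVec_add])
    (fun c v => by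
      change h *ᵥ cv q (c • v) = _
      have : cv q (c • v) = (conj hF c) • cv q v := by
        funext i
        exact mul_pow _ _ _
      rw [this, mulVec_smul])
    hcc
    (fun u v => by
      change hermForm 4 F q (h *ᵥ cv q u) (h *ᵥ cv q v) = _
      rw [hh.herm, conj_apply, herm_eq, herm_eq]
      change (∑ i, u i ^ q * (v i ^ q) ^ q) = (∑ i, u i * v i ^ q) ^ q
      rw [sum_pow_q hF]
      exact Finset.sum_congr rfl fun i _ => by rw [mul_pow]) 4 le_rfl
  have hu := un_cols hF hv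
  have hc' : ∀ i, h *ᵥ cv q (v i) = c i • v i := hc
  refine ⟨cols v, c, hu, fun i => ?_, ?_⟩
  · have h1 : hermForm 4 F q (h *ᵥ cv q (v i)) (h *ᵥ cv q (v i)) = 1 := by
      rw [hh.herm, herm_eq]
      have h3 := hv i i
      rw [if_pos rfl, herm_eq] at h3
      have h4 : cv q (v i) ⬝ᵥ cv q (cv q (v i)) = (v i ⬝ᵥ cv q (v i)) ^ q := by
        change (∑ k, v i k ^ q * (v i k ^ q) ^ q) = (∑ k, v i k * v i k ^ q) ^ q
        rw [sum_pow_q hF]
        exact Finset.sum_congr rfl fun i _ => by rw [mul_pow]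
      rw [h4, h3, one_pow]
    rw [hc', herm_smul_left, herm_smul_right, hv, if_pos rfl, mul_one] at h1
    exact h1
  · have h1 : h * cn hF (cols v) = cols v * diagonal c := by
      ext i j
      rw [mul_diagonal]
      have h2 := congrFun (hc' j) i
      change (∑ k, h i k * conj hF (v j k)) = v j i * c j
      change (∑ k, h i k * v j k ^ q) = c j * v j i at h2
      rw [mul_comm, ← h2]
      rfl
    rw [← h1, mul_assoc, hu.right', mul_one]

theorem iSq (hF : Fintype.card F = q ^ 2) (hq : q % 4 = 1) (g : M4 F) (hg : Un hF g)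
    (hgg : g * g = -1) : ∃ s, No F q s ∧ g.det = s * s := by
  have h2 := two_ne hF hq
  have hd : g.det ^ 2 = 1 := by
    rw [pow_two, ← det_mul, hgg, det_neg, det_one, Fintype.card_fin]
    norm_num
  rcases pm_of_sq hd with hd | hd
  · exact ⟨1, no_one, by rw [hd, mul_one]⟩
  · exfalso
    have hinv : g⁻¹ = -g := inv_eq_left_inv (by rw [neg_mul, hgg, neg_neg])
    have h1 : (1 + g) * (1 + g) = (2 : F) • g := by
      have : (1 + g) * (1 + g) = 1 + g + g + g * g := by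
        simp only [mul_add, add_mul, one_mul, mul_one]
        abel
      rw [this, hgg, two_smul]
      abel
    have h3 : (1 + g).det ^ 2 = -16 := by
      rw [pow_two, ← det_mul, h1, det_smul, Fintype.card_fin, hd]
      norm_num
    have h4 : (1 + g).det ^ q = (1 - g).det := by
      rw [← det_cn hF, cn_add, cn_one, ← det_transpose, transpose_add, transpose_one, ← hg.inv_eq,
        hinv, sub_eq_add_neg]
    have h5 : (1 + g) * (1 - g) = (2 : F) • 1 := by
      have : (1 + g) * (1 - g) = 1 - g * g := by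
        simp only [mul_sub, add_mul, one_mul, mul_one]
        abel
      rw [this, hgg, two_smul, sub_neg_eq_add]
    have h6 : (1 + g).det * (1 + g).det ^ q = 16 := by
      rw [h4, ← det_mul, h5, det_smul, Fintype.card_fin, det_one]
      norm_num
    obtain ⟨k, hk⟩ : ∃ k, q = 4 * k + 1 := ⟨q / 4, by omega⟩
    have h7 : (1 + g).det ^ (4 * k) = (16 : F) ^ (2 * k) := by
      rw [show 4 * k = 2 * (2 * k) by ring, pow_mul, h3, Even.neg_pow ⟨k, by ring⟩]
    have h8 : (16 : F) ^ (q - 1) = 1 := by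
      have h9 : (16 : F) ^ q = 16 := by
        have : ((16 : ℕ) : F) ^ q = ((16 : ℕ) : F) := by
          rw [← conj_apply hF, map_natCast]
        simpa using this
      have h10 : (16 : F) ≠ 0 := by
        have : (16 : F) = 2 ^ 4 := by norm_num
        rw [this]
        exact pow_ne_zero _ h2
      have h11 : (16 : F) ^ (q - 1) * 16 = 1 * 16 := by
        rw [← pow_succ, show q - 1 + 1 = q by omega, h9, one_mul]
      exact mul_right_cancel₀ h10 h11
    have h4' : (4 : F) ^ q = 4 := by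
      have : ((4 : ℕ) : F) ^ q = ((4 : ℕ) : F) := by
        rw [← conj_apply hF, map_natCast]
      simpa using this
    have h40 : (4 : F) ≠ 0 := by
      have : (4 : F) = 2 ^ 2 := by norm_num
      rw [this]
      exact pow_ne_zero _ h2
    have h12 : (4 : F) ^ (q - 1) = 1 := by
      have h11 : (4 : F) ^ (q - 1) * 4 = 1 * 4 := by
        rw [← pow_succ, show q - 1 + 1 = q by omega, h4', one_mul]
      exact mul_right_cancel₀ h40 h11
    have h13 : (16 : F) ^ (2 * k) = 1 := by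
      have : (16 : F) ^ (2 * k) = (4 : F) ^ (q - 1) := by
        rw [show (16 : F) = 4 ^ 2 by norm_num, ← pow_mul]
        congr 1
        (clear * - hk; omega)
      rw [this, h12]
    have h14 : (1 + g).det ^ q = (1 + g).det := by
      rw [hk, pow_succ, h7, h13, one_mul]
    rw [h14, ← pow_two, h3] at h6
    have h15 : (2 : F) ^ 5 = 0 := by linear_combination -h6
    exact pow_ne_zero _ h2 h15

omit [Fintype F] in
/-- A skew matrix. -/
theorem skew_form {h : M4 F} (h2 : (2 : F) ≠ 0) (hh : hᵀ = -h) :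
    ∃ a b c d e f : F, h = !![0, a, b, c; -a, 0, d, e; -b, -d, 0, f; -c, -e, -f, 0] := by
  have h1 : ∀ i j, h j i = -h i j := fun i j => by
    have := congrFun (congrFun hh i) j
    exact this
  have h0 : ∀ i, h i i = 0 := fun i => by
    have h3 := h1 i i
    have h4 : (2 : F) * h i i = 0 := by linear_combination h3
    exact (mul_eq_zero.1 h4).resolve_left h2
  refine ⟨h 0 1, h 0 2, h 0 3, h 1 2, h 1 3, h 2 3, ?_⟩
  ext i j
  (revert i j; simp only [h0, h1 0 1, h1 0 2, h1 0 3, h1 1 2, h1 1 3, h1 2 3, _root_.Fin.forall_fin_succ, Fin.isValue, _root_.Matrix.of_apply, _root_.Matrix.cons_val', _root_.Matrix.cons_val_fin_one, _root_.Matrix.cons_val_zero, _root_.Matrix.cons_val_succ, _root_.Fin.succ_zero_eq_one, _root_.Fin.succ_one_eq_two, Fin.reduceSucc, _root_.IsEmpty.forall_iff, _root_.and_true, _root_.and_self])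

omit [Fintype F] in
/-- The determinant of a skew matrix. -/
theorem skew_det (a b c d e f : F) :
    (!![0, a, b, c; -a, 0, d, e; -b, -d, 0, f; -c, -e, -f, 0] : M4 F).det =
      (a * f - b * e + c * d) * (a * f - b * e + c * d) := by
  rw [Matrix.det_succ_row_zero]
  simp only [Fin.sum_univ_succ, Matrix.det_fin_three, Matrix.submatrix, Fin.succAbove, Fin.succ, Fin.castSucc, _root_.Nat.succ_eq_add_one, _root_.Nat.reduceAdd, _root_.Fin.isValue, _root_.Matrix.of_apply, _root_.Matrix.cons_val', _root_.Matrix.cons_val_fin_one, _root_.Matrix.cons_val_zero, _root_.Matrix.cons_val_succ', _root_.Fin.eta, _root_.Fin.reduceCastAdd, _root_.Fin.coe_ofNat_eq_mod, _root_.Nat.zero_mod, _root_.zero_add, _root_.Fin.mk_one, _root_.Nat.one_mod, _root_.Fin.reduceFinMk, _root_.Matrix.cons_val_one, _root_.Nat.mod_succ, _root_.Matrix.cons_val, _root_.pow_zero, _root_.MulZeroClass.mul_zero, _root_.lt_self_iff_false, ↓ _root_.reduceIte, _root_.not_lt_zero, _root_.MulZeroClass.zero_mul,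 _root_.mul_neg, _root_.neg_zero, _root_.sub_self, _root_.neg_mul, _root_.neg_neg, _root_.sub_zero, _root_.pow_one, _root_.one_mul, _root_.zero_lt_one, _root_.Fin.lt_one_iff, _root_.Fin.reduceEq, _root_.zero_sub, _root_.even_two, _root_.Even.neg_pow, _root_.one_pow, _root_.Fin.reduceLT, _root_.add_zero, _root_.Finset.univ_unique, _root_.Fin.default_eq_zero, _root_.Fin.val_eq_zero, _root_.Finset.sum_const, _root_.Finset.card_singleton, _root_.one_smul]
  ring

omit [Fintype F] in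
/-- The product with the dual skew matrix. -/
theorem skew_mul (a b c d e f : F) :
    (!![0, a, b, c; -a, 0, d, e; -b, -d, 0, f; -c, -e, -f, 0] : M4 F) *
      !![0, f, -e, d; -f, 0, c, -b; e, -c, 0, a; -d, b, -a, 0] =
      (-(a * f - b * e + c * d)) • 1 := by
  ext i j
  rw [mul_apply, Fin.sum_univ_four]
  (revert i j; simp only [one_apply, _root_.Fin.forall_fin_succ, Fin.isValue, _root_.Matrix.of_apply, _root_.Matrix.cons_val', _root_.Matrix.cons_val_zero, _root_.Matrix.cons_val_fin_one, _root_.Matrix.cons_val_one, _root_.Matrix.cons_val, _root_.neg_add_rev, _root_.neg_sub, _root_.Matrix.smul_apply, _root_.smul_eq_mul, _root_.mul_ite, _root_.mul_one, _root_.MulZeroClass.mul_zero, _root_.mul_neg, _root_.zero_add, _root_.Matrix.cons_val_succ, _root_.add_zero, _root_.Fin.succ_zero_eq_one, _root_.Fin.succ_one_eq_two, Fin.reduceSucc, _root_.IsEmpty.forall_iff, _root_.and_true, ↓reduceIte, _root_.MulZeroClass.zero_mul, _root_.zero_ne_one,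 _root_.neg_zero, Fin.reduceEq, _root_.Fin.succ_ne_zero, _root_.neg_mul, _root_.neg_neg]) <;> (repeat' with_reducible apply And.intro) <;> ring

theorem skew (hF : Fintype.card F = q ^ 2) (hq : q % 4 = 1) (h : M4 F) (hU : Un hF h)
    (hh : hᵀ = -h) : ∃ s, No F q s ∧ h.det = s * s := by
  have h2 := two_ne hF hq
  obtain ⟨a, b, c, d, e, f, rfl⟩ := skew_form h2 hh
  obtain ⟨p, hp⟩ : ∃ p, p = a * f - b * e + c * d := ⟨_, rfl⟩
  have hdet := skew_det a b c d e f
  have hmul := skew_mul a b c d e f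
  rw [← hp] at hdet hmul
  have hp0 : p ≠ 0 := by
    rintro rfl
    rw [mul_zero] at hdet
    exact hU.isUnit.ne_zero hdet
  refine ⟨p, ?_, hdet⟩
  -- the inverse
  have hinv : (cn hF !![0, a, b, c; -a, 0, d, e; -b, -d, 0, f; -c, -e, -f, 0])ᵀ =
      (-p⁻¹) • !![0, f, -e, d; -f, 0, c, -b; e, -c, 0, a; -d, b, -a, 0] := by
    rw [← hU.inv_eq]
    apply inv_eq_right_inv
    rw [mul_smul_comm, hmul, smul_smul]
    have : -p⁻¹ * -p = 1 := by field_simp
    rw [this, one_smul]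
  have key : ∀ i j, (!![0, a, b, c; -a, 0, d, e; -b, -d, 0, f; -c, -e, -f, 0] : M4 F) j i ^ q =
      (-p⁻¹) * (!![0, f, -e, d; -f, 0, c, -b; e, -c, 0, a; -d, b, -a, 0] : M4 F) i j := by
    intro i j
    exact congrFun (congrFun hinv i) j
  have ha : a ^ q = p⁻¹ * f := by
    have := key 1 0
    simpa only [_root_.Fin.isValue, _root_.Matrix.of_apply, _root_.Matrix.cons_val', _root_.Matrix.cons_val_one, _root_.Matrix.cons_val_zero, _root_.Matrix.cons_val_fin_one, _root_.mul_neg, _root_.neg_mul, _root_.neg_neg] using this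
  have hb : b ^ q = -(p⁻¹ * e) := by
    have := key 2 0
    simpa only [_root_.Fin.isValue, _root_.Matrix.of_apply, _root_.Matrix.cons_val', _root_.Matrix.cons_val, _root_.Matrix.cons_val_fin_one, _root_.Matrix.cons_val_zero, _root_.Matrix.cons_val_one, _root_.neg_mul] using this
  have hc : c ^ q = p⁻¹ * d := by
    have := key 3 0
    simpa only [_root_.Fin.isValue, _root_.Matrix.of_apply, _root_.Matrix.cons_val', _root_.Matrix.cons_val, _root_.Matrix.cons_val_fin_one, _root_.Matrix.cons_val_zero, _root_.Matrix.cons_val_one, _root_.mul_neg, _root_.neg_mul, _root_.neg_neg] using this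
  have hd : d ^ q = p⁻¹ * c := by
    have := key 2 1
    simpa only [_root_.Fin.isValue, _root_.Matrix.of_apply, _root_.Matrix.cons_val', _root_.Matrix.cons_val, _root_.Matrix.cons_val_fin_one, _root_.Matrix.cons_val_one, _root_.Matrix.cons_val_zero, _root_.mul_neg, _root_.neg_mul, _root_.neg_neg] using this
  have he : e ^ q = -(p⁻¹ * b) := by
    have := key 3 1
    simpa only [_root_.Fin.isValue, _root_.Matrix.of_apply, _root_.Matrix.cons_val', _root_.Matrix.cons_val, _root_.Matrix.cons_val_fin_one, _root_.Matrix.cons_val_one, _root_.Matrix.cons_val_zero, _root_.neg_mul] using this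
  have hf : f ^ q = p⁻¹ * a := by
    have := key 3 2
    simpa only [_root_.Fin.isValue, _root_.Matrix.of_apply, _root_.Matrix.cons_val', _root_.Matrix.cons_val, _root_.Matrix.cons_val_fin_one, _root_.Matrix.cons_val_one, _root_.Matrix.cons_val_zero, _root_.mul_neg, _root_.neg_mul, _root_.neg_neg] using this
  have hpq : p ^ q = a ^ q * f ^ q - b ^ q * e ^ q + c ^ q * d ^ q := by
    rw [← conj_apply hF, hp, map_add, map_sub, map_mul, map_mul, map_mul]
    rfl
  unfold No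
  rw [hpq, ha, hb, hc, hd, he, hf]
  have h3 : p * (p⁻¹ * f * (p⁻¹ * a) - -(p⁻¹ * e) * -(p⁻¹ * b) + p⁻¹ * d * (p⁻¹ * c)) =
      p * p⁻¹ * p⁻¹ * (a * f - b * e + c * d) := by ring
  rw [h3, ← hp, mul_inv_cancel₀ hp0, one_mul, inv_mul_cancel₀ hp0]

/-- The structure `Good` for the unitary matrices. -/
theorem good (hF : Fintype.card F = q ^ 2) (hq : q % 4 = 1) : Good (Un hF) (No F q) where
  one := un_one
  mul hA hB := hA.mul hB
  det_ne hA := hA.isUnit.ne_zero
  inv hA := hA.inv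
  tr hA := hA.tr
  det hA := hA.det
  diag := un_diag
  perm := un_perm
  n_one := no_one
  n_neg := no_neg hF
  n_mul ha hb := ha.mul hb
  n_inv ha := ha.inv
  n_ne ha := ha.ne
  n_sq ha := ha.sq hq
  n_not hs := hs.not hF hq
  frameInv := frameInv hF (two_ne hF hq)
  frameSym := frameSym hF (two_ne hF hq)
  iSq := iSq hF hq
  skew := skew hF hq

end Cfsg.Agent.GH.Cov.F5Uni
end

private theorem dce_897243791562 : _root_.True := by
  try have : _root_.True := by simp only [_root_.Cfsg.Agent.GH.Cov.F5Core.D1.eq_1]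
  try have : _root_.True := by simp only [_root_.Cfsg.Agent.GH.Cov.F5Uni.cn.congr_simp]
  try have : _root_.True := by simp only [_root_.Cfsg.Agent.LieClassical.HermBasic.conj.congr_simp]
  exact _root_.True.intro
end

-- part: GH/Cov/FiveConf_mg
section
prune_inst 0x404403044592200000000051070001e0682000100000884008ca1070207c8e6620d4220608c000403580088040030006811980000000000000020000001180180000002041140a000000006000080000000000000000000000000000000000000000000000
set_option linter.all false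
open scoped Cfsg.Agent.FastGrp

-- part: GH/Cov/FiveConf
section
/-!
# Five conjugate elements and a double cover (GH-COV, rank cut, pieces [D] and [E])

`Conf a t d1 d2`: `a 0, ..., a 4` are permuted cyclically by an element `t` of order 5, all commutators, the squares and
the product `a 0 * a 1 * a 2 * a 3 * a 4` lie in the four-group generated by `d1 = [a 0, a 1]` and `d2 = [a 0, a 2]`, which is
centralised by the `a i` and by `t`.

`Conf.exists_section`: for a central extension `f : Y → X` with kernel of order 2 the preimage of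
the subgroup generated by the `a i` has an elementary abelian quotient by a subgroup of order at most 4 (at most 2 if the commutators
`D1`, `D2` of the lifts are equal).
-/

set_option autoImplicit false

namespace Cfsg.Agent.GH.Cov.FiveConf

open Cfsg Subgroup Cfsg.Agent.TwoFusion.SectionalRank

universe u v

variable {X : Type u} [Group X] {Y : Type v} [Group Y]

/-- The kernel of a double cover. -/
theorem ker_facts (f : Y →* X) (hk : Nat.card f.ker = 2) :
    (∀ k ∈ f.ker, ∀ y : Y, y * k = k * y) ∧ (∀ k ∈ f.ker, k * k = 1) := by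
  obtain ⟨c, hc1, hcu⟩ := (Nat.card_eq_two_iff' (1 : f.ker)).1 hk
  have hcases : ∀ k ∈ f.ker, k = 1 ∨ k = c := by
    intro k hk'
    by_cases h : (⟨k, hk'⟩ : f.ker) = 1
    · exact Or.inl (congrArg Subtype.val h)
    · exact Or.inr (congrArg Subtype.val (hcu _ h))
  have hc1' : (c : Y) ≠ 1 := fun h => hc1 (Subtype.ext h)
  refine ⟨fun k hk' y => ?_, fun k hk' => ?_⟩
  · rcases hcases k hk' with h | h
    · rw [h, mul_one, one_mul]
    · rcases hcases _ ((inferInstance : f.ker.Normal).conj_mem _ hk' y) with h' | h'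
      · have : k = 1 := by
          have e : k = y⁻¹ * (y * k * y⁻¹) * y := by group
          rw [e, h']; group
        rw [this, mul_one, one_mul]
      · rw [← h] at h'
        exact eq_mul_of_mul_inv_eq h'
  · rcases hcases k hk' with h | h
    · rw [h, mul_one]
    · rcases hcases _ (mul_mem hk' hk') with h' | h'
      · exact h'
      · rw [h] at h'
        exact absurd (mul_eq_left.1 h') hc1'

/-- An element of odd order acts trivially on the lifts of the elements it centralises. -/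
theorem comm_of_odd {f : Y →* X} (hk : Nat.card f.ker = 2) {t y : Y} {n : ℕ} (hn : Odd n)
    (ht : f t ^ n = 1) (hy : f t * f y = f y * f t) : t * y = y * t := by
  obtain ⟨hcent, hkk⟩ := ker_facts f hk
  have hkm : t * y * t⁻¹ * y⁻¹ ∈ f.ker := by
    rw [MonoidHom.mem_ker, map_mul, map_mul, map_mul, map_inv, map_inv, hy]
    group
  set k := t * y * t⁻¹ * y⁻¹ with hkdef
  have h1 : t * y * t⁻¹ = k * y := by rw [hkdef]; group
  have h2 : ∀ m : ℕ, t ^ m * y * (t ^ m)⁻¹ = k ^ m * y := by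
    intro m
    induction m with
    | zero => simp
    | succ m ih =>
      calc t ^ (m + 1) * y * (t ^ (m + 1))⁻¹ = t * (t ^ m * y * (t ^ m)⁻¹) * t⁻¹ := by
            rw [pow_succ']; group
        _ = t * (k ^ m * y) * t⁻¹ := by rw [ih]
        _ = (t * k ^ m) * y * t⁻¹ := by group
        _ = (k ^ m * t) * y * t⁻¹ := by rw [hcent _ (pow_mem hkm m) t]
        _ = k ^ m * (t * y * t⁻¹) := by group
        _ = k ^ (m + 1) * y := by rw [h1, pow_succ]; group
  have h3 : t ^ n ∈ f.ker := by rw [MonoidHom.mem_ker, map_pow, ht]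
  have h4 : k ^ n = k := by
    obtain ⟨r, rfl⟩ := hn
    rw [pow_succ, pow_mul, pow_two, hkk k hkm, one_pow, one_mul]
  have h5 := h2 n
  rw [h4, ← hcent _ h3 y, mul_inv_cancel_right] at h5
  have h6 : k = 1 := by
    have := h5.symm
    rwa [mul_eq_right] at this
  rw [h6, one_mul] at h1
  exact mul_inv_eq_iff_eq_mul.1 h1

/-- The configuration. -/
structure Conf (a : Fin 5 → X) (t d1 d2 : X) : Prop where
  t5 : t ^ 5 = 1
  conj : ∀ i, t * a i = a (i + 1) * t
  h1 : a 0 * a 1 = d1 * (a 1 * a 0)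
  h2 : a 0 * a 2 = d2 * (a 2 * a 0)
  t1 : t * d1 = d1 * t
  t2 : t * d2 = d2 * t
  a1 : a 0 * d1 = d1 * a 0
  a2 : a 0 * d2 = d2 * a 0
  sq : a 0 * a 0 = 1 ∨ a 0 * a 0 = d1 ∨ a 0 * a 0 = d2 ∨ a 0 * a 0 = d1 * d2
  prod : a 0 * a 1 * a 2 * a 3 * a 4 = 1 ∨ a 0 * a 1 * a 2 * a 3 * a 4 = d1 ∨ a 0 * a 1 * a 2 * a 3 * a 4 = d2 ∨
    a 0 * a 1 * a 2 * a 3 * a 4 = d1 * d2

/-- The four-group generated by two commuting involutions. -/
def four (D1 D2 : Y) (h1 : D1 * D1 = 1) (h2 : D2 * D2 = 1) (h : D1 * D2 = D2 * D1) : Subgroup Y where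
  carrier := {y | y = 1 ∨ y = D1 ∨ y = D2 ∨ y = D1 * D2}
  one_mem' := Or.inl rfl
  mul_mem' := by
    have e1 : D1 * (D1 * D2) = D2 := by rw [← mul_assoc, h1, one_mul]
    have e2 : D2 * (D1 * D2) = D1 := by rw [h, ← mul_assoc, h2, one_mul]
    have e3 : D1 * D2 * D1 = D2 := by rw [h, mul_assoc, h1, mul_one]
    have e4 : D1 * D2 * D2 = D1 := by rw [mul_assoc, h2, mul_one]
    have e5 : D1 * D2 * (D1 * D2) = 1 := by rw [mul_assoc, e2, h1]
    rintro x y (rfl | rfl | rfl | rfl) (rfl | rfl | rfl | rfl) <;>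
      simp only [h1, h2, e1, e2, e3, e4, e5, ← h, _root_.mul_one, _root_.Set.mem_ofPred_eq, _root_.true_or, _root_.one_mul, _root_.left_eq_mul, _root_.or_true, _root_.right_eq_mul, _root_.mul_eq_left, _root_.mul_eq_right]
  inv_mem' := by
    rintro x (rfl | rfl | rfl | rfl)
    · left; simp
    · right; left; exact inv_eq_of_mul_eq_one_right h1
    · right; right; left; exact inv_eq_of_mul_eq_one_right h2
    · right; right; right
      rw [mul_inv_rev, inv_eq_of_mul_eq_one_right h1, inv_eq_of_mul_eq_one_right h2, h]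

theorem mem_four {D1 D2 : Y} {h1 : D1 * D1 = 1} {h2 : D2 * D2 = 1} {h : D1 * D2 = D2 * D1} {y : Y} :
    y ∈ four D1 D2 h1 h2 h ↔ y = 1 ∨ y = D1 ∨ y = D2 ∨ y = D1 * D2 := Iff.rfl

theorem card_four_le {D1 D2 : Y} {h1 : D1 * D1 = 1} {h2 : D2 * D2 = 1} {h : D1 * D2 = D2 * D1} :
    Nat.card (four D1 D2 h1 h2 h) ≤ 4 := by
  classical
  have hs : ((four D1 D2 h1 h2 h : Subgroup Y) : Set Y) ⊆ (({1, D1, D2, D1 * D2} : Finset Y) : Set Y) := by
    intro y hy
    rcases mem_four.1 hy with h | h | h | h <;> simp only [h, _root_.Finset.coe_insert, _root_.Finset.coe_singleton, _root_.Set.mem_insert_iff, _root_.Set.mem_singleton_iff, _root_.true_or, _root_.left_eq_mul, _root_.or_true, _root_.right_eq_mul, _root_.mul_eq_left, _root_.mul_eq_right]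
  have h3 := Set.ncard_le_ncard hs (Finset.finite_toSet _)
  rw [Set.ncard_coe_finset] at h3
  exact h3.trans Finset.card_le_four

theorem card_four_le_two {D1 D2 : Y} {h1 : D1 * D1 = 1} {h2 : D2 * D2 = 1} {h : D1 * D2 = D2 * D1} (h12 : D1 = D2) :
    Nat.card (four D1 D2 h1 h2 h) ≤ 2 := by
  classical
  subst h12
  have hs : ((four D1 D1 h1 h2 h : Subgroup Y) : Set Y) ⊆ (({1, D1} : Finset Y) : Set Y) := by
    intro y hy
    rcases mem_four.1 hy with h | h | h | h <;> simp only [h, h1, _root_.Finset.coe_insert, _root_.Finset.coe_singleton, _root_.Set.mem_insert_iff, _root_.Set.mem_singleton_iff, _root_.true_or, _root_.or_true]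
  have h3 := Set.ncard_le_ncard hs (Finset.finite_toSet _)
  rw [Set.ncard_coe_finset] at h3
  exact h3.trans Finset.card_le_two

/-- Commutators in the closure from commutators of generators. -/
theorem closure_comm {S : Set Y} {N : Subgroup Y}
    (hc : ∀ x ∈ S, ∀ n ∈ N, x * n = n * x) (hcomm : ∀ x ∈ S, ∀ y ∈ S, x * y * x⁻¹ * y⁻¹ ∈ N) :
    (∀ x ∈ _root_.Subgroup.closure S, ∀ n ∈ N, x * n = n * x) ∧ ∀ x ∈ closure S, ∀ y ∈ closure S, x * y * x⁻¹ * y⁻¹ ∈ N := by
  have hc' : ∀ x ∈ _root_.Subgroup.closure S, ∀ n ∈ N, x * n = n * x := by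
    intro x hx n hn
    induction hx using closure_induction with
    | mem x hx => exact hc x hx n hn
    | one => rw [one_mul, mul_one]
    | mul x y _ _ hx hy => rw [mul_assoc, hy, ← mul_assoc, hx, mul_assoc]
    | inv x _ hx => rw [inv_mul_eq_iff_eq_mul, ← mul_assoc, hx, mul_inv_cancel_right]
  refine ⟨hc', ?_⟩
  intro x hx y hy
  induction hx, hy using closure_induction₂ with
  | mem x y hx hy => exact hcomm x hx y hy
  | one_left x _ => simp
  | one_right x _ => simp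
  | mul_left x y z hx hy hz h1 h2 =>
    have : x * y * z * (x * y)⁻¹ * z⁻¹ = x * (y * z * y⁻¹ * z⁻¹) * x⁻¹ * (x * z * x⁻¹ * z⁻¹) := by group
    rw [this, hc' x hx _ h2, mul_inv_cancel_right]
    exact mul_mem h2 h1
  | mul_right x y z hx hy hz h1 h2 =>
    have : z * (x * y) * z⁻¹ * (x * y)⁻¹ = (z * x * z⁻¹ * x⁻¹) * (x * (z * y * z⁻¹ * y⁻¹) * x⁻¹) := by group
    rw [this, hc' x hx _ h2, mul_inv_cancel_right]
    exact mul_mem h1 h2
  | inv_left x y hx hy h1 =>
    have : x⁻¹ * y * (x⁻¹)⁻¹ * y⁻¹ = x⁻¹ * (x * y * x⁻¹ * y⁻¹)⁻¹ * x := by group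
    rw [this, hc' x⁻¹ (inv_mem hx) _ (inv_mem h1), inv_mul_cancel_right]
    exact inv_mem h1
  | inv_right x y hx hy h1 =>
    have : x * y⁻¹ * x⁻¹ * (y⁻¹)⁻¹ = y⁻¹ * (x * y * x⁻¹ * y⁻¹)⁻¹ * y := by group
    rw [this, hc' y⁻¹ (inv_mem hy) _ (inv_mem h1), inv_mul_cancel_right]
    exact inv_mem h1

theorem sq_mul {N : Subgroup Y} {x y : Y} (hc : ∀ n ∈ N, x * n = n * x) (hm : y * x * y⁻¹ * x⁻¹ ∈ N) :
    (x * y) * (x * y) = (y * x * y⁻¹ * x⁻¹) * ((x * x) * (y * y)) := by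
  have : (x * y) * (x * y) = x * (y * x * y⁻¹ * x⁻¹) * x * y * y := by group
  rw [this, hc _ hm]
  group

/-- Elementary sections from generators. -/
theorem elemSection_closure {S : Set Y} {N : Subgroup Y} (hN : N ≤ closure S)
    (hc : ∀ x ∈ S, ∀ n ∈ N, x * n = n * x) (hcomm : ∀ x ∈ S, ∀ y ∈ S, x * y * x⁻¹ * y⁻¹ ∈ N)
    (hsq : ∀ x ∈ S, x * x ∈ N) : ElemSection 2 (closure S) N := by
  obtain ⟨hc', hcm⟩ := closure_comm hc hcomm
  refine ⟨hN, hcm, fun x hx => ?_⟩
  induction hx using closure_induction with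
  | mem x hx => rw [pow_two]; exact hsq x hx
  | one => rw [one_pow]; exact one_mem _
  | mul x y hx hy h1 h2 =>
    rw [pow_two, sq_mul (hc' x hx) (hcm y hy x hx), ← pow_two, ← pow_two]
    exact mul_mem (hcm y hy x hx) (mul_mem h1 h2)
  | inv x hx h1 => rw [inv_pow]; exact inv_mem h1

/-- Cyclically permuted lifts. -/
theorem exists_lifts (f : Y →* X) (hf : Function.Surjective f) (hk : Nat.card f.ker = 2) {a : Fin 5 → X} {t : X}
    (ht : t ^ 5 = 1) (hconj : ∀ i, t * a i = a (i + 1) * t) :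
    ∃ (A : Fin 5 → Y) (T : Y), f T = t ∧ T ^ 5 = 1 ∧ (∀ i, f (A i) = a i) ∧ ∀ i, T * A i = A (i + 1) * T := by
  obtain ⟨hcent, hkk⟩ := ker_facts f hk
  obtain ⟨T0, hT0⟩ := hf t
  obtain ⟨A0, hA0⟩ := hf (a 0)
  have h5 : T0 ^ 5 ∈ f.ker := by rw [MonoidHom.mem_ker, map_pow, hT0, ht]
  have hT5 : (T0 ^ 6) ^ 5 = 1 := by
    have e : (T0 ^ 6) ^ 5 = (T0 ^ 5 * T0 ^ 5) ^ 3 := by
      rw [← pow_mul, ← pow_add, ← pow_mul]
    rw [e, hkk _ h5, one_pow]
  have hfT : f (T0 ^ 6) = t := by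
    rw [map_pow, hT0, pow_succ, ht, one_mul]
  have hA : ∀ n : ℕ, ∀ i : Fin 5, (i : ℕ) = n → f ((T0 ^ 6) ^ n * A0 * ((T0 ^ 6) ^ n)⁻¹) = a i := by
    intro n
    induction n with
    | zero =>
      intro i hi
      have : i = 0 := Fin.ext hi
      rw [this, pow_zero, one_mul, inv_one, mul_one, hA0]
    | succ n ih =>
      intro i hi
      have hn : n < 5 := by have := i.2; omega
      have hi' : i = (⟨n, hn⟩ : Fin 5) + 1 := by
        apply Fin.ext
        rw [Fin.val_add]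
        have := i.2
        show (i : ℕ) = (n + 1) % 5
        omega
      have h1 := ih ⟨n, hn⟩ rfl
      have h2 : (T0 ^ 6) ^ (n + 1) * A0 * ((T0 ^ 6) ^ (n + 1))⁻¹ =
          (T0 ^ 6) * ((T0 ^ 6) ^ n * A0 * ((T0 ^ 6) ^ n)⁻¹) * (T0 ^ 6)⁻¹ := by
        rw [pow_succ' (T0 ^ 6) n]; group
      rw [h2, map_mul, map_mul, h1, map_inv, hfT, hconj, ← hi', mul_inv_cancel_right]
  refine ⟨fun i => (T0 ^ 6) ^ (i : ℕ) * A0 * ((T0 ^ 6) ^ (i : ℕ))⁻¹, T0 ^ 6, hfT, hT5, fun i => hA _ i rfl, ?_⟩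
  intro i
  have h1 : (T0 ^ 6) ^ ((i + 1 : Fin 5) : ℕ) = (T0 ^ 6) ^ ((i : ℕ) + 1) := by
    rw [Fin.val_add, show ((1 : Fin 5) : ℕ) = 1 from rfl]
    by_cases h : (i : ℕ) = 4
    · rw [h, show (4 + 1) % 5 = 0 from rfl, pow_zero, show 4 + 1 = 5 from rfl, hT5]
    · rw [Nat.mod_eq_of_lt (by have := i.2; omega)]
  show T0 ^ 6 * ((T0 ^ 6) ^ (i : ℕ) * A0 * ((T0 ^ 6) ^ (i : ℕ))⁻¹) =
    (T0 ^ 6) ^ ((i + 1 : Fin 5) : ℕ) * A0 * ((T0 ^ 6) ^ ((i + 1 : Fin 5) : ℕ))⁻¹ * T0 ^ 6
  rw [h1, pow_succ']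
  group

section main

variable {a : Fin 5 → X} {t d1 d2 : X}

theorem Conf.exists_section (h : Conf a t d1 d2) (f : Y →* X) (hf : Function.Surjective f)
    (hk : Nat.card f.ker = 2) :
    ∃ (D1 D2 : Y) (N : Subgroup Y), f D1 = d1 ∧ D1 * D1 = 1 ∧
      (∀ A0 A1 A2 : Y, f A0 = a 0 → f A1 = a 1 → f A2 = a 2 → A0 * A1 = D1 * (A1 * A0) ∧ A0 * A2 = D2 * (A2 * A0)) ∧
      (∀ i j : Fin 5, j = i + 1 → ∀ A B : Y, f A = a i → f B = a j → A * B = D1 * (B * A)) ∧
      Nat.card N ≤ 4 ∧ (D1 = D2 → Nat.card N ≤ 2) ∧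
      ElemSection 2 ((_root_.Subgroup.closure (Set.range a)).comap f) N := by
  obtain ⟨hcent, hkk⟩ := ker_facts f hk
  obtain ⟨A, T, hfT, hT5, hfA, hTA⟩ := exists_lifts f hf hk h.t5 h.conj
  -- the commutators
  obtain ⟨D, hDdef⟩ : ∃ D : Fin 5 → Fin 5 → Y, ∀ i j, D i j = A i * A j * (A i)⁻¹ * (A j)⁻¹ := ⟨_, fun _ _ => rfl⟩
  have hD : ∀ i j, A i * A j = D i j * (A j * A i) := fun i j => by
    rw [hDdef]
    group
  have hTD : ∀ i j, T * D i j = D (i + 1) (j + 1) * T := by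
    intro i j
    rw [hDdef, hDdef]
    have e : ∀ i, A (i + 1) = T * A i * T⁻¹ := fun i => by rw [hTA, mul_inv_cancel_right]
    rw [e, e]
    group
  have hTcomm : ∀ y, t * f y = f y * t → T * y = y * T := by
    intro y hy
    exact comm_of_odd hk (n := 5) (by decide) (by rw [hfT, h.t5]) (by rw [hfT]; exact hy)
  have hf1 : f (D 0 1) = d1 := by
    rw [hDdef, map_mul, map_mul, map_mul, map_inv, map_inv, hfA, hfA, h.h1]
    group
  have hf2 : f (D 0 2) = d2 := by
    rw [hDdef, map_mul, map_mul, map_mul, map_inv, map_inv, hfA, hfA, h.h2]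
    group
  have step : ∀ i j, T * D i j = D i j * T → D (i + 1) (j + 1) = D i j := by
    intro i j hij
    have := hTD i j
    rw [hij] at this
    exact (mul_right_cancel this).symm
  obtain ⟨D1, hD1⟩ : ∃ D1, D 0 1 = D1 := ⟨_, rfl⟩
  obtain ⟨D2, hD2⟩ : ∃ D2, D 0 2 = D2 := ⟨_, rfl⟩
  rw [hD1] at hf1
  rw [hD2] at hf2
  have hT1 : T * D1 = D1 * T := hTcomm _ (by rw [hf1, h.t1])
  have hT2 : T * D2 = D2 * T := hTcomm _ (by rw [hf2, h.t2])
  have e12 : D 1 2 = D1 := (step 0 1 (by rw [hD1]; exact hT1)).trans hD1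
  have e23 : D 2 3 = D1 := (step 1 2 (by rw [e12]; exact hT1)).trans e12
  have e34 : D 3 4 = D1 := (step 2 3 (by rw [e23]; exact hT1)).trans e23
  have e40 : D 4 0 = D1 := (step 3 4 (by rw [e34]; exact hT1)).trans e34
  have e13 : D 1 3 = D2 := (step 0 2 (by rw [hD2]; exact hT2)).trans hD2
  have e24 : D 2 4 = D2 := (step 1 3 (by rw [e13]; exact hT2)).trans e13
  have e30 : D 3 0 = D2 := (step 2 4 (by rw [e24]; exact hT2)).trans e24
  have e41 : D 4 1 = D2 := (step 3 0 (by rw [e30]; exact hT2)).trans e30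
  have hDinv : ∀ i j, D j i = (D i j)⁻¹ := by
    intro i j
    rw [hDdef, hDdef]
    group
  have hDself : ∀ i, D i i = 1 := by
    intro i
    rw [hDdef]
    group
  -- conjugation action on a lift of `d1` or `d2`
  have chi : ∀ E : Y, (E = D1 ∨ E = D2) → ∃ k ∈ f.ker, ∀ i, A i * E = k * (E * A i) := by
    intro E hE
    have hTE : T * E = E * T := by rcases hE with rfl | rfl <;> assumption
    obtain ⟨κ, hκdef⟩ : ∃ κ : Fin 5 → Y, ∀ i, κ i = A i * E * (A i)⁻¹ * E⁻¹ := ⟨_, fun _ => rfl⟩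
    have hκ : ∀ i, A i * E = κ i * (E * A i) := fun i => by
      rw [hκdef]
      group
    have h0 : κ 0 ∈ f.ker := by
      rw [MonoidHom.mem_ker, hκdef, map_mul, map_mul, map_mul, map_inv, map_inv, hfA]
      rcases hE with rfl | rfl
      · rw [hf1, h.a1]; group
      · rw [hf2, h.a2]; group
    have hκT : ∀ i, T * κ i = κ (i + 1) * T := by
      intro i
      rw [hκdef, hκdef]
      have e : A (i + 1) = T * A i * T⁻¹ := by rw [hTA, mul_inv_cancel_right]
      have e2 : E = T * E * T⁻¹ := by rw [hTE, mul_inv_cancel_right]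
      rw [e]
      conv_rhs => rw [e2]
      group
    have hκs : ∀ i, κ i ∈ f.ker → κ (i + 1) = κ i := by
      intro i hi
      have h1 := hκT i
      rw [hcent _ hi T] at h1
      exact (mul_right_cancel h1).symm
    have k1 : κ 1 = κ 0 := hκs 0 h0
    have k2 : κ 2 = κ 0 := (hκs 1 (by rw [k1]; exact h0)).trans k1
    have k3 : κ 3 = κ 0 := (hκs 2 (by rw [k2]; exact h0)).trans k2
    have k4 : κ 4 = κ 0 := (hκs 3 (by rw [k3]; exact h0)).trans k3
    refine ⟨κ 0, h0, fun i => ?_⟩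
    have : κ i = κ 0 := by
      fin_cases i
      · rfl
      · exact k1
      · exact k2
      · exact k3
      · exact k4
    rw [← this]
    exact hκ i
  -- the two commutators commute
  have h12 : D1 * D2 = D2 * D1 := by
    obtain ⟨k, hk', hkA⟩ := chi D2 (Or.inr rfl)
    have hs : ∀ i j, A i * A j * D2 = D2 * (A i * A j) := by
      intro i j
      calc A i * A j * D2 = A i * (A j * D2) := by group
        _ = (A i * k) * D2 * A j := by rw [hkA]; group
        _ = k * (A i * D2) * A j := by rw [hcent k hk']; group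
        _ = (k * k) * (D2 * (A i * A j)) := by rw [hkA]; group
        _ = D2 * (A i * A j) := by rw [hkk k hk', one_mul]
    have e1 : D1 * (A 1 * A 0) = A 0 * A 1 := by rw [← hD1]; exact (hD 0 1).symm
    have e2 : D1 * D2 * (A 1 * A 0) = D2 * D1 * (A 1 * A 0) := by
      rw [mul_assoc, ← hs, ← mul_assoc, e1, hs, mul_assoc, e1]
    exact mul_right_cancel e2
  -- lifts of elements of the four-group
  have lift : ∀ y : Y, (f y = 1 ∨ f y = d1 ∨ f y = d2 ∨ f y = d1 * d2) →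
      ∃ l ∈ f.ker, ∃ w : Y, (w = 1 ∨ w = D1 ∨ w = D2 ∨ w = D1 * D2) ∧ y = l * w := by
    intro y hy
    have key : ∀ w : Y, f y = f w → ∃ l ∈ f.ker, y = l * w := fun w hw =>
      ⟨y * w⁻¹, by rw [MonoidHom.mem_ker, map_mul, map_inv, hw, mul_inv_cancel], by group⟩
    rcases hy with hy | hy | hy | hy
    · obtain ⟨l, hl, e⟩ := key 1 (by rw [hy, map_one])
      exact ⟨l, hl, 1, Or.inl rfl, e⟩
    · obtain ⟨l, hl, e⟩ := key D1 (by rw [hy, hf1])
      exact ⟨l, hl, D1, Or.inr (Or.inl rfl), e⟩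
    · obtain ⟨l, hl, e⟩ := key D2 (by rw [hy, hf2])
      exact ⟨l, hl, D2, Or.inr (Or.inr (Or.inl rfl)), e⟩
    · obtain ⟨l, hl, e⟩ := key (D1 * D2) (by rw [hy, map_mul, hf1, hf2])
      exact ⟨l, hl, D1 * D2, Or.inr (Or.inr (Or.inr rfl)), e⟩
  have wcomm : ∀ {w y : Y}, (w = 1 ∨ w = D1 ∨ w = D2 ∨ w = D1 * D2) → y * D1 = D1 * y → y * D2 = D2 * y →
      y * w = w * y := by
    rintro w y (rfl | rfl | rfl | rfl) hy1 hy2
    · rw [mul_one, one_mul]
    · exact hy1
    · exact hy2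
    · rw [← mul_assoc, hy1, mul_assoc, hy2, mul_assoc]
  obtain ⟨l, hl, w, hw, hWlw⟩ := lift (A 0 * A 1 * A 2 * A 3 * A 4) (by
    rw [map_mul, map_mul, map_mul, map_mul, hfA, hfA, hfA, hfA, hfA]
    exact h.prod)
  have hAE : ∀ E : Y, (E = D1 ∨ E = D2) → ∀ i, A i * E = E * A i := by
    intro E hE
    obtain ⟨k, hk', hkA⟩ := chi E hE
    have hstep : ∀ x y : Y, x * E = E * x → ∀ i, x * A i * E = k * (E * (x * A i)) := by
      intro x y hx i
      calc x * A i * E = x * (A i * E) := by group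
        _ = (x * k) * E * A i := by rw [hkA]; group
        _ = k * (x * E) * A i := by rw [hcent k hk']; group
        _ = _ := by rw [hx]; group
    have hs : ∀ i j, A i * A j * E = E * (A i * A j) := by
      intro i j
      calc A i * A j * E = A i * (A j * E) := by group
        _ = (A i * k) * E * A j := by rw [hkA]; group
        _ = k * (A i * E) * A j := by rw [hcent k hk']; group
        _ = (k * k) * (E * (A i * A j)) := by rw [hkA]; group
        _ = E * (A i * A j) := by rw [hkk k hk', one_mul]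
    have hs4 : A 0 * A 1 * A 2 * A 3 * E = E * (A 0 * A 1 * A 2 * A 3) := by
      calc A 0 * A 1 * A 2 * A 3 * E = A 0 * A 1 * (A 2 * A 3 * E) := by group
        _ = (A 0 * A 1 * E) * (A 2 * A 3) := by rw [hs]; group
        _ = _ := by rw [hs]; group
    have hW1 : A 0 * A 1 * A 2 * A 3 * A 4 * E = k * (E * (A 0 * A 1 * A 2 * A 3 * A 4)) :=
      hstep _ 1 hs4 4
    have hwE : E * w = w * E := by
      apply wcomm hw
      · rcases hE with rfl | rfl
        · rfl
        · exact h12.symm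
      · rcases hE with rfl | rfl
        · exact h12
        · rfl
    have hW2 : A 0 * A 1 * A 2 * A 3 * A 4 * E = E * (A 0 * A 1 * A 2 * A 3 * A 4) := by
      rw [hWlw, mul_assoc, ← hwE, ← mul_assoc, ← hcent l hl E, mul_assoc]
    have hk1 : k = 1 := by
      rw [hW2] at hW1
      exact (mul_eq_right.1 hW1.symm)
    intro i
    rw [hkA, hk1, one_mul]
  have hA1 := hAE D1 (Or.inl rfl)
  have hA2 := hAE D2 (Or.inr rfl)
  -- the squares
  obtain ⟨l', hl', w', hw', hsq'⟩ := lift (A 0 * A 0) (by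
    rw [map_mul, hfA]
    exact h.sq)
  have hsA : ∀ i, A 0 * A 0 * A i = A i * (A 0 * A 0) := by
    intro i
    rw [hsq', mul_assoc, ← wcomm hw' (hA1 i) (hA2 i), ← mul_assoc, ← hcent l' hl' (A i), mul_assoc]
  have hDD : ∀ i, D 0 i * A i = A i * D 0 i → A 0 * D 0 i = D 0 i * A 0 → D 0 i * D 0 i = 1 := by
    intro i hi hi0
    have e1 : A 0 * A 0 * A i = D 0 i * D 0 i * (A i * (A 0 * A 0)) := by
      calc A 0 * A 0 * A i = A 0 * (A 0 * A i) := by group
        _ = (A 0 * D 0 i) * (A i * A 0) := by rw [hD 0 i]; group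
        _ = D 0 i * (A 0 * A i) * A 0 := by rw [hi0]; group
        _ = _ := by rw [hD 0 i]; group
    rw [hsA i] at e1
    exact mul_eq_right.1 e1.symm
  have hDD1 : D1 * D1 = 1 := by
    have := hDD 1
    rw [hD1] at this
    exact this (hA1 1).symm (hA1 0)
  have hDD2 : D2 * D2 = 1 := by
    have := hDD 2
    rw [hD2] at this
    exact this (hA2 2).symm (hA2 0)
  have hmemN : ∀ {y : Y}, y ∈ four D1 D2 hDD1 hDD2 h12 ↔ y = 1 ∨ y = D1 ∨ y = D2 ∨ y = D1 * D2 := mem_four
  have hN4 : Nat.card (four D1 D2 hDD1 hDD2 h12) ≤ 4 := card_four_le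
  have hN2 : D1 = D2 → Nat.card (four D1 D2 hDD1 hDD2 h12) ≤ 2 := card_four_le_two
  obtain ⟨N, hNdef⟩ : ∃ N, N = four D1 D2 hDD1 hDD2 h12 := ⟨_, rfl⟩
  rw [← hNdef] at hN4 hN2
  have hmem : ∀ {y : Y}, y ∈ N ↔ y = 1 ∨ y = D1 ∨ y = D2 ∨ y = D1 * D2 := by
    intro y
    rw [hNdef]
    exact hmemN
  have key1 : ∀ i : Fin 5, D i (i + 1) = D1 := by
    intro i
    fin_cases i
    · exact hD1
    · exact e12
    · exact e23
    · exact e34
    · exact e40
  have key2 : ∀ i : Fin 5, D i (i + 2) = D2 := by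
    intro i
    fin_cases i
    · exact hD2
    · exact e13
    · exact e24
    · exact e30
    · exact e41
  have m1 : D1 ∈ N := hmem.2 (Or.inr (Or.inl rfl))
  have m2 : D2 ∈ N := hmem.2 (Or.inr (Or.inr (Or.inl rfl)))
  have hDN : ∀ i j, D i j ∈ N := by
    intro i j
    have hcases : j = i ∨ j = i + 1 ∨ j = i + 2 ∨ i = j + 1 ∨ i = j + 2 := by
      revert i j; decide
    rcases hcases with rfl | rfl | rfl | rfl | rfl
    · rw [hDself]; exact one_mem _
    · rw [key1]; exact m1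
    · rw [key2]; exact m2
    · rw [hDinv j, key1]; exact inv_mem m1
    · rw [hDinv j, key2]; exact inv_mem m2
  obtain ⟨S, hSdef⟩ : ∃ S : Set Y, S = Set.range A ∪ (f.ker : Set Y) := ⟨_, rfl⟩
  have hSA : ∀ i, A i ∈ _root_.Subgroup.closure S := fun i => _root_.Subgroup.subset_closure (by rw [hSdef]; exact Or.inl ⟨i, rfl⟩)
  have hND : ∀ i j, D i j ∈ closure S := by
    intro i j
    rw [hDdef]
    exact mul_mem (mul_mem (mul_mem (hSA i) (hSA j)) (inv_mem (hSA i))) (inv_mem (hSA j))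
  have hNS : N ≤ closure S := by
    intro y hy
    have c1 : D1 ∈ closure S := by rw [← hD1]; exact hND 0 1
    have c2 : D2 ∈ closure S := by rw [← hD2]; exact hND 0 2
    rcases hmem.1 hy with rfl | rfl | rfl | rfl
    · exact one_mem _
    · exact c1
    · exact c2
    · exact mul_mem c1 c2
  have hc : ∀ x ∈ S, ∀ n ∈ N, x * n = n * x := by
    intro x hx n hn
    rw [hSdef] at hx
    rcases hx with ⟨i, rfl⟩ | hx
    · exact wcomm (hmem.1 hn) (hA1 i) (hA2 i)
    · exact (hcent x hx n).symm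
  have hcomm : ∀ x ∈ S, ∀ y ∈ S, x * y * x⁻¹ * y⁻¹ ∈ N := by
    intro x hx y hy
    rw [hSdef] at hx hy
    rcases hx with ⟨i, rfl⟩ | hx
    · rcases hy with ⟨j, rfl⟩ | hy
      · rw [← hDdef]; exact hDN i j
      · rw [hcent y hy (A i)]
        simp
    · rw [← hcent x hx y]
      simp
  obtain ⟨hc', hcm⟩ := closure_comm hc hcomm
  -- all squares are equal
  have hTs : T * (A 0 * A 0) = A 0 * A 0 * T := by
    rw [hsq', ← mul_assoc, hcent l' hl' T, mul_assoc, wcomm hw' hT1 hT2, mul_assoc]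
  have hsstep : ∀ i, A i * A i = A 0 * A 0 → A (i + 1) * A (i + 1) = A 0 * A 0 := by
    intro i hi
    have e : A (i + 1) = T * A i * T⁻¹ := by rw [hTA, mul_inv_cancel_right]
    calc A (i + 1) * A (i + 1) = T * (A i * A i) * T⁻¹ := by rw [e]; group
      _ = A 0 * A 0 := by rw [hi, hTs, mul_inv_cancel_right]
  have s1 : A 1 * A 1 = A 0 * A 0 := hsstep 0 rfl
  have s2 : A 2 * A 2 = A 0 * A 0 := hsstep 1 s1
  have s3 : A 3 * A 3 = A 0 * A 0 := hsstep 2 s2
  have s4 : A 4 * A 4 = A 0 * A 0 := hsstep 3 s3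
  have sall : ∀ i, A i * A i = A 0 * A 0 := by
    intro i
    fin_cases i
    · rfl
    · exact s1
    · exact s2
    · exact s3
    · exact s4
  have wsq : ∀ {w : Y}, (w = 1 ∨ w = D1 ∨ w = D2 ∨ w = D1 * D2) → w * w = 1 := by
    rintro w (rfl | rfl | rfl | rfl)
    · rw [mul_one]
    · exact hDD1
    · exact hDD2
    · calc D1 * D2 * (D1 * D2) = D1 * (D2 * D1) * D2 := by group
        _ = (D1 * D1) * (D2 * D2) := by rw [← h12]; group
        _ = 1 := by rw [hDD1, hDD2, mul_one]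
  have lwsq : ∀ {l w : Y}, l ∈ f.ker → (w = 1 ∨ w = D1 ∨ w = D2 ∨ w = D1 * D2) → l * w * (l * w) = 1 := by
    intro l w hl hw
    calc l * w * (l * w) = l * (w * l) * w := by group
      _ = (l * l) * (w * w) := by rw [hcent l hl w]; group
      _ = 1 := by rw [hkk l hl, wsq hw, mul_one]
  have hss : A 0 * A 0 * (A 0 * A 0) = 1 := by rw [hsq']; exact lwsq hl' hw'
  have hWW : A 0 * A 1 * A 2 * A 3 * A 4 * (A 0 * A 1 * A 2 * A 3 * A 4) = 1 := by
    rw [hWlw]; exact lwsq hl hw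
  have hsN : A 0 * A 0 ∈ N := by
    have q : ∀ x ∈ _root_.Subgroup.closure S, ∀ i, ∃ m ∈ N, x * A i * (x * A i) = m * (x * x * (A 0 * A 0)) := by
      intro x hx i
      refine ⟨_, hcm (A i) (hSA i) x hx, ?_⟩
      rw [sq_mul (hc' x hx) (hcm _ (hSA i) x hx), sall i]
    obtain ⟨n1, hn1, q1⟩ := q (A 0) (hSA 0) 1
    obtain ⟨n2, hn2, q2⟩ := q (A 0 * A 1) (mul_mem (hSA 0) (hSA 1)) 2
    obtain ⟨n3, hn3, q3⟩ := q (A 0 * A 1 * A 2) (mul_mem (mul_mem (hSA 0) (hSA 1)) (hSA 2)) 3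
    obtain ⟨n4, hn4, q4⟩ := q (A 0 * A 1 * A 2 * A 3)
      (mul_mem (mul_mem (mul_mem (hSA 0) (hSA 1)) (hSA 2)) (hSA 3)) 4
    generalize A 0 * A 0 = s at *
    rw [hss, mul_one] at q1
    rw [q1] at q2
    rw [q2] at q3
    rw [q3] at q4
    rw [hWW] at q4
    have e : n4 * (n3 * (n2 * (n1 * s) * s) * s) = n4 * n3 * n2 * n1 * s := by
      calc n4 * (n3 * (n2 * (n1 * s) * s) * s) = n4 * n3 * n2 * n1 * (s * s) * s := by group
        _ = _ := by rw [hss, mul_one]
    rw [e] at q4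
    rw [← inv_eq_of_mul_eq_one_right q4.symm]
    exact inv_mem (mul_mem (mul_mem (mul_mem hn4 hn3) hn2) hn1)
  -- commutators of arbitrary lifts
  have hlift : ∀ (i j : Fin 5) (B C : Y), f B = a i → f C = a j → B * C = D i j * (C * B) := by
    intro i j B C hB hC
    obtain ⟨k, hkm, rfl⟩ : ∃ k ∈ f.ker, B = k * A i :=
      ⟨B * (A i)⁻¹, by rw [MonoidHom.mem_ker, map_mul, map_inv, hB, hfA, mul_inv_cancel], by group⟩
    obtain ⟨m, hmm, rfl⟩ : ∃ m ∈ f.ker, C = m * A j :=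
      ⟨C * (A j)⁻¹, by rw [MonoidHom.mem_ker, map_mul, map_inv, hC, hfA, mul_inv_cancel], by group⟩
    calc k * A i * (m * A j) = k * (A i * m) * A j := by group
      _ = k * m * (A i * A j) := by rw [hcent m hmm]; group
      _ = k * (m * D i j) * (A j * A i) := by rw [hD]; group
      _ = (k * D i j) * m * (A j * A i) := by rw [← hcent m hmm (D i j)]; group
      _ = D i j * (k * m) * A j * A i := by rw [← hcent k hkm (D i j)]; group
      _ = D i j * (m * (k * A j) * A i) := by rw [hcent m hmm k]; group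
      _ = _ := by rw [← hcent k hkm (A j)]; group
  refine ⟨D1, D2, N, hf1, hDD1, ?_, ?_, hN4, hN2, ?_⟩
  · intro A0 A1 A2 h0 h1 h2
    refine ⟨?_, ?_⟩
    · rw [← hD1]; exact hlift 0 1 A0 A1 h0 h1
    · rw [← hD2]; exact hlift 0 2 A0 A2 h0 h2
  · rintro i j rfl B C hB hC
    rw [← key1 i]
    exact hlift _ _ B C hB hC
  · have hcl : (_root_.Subgroup.closure (Set.range a)).comap f = closure S := by
      have e1 : closure (Set.range a) = (closure (Set.range A)).map f := by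
        rw [MonoidHom.map_closure, ← Set.range_comp]
        congr 1
        apply congrArg
        funext i
        exact (hfA i).symm
      rw [e1, comap_map_eq, hSdef, Subgroup.closure_union, Subgroup.closure_eq]
    rw [hcl]
    refine elemSection_closure hNS hc hcomm ?_
    intro x hx
    rw [hSdef] at hx
    rcases hx with ⟨i, rfl⟩ | hx
    · rw [sall]; exact hsN
    · rw [hkk x hx]; exact one_mem _

/-- First conclusion: the group generated by the `a i` has order at least 64. -/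
theorem Conf.not_le_four [Finite Y] (h : Conf a t d1 d2) (f : Y →* X) (hf : Function.Surjective f)
    (hk : Nat.card f.ker = 2) (hS : 64 ≤ Nat.card (closure (Set.range a))) : ¬ SectionalPRankLE 2 4 Y := by
  intro hr
  obtain ⟨D1, D2, N, -, -, -, -, hN4, -, hsec⟩ := h.exists_section f hf hk
  rw [sectionalPRankLE_iff] at hr
  have h1 := hr _ _ hsec
  rw [Rank.card_comap_of_surjective f hf, hk] at h1
  omega

/-- Second conclusion: the group generated by the `a i` has order at least 32 and there is an element of order 3. -/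
theorem Conf.not_le_four' [Finite Y] (h : Conf a t d1 d1) (f : Y →* X) (hf : Function.Surjective f)
    (hk : Nat.card f.ker = 2) (hS : 32 ≤ Nat.card (closure (Set.range a))) (g : X) (g3 : g ^ 3 = 1)
    (g1 : g * a 1 = a 2 * g) (g2 : g * a 2 = a 0 * g) (gd : g * d1 = d1 * g) : ¬ SectionalPRankLE 2 4 Y := by
  intro hr
  obtain ⟨D1, D2, N, hfD1, hDD1, hl, hc, -, hN2, hsec⟩ := h.exists_section f hf hk
  have h12 : D1 = D2 := by
    obtain ⟨G, rfl⟩ := hf g
    obtain ⟨A1, hA1⟩ := hf (a 1)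
    obtain ⟨A2, hA2⟩ := hf (a 2)
    have e1 : A1 * A2 = D1 * (A2 * A1) := hc 1 2 rfl A1 A2 hA1 hA2
    have hGD : G * D1 = D1 * G := comm_of_odd hk (n := 3) (by decide) g3 (by rw [hfD1]; exact gd)
    have hB2 : f (G * A1 * G⁻¹) = a 2 := by
      rw [map_mul, map_mul, map_inv, hA1, g1, mul_inv_cancel_right]
    have hB0 : f (G * A2 * G⁻¹) = a 0 := by
      rw [map_mul, map_mul, map_inv, hA2, g2, mul_inv_cancel_right]
    have e2 : (G * A1 * G⁻¹) * (G * A2 * G⁻¹) = D1 * ((G * A2 * G⁻¹) * (G * A1 * G⁻¹)) := by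
      calc (G * A1 * G⁻¹) * (G * A2 * G⁻¹) = G * (A1 * A2) * G⁻¹ := by group
        _ = (G * D1) * A2 * A1 * G⁻¹ := by rw [e1]; group
        _ = _ := by rw [hGD]; group
    have e3 := (hl _ A1 _ hB0 hA1 hB2).2
    rw [e3] at e2
    have e4 : D1 * D2 = 1 := by
      have e5 : D1 * D2 * (G * A1 * G⁻¹ * (G * A2 * G⁻¹)) = G * A1 * G⁻¹ * (G * A2 * G⁻¹) := by
        rw [mul_assoc D1 D2]
        exact e2.symm
      exact mul_eq_right.1 e5
    calc D1 = D1 * (D1 * D2) := by rw [e4, mul_one]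
      _ = D2 := by rw [← mul_assoc, hDD1, one_mul]
  rw [sectionalPRankLE_iff] at hr
  have h1 := hr _ _ hsec
  rw [Rank.card_comap_of_surjective f hf, hk] at h1
  have := hN2 h12
  omega

end main

end Cfsg.Agent.GH.Cov.FiveConf
end

-- part: GH/Cov/Pair
section
/-!
# Commuting pairs of quaternion groups (GH-COV, rank cut, part [F], abstract lemma)

`Pair i j k l`: `⟨i, j⟩` and `⟨k, l⟩` are commuting quaternion groups with the same central involution
`t = i * i`, and the products `x * y`, `x ∈ {i, j, ij}`, `y ∈ {k, l, kl}` are all conjugate to `t`. A double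
cover of such a group has sectional 2-rank at least 5.
-/

set_option autoImplicit false

open Cfsg Subgroup
open Cfsg.Agent.TwoFusion
open scoped commutatorElement

set_option linter.dupNamespace false

namespace Cfsg.Agent.GH.Cov.Pair

universe u v

/-- A commuting pair of quaternion groups with fused products. -/
structure Pair {X : Type v} [Group X] (i j k l : X) : Prop where
  jj : j * j = i * i
  kk : k * k = i * i
  ll : l * l = i * i
  ji : j * i * j⁻¹ = i⁻¹
  lk : l * k * l⁻¹ = k⁻¹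
  ik : i * k = k * i
  il : i * l = l * i
  jk : j * k = k * j
  jl : j * l = l * j
  ne : i * i ≠ 1
  conj : ∀ x, (x = i ∨ x = j ∨ x = i * j) → ∀ y, (y = k ∨ y = l ∨ y = k * l) →
    ∃ g, g * (x * y) * g⁻¹ = i * i

/-- The group `X` contains a pair. -/
def HasPair (X : Type v) [Group X] : Prop := ∃ i j k l : X, Pair i j k l

theorem Pair.map {X : Type v} [Group X] {Z : Type u} [Group Z] {i j k l : X} (h : Pair i j k l)
    (φ : X →* Z) (hφ : Function.Injective φ) : Pair (φ i) (φ j) (φ k) (φ l) where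
  jj := by rw [← map_mul, h.jj, map_mul]
  kk := by rw [← map_mul, h.kk, map_mul]
  ll := by rw [← map_mul, h.ll, map_mul]
  ji := by rw [← map_inv, ← map_mul, ← map_mul, h.ji, map_inv]
  lk := by rw [← map_inv, ← map_mul, ← map_mul, h.lk, map_inv]
  ik := by rw [← map_mul, h.ik, map_mul]
  il := by rw [← map_mul, h.il, map_mul]
  jk := by rw [← map_mul, h.jk, map_mul]
  jl := by rw [← map_mul, h.jl, map_mul]
  ne := by
    intro h1
    rw [← map_mul] at h1
    exact h.ne (hφ (by rw [h1, map_one]))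
  conj := by
    intro x hx y hy
    have hx' : ∃ x', φ x' = x ∧ (x' = i ∨ x' = j ∨ x' = i * j) := by
      rcases hx with rfl | rfl | rfl
      · exact ⟨i, rfl, Or.inl rfl⟩
      · exact ⟨j, rfl, Or.inr (Or.inl rfl)⟩
      · exact ⟨i * j, map_mul _ _ _, Or.inr (Or.inr rfl)⟩
    have hy' : ∃ y', φ y' = y ∧ (y' = k ∨ y' = l ∨ y' = k * l) := by
      rcases hy with rfl | rfl | rfl
      · exact ⟨k, rfl, Or.inl rfl⟩
      · exact ⟨l, rfl, Or.inr (Or.inl rfl)⟩
      · exact ⟨k * l, map_mul _ _ _, Or.inr (Or.inr rfl)⟩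
    obtain ⟨x', rfl, hx'⟩ := hx'
    obtain ⟨y', rfl, hy'⟩ := hy'
    obtain ⟨g, hg⟩ := h.conj x' hx' y' hy'
    exact ⟨φ g, by rw [← map_mul, ← map_mul, ← map_inv, ← map_mul, hg, map_mul]⟩

theorem HasPair.of_injective {X : Type v} [Group X] {Z : Type u} [Group Z] (h : HasPair X)
    (φ : X →* Z) (hφ : Function.Injective φ) : HasPair Z := by
  obtain ⟨i, j, k, l, h⟩ := h
  exact ⟨_, _, _, _, h.map φ hφ⟩

theorem lag {G : Type u} [Group G] [Finite G] (H K : Subgroup G) (hHK : H ≤ K) {x : G} (hx : x ∈ K)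
    (hxH : x ∉ H) : 2 * Nat.card H ≤ Nat.card K := by
  have h1 := relIndex_mul_relIndex (⊥ : Subgroup G) H K bot_le hHK
  rw [relIndex_bot_left, relIndex_bot_left] at h1
  have h2 : H.relIndex K ≠ 1 := fun h => hxH ((relIndex_eq_one.1 h) hx)
  have h3 : H.relIndex K ≠ 0 := by
    intro h
    rw [h, mul_zero] at h1
    exact absurd h1.symm (Nat.card_pos (α := K)).ne'
  have h4 : 2 ≤ H.relIndex K := by omega
  calc 2 * Nat.card H = Nat.card H * 2 := mul_comm _ _
    _ ≤ Nat.card H * H.relIndex K := Nat.mul_le_mul_left _ h4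
    _ = Nat.card K := h1

variable {Y : Type u} {X : Type v} [Group Y] [Group X] [Finite Y]

/-- **Double covers of groups with a pair.** -/
theorem not_le_four (f : Y →* X) (hf : Function.Surjective f) (hk : Nat.card f.ker = 2)
    (h : HasPair X) : ¬ SectionalPRankLE 2 4 Y := by
  intro hr
  obtain ⟨c, D⟩ := Transfer.exists_dbl f hf hk
  obtain ⟨i, j, k, l, P⟩ := h
  obtain ⟨I, rfl⟩ := hf i
  obtain ⟨J, rfl⟩ := hf j
  obtain ⟨K, rfl⟩ := hf k
  obtain ⟨L, rfl⟩ := hf l
  have hce : ∀ e : Y, (e = 1 ∨ e = c) → (∀ y, y * e = e * y) ∧ e * e = 1 := by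
    rintro e (rfl | rfl)
    · exact ⟨fun y => by rw [mul_one, one_mul], one_mul 1⟩
    · exact ⟨D.comm, D.cc⟩
  have hlift : ∀ a b : Y, f a = f b → ∃ e, (e = 1 ∨ e = c) ∧ a = b * e := by
    intro a b hab
    rcases D.eq_or hab with h1 | h1
    · exact ⟨1, Or.inl rfl, by rw [h1, mul_one]⟩
    · exact ⟨c, Or.inr rfl, h1⟩
  -- lifts of `t` are involutions
  have hII : (I * I) * (I * I) = 1 := by
    obtain ⟨e, he, h1⟩ := hlift (J * I * J⁻¹) I⁻¹ (by
      rw [map_mul, map_mul, map_inv, map_inv, P.ji])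
    obtain ⟨e', he', h2⟩ := hlift (I * I) (J * J) (by rw [map_mul, map_mul, P.jj])
    obtain ⟨hc1, hc2⟩ := hce e he
    obtain ⟨hc3, hc4⟩ := hce e' he'
    have h3 : J * (I * I) * J⁻¹ = I * I := by
      rw [h2]
      calc J * (J * J * e') * J⁻¹ = J * J * (J * e') * J⁻¹ := by group
        _ = J * J * e' := by rw [hc3 J]; group
    have h4 : J * (I * I) * J⁻¹ = (I * I)⁻¹ := by
      calc J * (I * I) * J⁻¹ = (J * I * J⁻¹) * (J * I * J⁻¹) := by group
        _ = (I⁻¹ * e) * (I⁻¹ * e) := by rw [h1]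
        _ = I⁻¹ * (e * I⁻¹) * e := by group
        _ = I⁻¹ * I⁻¹ * (e * e) := by rw [← hc1]; group
        _ = (I * I)⁻¹ := by rw [hc2]; group
    rw [h3] at h4
    calc (I * I) * (I * I) = (I * I) * (I * I)⁻¹ := by rw [← h4]
      _ = 1 := mul_inv_cancel _
  have hT : ∀ T, f T = f I * f I → T * T = 1 := by
    intro T hT
    rw [← map_mul] at hT
    obtain ⟨e, he, rfl⟩ := hlift _ _ hT
    obtain ⟨hc1, hc2⟩ := hce e he
    calc (I * I * e) * (I * I * e) = (I * I) * (e * (I * I)) * e := by group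
      _ = (I * I) * (I * I) * (e * e) := by rw [← hc1]; group
      _ = 1 := by rw [hII, hc2, one_mul]
  have hU : ∀ U : Y, (∃ g, g * f U * g⁻¹ = f I * f I) → U * U = 1 := by
    rintro U ⟨g, hg⟩
    obtain ⟨g, rfl⟩ := hf g
    have h1 := hT (g * U * g⁻¹) (by rw [map_mul, map_mul, map_inv, hg])
    calc U * U = g⁻¹ * ((g * U * g⁻¹) * (g * U * g⁻¹)) * g := by group
      _ = 1 := by rw [h1]; group
  have hXY : ∀ x, (x = I ∨ x = J ∨ x = I * J) → ∀ y, (y = K ∨ y = L ∨ y = K * L) →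
      x * y * x = y⁻¹ := by
    intro x hx y hy
    have h1 : x * y * (x * y) = 1 := by
      apply hU
      rw [map_mul]
      apply P.conj
      · rcases hx with rfl | rfl | rfl
        · exact Or.inl rfl
        · exact Or.inr (Or.inl rfl)
        · exact Or.inr (Or.inr (map_mul _ _ _))
      · rcases hy with rfl | rfl | rfl
        · exact Or.inl rfl
        · exact Or.inr (Or.inl rfl)
        · exact Or.inr (Or.inr (map_mul _ _ _))
    rw [← mul_assoc] at h1
    exact eq_inv_of_mul_eq_one_left h1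
  -- `I` commutes with `K`, `L`; `J⁻¹ I J = I⁻¹`
  have hJI : J⁻¹ * I * J = I⁻¹ ∧ I * K = K * I ∧ I * L = L * I := by
    obtain ⟨e, he, h1⟩ := hlift (J⁻¹ * I * J) I⁻¹ (by
      have h2 := P.ji
      rw [map_mul, map_mul, map_inv, map_inv]
      calc (f J)⁻¹ * f I * f J = (f J)⁻¹ * (f I)⁻¹⁻¹ * f J := by rw [inv_inv]
        _ = (f J)⁻¹ * (f J * f I * (f J)⁻¹)⁻¹ * f J := by rw [h2]
        _ = (f I)⁻¹ := by group)
    obtain ⟨hc1, hc2⟩ := hce e he
    have key : ∀ y, (y = K ∨ y = L ∨ y = K * L) → I * y * I⁻¹ = y * e := by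
      intro y hy
      have h2 := hXY J (Or.inr (Or.inl rfl)) y hy
      have h3 := hXY (I * J) (Or.inr (Or.inr rfl)) y hy
      -- J * y = y⁻¹ * J⁻¹
      have h4 : J * y = y⁻¹ * J⁻¹ := by rw [← h2]; group
      have h5 : I * y⁻¹ * (J⁻¹ * I * J) = y⁻¹ := by
        calc I * y⁻¹ * (J⁻¹ * I * J) = I * (y⁻¹ * J⁻¹) * I * J := by group
          _ = I * J * y * (I * J) := by rw [← h4]; group
          _ = y⁻¹ := h3
      rw [h1] at h5
      -- I y⁻¹ I⁻¹ e = y⁻¹
      have h6 : y = e⁻¹ * I * y * I⁻¹ := by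
        calc y = (y⁻¹)⁻¹ := by group
          _ = (I * y⁻¹ * (I⁻¹ * e))⁻¹ := by rw [h5]
          _ = e⁻¹ * I * y * I⁻¹ := by group
      calc I * y * I⁻¹ = e * (e⁻¹ * I * y * I⁻¹) := by group
        _ = e * y := by rw [← h6]
        _ = y * e := (hc1 y).symm
    have h7 : e = 1 := by
      have hK := key K (Or.inl rfl)
      have hL := key L (Or.inr (Or.inl rfl))
      have hKL := key (K * L) (Or.inr (Or.inr rfl))
      have h8 : I * (K * L) * I⁻¹ = K * L := by
        calc I * (K * L) * I⁻¹ = (I * K * I⁻¹) * (I * L * I⁻¹) := by group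
          _ = K * (e * L) * e := by rw [hK, hL]; group
          _ = K * L * (e * e) := by rw [← hc1]; group
          _ = K * L := by rw [hc2, mul_one]
      rw [h8] at hKL
      exact mul_eq_left.1 hKL.symm
    subst h7
    refine ⟨by rw [h1, mul_one], ?_, ?_⟩
    · have := key K (Or.inl rfl)
      rw [mul_one, mul_inv_eq_iff_eq_mul] at this
      exact this
    · have := key L (Or.inr (Or.inl rfl))
      rw [mul_one, mul_inv_eq_iff_eq_mul] at this
      exact this
  obtain ⟨hJI, hIK, hIL⟩ := hJI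
  have hIKL : I * (K * L) = K * L * I := by rw [← mul_assoc, hIK, mul_assoc, hIL, mul_assoc]
  have hIy : ∀ y, (y = K ∨ y = L ∨ y = K * L) → I * y = y * I := by
    rintro y (rfl | rfl | rfl)
    · exact hIK
    · exact hIL
    · exact hIKL
  have hyI : ∀ y, (y = K ∨ y = L ∨ y = K * L) → y * (I * I) = y⁻¹ := by
    intro y hy
    rw [← hXY I (Or.inl rfl) y hy, hIy y hy, mul_assoc]
  have hyy : ∀ y, (y = K ∨ y = L ∨ y = K * L) → y * y = I * I := by
    intro y hy
    have h1 := hyI y hy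
    have h2 : y * y * (I * I) = 1 := by rw [mul_assoc, h1, mul_inv_cancel]
    calc y * y = y * y * (I * I) * (I * I) * ((I * I) * (I * I))⁻¹ := by group
      _ = I * I := by rw [h2, hII]; group
  -- `J`
  have hJ : J * J = I * I ∧ J * K = K * J ∧ J * L = L * J := by
    have key : ∀ y, (y = K ∨ y = L ∨ y = K * L) → J * y * J⁻¹ = y * ((I * I) * (J * J)⁻¹) := by
      intro y hy
      have h2 := hXY J (Or.inr (Or.inl rfl)) y hy
      calc J * y * J⁻¹ = (J * y * J) * (J * J)⁻¹ := by group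
        _ = y * ((I * I) * (J * J)⁻¹) := by rw [h2, ← hyI y hy, mul_assoc]
    obtain ⟨e, he, h1⟩ := hlift (I * I) (J * J) (by rw [map_mul, map_mul, P.jj])
    obtain ⟨hc1, hc2⟩ := hce e he
    have h3 : (I * I) * (J * J)⁻¹ = e := by
      rw [h1, hc1, mul_inv_cancel_right]
    rw [h3] at key
    have h7 : e = 1 := by
      have hK := key K (Or.inl rfl)
      have hL := key L (Or.inr (Or.inl rfl))
      have hKL := key (K * L) (Or.inr (Or.inr rfl))
      have h8 : J * (K * L) * J⁻¹ = K * L := by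
        calc J * (K * L) * J⁻¹ = (J * K * J⁻¹) * (J * L * J⁻¹) := by group
          _ = K * (e * L) * e := by rw [hK, hL]; group
          _ = K * L * (e * e) := by rw [← hc1]; group
          _ = K * L := by rw [hc2, mul_one]
      rw [h8] at hKL
      exact mul_eq_left.1 hKL.symm
    subst h7
    refine ⟨by rw [h1, mul_one], ?_, ?_⟩
    · have := key K (Or.inl rfl)
      rw [mul_one, mul_inv_eq_iff_eq_mul] at this
      exact this
    · have := key L (Or.inr (Or.inl rfl))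
      rw [mul_one, mul_inv_eq_iff_eq_mul] at this
      exact this
  obtain ⟨hJJ, hJK, hJL⟩ := hJ
  have hKK := hyy K (Or.inl rfl)
  have hLL := hyy L (Or.inr (Or.inl rfl))
  have hKLKL := hyy (K * L) (Or.inr (Or.inr rfl))
  -- the subgroups
  obtain ⟨s, hs⟩ : ∃ s, s = I * I := ⟨_, rfl⟩
  rw [← hs] at hII hJJ hKK hLL hKLKL
  have hsinv : s⁻¹ = s := inv_eq_of_mul_eq_one_right hII
  have hsI : s * I = I * s := by rw [hs, mul_assoc]
  have hsJ : s * J = J * s := by rw [← hJJ, mul_assoc]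
  have hsK : s * K = K * s := by rw [← hKK, mul_assoc]
  have hsL : s * L = L * s := by rw [← hLL, mul_assoc]
  have hsc : s * c = c * s := D.comm s
  let M : Subgroup Y := _root_.Subgroup.closure {I, J, K, L, c}
  have mI : I ∈ M := _root_.Subgroup.subset_closure (by simp)
  have mJ : J ∈ M := _root_.Subgroup.subset_closure (by simp)
  have mK : K ∈ M := _root_.Subgroup.subset_closure (by simp)
  have mL : L ∈ M := _root_.Subgroup.subset_closure (by simp)
  have mc : c ∈ M := _root_.Subgroup.subset_closure (by simp)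
  have hgen : ∀ x ∈ ({I, J, K, L, c} : Set Y), x = I ∨ x = J ∨ x = K ∨ x = L ∨ x = c := by
    intro x hx
    simpa using hx
  let N : Subgroup Y := zpowers s
  have sN : s ∈ N := mem_zpowers s
  have hMs : ∀ m ∈ M, m * s = s * m := by
    intro m hm
    have h1 : M ≤ centralizer {s} := by
      refine (closure_le _).2 ?_
      intro x hx
      rw [SetLike.mem_coe, mem_centralizer_singleton_iff]
      rcases hgen x hx with rfl | rfl | rfl | rfl | rfl
      · exact hsI.symm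
      · exact hsJ.symm
      · exact hsK.symm
      · exact hsL.symm
      · exact hsc.symm
    exact mem_centralizer_singleton_iff.1 (h1 hm)
  have hNM : N ≤ M := by
    rw [zpowers_le, hs]
    exact mul_mem mI mI
  have hMN : ∀ m ∈ M, ∀ n ∈ N, m * n = n * m := by
    intro m hm n hn
    obtain ⟨z, rfl⟩ := mem_zpowers_iff.1 hn
    exact ((show Commute m s from hMs m hm).zpow_right z).eq
  have hcomm : ⁅M, M⁆ ≤ N := by
    refine Transfer.commutator_le_of_closure le_rfl ?_ ?_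
    · intro g hg n hn
      rw [hMN g hg n hn, mul_inv_cancel_right]
      exact hn
    · have hIJ : ⁅I, J⁆ ∈ N := by
        have h1 : J⁻¹ * I * J = I⁻¹ := hJI
        have h2 : ⁅I, J⁆ = s := by
          rw [commutatorElement_def]
          calc I * J * I⁻¹ * J⁻¹ = J * (J⁻¹ * I * J) * I⁻¹ * J⁻¹ := by group
            _ = J * (I * I)⁻¹ * J⁻¹ := by rw [h1]; group
            _ = J * s * J⁻¹ := by rw [← hs, hsinv]
            _ = s := by rw [← hsJ, mul_inv_cancel_right]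
        rw [h2]; exact sN
      have hKL : ⁅K, L⁆ ∈ N := by
        have h2 : ⁅K, L⁆ = s := by
          rw [commutatorElement_def]
          calc K * L * K⁻¹ * L⁻¹ = (K * L) * (K * L) * (L⁻¹ * (K * K)⁻¹ * L⁻¹) := by group
            _ = s * (L⁻¹ * s * L⁻¹) := by rw [hKLKL, hKK, hsinv]
            _ = s * (s * (L * L)⁻¹) := by
                have h3 : L⁻¹ * s = s * L⁻¹ := by
                  rw [inv_mul_eq_iff_eq_mul, ← mul_assoc, ← hsL, mul_inv_cancel_right]
                rw [h3]; group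
            _ = s := by rw [hLL, hsinv, hII, mul_one]
        rw [h2]; exact sN
      have hcom : ∀ {a b : Y}, a * b = b * a → ⁅a, b⁆ ∈ N := by
        intro a b hab
        rw [commutatorElement_eq_one_iff_mul_comm.2 hab]
        exact one_mem _
      have hsym : ∀ {a b : Y}, ⁅a, b⁆ ∈ N → ⁅b, a⁆ ∈ N := by
        intro a b hab
        rw [← commutatorElement_inv]
        exact N.inv_mem hab
      intro a ha b hb
      rcases hgen a ha with rfl | rfl | rfl | rfl | rfl <;>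
        rcases hgen b hb with rfl | rfl | rfl | rfl | rfl
      map_tacs [(exact hcom rfl); (exact hIJ); (exact hcom hIK); (exact hcom hIL); (exact hcom (D.comm _)); (exact hsym hIJ); (exact hcom rfl); (exact hcom hJK);
       (exact hcom hJL); (exact hcom (D.comm _)); (exact hcom hIK.symm); (exact hcom hJK.symm); (exact hcom rfl); (exact hKL); (exact hcom (D.comm _));
       (exact hcom hIL.symm); (exact hcom hJL.symm); (exact hsym hKL); (exact hcom rfl); (exact hcom (D.comm _)); (exact hcom (D.comm _).symm);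
       (exact hcom (D.comm _).symm); (exact hcom (D.comm _).symm); (exact hcom (D.comm _).symm); (exact hcom rfl)]
  have hpow : ∀ m ∈ M, m * m ∈ N := by
    intro m hm
    induction hm using closure_induction with
    | mem x hx =>
      rcases hgen x hx with rfl | rfl | rfl | rfl | rfl
      · rw [← hs]; exact sN
      · rw [hJJ]; exact sN
      · rw [hKK]; exact sN
      · rw [hLL]; exact sN
      · rw [D.cc]; exact one_mem _
    | one => rw [mul_one]; exact one_mem _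
    | mul a b ha hb h1 h2 =>
      have h3 : ⁅b, a⁆ ∈ N := hcomm (commutator_mem_commutator hb ha)
      have h4 : a * b * (a * b) = ⁅b, a⁆ * (a * a) * (b * b) := by
        have h5 := hMN a ha _ h3
        calc a * b * (a * b) = (a * ⁅b, a⁆) * a * (b * b) := by
              rw [commutatorElement_def]; group
          _ = ⁅b, a⁆ * (a * a) * (b * b) := by rw [h5]; group
      rw [h4]
      exact N.mul_mem (N.mul_mem h3 h1) h2
    | inv a ha h1 =>
      rw [← mul_inv_rev]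
      exact N.inv_mem h1
  have hE : SectionalRank.ElemSection 2 M N := by
    refine ⟨hNM, ?_, ?_⟩
    · intro a ha b hb
      exact hcomm (commutator_mem_commutator ha hb)
    · intro a ha
      rw [pow_two]
      exact hpow a ha
  have hcard := SectionalRank.sectionalPRankLE_iff.1 hr M N hE
  -- the chain
  have hI1 : f I * f I ≠ 1 := P.ne
  have hJ1 : ¬ (J * I = I * J) := by
    intro h1
    apply hI1
    have h2 : f J * f I = f I * f J := by rw [← map_mul, h1, map_mul]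
    have h3 := P.ji
    rw [h2, mul_inv_cancel_right] at h3
    nth_rewrite 1 [h3]
    exact inv_mul_cancel _
  have hL1 : ¬ (L * K = K * L) := by
    intro h1
    apply hI1
    have h2 : f L * f K = f K * f L := by rw [← map_mul, h1, map_mul]
    have h3 := P.lk
    rw [h2, mul_inv_cancel_right] at h3
    rw [← P.kk]
    nth_rewrite 1 [h3]
    exact inv_mul_cancel _
  let C1 : Subgroup Y := M ⊓ centralizer {I}
  let C2 : Subgroup Y := C1 ⊓ centralizer {J}
  let C3 : Subgroup Y := C2 ⊓ centralizer {K}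
  let C4 : Subgroup Y := C3 ⊓ centralizer {L}
  have hc : ∀ a b : Y, a ∈ centralizer {b} ↔ a * b = b * a := fun a b =>
    mem_centralizer_singleton_iff
  have e1 : 2 * Nat.card C1 ≤ Nat.card M := by
    refine lag C1 M inf_le_left mJ ?_
    intro h1
    exact hJ1 ((hc _ _).1 h1.2)
  have e2 : 2 * Nat.card C2 ≤ Nat.card C1 := by
    refine lag C2 C1 inf_le_left (x := I) ⟨mI, (hc _ _).2 rfl⟩ ?_
    intro h1
    exact hJ1 ((hc _ _).1 h1.2).symm
  have e3 : 2 * Nat.card C3 ≤ Nat.card C2 := by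
    refine lag C3 C2 inf_le_left (x := L) ⟨⟨mL, (hc _ _).2 hIL.symm⟩, (hc _ _).2 hJL.symm⟩ ?_
    intro h1
    exact hL1 ((hc _ _).1 h1.2)
  have e4 : 2 * Nat.card C4 ≤ Nat.card C3 := by
    refine lag C4 C3 inf_le_left (x := K) ⟨⟨⟨mK, (hc _ _).2 hIK.symm⟩, (hc _ _).2 hJK.symm⟩,
      (hc _ _).2 rfl⟩ ?_
    intro h1
    exact hL1 ((hc _ _).1 h1.2).symm
  have e5 : 2 * Nat.card N ≤ Nat.card C4 := by
    refine lag N C4 ?_ (x := c) ⟨⟨⟨⟨mc, (hc _ _).2 (D.comm I).symm⟩, (hc _ _).2 (D.comm J).symm⟩,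
      (hc _ _).2 (D.comm K).symm⟩, (hc _ _).2 (D.comm L).symm⟩ ?_
    · rw [zpowers_le]
      exact ⟨⟨⟨⟨hNM sN, (hc _ _).2 hsI⟩, (hc _ _).2 hsJ⟩, (hc _ _).2 hsK⟩, (hc _ _).2 hsL⟩
    · intro h1
      obtain ⟨z, hz⟩ := mem_zpowers_iff.1 h1
      have h2 : s ^ z = 1 ∨ s ^ z = s := by
        rcases Int.even_or_odd' z with ⟨w, rfl | rfl⟩
        · left
          rw [zpow_mul, show s ^ (2 : ℤ) = 1 from by
            rw [zpow_ofNat, pow_two]; exact hII, one_zpow]
        · right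
          rw [zpow_add, zpow_mul, show s ^ (2 : ℤ) = 1 from by
            rw [zpow_ofNat, pow_two]; exact hII, one_zpow, zpow_one, one_mul]
      rw [hz] at h2
      rcases h2 with h2 | h2
      · exact D.ne h2
      · apply hI1
        rw [← map_mul, ← hs, ← h2]
        exact (D.ker c).2 (Or.inr rfl)
  have hNpos : 0 < Nat.card N := Nat.card_pos
  omega

end Cfsg.Agent.GH.Cov.Pair
end

-- part: GH/Cov/PairSL
section
/-!
# Commuting pairs of quaternion groups from commuting homomorphisms of `SL₂`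
(GH-COV, rank cut, part [F])
-/

set_option autoImplicit false
set_option linter.dupNamespace false

open Cfsg Subgroup Matrix
open Cfsg.Agent.ClassificationK.GTwoChev (wsl coe_wsl wsl_sq)
open Cfsg.Agent.ChevalleyStructure.SL2Hom (up lo)

namespace Cfsg.Agent.GH.Cov.PairSL

universe u

theorem val_mul {F : Type*} [Field F] (x y : _root_.Matrix.SpecialLinearGroup (Fin 2) F) :
    (x * y).1 = x.1 * y.1 := rfl

theorem val_neg_one {F : Type*} [Field F] :
    (-1 : _root_.Matrix.SpecialLinearGroup (Fin 2) F).1 = !![-1, 0; 0, -1] := by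
  change -(1 : Matrix (Fin 2) (Fin 2) F) = _
  ext i j
  (revert i j; simp only [_root_.Fin.forall_fin_succ, _root_.Matrix.neg_apply, _root_.Matrix.of_apply, _root_.Matrix.cons_val', _root_.Matrix.cons_val_fin_one, Fin.isValue, _root_.Matrix.cons_val_zero, _root_.Matrix.cons_val_succ, _root_.IsEmpty.forall_iff, _root_.and_true, _root_.Matrix.one_apply_eq, Nat.reduceAdd, _root_.Fin.succ_zero_eq_one, _root_.ne_eq, _root_.zero_ne_one, _root_.not_false_eq_true, _root_.Matrix.one_apply_ne, _root_.neg_zero, _root_.and_self, _root_.Fin.succ_ne_zero, _root_.neg_inj, _root_.true_and])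

theorem wsl_eq (F : Type*) [Field F] : wsl F = lo 1 * up (-1) * lo 1 := by
  apply Subtype.ext
  rw [coe_wsl, val_mul, val_mul]
  change _ = !![1, 0; 1, 1] * !![1, -1; 0, 1] * !![1, 0; 1, 1]
  ext i j
  (revert i j; simp [_root_.Fin.forall_fin_succ])

theorem up_mul {F : Type*} [Field F] (a b : F) :
    (up a * up b : _root_.Matrix.SpecialLinearGroup (Fin 2) F) = up (a + b) := by
  apply Subtype.ext
  change !![1, a; 0, 1] * !![1, b; 0, 1] = !![1, a + b; 0, 1]
  ext i j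
  (revert i j; simp [add_comm, _root_.Fin.forall_fin_succ])

theorem lo_mul {F : Type*} [Field F] : (lo 1 * lo (-1) : _root_.Matrix.SpecialLinearGroup (Fin 2) F) = 1 := by
  apply Subtype.ext
  change !![1, 0; 1, 1] * !![1, 0; -1, 1] = (1 : Matrix (Fin 2) (Fin 2) F)
  ext i j
  (revert i j; simp only [_root_.Fin.forall_fin_succ, _root_.Matrix.cons_mul, _root_.Nat.succ_eq_add_one, Nat.reduceAdd, _root_.Matrix.vecMul_cons, _root_.Matrix.head_cons, _root_.one_smul, _root_.Matrix.tail_cons, _root_.zero_smul, _root_.Matrix.empty_vecMul, _root_.add_zero, _root_.Matrix.add_cons, _root_.add_neg_cancel, _root_.zero_add, _root_.Matrix.empty_add_empty, _root_.Matrix.empty_mul, _root_.Equiv.symm_apply_apply, _root_.Matrix.of_apply, _root_.Matrix.cons_val', _root_.Matrix.cons_val_fin_one, Fin.isValue, _root_.Matrix.cons_val_zero, _root_.Matrix.cons_val_succ, _root_.IsEmpty.forall_iff, _root_.and_true, _root_.Matrix.one_apply_eq, _root_.Fin.succ_zero_eq_one,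 _root_.ne_eq, _root_.zero_ne_one, _root_.not_false_eq_true, _root_.Matrix.one_apply_ne, _root_.and_self, _root_.Fin.succ_ne_zero, _root_.true_and])

theorem half {F : Type*} [Field F] (h2 : (2 : F) ≠ 0) :
    (lo 1 * up (-1 / 2) : _root_.Matrix.SpecialLinearGroup (Fin 2) F) = wsl F * (lo (-1) * up (1 / 2)) := by
  rw [wsl_eq]
  calc (lo 1 * up (-1 / 2) : _root_.Matrix.SpecialLinearGroup (Fin 2) F) = lo 1 * (up (-1) * up (1 / 2)) := by
        rw [up_mul]; congr 2; field_simp; norm_num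
    _ = lo 1 * up (-1) * (lo 1 * lo (-1)) * up (1 / 2) := by rw [lo_mul, mul_one, mul_assoc]
    _ = _ := by simp only [mul_assoc]

section Forms

variable {F : Type*} [Field F] [Finite F]

theorem exists_form (h2 : (2 : F) ≠ 0) {c : F} (hc : c ≠ 0) (e : F) :
    ∃ m n : F, c * m ^ 2 + c⁻¹ * n ^ 2 = e := by
  have : Fintype F := Fintype.ofFinite F
  have hodd : Fintype.card F % 2 = 1 := by
    have h : ringChar F ≠ 2 := by
      intro h
      apply h2
      have := ringChar.Nat.cast_ringChar (R := F)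
      rw [h] at this
      exact_mod_cast this
    exact FiniteField.odd_card_of_char_ne_two h
  obtain ⟨m, n, h⟩ := FiniteField.exists_root_sum_quadratic (R := F)
    (f := Polynomial.C c * Polynomial.X ^ 2 + Polynomial.C (-e))
    (g := Polynomial.C c⁻¹ * Polynomial.X ^ 2)
    (by
      rw [Polynomial.degree_add_C (by
        rw [Polynomial.degree_C_mul_X_pow 2 hc]; norm_num), Polynomial.degree_C_mul_X_pow 2 hc]
      rfl)
    (by
      rw [Polynomial.degree_C_mul_X_pow 2 (inv_ne_zero hc)]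
      rfl) hodd
  refine ⟨m, n, ?_⟩
  simp only [_root_.map_neg, _root_.Polynomial.eval_add, _root_.Polynomial.eval_mul, _root_.Polynomial.eval_C, _root_.Polynomial.eval_pow, _root_.Polynomial.eval_X, _root_.Polynomial.eval_neg] at h
  linear_combination h

theorem exists_sq (h2 : (2 : F) ≠ 0) : ∃ a b : F, a ^ 2 + b ^ 2 = -1 := by
  obtain ⟨a, b, h⟩ := exists_form h2 (one_ne_zero (α := F)) (-1)
  exact ⟨a, b, by rw [← h, inv_one, one_mul, one_mul]⟩

/-- Elements of trace zero are conjugate to the Weyl element. -/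
theorem conj_wsl (h2 : (2 : F) ≠ 0) (x : _root_.Matrix.SpecialLinearGroup (Fin 2) F) (hx : x.1 1 1 = - x.1 0 0) :
    ∃ g, g * x * g⁻¹ = wsl F := by
  obtain ⟨a, b, c, hM⟩ : ∃ a b c : F, x.1 = !![a, b; c, -a] :=
    ⟨x.1 0 0, x.1 0 1, x.1 1 0, by rw [← hx]; exact Matrix.eta_fin_two _⟩
  have hdet : - a ^ 2 - b * c = 1 := by
    have h := x.2
    rw [hM, det_fin_two_of] at h
    linear_combination h
  obtain ⟨m, n, hmn⟩ : ∃ m n : F, c * m ^ 2 - 2 * a * m * n - b * n ^ 2 = 1 := by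
    rcases eq_or_ne c 0 with rfl | hc
    · have ha : a ≠ 0 := by
        rintro rfl
        simp at hdet
      refine ⟨-(1 + b) / (2 * a), 1, ?_⟩
      field_simp
      ring
    · obtain ⟨m, n, h⟩ := exists_form h2 hc 1
      refine ⟨m + a / c * n, n, ?_⟩
      rw [← h]
      field_simp
      linear_combination (n ^ 2) * hdet
  obtain ⟨g, hg⟩ : ∃ g : _root_.Matrix.SpecialLinearGroup (Fin 2) F, g.1 = !![m, a * m + b * n; n, c * m - a * n] :=
    ⟨⟨_, by rw [det_fin_two_of, ← hmn]; ring⟩, rfl⟩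
  refine ⟨g⁻¹, ?_⟩
  rw [inv_inv, mul_assoc, inv_mul_eq_iff_eq_mul]
  apply Subtype.ext
  rw [val_mul, val_mul, coe_wsl, hM, hg]
  simp only [Matrix.mul_fin_two]
  ext i j
  (revert i j; simp only [_root_.Fin.forall_fin_succ, _root_.neg_mul, _root_.Matrix.of_apply, _root_.Matrix.cons_val', _root_.Matrix.cons_val_fin_one, _root_.MulZeroClass.mul_zero, _root_.mul_one, _root_.zero_add, _root_.mul_neg, _root_.add_zero, Fin.isValue, _root_.Matrix.cons_val_zero, _root_.Matrix.cons_val_succ, _root_.forall_const, _root_.and_true, _root_.true_and]) <;> (repeat' with_reducible apply And.intro)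
  map_tacs [(linear_combination (-m) * hdet); ((ring; done)); (linear_combination (-n) * hdet)]

end Forms

section Abstract

variable {F : Type*} [Field F] [Finite F] {X : Type u} [Group X]

/-- **Pairs from commuting homomorphisms of `SL₂`.** -/
theorem hasPair (h2 : (2 : F) ≠ 0) (φ ψ : _root_.Matrix.SpecialLinearGroup (Fin 2) F →* X)
    (hc : ∀ g h, Commute (φ g) (ψ h)) (ht : φ (-1) = ψ (-1)) (h1 : φ (-1) ≠ 1) (s ρ : X)
    (hs1 : ∀ t, s * φ (up t) = φ (up (-t)) * s) (hs2 : s * φ (lo 1) = φ (lo (-1)) * s)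
    (hs3 : ∀ t, s * ψ (up t) = ψ (up (-t)) * s) (hs4 : s * ψ (lo 1) = ψ (lo (-1)) * s)
    (h3 : ρ * s = φ (-1) * ρ) (h4 : ρ * φ (-1) = φ (-1) * s * ρ)
    (h5 : ∃ z, (z = 1 ∨ z = φ (-1) ∨ z = s ∨ z = φ (-1) * s) ∧
      ρ * (φ (wsl F) * ψ (wsl F)) = φ (wsl F) * ψ (wsl F) * z * ρ) : Pair.HasPair X := by
  obtain ⟨a, b, hab⟩ := exists_sq h2
  obtain ⟨x, hx⟩ : ∃ x : _root_.Matrix.SpecialLinearGroup (Fin 2) F, x.1 = !![a, b; b, -a] :=
    ⟨⟨_, by rw [det_fin_two_of]; linear_combination -hab⟩, rfl⟩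
  have hxx : x * x = -1 := by
    apply Subtype.ext
    rw [val_mul, val_neg_one, hx]
    ext i j
    (revert i j; simp only [_root_.Fin.forall_fin_succ, _root_.Matrix.cons_mul, _root_.Nat.succ_eq_add_one, Nat.reduceAdd, _root_.Matrix.vecMul_cons, _root_.Matrix.head_cons, _root_.Matrix.smul_cons, _root_.smul_eq_mul, _root_.Matrix.smul_empty, _root_.Matrix.tail_cons, _root_.mul_neg, _root_.Matrix.empty_vecMul, _root_.add_zero, _root_.Matrix.add_cons, _root_.Matrix.empty_add_empty, _root_.neg_smul, _root_.Matrix.neg_cons, _root_.neg_neg, _root_.Matrix.neg_empty, _root_.Matrix.empty_mul, _root_.Equiv.symm_apply_apply, _root_.Matrix.of_apply, _root_.Matrix.cons_val', _root_.Matrix.cons_val_fin_one, Fin.isValue, _root_.Matrix.cons_val_zero, _root_.Matrix.cons_val_succ, _root_.forall_const, _root_.and_true, _root_.true_and]) <;> (repeat' with_reducible apply And.intro)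
    map_tacs [(linear_combination hab); ((ring; done)); ((ring; done)); (linear_combination hab)]
  have hxw : x * wsl F * x⁻¹ = (wsl F)⁻¹ := by
    rw [mul_inv_eq_iff_eq_mul, eq_inv_mul_iff_mul_eq]
    apply Subtype.ext
    rw [val_mul, val_mul, coe_wsl, hx]
    ext i j
    (revert i j; simp [_root_.Fin.forall_fin_succ])
  have hA : ∀ χ : _root_.Matrix.SpecialLinearGroup (Fin 2) F →* X, (∀ t, s * χ (up t) = χ (up (-t)) * s) →
      s * χ (lo 1) = χ (lo (-1)) * s →
      χ (lo 1 * up (-1 / 2)) * s = χ (wsl F) * s * χ (lo 1 * up (-1 / 2)) := by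
    intro χ e1 e2
    have e3 : s * χ (lo 1 * up (-1 / 2)) = χ (lo (-1) * up (1 / 2)) * s := by
      rw [map_mul, ← mul_assoc, e2, mul_assoc, e1, map_mul, ← mul_assoc]
      congr 4
      ring
    rw [mul_assoc, e3, ← mul_assoc, ← map_mul, ← half h2]
  have mk : ∀ c a b : X, c * a = b * c → IsConj a b := fun c a b h =>
    isConj_iff.2 ⟨c, by rw [h, mul_inv_cancel_right]⟩
  have hm : (-1 : _root_.Matrix.SpecialLinearGroup (Fin 2) F) = wsl F * wsl F := wsl_sq.symm
  have hinv : (wsl F)⁻¹ = wsl F * (-1) := by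
    apply inv_eq_of_mul_eq_one_right
    rw [← mul_assoc, ← hm, neg_mul_neg, one_mul]
  obtain ⟨t, htd⟩ : ∃ t, t = φ (-1) := ⟨_, rfl⟩
  have htψ : t = ψ (-1) := htd.trans ht
  have htt : t * t = 1 := by rw [htd, ← map_mul, neg_mul_neg, one_mul, map_one]
  have hneg : ∀ g : _root_.Matrix.SpecialLinearGroup (Fin 2) F, (-1) * g = g * (-1) := by
    intro g
    rw [neg_mul, one_mul, mul_neg, mul_one]
  have htφ : ∀ g, t * φ g = φ g * t := by
    intro g
    rw [htd, ← map_mul, ← map_mul, hneg]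
  have htψ' : ∀ g, t * ψ g = ψ g * t := by
    intro g
    rw [htψ, ← map_mul, ← map_mul, hneg]
  have hst : s * t = t * s := by
    have hw' : (wsl F)⁻¹ = lo (-1) * up 1 * lo (-1) := by
      apply inv_eq_of_mul_eq_one_right
      apply Subtype.ext
      rw [val_mul, val_mul, val_mul, coe_wsl]
      change !![0, -1; 1, 0] * (!![1, 0; -1, 1] * !![1, 1; 0, 1] * !![1, 0; -1, 1]) =
        (1 : Matrix (Fin 2) (Fin 2) F)
      ext i j
      (revert i j; simp only [_root_.Fin.forall_fin_succ, _root_.Matrix.cons_mul, _root_.Nat.succ_eq_add_one, Nat.reduceAdd, _root_.Matrix.vecMul_cons, _root_.Matrix.head_cons, _root_.one_smul, _root_.Matrix.tail_cons, _root_.zero_smul, _root_.Matrix.empty_vecMul, _root_.add_zero, _root_.neg_smul, _root_.Matrix.neg_cons, _root_.Matrix.neg_empty, _root_.Matrix.add_cons, _root_.neg_add_cancel, _root_.Matrix.empty_add_empty, _root_.Matrix.empty_mul, _root_.Equiv.symm_apply_apply, _root_.add_neg_cancel, _root_.zero_add,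 _root_.neg_zero, _root_.neg_neg, _root_.Matrix.of_apply, _root_.Matrix.cons_val', _root_.Matrix.cons_val_fin_one, Fin.isValue, _root_.Matrix.cons_val_zero, _root_.Matrix.cons_val_succ, _root_.IsEmpty.forall_iff, _root_.and_true, _root_.Matrix.one_apply_eq, _root_.Fin.succ_zero_eq_one, _root_.ne_eq, _root_.zero_ne_one, _root_.not_false_eq_true, _root_.Matrix.one_apply_ne, _root_.and_self, _root_.Fin.succ_ne_zero, _root_.true_and])
    have e1 : s * φ (wsl F) = φ (wsl F)⁻¹ * s := by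
      rw [hw', wsl_eq]
      simp only [map_mul]
      rw [← mul_assoc, ← mul_assoc, hs2, mul_assoc _ s, hs1, neg_neg, ← mul_assoc, mul_assoc _ s,
        hs2, ← mul_assoc]
    have e2 : s * φ (wsl F * wsl F) = φ ((wsl F)⁻¹ * (wsl F)⁻¹) * s := by
      rw [map_mul, ← mul_assoc, e1, mul_assoc, e1, ← mul_assoc, map_mul]
    rw [← _root_.mul_inv_rev, wsl_sq, map_inv, ← htd] at e2
    rw [e2, inv_eq_of_mul_eq_one_right htt]
  -- conjugacy of the involutions
  have hcs : ∀ u, (∀ g, u * φ g = φ g * u) → (∀ g, u * ψ g = ψ g * u) →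
      IsConj (s * u) (φ (wsl F) * ψ (wsl F) * (s * u)) := by
    intro u hu1 hu2
    refine mk (φ (lo 1 * up (-1 / 2)) * ψ (lo 1 * up (-1 / 2))) _ _ ?_
    have e1 := hA φ hs1 hs2
    have e2 := hA ψ hs3 hs4
    set g := (lo 1 * up (-1 / 2) : _root_.Matrix.SpecialLinearGroup (Fin 2) F)
    calc φ g * ψ g * (s * u) = φ g * (ψ g * s) * u := by simp only [mul_assoc]
      _ = (φ g * ψ (wsl F)) * s * (ψ g * u) := by rw [e2]; simp only [mul_assoc]
      _ = ψ (wsl F) * (φ g * s) * (u * ψ g) := by rw [(hc _ _).eq, hu2]; simp only [mul_assoc]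
      _ = (ψ (wsl F) * φ (wsl F)) * s * (φ g * u) * ψ g := by rw [e1]; simp only [mul_assoc]
      _ = φ (wsl F) * ψ (wsl F) * (s * u) * (φ g * ψ g) := by
          rw [← (hc _ _).eq, ← hu1]; simp only [mul_assoc]
  have hvt : IsConj (φ (wsl F) * ψ (wsl F)) (φ (wsl F) * ψ (wsl F) * t) := by
    refine mk (φ x) _ _ ?_
    have e1 : φ x * φ (wsl F) = φ (wsl F) * t * φ x := by
      rw [htd, ← map_mul, ← map_mul, ← map_mul, ← hinv, ← hxw, inv_mul_cancel_right]
    rw [← mul_assoc, e1, mul_assoc, (hc _ _).eq, ← mul_assoc, mul_assoc _ t, htψ']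
    simp only [mul_assoc]
  have hs_t : IsConj s t := mk ρ _ _ (by rw [h3, htd])
  have hts_t : IsConj (s * t) t := (mk ρ _ _ (by rw [htd, h4, ← htd, hst])).symm
  have hvs : IsConj (φ (wsl F) * ψ (wsl F) * s) t := by
    have h := hcs 1 (fun g => by rw [one_mul, mul_one]) (fun g => by rw [one_mul, mul_one])
    rw [mul_one] at h
    exact h.symm.trans hs_t
  have hvst : IsConj (φ (wsl F) * ψ (wsl F) * (s * t)) t := (hcs t htφ htψ').symm.trans hts_t
  have hρt : ρ * t = s * t * ρ := by rw [htd, h4, ← htd, hst]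
  have hconj : IsConj (φ (wsl F) * ψ (wsl F)) (φ (-1)) := by
    rw [← htd]
    obtain ⟨z, hz, h5⟩ := h5
    rw [← htd] at hz
    set v := φ (wsl F) * ψ (wsl F) with hv
    rcases hz with rfl | rfl | rfl | rfl
    · refine hvt.trans ((mk ρ _ _ ?_).trans hvst)
      rw [← mul_assoc, h5, mul_one, mul_assoc, hρt]
      simp only [mul_assoc]
    · refine hvt.trans ((mk ρ _ _ ?_).trans hvs)
      rw [← mul_assoc, h5, mul_assoc, hρt]
      calc v * z * (s * z * ρ) = v * (z * s) * z * ρ := by simp only [mul_assoc]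
        _ = v * s * (z * z) * ρ := by rw [← hst]; simp only [mul_assoc]
        _ = v * s * ρ := by rw [htt, mul_one]
    · exact (mk ρ _ _ h5).trans hvs
    · rw [← hst] at h5
      exact (mk ρ _ _ h5).trans hvst
  have htr : ∀ y, (y = wsl F ∨ y = x ∨ y = wsl F * x) → ∃ g, g * y * g⁻¹ = wsl F := by
    intro y hy
    apply conj_wsl h2
    rcases hy with rfl | rfl | rfl
    · rw [coe_wsl]; simp
    · rw [hx]; simp
    · rw [val_mul, coe_wsl, hx]; simp
  refine ⟨φ (wsl F), φ x, ψ (wsl F), ψ x, ⟨?_, ?_, ?_, ?_, ?_, ?_, ?_, ?_, ?_, ?_, ?_⟩⟩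
  · rw [← map_mul, ← map_mul, hxx, wsl_sq]
  · rw [← map_mul, ← map_mul, wsl_sq, ht]
  · rw [← map_mul, ← map_mul, hxx, wsl_sq, ht]
  · rw [← map_inv, ← map_mul, ← map_mul, hxw, map_inv]
  · rw [← map_inv, ← map_mul, ← map_mul, hxw, map_inv]
  · exact (hc _ _).eq
  · exact (hc _ _).eq
  · exact (hc _ _).eq
  · exact (hc _ _).eq
  · rw [← map_mul, wsl_sq]; exact h1
  · intro y hy z hz
    obtain ⟨y', rfl, hy'⟩ : ∃ y', φ y' = y ∧ (y' = wsl F ∨ y' = x ∨ y' = wsl F * x) := by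
      rcases hy with rfl | rfl | rfl
      · exact ⟨_, rfl, Or.inl rfl⟩
      · exact ⟨_, rfl, Or.inr (Or.inl rfl)⟩
      · exact ⟨_, map_mul _ _ _, Or.inr (Or.inr rfl)⟩
    obtain ⟨z', rfl, hz'⟩ : ∃ z', ψ z' = z ∧ (z' = wsl F ∨ z' = x ∨ z' = wsl F * x) := by
      rcases hz with rfl | rfl | rfl
      · exact ⟨_, rfl, Or.inl rfl⟩
      · exact ⟨_, rfl, Or.inr (Or.inl rfl)⟩
      · exact ⟨_, map_mul _ _ _, Or.inr (Or.inr rfl)⟩
    obtain ⟨g, hg⟩ := htr y' hy'
    obtain ⟨g', hg'⟩ := htr z' hz'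
    obtain ⟨k, hk⟩ := isConj_iff.1 hconj
    refine ⟨k * (φ g * ψ g'), ?_⟩
    rw [← map_mul φ (wsl F), wsl_sq, ← hk]
    have e1 : φ g * φ y' = φ (wsl F) * φ g := by
      rw [← map_mul, ← map_mul, ← hg, inv_mul_cancel_right]
    have e2 : ψ g' * ψ z' = ψ (wsl F) * ψ g' := by
      rw [← map_mul, ← map_mul, ← hg', inv_mul_cancel_right]
    have e3 : φ g * ψ g' * (φ y' * ψ z') = φ (wsl F) * ψ (wsl F) * (φ g * ψ g') := by
      calc φ g * ψ g' * (φ y' * ψ z') = φ g * (ψ g' * φ y') * ψ z' := by simp only [mul_assoc]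
        _ = φ g * (φ y' * ψ g') * ψ z' := by rw [(hc _ _).eq]
        _ = (φ g * φ y') * (ψ g' * ψ z') := by simp only [mul_assoc]
        _ = φ (wsl F) * (φ g * ψ (wsl F)) * ψ g' := by rw [e1, e2]; simp only [mul_assoc]
        _ = φ (wsl F) * (ψ (wsl F) * φ g) * ψ g' := by rw [(hc _ _).eq]
        _ = φ (wsl F) * ψ (wsl F) * (φ g * ψ g') := by simp only [mul_assoc]
    calc k * (φ g * ψ g') * (φ y' * ψ z') * (k * (φ g * ψ g'))⁻¹
        = k * (φ g * ψ g' * (φ y' * ψ z')) * (φ g * ψ g')⁻¹ * k⁻¹ := by group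
      _ = k * (φ (wsl F) * ψ (wsl F)) * k⁻¹ := by rw [e3]; group

end Abstract

end Cfsg.Agent.GH.Cov.PairSL
end
end

-- part: GH/L2QTwo/Frame
section
set_option linter.all false
open scoped Cfsg.Agent.FastGrp

/-!
# GH-L2, `|Q| = 2`: the frame

`Frame x K T D d r c o1 o2`: `x` an involution, `K` a normal subgroup of `C(x)` with `K/O(K) = L₂(q)`
(`q` odd, `q ≥ 5`) or `A₇`, `T` a Sylow 2-subgroup of `C(x)`, `D = T ∩ K = ⟨r, c⟩` dihedral of order `2^d`
(a four-group if `d = 2`), `C_T(K/O(K)) = ⟨x⟩`, `o1`, `o2` the `PGL`- and the field part of the outer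
automorphism of `K/O(K)` induced by an element of `C(x)` (`A₇`: `o1 = 1`, `o2` = sign).

Same conventions as `Cfsg.Agent.GH.L2One.Frame` (there `|Q| ≥ 4`).
-/

set_option autoImplicit false

open Subgroup

namespace Cfsg.Agent.GH.L2QTwo

variable {G A : Type*} [Group G] [Group A]

/-- The frame. -/
structure Frame (x : G) (K T D : Subgroup G) (d : ℕ) (r c : G) (o1 : G → ℤˣ) (o2 : G → A) :
    Prop where
  xx : x * x = 1
  x_ne : x ≠ 1
  K_comm : ∀ k ∈ K, x * k = k * x
  K_norm : ∀ g, x * g = g * x → ∀ k ∈ K, g * k * g⁻¹ ∈ K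
  T_comm : ∀ t ∈ T, x * t = t * x
  T_two : IsPGroup 2 T
  /-- `T` is a Sylow 2-subgroup of `C(x)` -/
  T_syl : ∀ P : Subgroup G, IsPGroup 2 P → (∀ p ∈ P, x * p = p * x) →
    ∃ g, x * g = g * x ∧ ∀ p ∈ P, g * p * g⁻¹ ∈ T
  x_mem : x ∈ T
  mem_D : ∀ g, g ∈ D ↔ g ∈ T ∧ g ∈ K
  x_not : x ∉ D
  d_ge : 2 ≤ d
  r_mem : r ∈ D
  c_mem : c ∈ D
  cc : c * c = 1
  crc : c * r * c⁻¹ = r⁻¹
  or_eq : orderOf r = 2 ^ (d - 1)
  c_not : ∀ k : ℤ, c ≠ r ^ k
  D_form : ∀ g ∈ D, ∃ k : ℤ, g = r ^ k ∨ g = r ^ k * c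
  /-- all involutions of `D` are `K`-conjugate -/
  inv_conj : ∀ a ∈ D, ∀ b ∈ D, a * a = 1 → a ≠ 1 → b * b = 1 → b ≠ 1 → ∃ k ∈ K, k * a * k⁻¹ = b
  o1_mul : ∀ g h, x * g = g * x → x * h = h * x → o1 (g * h) = o1 g * o1 h
  o2_mul : ∀ g h, x * g = g * x → x * h = h * x → o2 (g * h) = o2 g * o2 h
  /-- at most one involution in the image of `o2` -/
  A_inv : ∀ a b : A, a * a = 1 → a ≠ 1 → b * b = 1 → b ≠ 1 → a = b
  o1_x : o1 x = 1
  o2_x : o2 x = 1
  o1_K : ∀ k ∈ K, o1 k = 1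
  o2_K : ∀ k ∈ K, o2 k = 1
  /-- inner automorphisms: `⟨x⟩ × D` -/
  ker : ∀ t ∈ T, o1 t = 1 → o2 t = 1 → ∃ e ∈ D, t = e ∨ t = x * e
  /-- `o1 t ≠ 1` iff `t` swaps the two classes of reflections of `D` -/
  swap : 3 ≤ d → ∀ t ∈ T, ∀ k : ℤ, t * c * t⁻¹ = r ^ k * c → (o1 t = 1 ↔ Even k)
  small : d = 2 → ∀ t ∈ T, o2 t = 1 ∧ (o1 t = 1 ↔ ∀ e ∈ D, t * e = e * t)
  /-- no field automorphism of order 4 centralises `D` -/
  sq_mem : ∀ g ∈ T, (∀ e ∈ D, g * e = e * g) → g * g = 1 ∨ g * g = x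
  no_mixed : ∀ y ∈ T, y * y = 1 → o1 y = 1 ∨ o2 y = 1
  /-- a field involution centralises a Sylow 2-subgroup of `K` -/
  field_cent : ∀ y ∈ T, y * y = 1 → o2 y ≠ 1 → ∃ k ∈ K, ∀ e ∈ D, k * y * k⁻¹ * e = e * (k * y * k⁻¹)
  /-- if the field involution `y` centralises `D`, then some four-group `⟨z, v⟩` of `D`, `z` the central involution
  of `D`, lies in a subgroup `A₄` of `C(⟨x, y⟩)` [`C_{K'}(y) = PGL₂(q₀)`; `A₇`: `S₅` and `S₄`] -/
  field_rho : ∀ y ∈ T, y * y = 1 → o2 y ≠ 1 → (∀ e ∈ D, y * e = e * y) →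
    ∃ v ∈ D, v * v = 1 ∧ v ≠ 1 ∧ v ≠ r ^ 2 ^ (d - 2) ∧ ∃ ρ, x * ρ = ρ * x ∧ y * ρ = ρ * y ∧
      ρ * r ^ 2 ^ (d - 2) * ρ⁻¹ = v ∧ ρ * v * ρ⁻¹ = r ^ 2 ^ (d - 2) * v
  /-- if some involution of `T` is of `PGL`-type, then the field part of `T` splits
  [`T/⟨x⟩ = D* : ⟨field automorphism⟩`, `D*` a Sylow 2-subgroup of `PGL₂(q)`] -/
  field_lift : ∀ j ∈ T, j * j = 1 → o1 j ≠ 1 → ∃ t ∈ T, o1 t = 1 ∧ (∀ u ∈ T, ∃ n : ℕ, o2 u = o2 t ^ n) ∧
    ∀ n : ℕ, o2 t ^ n = 1 → t ^ n = 1 ∨ t ^ n = x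

namespace Frame

variable {x : G} {K T D : Subgroup G} {d : ℕ} {r c : G} {o1 : G → ℤˣ} {o2 : G → A}

theorem D_le (F : Frame x K T D d r c o1 o2) : D ≤ T := fun g hg => ((F.mem_D g).1 hg).1

theorem D_le_K (F : Frame x K T D d r c o1 o2) : D ≤ K := fun g hg => ((F.mem_D g).1 hg).2

theorem r_T (F : Frame x K T D d r c o1 o2) : r ∈ T := F.D_le F.r_mem

theorem c_T (F : Frame x K T D d r c o1 o2) : c ∈ T := F.D_le F.c_mem

theorem x_inv (F : Frame x K T D d r c o1 o2) : x⁻¹ = x := inv_eq_of_mul_eq_one_right F.xx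

theorem c_inv (F : Frame x K T D d r c o1 o2) : c⁻¹ = c := inv_eq_of_mul_eq_one_right F.cc

theorem c_ne (F : Frame x K T D d r c o1 o2) : c ≠ 1 := fun h => F.c_not 0 (by rw [h, zpow_zero])

theorem D_norm (F : Frame x K T D d r c o1 o2) {t e : G} (ht : t ∈ T) (he : e ∈ D) :
    t * e * t⁻¹ ∈ D :=
  (F.mem_D _).2 ⟨T.mul_mem (T.mul_mem ht (F.D_le he)) (T.inv_mem ht),
    F.K_norm t (F.T_comm t ht) e (F.D_le_K he)⟩

theorem x_comm_D (F : Frame x K T D d r c o1 o2) {e : G} (he : e ∈ D) : x * e = e * x :=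
  F.K_comm e (F.D_le_K he)

/-- uniqueness of the decomposition -/
theorem xD_ne (F : Frame x K T D d r c o1 o2) {e e' : G} (he : e ∈ D) (he' : e' ∈ D) :
    x * e ≠ e' := by
  intro h
  apply F.x_not
  have : x = e' * e⁻¹ := by rw [← h]; group
  rw [this]
  exact D.mul_mem he' (D.inv_mem he)

theorem o1_one (F : Frame x K T D d r c o1 o2) : o1 1 = 1 := F.o1_K 1 K.one_mem

theorem o2_one (F : Frame x K T D d r c o1 o2) : o2 1 = 1 := F.o2_K 1 K.one_mem

theorem o1_D (F : Frame x K T D d r c o1 o2) {e : G} (he : e ∈ D) : o1 e = 1 :=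
  F.o1_K e (F.D_le_K he)

theorem o2_D (F : Frame x K T D d r c o1 o2) {e : G} (he : e ∈ D) : o2 e = 1 :=
  F.o2_K e (F.D_le_K he)

theorem o1_mul' (F : Frame x K T D d r c o1 o2) {a b : G} (ha : a ∈ T) (hb : b ∈ T) :
    o1 (a * b) = o1 a * o1 b := F.o1_mul a b (F.T_comm a ha) (F.T_comm b hb)

theorem o2_mul' (F : Frame x K T D d r c o1 o2) {a b : G} (ha : a ∈ T) (hb : b ∈ T) :
    o2 (a * b) = o2 a * o2 b := F.o2_mul a b (F.T_comm a ha) (F.T_comm b hb)

theorem comm_inv (F : Frame x K T D d r c o1 o2) {g : G} (hg : x * g = g * x) :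
    x * g⁻¹ = g⁻¹ * x := by
  have h : Commute x g := hg
  exact h.inv_right

theorem comm_mul (F : Frame x K T D d r c o1 o2) {g h : G} (hg : x * g = g * x)
    (hh : x * h = h * x) : x * (g * h) = g * h * x := by
  have h1 : Commute x g := hg
  have h2 : Commute x h := hh
  exact h1.mul_right h2

theorem o1_inv' (F : Frame x K T D d r c o1 o2) {a : G} (ha : x * a = a * x) :
    o1 a⁻¹ = (o1 a)⁻¹ := by
  have h := F.o1_mul _ _ (F.comm_inv ha) ha
  rw [inv_mul_cancel, F.o1_one] at h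
  exact eq_inv_of_mul_eq_one_left h.symm

theorem o2_inv' (F : Frame x K T D d r c o1 o2) {a : G} (ha : x * a = a * x) :
    o2 a⁻¹ = (o2 a)⁻¹ := by
  have h := F.o2_mul _ _ (F.comm_inv ha) ha
  rw [inv_mul_cancel, F.o2_one] at h
  exact eq_inv_of_mul_eq_one_left h.symm

theorem o1_inv (F : Frame x K T D d r c o1 o2) {a : G} (ha : a ∈ T) : o1 a⁻¹ = (o1 a)⁻¹ :=
  F.o1_inv' (F.T_comm a ha)

theorem o2_inv (F : Frame x K T D d r c o1 o2) {a : G} (ha : a ∈ T) : o2 a⁻¹ = (o2 a)⁻¹ :=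
  F.o2_inv' (F.T_comm a ha)

theorem units_sq (u : ℤˣ) : u * u = 1 := by
  rcases Int.units_eq_one_or u with h | h <;> rw [h] <;> rfl

theorem o1_sq (F : Frame x K T D d r c o1 o2) {a : G} (ha : a ∈ T) : o1 (a * a) = 1 := by
  rw [F.o1_mul' ha ha, units_sq]

/-- the image in the outer automorphism group of an involution -/
theorem o2_invol (F : Frame x K T D d r c o1 o2) {a : G} (ha : a ∈ T) (haa : a * a = 1) :
    o2 a * o2 a = 1 := by rw [← F.o2_mul' ha ha, haa, F.o2_one]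

theorem o1_conj (F : Frame x K T D d r c o1 o2) {a b : G} (ha : x * a = a * x)
    (hb : x * b = b * x) : o1 (a * b * a⁻¹) = o1 b := by
  rw [F.o1_mul _ _ (F.comm_mul ha hb) (F.comm_inv ha), F.o1_mul _ _ ha hb, F.o1_inv' ha,
    mul_comm (o1 a), mul_inv_cancel_right]

theorem o2_conj_ne (F : Frame x K T D d r c o1 o2) {a b : G} (ha : x * a = a * x)
    (hb : x * b = b * x) : o2 (a * b * a⁻¹) = 1 ↔ o2 b = 1 := by
  rw [F.o2_mul _ _ (F.comm_mul ha hb) (F.comm_inv ha), F.o2_mul _ _ ha hb, F.o2_inv' ha,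
    mul_inv_eq_one, mul_eq_left]

/-! ### the dihedral group `D` -/

theorem crk (F : Frame x K T D d r c o1 o2) (k : ℤ) : c * r ^ k * c⁻¹ = r ^ (-k) := by
  have h : c * r ^ k * c⁻¹ = (c * r * c⁻¹) ^ k := (conj_zpow).symm
  rw [h, F.crc, inv_zpow, zpow_neg]

theorem c_rk (F : Frame x K T D d r c o1 o2) (k : ℤ) : c * r ^ k = r ^ (-k) * c := by
  rw [← F.crk k, inv_mul_cancel_right]

/-- reflections are involutions -/
theorem refl_sq (F : Frame x K T D d r c o1 o2) (k : ℤ) : r ^ k * c * (r ^ k * c) = 1 := by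
  calc r ^ k * c * (r ^ k * c) = r ^ k * (c * r ^ k) * c := by group
    _ = r ^ k * (r ^ (-k) * c) * c := by rw [F.c_rk]
    _ = (r ^ k * r ^ (-k)) * (c * c) := by group
    _ = 1 := by rw [F.cc, ← zpow_add, add_neg_cancel, zpow_zero, one_mul]

theorem refl_ne (F : Frame x K T D d r c o1 o2) (k l : ℤ) : r ^ k * c ≠ r ^ l := by
  intro h
  apply F.c_not (-k + l)
  rw [zpow_add, ← h, ← mul_assoc, ← zpow_add, neg_add_cancel, zpow_zero, one_mul]

theorem refl_ne_one (F : Frame x K T D d r c o1 o2) (k : ℤ) : r ^ k * c ≠ 1 := by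
  have := F.refl_ne k 0
  rwa [zpow_zero] at this

/-- `r ^ k = 1` iff `2^(d-1)` divides `k` -/
theorem rk_one (F : Frame x K T D d r c o1 o2) (k : ℤ) : r ^ k = 1 ↔ (2 : ℤ) ^ (d - 1) ∣ k := by
  rw [← orderOf_dvd_iff_zpow_eq_one, F.or_eq]
  norm_num

theorem rk_eq (F : Frame x K T D d r c o1 o2) (k l : ℤ) :
    r ^ k = r ^ l ↔ (2 : ℤ) ^ (d - 1) ∣ k - l := by
  rw [← F.rk_one, zpow_sub, mul_inv_eq_one]

theorem r_rk (F : Frame x K T D d r c o1 o2) (k : ℤ) : r ^ k ∈ D := D.zpow_mem F.r_mem k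

theorem refl_mem (F : Frame x K T D d r c o1 o2) (k : ℤ) : r ^ k * c ∈ D :=
  D.mul_mem (F.r_rk k) F.c_mem

/-- the central involution of `D` -/
theorem z_sq (F : Frame x K T D d r c o1 o2) : r ^ 2 ^ (d - 2) * r ^ 2 ^ (d - 2) = 1 := by
  rw [← pow_add, ← orderOf_dvd_iff_pow_eq_one, F.or_eq]
  have h : d - 1 = (d - 2) + 1 := by have := F.d_ge; omega
  rw [h, pow_succ, mul_two]

theorem z_ne (F : Frame x K T D d r c o1 o2) : r ^ 2 ^ (d - 2) ≠ 1 := by
  intro h
  rw [← orderOf_dvd_iff_pow_eq_one, F.or_eq] at h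
  have h1 : 2 ^ (d - 1) ≤ 2 ^ (d - 2) := Nat.le_of_dvd (by positivity) h
  have h2 : d - 1 = (d - 2) + 1 := by have := F.d_ge; omega
  rw [h2, pow_succ] at h1
  have h9 : 0 < 2 ^ (d - 2) := by positivity
  omega

theorem z_mem (F : Frame x K T D d r c o1 o2) : r ^ 2 ^ (d - 2) ∈ D := D.pow_mem F.r_mem _

/-- a rotation of square one is `1` or `z` -/
theorem rot_sq (F : Frame x K T D d r c o1 o2) {k : ℤ} (h : r ^ k * r ^ k = 1) :
    r ^ k = 1 ∨ r ^ k = r ^ 2 ^ (d - 2) := by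
  rw [← zpow_add, F.rk_one] at h
  have h2 : d - 1 = (d - 2) + 1 := by have := F.d_ge; omega
  obtain ⟨m, hm⟩ := h
  have hk : k = 2 ^ (d - 2) * m := by
    rw [h2, pow_succ] at hm
    linarith
  have e : (r ^ 2 ^ (d - 2) : G) = r ^ ((2 : ℤ) ^ (d - 2)) := by
    rw [← zpow_natCast]; norm_num
  rcases Int.even_or_odd m with ⟨a, ha⟩ | ⟨a, ha⟩
  · left
    rw [F.rk_one, h2, pow_succ]
    exact ⟨a, by rw [hk, ha]; ring⟩
  · right
    rw [e, F.rk_eq, h2, pow_succ]
    exact ⟨a, by rw [hk, ha]; ring⟩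

theorem zz (F : Frame x K T D d r c o1 o2) : (r ^ 2 ^ (d - 2) : G) = r ^ ((2 : ℤ) ^ (d - 2)) := by
  rw [← zpow_natCast]; norm_num

/-- `z` is central in `D` -/
theorem z_comm (F : Frame x K T D d r c o1 o2) {e : G} (he : e ∈ D) :
    r ^ 2 ^ (d - 2) * e = e * r ^ 2 ^ (d - 2) := by
  have hc : r ^ 2 ^ (d - 2) * c = c * r ^ 2 ^ (d - 2) := by
    have h1 : (r ^ 2 ^ (d - 2))⁻¹ = r ^ 2 ^ (d - 2) := inv_eq_of_mul_eq_one_right F.z_sq
    rw [F.zz, F.c_rk, zpow_neg, ← F.zz, h1]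
  have hr : ∀ k : ℤ, r ^ 2 ^ (d - 2) * r ^ k = r ^ k * r ^ 2 ^ (d - 2) := by
    intro k
    rw [F.zz, ← zpow_add, ← zpow_add, add_comm]
  obtain ⟨k, hk | hk⟩ := F.D_form e he
  · rw [hk, hr]
  · rw [hk, ← mul_assoc, hr, mul_assoc, hc, mul_assoc]

/-- the involutions of `D` -/
theorem inv_form (F : Frame x K T D d r c o1 o2) {e : G} (he : e ∈ D) (h : e * e = 1) :
    e = 1 ∨ e = r ^ 2 ^ (d - 2) ∨ ∃ k : ℤ, e = r ^ k * c := by
  obtain ⟨k, hk | hk⟩ := F.D_form e he
  · rw [hk] at h ⊢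
    rcases F.rot_sq h with h | h
    · exact Or.inl h
    · exact Or.inr (Or.inl h)
  · exact Or.inr (Or.inr ⟨k, hk⟩)

/-- every element of `T` maps `r` to an odd power (`d ≥ 3`) -/
theorem conj_r (F : Frame x K T D d r c o1 o2) (hd : 3 ≤ d) {t : G} (ht : t ∈ T) :
    ∃ l : ℤ, Odd l ∧ t * r * t⁻¹ = r ^ l := by
  obtain ⟨l, hl⟩ := F.D_form _ (F.D_norm ht F.r_mem)
  have hl' : t * r * t⁻¹ = r ^ l := by
    rcases hl with h | h
    · exact h
    · exfalso
      have h1 : t * r ^ (2 : ℤ) * t⁻¹ = 1 := by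
        have e2 : t * r ^ (2 : ℤ) * t⁻¹ = (t * r * t⁻¹) * (t * r * t⁻¹) := by
          rw [zpow_two]; group
        rw [e2, h, F.refl_sq]
      have h2 : r ^ (2 : ℤ) = 1 := by
        have : r ^ (2 : ℤ) = t⁻¹ * (t * r ^ (2 : ℤ) * t⁻¹) * t := by group
        rw [this, h1]; group
      rw [F.rk_one] at h2
      have h3 : (2 : ℤ) ^ 2 ∣ 2 ^ (d - 1) := pow_dvd_pow 2 (by omega)
      have h4 := h3.trans h2
      norm_num at h4
  refine ⟨l, ?_, hl'⟩
  by_contra heven
  rw [Int.not_odd_iff_even] at heven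
  obtain ⟨j, hj⟩ := heven
  have hinj : ∀ m : ℤ, t * r ^ m * t⁻¹ = r ^ (l * m) := by
    intro m
    rw [← conj_zpow, hl', zpow_mul]
  have h5 : t * r ^ ((2 : ℤ) ^ (d - 2)) * t⁻¹ = 1 := by
    rw [hinj, F.rk_one, hj]
    refine ⟨j, ?_⟩
    have : d - 1 = (d - 2) + 1 := by omega
    rw [this, pow_succ]; ring
  apply F.z_ne
  rw [F.zz]
  have : r ^ ((2 : ℤ) ^ (d - 2)) = t⁻¹ * (t * r ^ ((2 : ℤ) ^ (d - 2)) * t⁻¹) * t := by group
  rw [this, h5]; group

theorem conj_rk (F : Frame x K T D d r c o1 o2) {t : G} {l : ℤ} (h : t * r * t⁻¹ = r ^ l) (k : ℤ) :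
    t * r ^ k * t⁻¹ = r ^ (l * k) := by
  rw [← conj_zpow, h, zpow_mul]

/-- every element of `T` maps `c` to a reflection (`d ≥ 3`) -/
theorem conj_c (F : Frame x K T D d r c o1 o2) (hd : 3 ≤ d) {t : G} (ht : t ∈ T) :
    ∃ k : ℤ, t * c * t⁻¹ = r ^ k * c := by
  obtain ⟨l, hodd, hl⟩ := F.conj_r hd ht
  obtain ⟨k, hk⟩ := F.D_form _ (F.D_norm ht F.c_mem)
  rcases hk with h | h
  · exfalso
    have hinj := F.conj_rk hl
    have hcop : IsCoprime l ((2 : ℤ) ^ (d - 1)) := by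
      apply IsCoprime.pow_right
      obtain ⟨j, hj⟩ := hodd
      exact ⟨1, -j, by rw [hj]; ring⟩
    obtain ⟨a, b, hab⟩ := hcop
    have h10 : t * r ^ (a * k) * t⁻¹ = r ^ k := by
      rw [hinj]
      have : l * (a * k) = k + (2 : ℤ) ^ (d - 1) * (-(b * k)) := by
        linear_combination k * hab
      rw [this, zpow_add, (F.rk_one _).2 (Dvd.intro _ rfl), mul_one]
    rw [← h] at h10
    have h11 : r ^ (a * k) = c := by
      have := congrArg (fun g => t⁻¹ * g * t) h10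
      simp only [mul_assoc, inv_mul_cancel_left, inv_mul_cancel, mul_one] at this
      exact this
    exact F.c_not _ h11.symm
  · exact ⟨k, h⟩

end Frame

end Cfsg.Agent.GH.L2QTwo
end

-- part: GH/Extra
section
set_option linter.all false
open scoped Cfsg.Agent.FastGrp

/-!
# Lower bounds for the sectional `2`-rank (GH-0, S0500)

`five` : two commuting pairs `x, y` and `u, v` with the same commutator `t` (a central involution of
`⟨x, y, u, v, z⟩`), squares in `{1, t}` and an element `z` commuting with them, `z² ∈ {1, t}`,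
`z ∉ {1, t}`: the sectional `2`-rank is at least `5`.
`mat_four`, `mat_five` : the two matrix configurations (in a group of `4 × 4`, resp. `5 × 5` matrices).
-/

set_option autoImplicit false
set_option maxHeartbeats 400000

namespace Cfsg.Agent.GH.Extra

open Cfsg Subgroup Cfsg.Agent.TwoFusion.SectionalRank

variable {G : Type*} [Group G]

/-- The elements of `C(t)` whose commutator with `b ∈ C(t)` is in `{1, t}`. -/
def comSub (t b : G) (htt : t * t = 1) (hb : b * t = t * b) : Subgroup G where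
  carrier := {a | a * t = t * a ∧ (a * b = b * a ∨ a * b = b * a * t)}
  one_mem' := by simp
  mul_mem' := by
    rintro a a' ⟨h1, h2⟩ ⟨h1', h2'⟩
    refine ⟨by rw [mul_assoc, h1', ← mul_assoc, h1, mul_assoc], ?_⟩
    rcases h2 with h2 | h2 <;> rcases h2' with h2' | h2'
    · left
      rw [mul_assoc, h2', ← mul_assoc, h2, mul_assoc]
    · right
      rw [mul_assoc, h2', ← mul_assoc, ← mul_assoc, h2, mul_assoc b a a']
    · right
      rw [mul_assoc, h2', ← mul_assoc, h2, mul_assoc, ← h1', ← mul_assoc, mul_assoc b a a']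
    · left
      calc a * a' * b = a * (a' * b) := mul_assoc _ _ _
        _ = a * (b * a' * t) := by rw [h2']
        _ = (a * b) * (a' * t) := by group
        _ = (b * a * t) * (a' * t) := by rw [h2]
        _ = b * a * (t * a') * t := by group
        _ = b * a * (a' * t) * t := by rw [h1']
        _ = b * a * a' * (t * t) := by group
        _ = b * (a * a') := by rw [htt]; group
  inv_mem' := by
    rintro a ⟨h1, h2⟩
    have h3 : a⁻¹ * t = t * a⁻¹ := by
      rw [inv_mul_eq_iff_eq_mul, ← mul_assoc, h1, mul_inv_cancel_right]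
    refine ⟨h3, ?_⟩
    rcases h2 with h2 | h2
    · left
      rw [inv_mul_eq_iff_eq_mul, ← mul_assoc, h2, mul_inv_cancel_right]
    · right
      rw [inv_mul_eq_iff_eq_mul]
      calc b = b * a * a⁻¹ := by group
        _ = b * a * (t * t) * a⁻¹ := by rw [htt, mul_one]
        _ = (b * a * t) * (t * a⁻¹) := by group
        _ = (a * b) * (a⁻¹ * t) := by rw [h2, h3]
        _ = a * (b * a⁻¹ * t) := by group

/-- `{1, t}` for an involution. -/
def two (t : G) (htt : t * t = 1) : Subgroup G where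
  carrier := {a | a = 1 ∨ a = t}
  one_mem' := Or.inl rfl
  mul_mem' := by
    rintro a b (rfl | rfl) (rfl | rfl)
    · left; simp
    · right; simp
    · right; simp
    · left; exact htt
  inv_mem' := by
    rintro a (rfl | rfl)
    · left; simp
    · right; exact inv_eq_of_mul_eq_one_right htt

theorem mem_two {t : G} {htt : t * t = 1} {a : G} : a ∈ two t htt ↔ a = 1 ∨ a = t := Iff.rfl

theorem card_lt_of_lt [Finite G] {A B : Subgroup G} (h : A < B) :
    2 * Nat.card A ≤ Nat.card B := by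
  obtain ⟨k, hk⟩ := card_dvd_of_le h.le
  have h0 : 0 < Nat.card A := Nat.card_pos
  have h1 : k ≠ 0 := by
    rintro rfl
    have : 0 < Nat.card B := Nat.card_pos
    omega
  have h2 : k ≠ 1 := by
    rintro rfl
    rw [mul_one] at hk
    exact h.ne (eq_of_le_of_card_ge h.le hk.le)
  have h3 : 2 ≤ k := by omega
  calc 2 * Nat.card A = Nat.card A * 2 := mul_comm _ _
    _ ≤ Nat.card A * k := Nat.mul_le_mul_left _ h3
    _ = Nat.card B := hk.symm

theorem lt_sup {A : Subgroup G} {g : G} (h : g ∉ A) : A < A ⊔ zpowers g :=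
  lt_of_le_of_ne le_sup_left fun he => h (by
    rw [he]
    exact le_sup_right (a := A) (mem_zpowers g))

theorem sup_le_cent {A : Subgroup G} {g b : G} (h : A ≤ centralizer {b}) (hg : g * b = b * g) :
    A ⊔ zpowers g ≤ centralizer {b} :=
  sup_le h (by
    rw [zpowers_le, mem_centralizer_singleton_iff]
    exact hg)

/-- The criterion: sectional `2`-rank at least five. -/
theorem five [Finite G] (h : SectionalPRankLE 2 4 G) {x y u v z t : G}
    (htt : t * t = 1) (ht : t ≠ 1)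
    (hx : x * t = t * x) (hy : y * t = t * y) (hu : u * t = t * u) (hv : v * t = t * v)
    (hz : z * t = t * z)
    (hxx : x * x = 1 ∨ x * x = t) (hyy : y * y = 1 ∨ y * y = t) (huu : u * u = 1 ∨ u * u = t)
    (hvv : v * v = 1 ∨ v * v = t) (hzz : z * z = 1 ∨ z * z = t)
    (hxy : x * y = y * x * t) (huv : u * v = v * u * t)
    (hxu : x * u = u * x) (hxv : x * v = v * x) (hyu : y * u = u * y) (hyv : y * v = v * y)
    (hxz : x * z = z * x) (hyz : y * z = z * y) (huz : u * z = z * u) (hvz : v * z = z * v)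
    (hz1 : z ≠ 1) (hzt : z ≠ t) : False := by
  have hyx : y * x = x * y * t := by
    rw [hxy, mul_assoc, htt, mul_one]
  have hvu : v * u = u * v * t := by
    rw [huv, mul_assoc, htt, mul_one]
  have nxy : x * y ≠ y * x := by
    intro he
    rw [he] at hxy
    exact ht (left_eq_mul.1 hxy)
  have nuv : u * v ≠ v * u := by
    intro he
    rw [he] at huv
    exact ht (left_eq_mul.1 huv)
  -- the chain
  let K0 : Subgroup G := two t htt
  let K1 := K0 ⊔ zpowers z
  let K2 := K1 ⊔ zpowers x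
  let K3 := K2 ⊔ zpowers y
  let K4 := K3 ⊔ zpowers u
  let K5 := K4 ⊔ zpowers v
  have c0 : ∀ b : G, b * t = t * b → K0 ≤ centralizer {b} := by
    intro b hb a ha
    rw [mem_centralizer_singleton_iff]
    rcases (mem_two.1 ha) with rfl | rfl
    · simp
    · exact hb.symm
  have l1 : K0 < K1 := lt_sup (by
    change ¬ (z = 1 ∨ z = t)
    tauto)
  have l2 : K1 < K2 := lt_sup (by
    intro hm
    have h1 : K1 ≤ centralizer {y} := sup_le_cent (c0 y hy) hyz.symm
    have h2 := mem_centralizer_singleton_iff.1 (h1 hm)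
    exact nxy h2)
  have l3 : K2 < K3 := lt_sup (by
    intro hm
    have h1 : K2 ≤ centralizer {x} := sup_le_cent (sup_le_cent (c0 x hx) hxz.symm) rfl
    have h2 := mem_centralizer_singleton_iff.1 (h1 hm)
    exact nxy h2.symm)
  have l4 : K3 < K4 := lt_sup (by
    intro hm
    have h1 : K3 ≤ centralizer {v} :=
      sup_le_cent (sup_le_cent (sup_le_cent (c0 v hv) hvz.symm) hxv) hyv
    have h2 := mem_centralizer_singleton_iff.1 (h1 hm)
    exact nuv h2)
  have l5 : K4 < K5 := lt_sup (by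
    intro hm
    have h1 : K4 ≤ centralizer {u} :=
      sup_le_cent (sup_le_cent (sup_le_cent (sup_le_cent (c0 u hu) huz.symm) hxu) hyu) rfl
    have h2 := mem_centralizer_singleton_iff.1 (h1 hm)
    exact nuv h2.symm)
  have hgen : ∀ P : Subgroup G, t ∈ P → z ∈ P → x ∈ P → y ∈ P → u ∈ P → v ∈ P → K5 ≤ P := by
    intro P ht' hz' hx' hy' hu' hv'
    refine sup_le (sup_le (sup_le (sup_le (sup_le ?_ ?_) ?_) ?_) ?_) ?_
    · intro a ha
      rcases (mem_two.1 ha) with rfl | rfl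
      · exact P.one_mem
      · exact ht'
    all_goals rw [zpowers_le]; assumption
  -- commutators
  have kt : K5 ≤ comSub t t htt rfl := hgen _ ⟨rfl, Or.inl rfl⟩ ⟨hz, Or.inl hz⟩ ⟨hx, Or.inl hx⟩
    ⟨hy, Or.inl hy⟩ ⟨hu, Or.inl hu⟩ ⟨hv, Or.inl hv⟩
  have kz : K5 ≤ comSub t z htt hz := hgen _ ⟨rfl, Or.inl hz.symm⟩ ⟨hz, Or.inl rfl⟩
    ⟨hx, Or.inl hxz⟩ ⟨hy, Or.inl hyz⟩ ⟨hu, Or.inl huz⟩ ⟨hv, Or.inl hvz⟩
  have kx : K5 ≤ comSub t x htt hx := hgen _ ⟨rfl, Or.inl hx.symm⟩ ⟨hz, Or.inl hxz.symm⟩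
    ⟨hx, Or.inl rfl⟩ ⟨hy, Or.inr hyx⟩ ⟨hu, Or.inl hxu.symm⟩ ⟨hv, Or.inl hxv.symm⟩
  have ky : K5 ≤ comSub t y htt hy := hgen _ ⟨rfl, Or.inl hy.symm⟩ ⟨hz, Or.inl hyz.symm⟩
    ⟨hx, Or.inr hxy⟩ ⟨hy, Or.inl rfl⟩ ⟨hu, Or.inl hyu.symm⟩ ⟨hv, Or.inl hyv.symm⟩
  have ku : K5 ≤ comSub t u htt hu := hgen _ ⟨rfl, Or.inl hu.symm⟩ ⟨hz, Or.inl huz.symm⟩
    ⟨hx, Or.inl hxu⟩ ⟨hy, Or.inl hyu⟩ ⟨hu, Or.inl rfl⟩ ⟨hv, Or.inr hvu⟩
  have kv : K5 ≤ comSub t v htt hv := hgen _ ⟨rfl, Or.inl hv.symm⟩ ⟨hz, Or.inl hvz.symm⟩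
    ⟨hx, Or.inl hxv⟩ ⟨hy, Or.inl hyv⟩ ⟨hu, Or.inr huv⟩ ⟨hv, Or.inl rfl⟩
  have flip : ∀ {a b : G}, (a * b = b * a ∨ a * b = b * a * t) →
      (b * a = a * b ∨ b * a = a * b * t) := by
    intro a b hab
    rcases hab with hab | hab
    · exact Or.inl hab.symm
    · right
      rw [hab, mul_assoc, htt, mul_one]
  have k2 : ∀ a ∈ K5, ∀ b ∈ K5, b * a = a * b ∨ b * a = a * b * t := by
    intro a ha b hb
    have hat : a * t = t * a := (kt ha).1
    have h1 : K5 ≤ comSub t a htt hat := hgen _ ⟨rfl, flip (kt ha).2⟩ ⟨hz, flip (kz ha).2⟩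
      ⟨hx, flip (kx ha).2⟩ ⟨hy, flip (ky ha).2⟩ ⟨hu, flip (ku ha).2⟩ ⟨hv, flip (kv ha).2⟩
    exact (h1 hb).2
  let Q : Subgroup G :=
    { carrier := {a | a ∈ K5 ∧ (a * a = 1 ∨ a * a = t)}
      one_mem' := ⟨K5.one_mem, by simp⟩
      mul_mem' := by
        rintro a b ⟨ha, haa⟩ ⟨hb, hbb⟩
        refine ⟨K5.mul_mem ha hb, ?_⟩
        have hbt : b * t = t * b := (kt hb).1
        have h1 : (a * b) * (a * b) = a * (b * a) * b := by group
        have h2 : a * (a * b) * b = (a * a) * (b * b) := by group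
        have h3 : a * (a * b * t) * b = (a * a) * (b * b) * t := by
          calc a * (a * b * t) * b = (a * a) * (b * (t * b)) := by group
            _ = (a * a) * (b * (b * t)) := by rw [hbt]
            _ = _ := by group
        rw [h1]
        rcases k2 a ha b hb with h4 | h4
        · rw [h4, h2]
          rcases haa with haa | haa <;> rcases hbb with hbb | hbb <;> rw [haa, hbb] <;> simp [htt]
        · rw [h4, h3]
          rcases haa with haa | haa <;> rcases hbb with hbb | hbb <;> rw [haa, hbb] <;> simp [htt]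
      inv_mem' := by
        rintro a ⟨ha, haa⟩
        refine ⟨K5.inv_mem ha, ?_⟩
        have h1 : a⁻¹ * a⁻¹ = (a * a)⁻¹ := by group
        rw [h1]
        rcases haa with haa | haa
        · left
          rw [haa, inv_one]
        · right
          rw [haa]
          exact inv_eq_of_mul_eq_one_right htt }
  have hzK : z ∈ K5 := by
    have h1 : z ∈ K1 := le_sup_right (a := K0) (mem_zpowers z)
    exact l5.le (l4.le (l3.le (l2.le h1)))
  have hxK : x ∈ K5 := by
    have h1 : x ∈ K2 := le_sup_right (a := K1) (mem_zpowers x)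
    exact l5.le (l4.le (l3.le h1))
  have hyK : y ∈ K5 := by
    have h1 : y ∈ K3 := le_sup_right (a := K2) (mem_zpowers y)
    exact l5.le (l4.le h1)
  have huK : u ∈ K5 := by
    have h1 : u ∈ K4 := le_sup_right (a := K3) (mem_zpowers u)
    exact l5.le h1
  have hvK : v ∈ K5 := le_sup_right (a := K4) (mem_zpowers v)
  have htK : t ∈ K5 := l5.le (l4.le (l3.le (l2.le (l1.le (Or.inr rfl)))))
  have hQ : K5 ≤ Q := hgen _ ⟨htK, Or.inl htt⟩ ⟨hzK, hzz⟩ ⟨hxK, hxx⟩ ⟨hyK, hyy⟩ ⟨huK, huu⟩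
    ⟨hvK, hvv⟩
  have sec : ElemSection 2 K5 K0 := by
    refine ⟨le_trans l1.le (le_trans l2.le (le_trans l3.le (le_trans l4.le l5.le))), ?_, ?_⟩
    · intro a ha b hb
      have hat : a * t = t * a := (kt ha).1
      have hbt : b * t = t * b := (kt hb).1
      rcases k2 b hb a ha with h1 | h1
      · left
        rw [h1]
        group
      · right
        rw [h1]
        calc b * a * t * a⁻¹ * b⁻¹ = b * (a * t) * a⁻¹ * b⁻¹ := by group
          _ = b * (t * a) * a⁻¹ * b⁻¹ := by rw [hat]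
          _ = b * t * b⁻¹ := by group
          _ = t * b * b⁻¹ := by rw [hbt]
          _ = t := by group
    · intro a ha
      have h1 := (hQ ha).2
      rw [pow_two]
      exact h1
  have h1 := sectionalPRankLE_iff.1 h K5 K0 sec
  have e1 := card_lt_of_lt l1
  have e2 := card_lt_of_lt l2
  have e3 := card_lt_of_lt l3
  have e4 := card_lt_of_lt l4
  have e5 := card_lt_of_lt l5
  have e0 : 0 < Nat.card K0 := Nat.card_pos
  omega

end Cfsg.Agent.GH.Extra
end

-- part: GH/Branches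
section
set_option linter.all false

/-!
# PROJECT GH (S0500): the statements of the branches

Every branch concludes `Out G`.  `Assembly.lean` puts them together.
-/

set_option autoImplicit false

open Cfsg Subgroup
open Cfsg.Agent.GH.Defs

namespace Cfsg.Agent.GH.Branches

universe u

/-- `PSL₃(3)`. -/
def IsL33 (X : Type*) [Group X] : Prop :=
  ∃ (F : Type) (_ : Field F) (_ : Fintype F), Fintype.card F = 3 ∧
    Nonempty (X ≃* Matrix.ProjectiveSpecialLinearGroup (Fin 3) F)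

/-- `PSU₃(3)`. -/
def IsU33 (X : Type*) [Group X] : Prop :=
  ∃ (F : Type) (_ : Field F) (_ : Fintype F), Fintype.card F = 9 ∧ Nonempty (X ≃* Cfsg.PSU 3 F 3)

/-- Tops of the branch GH-L3. -/
def Top3 (X : Type*) [Group X] : Prop := IsL33 X ∨ IsU33 X ∨ Spor.IsoM11 X

/-- Tops of the branch GH-L2. -/
def Top2 (X : Type*) [Group X] : Prop := IsL2odd X ∨ IsAlt 7 X

/-- All 2-locals are solvable. -/
def LocSolv (G : Type*) [Group G] : Prop := ∀ N : Subgroup G, IsTwoLocal N → Group.IsSolvable N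

/-- The groups of `K4` of 2-rank at least 3 (definitionally `AssemblyK4.K4r`). -/
def K4big (X : Type*) [Group X] : Prop :=
  IsU34 X ∨ K3 X ∨ IsL216 X ∨ IsL34 X ∨ (∃ n, 8 ≤ n ∧ n ≤ 11 ∧ IsAlt n X) ∨
    IsSp4odd X ∨ IsL4odd X ∨ IsU4odd X ∨ IsL5odd X ∨ IsU5odd X ∨
    (IsG2odd X ∧ AllG2 X) ∨ (IsD4odd X ∧ AllG2 X) ∨
    Spor.IsoM12 X ∨ Spor.IsoM22 X ∨ Spor.IsoM23 X ∨ Spor.IsoJ2 X ∨ Spor.IsoJ3 X ∨ HasAltCover X

/-- The conclusion of every branch. -/
def Out (G : Type*) [Group G] : Prop := GType G ∨ K4big G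

/-- [GH-Q + GH-COV] some 2-component of an involution centralizer has even centre -/
def BranchEC : Prop := ∀ (G : Type u) [Group G] [Finite G], Hyp G →
  (∃ (x : G) (K : Subgroup G), Comp2 x K ∧ EvenCenter K) → Out G

/-- [GH-E] -/
def BranchE : Prop := ∀ (G : Type u) [Group G] [Finite G], Hyp G → AllOdd G →
  (∃ (x : G) (K : Subgroup G), Comp2 x K ∧ K3 (STop K)) → Out G

/-- [odd tops] `PSL₃(q)`, `PSU₃(q)` with `q > 3` lead to even centres -/
def BranchTop : Prop := ∀ (G : Type u) [Group G] [Finite G], Hyp G → AllOdd G →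
  ∀ (x : G) (K : Subgroup G), Comp2 x K → SectionalPRankLE 2 3 (STop K) →
    K2 (STop K) → Top2 (STop K) ∨ Top3 (STop K)

/-- [GH-L3] -/
def BranchL3 : Prop := ∀ (G : Type u) [Group G] [Finite G], Hyp G → AllOdd G →
  (∀ (x : G) (K : Subgroup G), Comp2 x K → Top2 (STop K) ∨ Top3 (STop K)) →
  (∃ (x : G) (K : Subgroup G), Comp2 x K ∧ Top3 (STop K)) → Out G

/-- [GH-L2] -/
def BranchL2 : Prop := ∀ (G : Type u) [Group G] [Finite G], Hyp G → AllOdd G →
  (∀ (x : G) (K : Subgroup G), Comp2 x K → Top2 (STop K)) →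
  (∃ (x : G) (K : Subgroup G), Comp2 x K) → Out G

/-- [GH-C2] -/
def BranchC2 : Prop := ∀ (G : Type u) [Group G] [Finite G], Hyp G →
  IsCharacteristicTwoType G → ¬ LocSolv G → Out G

end Cfsg.Agent.GH.Branches
end
end
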